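import Cfsg.Agent.Class.Dick2
import Cfsg.Agent.Core.Quaternion

/-! Element orders and Sylow subgroups in `GL₂`, `SL₂`, `PSL₂`. -/

set_option autoImplicit false

namespace Cfsg.Agent.Class

open MulAction Matrix Matrix.ProjGenLinGroup
open scoped MatrixGroups LinearAlgebra.Projectivization

variable {F : Type*} [Field F]

section general
variable {ι : Type*} [Fintype ι] [DecidableEq ι]

/-- Conjugation of the special linear group by an invertible matrix. -/
def conjSL (t : GL ι F) : SpecialLinearGroup ι F ≃* SpecialLinearGroup ι F where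
  toFun A := ⟨t.1 * A.1 * (t⁻¹).1, by simp [t.det_ne_zero]⟩
  invFun A := ⟨(t⁻¹).1 * A.1 * t.1, by simp [t.det_ne_zero]⟩
  left_inv A := Subtype.ext (by simp [mul_assoc])
  right_inv A := Subtype.ext (by simp [mul_assoc])
  map_mul' A B := Subtype.ext (by
    change t.1 * (A.1 * B.1) * (t⁻¹).1 = t.1 * A.1 * (t⁻¹).1 * (t.1 * B.1 * (t⁻¹).1)
    simp [mul_assoc])

theorem conjSL_coe (t : GL ι F) (A : SpecialLinearGroup ι F) :
    (conjSL t A : Matrix ι ι F) = t * A * (t⁻¹ : GL ι F) := rfl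

theorem toGL_conjSL (t : GL ι F) (A : SpecialLinearGroup ι F) :
    (conjSL t A : GL ι F) = t * (A : GL ι F) * t⁻¹ := Units.ext rfl

theorem trace_conjSL (t : GL ι F) (A : SpecialLinearGroup ι F) :
    (conjSL t A : Matrix ι ι F).trace = (A : Matrix ι ι F).trace := by
  rw [conjSL_coe, trace_mul_cycle]; simp

theorem conjSL_toGL (t A : SpecialLinearGroup ι F) : conjSL (t : GL ι F) A = t * A * t⁻¹ :=
  SpecialLinearGroup.toGL_injective (by simp [toGL_conjSL])

theorem sl_map_injective {R : Type*} [Field R] (j : R →+* F) :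
    Function.Injective (SpecialLinearGroup.map (n := ι) j) := fun _ _ h =>
  Subtype.ext (Matrix.map_injective j.injective (congrArg Subtype.val h))

theorem toGL_map {R : Type*} [Field R] (j : R →+* F) (A : SpecialLinearGroup ι R) :
    (SpecialLinearGroup.map j A : GL ι F) = GeneralLinearGroup.map j (A : GL ι R) := Units.ext rfl

/-- Special linear groups over isomorphic fields are isomorphic. -/
def slCongr {R : Type*} [Field R] (e : R ≃+* F) :
    SpecialLinearGroup ι R ≃* SpecialLinearGroup ι F :=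
  MonoidHom.toMulEquiv (SpecialLinearGroup.map e.toRingHom) (SpecialLinearGroup.map e.symm.toRingHom)
    (by ext; simp) (by ext; simp)

/-- Projective special linear groups over isomorphic fields are isomorphic. -/
def pslCongr {R : Type*} [Field R] (e : R ≃+* F) :
    ProjectiveSpecialLinearGroup ι R ≃* ProjectiveSpecialLinearGroup ι F :=
  quotCenterCongr (slCongr e)

/-- Projective linear groups over isomorphic fields are isomorphic. -/
def pglCongr {R : Type*} [Field R] (e : R ≃+* F) : ProjGenLinGroup ι R ≃* ProjGenLinGroup ι F :=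
  MonoidHom.toMulEquiv (ProjGenLinGroup.map e.toRingHom) (ProjGenLinGroup.map e.symm.toRingHom)
    (by rw [← ProjGenLinGroup.map_comp]; simp) (by rw [← ProjGenLinGroup.map_comp]; simp)

theorem mem_range_toPGL {A : GL ι F} :
    ProjGenLinGroup.mk A ∈ (ProjectiveSpecialLinearGroup.toPGL (n := ι) (R := F)).range ↔
    ∃ u : F, u ^ Fintype.card ι = (A : Matrix ι ι F).det := by
  constructor
  · rintro ⟨g, hg⟩
    induction g using QuotientGroup.induction_on with | H B =>
    obtain ⟨u, -, hu⟩ := pgl_eq_iff.1 hg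
    exact ⟨u, by simp [hu]⟩
  · rintro ⟨u, hu⟩
    rcases isEmpty_or_nonempty ι with h | h
    · exact ⟨1, by rw [map_one, eq_comm, Subsingleton.elim A 1]; rfl⟩
    have h0 : u ≠ 0 := by
      rintro rfl
      rw [zero_pow Fintype.card_ne_zero] at hu
      exact A.det_ne_zero hu.symm
    refine ⟨QuotientGroup.mk ⟨u⁻¹ • A, by simp [← hu, h0]⟩, pgl_eq_iff.2 ⟨u, h0, ?_⟩⟩
    change _ = u • u⁻¹ • (A : Matrix ι ι F)
    rw [smul_smul, mul_inv_cancel₀ h0, one_smul]

end general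

theorem toPGL_eq_iff {A B : SL(2, F)} :
    SpecialLinearGroup.toPGL A = SpecialLinearGroup.toPGL B ↔ B = A ∨ B = -A := by
  constructor
  · intro h
    obtain ⟨u, -, hu⟩ := pgl_eq_iff.1 h
    have hu : (B : Matrix (Fin 2) (Fin 2) F) = u • (A : Matrix (Fin 2) (Fin 2) F) := hu
    have h1 := congrArg det hu
    rw [det_smul, Fintype.card_fin, A.det_coe, B.det_coe, mul_one] at h1
    rcases sq_eq_one_iff.1 h1.symm with rfl | rfl
    · exact Or.inl (Subtype.ext (by simpa using hu))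
    · exact Or.inr (Subtype.ext (by simpa using hu))
  · rintro (rfl | rfl)
    · rfl
    · exact pgl_eq_iff.2 ⟨-1, by simp, by simp⟩

theorem toPGL_eq_one_iff {A : SL(2, F)} : SpecialLinearGroup.toPGL A = 1 ↔ A = 1 ∨ A = -1 := by
  rw [← map_one SpecialLinearGroup.toPGL, eq_comm, toPGL_eq_iff]

theorem psl_eq_iff {A B : SL(2, F)} : (A : PSL(2, F)) = B ↔ B = A ∨ B = -A := by
  rw [← toPGL_eq_iff, ← ProjectiveSpecialLinearGroup.toPGL_injective.eq_iff]; rfl

theorem psl_eq_one_iff {A : SL(2, F)} : (A : PSL(2, F)) = 1 ↔ A = 1 ∨ A = -1 := by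
  rw [← QuotientGroup.mk_one, eq_comm, psl_eq_iff]

theorem mat2_sq (M : Matrix (Fin 2) (Fin 2) F) : M * M = M.trace • M - M.det • 1 := by
  ext i j; fin_cases i <;> fin_cases j <;> simp [mul_apply, trace_fin_two, det_fin_two] <;> ring

theorem sl2_sq (A : SL(2, F)) : (A : Matrix (Fin 2) (Fin 2) F) * A = A.1.trace • A.1 - 1 := by
  rw [mat2_sq]; simp

theorem sl2_scalar {A : SL(2, F)} {u : F} (h : (A : Matrix (Fin 2) (Fin 2) F) = u • 1) :
    A = 1 ∨ A = -1 := by
  have h0 : u ≠ 0 := by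
    rintro rfl
    have := A.det_coe
    simp [h] at this
  exact toPGL_eq_one_iff.1 (pgl_eq_iff.2 ⟨u, h0, h⟩).symm

theorem sl2_sq_eq_one (h2 : (2 : F) ≠ 0) {A : SL(2, F)} (h : A * A = 1) : A = 1 ∨ A = -1 := by
  have h1 : A.1.trace • A.1 = (2 : F) • 1 := by
    have : A.1 * A.1 = 1 := congrArg Subtype.val h
    rw [sl2_sq] at this
    linear_combination (norm := module) this
  have h3 : A.1.trace ≠ 0 := by
    intro h0
    rw [h0, zero_smul] at h1
    exact h2 (by simpa using (congrFun (congrFun h1 0) 0).symm)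
  refine sl2_scalar (u := A.1.trace⁻¹ * 2) ?_
  rw [mul_smul, ← h1, smul_smul, inv_mul_cancel₀ h3, one_smul]

theorem sl2_sq_of_trace {A : SL(2, F)} (h : A.1.trace = 0) : A * A = -1 := by
  apply Subtype.ext
  change A.1 * A.1 = -1
  rw [sl2_sq, h]; simp

theorem trace_of_sq_eq_neg_one {A : SL(2, F)} (h : A * A = -1) : A.1.trace = 0 := by
  have : A.1 * A.1 = -1 := congrArg Subtype.val h
  rw [sl2_sq] at this
  have h3 : A.1.trace • A.1 = 0 := by simpa using this
  refine (smul_eq_zero.1 h3).resolve_right fun h0 => ?_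
  have := A.det_coe
  simp [h0] at this

theorem sl2_neg_one_ne (h2 : (2 : F) ≠ 0) : (-1 : SL(2, F)) ≠ 1 := fun h => h2 (by
  have := congrArg (fun A : SL(2, F) => A.1 0 0) h
  simp at this
  linear_combination -this)

theorem sl2_neg_eq (h2 : (2 : F) = 0) (A : SL(2, F)) : -A = A := by
  ext i j; simp; linear_combination -(A i j) * h2

theorem mat2_pow {M : Matrix (Fin 2) (Fin 2) F} {l m : F} (h1 : l + m = M.trace)
    (h2 : l * m = M.det) (n : ℕ) :
    (l - m) • M ^ n = (l ^ n - m ^ n) • M - (l ^ n * m - m ^ n * l) • 1 := by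
  induction n with
  | zero => simp; module
  | succ n ih =>
    rw [pow_succ M, ← smul_mul_assoc, ih, sub_mul, smul_mul_assoc, smul_mul_assoc, mat2_sq, ← h1,
      ← h2, one_mul]
    module

theorem mat2_pow' {M : Matrix (Fin 2) (Fin 2) F} {l : F} (h1 : l + l = M.trace)
    (h2 : l * l = M.det) (n : ℕ) :
    M ^ (n + 1) = ((n + 1) * l ^ n) • M - (n * l ^ (n + 1)) • 1 := by
  induction n with
  | zero => simp
  | succ n ih =>
    rw [pow_succ M, ih, sub_mul, smul_mul_assoc, smul_mul_assoc, mat2_sq, ← h1, ← h2, one_mul]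
    push_cast
    module

theorem mat2_pow_cases [Fintype F] (p : ℕ) [Fact p.Prime] [CharP F p]
    (M : Matrix (Fin 2) (Fin 2) F) (hM : M.det ≠ 0) :
    (∃ u : F, M ^ p = u • 1) ∨ M ^ (Fintype.card F - 1) = 1 ∨
      M ^ (Fintype.card F + 1) = M.det • 1 := by
  set K := AlgebraicClosure F
  set j := algebraMap F K
  obtain ⟨l, hl⟩ := IsAlgClosed.exists_root (Polynomial.C (1 : K) * Polynomial.X ^ 2 +
      Polynomial.C (-j M.trace) * Polynomial.X + Polynomial.C (j M.det))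
      (by rw [Polynomial.degree_quadratic one_ne_zero]; norm_num)
  simp only [Polynomial.IsRoot.def, Polynomial.eval_add, Polynomial.eval_mul, Polynomial.eval_C,
    Polynomial.eval_pow, Polynomial.eval_X] at hl
  set m := j M.trace - l with hm
  have h1 : l + m = (M.map j).trace := by rw [← AddMonoidHom.map_trace j, hm]; simp
  have h2' : l * m = j M.det := by rw [hm]; linear_combination -hl
  have h2 : l * m = (M.map j).det := by rw [h2', RingHom.map_det]; rfl
  have hinj : Function.Injective (fun N : Matrix (Fin 2) (Fin 2) F => N.map j) :=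
    Matrix.map_injective j.injective
  have hpow : ∀ n, (M ^ n).map j = M.map j ^ n := fun n => map_pow j.mapMatrix M n
  have hone : ∀ u : F, (u • (1 : Matrix (Fin 2) (Fin 2) F)).map j = j u • 1 := fun u => by
    ext a b; fin_cases a <;> fin_cases b <;> simp
  by_cases hlm : l = m
  · left
    obtain ⟨n, hn⟩ : ∃ n, p = n + 1 := ⟨p - 1, by have := (Fact.out : p.Prime).two_le; omega⟩
    have h3 : (n : K) + 1 = 0 := by rw [← CharP.cast_eq_zero K p, hn]; simp
    rw [← hlm] at h1 h2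
    have h4 := mat2_pow' h1 h2 n
    rw [h3, ← hn, ← hpow] at h4
    refine ⟨(M ^ p) 0 0, hinj ?_⟩
    have h5 : j ((M ^ p) 0 0) = -(n * l ^ p) := by simpa using congrFun (congrFun h4 0) 0
    simp only [hone, h5, h4]; simp
  right
  have hd := sub_ne_zero.2 hlm
  have hl0 : l * m ≠ 0 := by rw [h2']; simpa using hM
  let φ := FiniteField.frobeniusAlgHom F K
  have hφ : ∀ x, φ x = x ^ Fintype.card F := fun x => rfl
  have h3 : (φ l - l) * (φ l - m) = 0 := by
    have := congrArg φ hl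
    simp only [map_add, map_mul, map_pow, map_neg, map_one, map_zero, j, AlgHom.commutes] at this
    linear_combination this - hl
  have h4 : φ m = l + m - φ l := by simp [hm, j]
  obtain ⟨k, hk⟩ : ∃ k, Fintype.card F = k + 1 := ⟨_, (Nat.succ_pred_eq_of_pos Fintype.card_pos).symm⟩
  rcases mul_eq_zero.1 h3 with h | h
  · left
    rw [sub_eq_zero] at h
    rw [h, add_sub_cancel_left, hφ, hk, pow_succ] at h4
    rw [hφ, hk, pow_succ] at h
    have a : l ^ k = 1 := mul_right_cancel₀ (left_ne_zero_of_mul hl0) (by simpa using h)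
    have b : m ^ k = 1 := mul_right_cancel₀ (right_ne_zero_of_mul hl0) (by simpa using h4)
    apply hinj
    apply smul_right_injective _ hd
    simp only [hpow, hk, Nat.add_sub_cancel, mat2_pow h1 h2, a, b]
    simp only [sub_self, zero_smul, one_mul, zero_sub, Matrix.map_one j j.map_zero j.map_one]
    module
  · right
    rw [sub_eq_zero] at h
    rw [h, add_sub_cancel_right, hφ] at h4
    rw [hφ] at h
    apply hinj
    apply smul_right_injective _ hd
    simp only [hpow, mat2_pow h1 h2, pow_succ l, pow_succ m, h, h4, hone, ← h2']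
    module

section
variable (p : ℕ) [Fact p.Prime] [CharP F p]

theorem pgl_pow_cases [Fintype F] (g : PGL(2, F)) :
    g ^ p = 1 ∨ g ^ (Fintype.card F - 1) = 1 ∨ g ^ (Fintype.card F + 1) = 1 := by
  cases g with | mk A =>
  have key : ∀ (n : ℕ) (u : F), (A : Matrix (Fin 2) (Fin 2) F) ^ n = u • 1 → mk A ^ n = 1 := by
    intro n u h
    rw [← map_pow, pgl_eq_one_iff]
    simp [h]
  rcases mat2_pow_cases p A.1 A.det_ne_zero with ⟨u, h⟩ | h | h
  · exact Or.inl (key _ _ h)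
  · exact Or.inr (Or.inl (key _ 1 (by simpa using h)))
  · exact Or.inr (Or.inr (key _ _ h))

theorem sl_pow_cases [Fintype F] (A : SL(2, F)) : (A ^ p = 1 ∨ A ^ p = -1) ∨
    A ^ (Fintype.card F - 1) = 1 ∨ A ^ (Fintype.card F + 1) = 1 := by
  rcases mat2_pow_cases p A.1 (by simp) with ⟨u, h⟩ | h | h
  · exact Or.inl (sl2_scalar (u := u) (by simpa using h))
  · exact Or.inr (Or.inl (Subtype.ext (by simpa using h)))
  · exact Or.inr (Or.inr (Subtype.ext (by simpa using h)))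

theorem psl_pow_cases [Fintype F] (g : PSL(2, F)) : g ^ p = 1 ∨
    orderOf g ∣ (Fintype.card F + 1) / Nat.gcd 2 (Fintype.card F - 1) ∨
    orderOf g ∣ (Fintype.card F - 1) / Nat.gcd 2 (Fintype.card F - 1) := by
  induction g using QuotientGroup.induction_on with | H A =>
  have key : ∀ n, A ^ n = 1 → (Odd (Fintype.card F) → 2 ∣ n) →
      orderOf (A : PSL(2, F)) ∣ n / Nat.gcd 2 (Fintype.card F - 1) := by
    intro n hn h2
    rw [orderOf_dvd_iff_pow_eq_one, ← QuotientGroup.mk_pow, psl_eq_one_iff]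
    have h0 : 0 < Fintype.card F := Fintype.card_pos
    rcases Nat.even_or_odd (Fintype.card F) with h | h
    · have : Nat.gcd 2 (Fintype.card F - 1) = 1 :=
        (Nat.Prime.coprime_iff_not_dvd Nat.prime_two).2 (by obtain ⟨k, hk⟩ := h; omega)
      simp [this, hn]
    · rw [Nat.gcd_eq_left (by obtain ⟨k, hk⟩ := h; omega)]
      refine sl2_sq_eq_one (two_ne_zero_of_odd h) ?_
      rw [← pow_add, ← two_mul, Nat.mul_div_cancel' (h2 h), hn]
  rcases sl_pow_cases p A with h | h | h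
  · exact Or.inl (by rwa [← QuotientGroup.mk_pow, psl_eq_one_iff])
  · exact Or.inr (Or.inr (key _ h fun ⟨k, hk⟩ => by omega))
  · exact Or.inr (Or.inl (key _ h fun ⟨k, hk⟩ => by omega))

theorem two_eq_zero_iff : (2 : F) = 0 ↔ p = 2 := by
  rw [show (2 : F) = ((2 : ℕ) : F) by simp, CharP.cast_eq_zero_iff F p,
    Nat.prime_dvd_prime_iff_eq Fact.out Nat.prime_two]

theorem mem_of_toPGL_mem {H : Subgroup SL(2, F)} {A : SL(2, F)} (hA : A ^ p = 1)
    (h : SpecialLinearGroup.toPGL A ∈ H.map SpecialLinearGroup.toPGL) : A ∈ H := by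
  obtain ⟨B, hB, h⟩ := h
  rcases toPGL_eq_iff.1 h.symm with rfl | rfl
  · exact hB
  by_cases h2 : p = 2
  · rwa [sl2_neg_eq ((two_eq_zero_iff p).2 h2)] at hB
  · have := H.pow_mem hB (p + 1)
    rwa [Even.neg_pow ((Nat.Prime.odd_of_ne_two Fact.out h2).add_one), pow_succ, hA,
      one_mul] at this

theorem exists_unip_lift {H : Subgroup SL(2, F)} {g : PGL(2, F)} (hg : g ^ p = 1)
    (h : g ∈ H.map SpecialLinearGroup.toPGL) :
    ∃ A ∈ H, A ^ p = 1 ∧ SpecialLinearGroup.toPGL A = g := by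
  obtain ⟨B, hB, rfl⟩ := h
  rw [← map_pow, toPGL_eq_one_iff] at hg
  rcases hg with hg | hg
  · exact ⟨B, hB, hg, rfl⟩
  by_cases h2 : p = 2
  · rw [sl2_neg_eq ((two_eq_zero_iff p).2 h2)] at hg
    exact ⟨B, hB, hg, rfl⟩
  · have h3 := Nat.Prime.odd_of_ne_two Fact.out h2
    refine ⟨B ^ (p + 1), H.pow_mem hB _, ?_, toPGL_eq_iff.2 (Or.inr ?_)⟩
    · rw [← pow_mul, mul_comm, pow_mul, hg, h3.add_one.neg_one_pow]
    · rw [pow_succ, hg]; simp

/-- Dickson's theorem for subgroups of `SL₂(q)`. -/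
theorem dickson_sl [Finite F] (H : Subgroup SL(2, F)) :
    (∃ x : P1 F, ∀ g ∈ H, (g : GL (Fin 2) F) • x = x) ∨
    (p ≠ 2 → ¬ p ∣ Nat.card H) ∨
    (p = 3 ∧ Nonempty (H.map SpecialLinearGroup.toPGL ≃* alternatingGroup (Fin 5)) ∧
      ∀ g ∈ H, (g ^ 2 = 1 ∨ g ^ 2 = -1) ∨ (g ^ 3 = 1 ∨ g ^ 3 = -1) ∨ (g ^ 5 = 1 ∨ g ^ 5 = -1)) ∨
    ∃ (R : Subfield F) (t : GL (Fin 2) F), 3 ≤ Nat.card R ∧
      (∀ B : SL(2, R), conjSL t (SpecialLinearGroup.map R.subtype B) ∈ H) ∧
      ∀ g ∈ H, g.1.trace ^ 2 ∈ R := by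
  have key : (p ≠ 2 → ¬ p ∣ Nat.card (H.map SpecialLinearGroup.toPGL)) →
      p ≠ 2 → ¬ p ∣ Nat.card H := by
    intro h hp h1
    obtain ⟨⟨g, hg⟩, hgp⟩ := exists_prime_orderOf_dvd_card' p h1
    rw [Subgroup.orderOf_mk] at hgp
    refine h hp ?_
    have h3 := Nat.Prime.odd_of_ne_two Fact.out hp
    have h4 : g ^ p = 1 := hgp ▸ pow_orderOf_eq_one g
    have : orderOf (SpecialLinearGroup.toPGL g) = p := by
      refine orderOf_eq_prime (by rw [← map_pow, h4, map_one]) fun h5 => ?_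
      rcases toPGL_eq_one_iff.1 h5 with rfl | rfl
      · exact (Fact.out : p.Prime).ne_one (by simpa using hgp.symm)
      · rw [h3.neg_one_pow] at h4
        exact sl2_neg_one_ne (mt (two_eq_zero_iff p).1 hp) h4
    exact this ▸ Subgroup.orderOf_dvd_natCard _ ⟨g, hg, rfl⟩
  rcases dickson_pgl p (H.map SpecialLinearGroup.toPGL) with ⟨x, hx⟩ | ⟨c, h1, h2⟩ |
    ⟨c, h1, h2, -⟩ | ⟨h1, -⟩ | ⟨h1, h2, h3⟩ | ⟨R, t, h1, h2, h3⟩
  · exact Or.inl ⟨x, fun g hg => hx _ ⟨g, hg, rfl⟩⟩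
  · refine Or.inr (Or.inl (key fun _ => ?_))
    rw [← Subgroup.card_top, ← h2, Nat.card_zpowers]
    exact (Nat.Prime.coprime_iff_not_dvd Fact.out).1 h1.symm
  · refine Or.inr (Or.inl (key fun hp => ?_))
    rw [← (Subgroup.zpowers c).card_mul_index, h2, Nat.card_zpowers,
      Nat.Prime.dvd_mul Fact.out, Nat.prime_dvd_prime_iff_eq Fact.out Nat.prime_two]
    exact not_or.2 ⟨(Nat.Prime.coprime_iff_not_dvd Fact.out).1 h1.symm, hp⟩
  · exact Or.inr (Or.inl (key fun _ => h1))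
  · refine Or.inr (Or.inr (Or.inl ⟨h1, h2, fun g hg => ?_⟩))
    have := h3 ⟨_, g, hg, rfl⟩
    simpa only [Subtype.ext_iff, Subgroup.coe_pow, ← map_pow, Subgroup.coe_one,
      toPGL_eq_one_iff] using this
  · refine Or.inr (Or.inr (Or.inr ⟨R, t, h1, fun B => ?_, fun g hg => ?_⟩))
    · replace h2 : ∀ B : SL(2, R), SpecialLinearGroup.toPGL (conjSL t
          (SpecialLinearGroup.map R.subtype B)) ∈ H.map SpecialLinearGroup.toPGL := fun B => by
        have := h2 B
        rwa [← toGL_conjSL] at this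
      have := SL2_eq_top (H.comap ((conjSL t).toMonoidHom.comp (SpecialLinearGroup.map R.subtype)))
        (fun r => Subgroup.mem_comap.2 <| mem_of_toPGL_mem p (by
          rw [← map_pow, slU_pow, CharP.cast_eq_zero, zero_mul, slU_zero, map_one]) (h2 (slU r)))
        (fun r => Subgroup.mem_comap.2 <| mem_of_toPGL_mem p (by
          rw [← map_pow, slL_pow, CharP.cast_eq_zero, zero_mul, slL_zero, map_one]) (h2 (slL r)))
      exact (this ▸ Subgroup.mem_top B : B ∈ H.comap _)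
    · obtain ⟨B, hB⟩ := h3 _ ⟨g, hg, rfl⟩
      obtain ⟨u, -, hu⟩ := pgl_eq_iff.1 hB.symm
      have hu : g.1 = u • (t.1 * B.1.map R.subtype * (t⁻¹).1) := hu
      have h4 := congrArg trace hu
      have h5 := congrArg det hu
      rw [trace_smul, trace_mul_cycle, Units.inv_mul, one_mul,
        ← AddMonoidHom.map_trace R.subtype] at h4
      have h6 : (B.1.map R.subtype).det = (B.1.det : F) := (R.subtype.map_det B.1).symm
      rw [g.2] at h5
      simp only [det_smul, Fintype.card_fin, det_mul, h6] at h5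
      have h7 : t.1.det * (t⁻¹).1.det = 1 := by rw [← det_mul, Units.mul_inv, det_one]
      have h8 : (B.1.det : F) ≠ 0 := by simpa using B.det_ne_zero
      have : g.1.trace ^ 2 = B.1.trace ^ 2 / B.1.det := by
        rw [h4, eq_div_iff h8]
        simp only [smul_eq_mul, Subfield.coe_subtype]
        linear_combination -(B.1.trace : F) ^ 2 * h5 - u ^ 2 * (B.1.trace : F) ^ 2 * B.1.det * h7
      rw [this]
      exact R.div_mem (R.pow_mem B.1.trace.2 2) B.1.det.2

theorem mem_uni_gl_pinf {A : GL (Fin 2) F} :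
    A ∈ uni p (GL (Fin 2) F) (pinf F) ↔ ∃ a : F, A = (slU a : GL (Fin 2) F) := by
  constructor
  · intro hA
    induction hA using Subgroup.closure_induction with
    | mem A hA =>
      obtain ⟨a, ha⟩ := (mem_uni_pinf p).1 ((dk_pgl p).mem_uni.2
        ⟨hA.1, by rw [← map_pow, hA.2, map_one]⟩ : mk A ∈ _)
      obtain ⟨u, hu0, hu⟩ := pgl_eq_iff.1 ha.symm
      have h1 := upper_pow (A := A) (by simp [hu]) (by simp [hu]) (p - 1)
      rw [Nat.sub_add_cancel (Fact.out : p.Prime).pos, hA.2] at h1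
      have h2 : u ^ p = 1 := by simpa [hu] using (congrFun (congrFun h1 0) 0).symm
      have h3 : Units.mk0 u hu0 = 1 := unit_eq_one_of_pow (p := p) (Units.ext h2)
      have h4 : u = 1 := congrArg Units.val h3
      exact ⟨a, Units.ext (by simpa [h4] using hu)⟩
    | one => exact ⟨0, by simp⟩
    | mul _ _ _ _ h1 h2 =>
      obtain ⟨a, rfl⟩ := h1
      obtain ⟨b, rfl⟩ := h2
      exact ⟨a + b, by simp [slU_add]⟩
    | inv _ _ h1 =>
      obtain ⟨a, rfl⟩ := h1
      exact ⟨-a, by simp [slU_neg]⟩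
  · rintro ⟨a, rfl⟩
    exact Subgroup.subset_closure ⟨pU_smul_pinf a, by rw [← map_pow, slU_pow]; simp⟩

omit [Fact p.Prime] [CharP F p] in
theorem uni_smul' {G X : Type*} [Group G] [MulAction G X] (t : G) (x : X) :
    uni p G (t • x) = (uni p G x).map (MulAut.conj t).toMonoidHom :=
  uni_equivariant (MulAut.conj t) (MulAction.injective t) (fun g w => by simp [mul_smul]) p x

theorem mem_uni_gl_iff {A t : GL (Fin 2) F} :
    A ∈ uni p (GL (Fin 2) F) (t • pinf F) ↔ ∃ a : F, A = t * (slU a : GL (Fin 2) F) * t⁻¹ := by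
  rw [uni_smul']
  constructor
  · rintro ⟨B, hB, rfl⟩
    obtain ⟨a, rfl⟩ := (mem_uni_gl_pinf p).1 hB
    exact ⟨a, rfl⟩
  · rintro ⟨a, rfl⟩
    exact ⟨_, (mem_uni_gl_pinf p).2 ⟨a, rfl⟩, rfl⟩

theorem mem_uni_gl {A : GL (Fin 2) F} {x : P1 F} :
    A ∈ uni p (GL (Fin 2) F) x ↔ A • x = x ∧ A ^ p = 1 := by
  refine ⟨fun h => ⟨uni_le x h, ?_⟩, fun h => Subgroup.subset_closure h⟩
  obtain ⟨t, rfl⟩ := sl_trans x
  obtain ⟨a, rfl⟩ := (mem_uni_gl_iff p).1 h
  rw [conj_pow, ← map_pow, slU_pow]; simp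

theorem det_of_mem_uni_gl {A : GL (Fin 2) F} {x : P1 F} (h : A ∈ uni p (GL (Fin 2) F) x) :
    A.1.det = 1 := by
  obtain ⟨t, rfl⟩ := sl_trans x
  obtain ⟨a, rfl⟩ := (mem_uni_gl_iff p).1 h
  rw [← toGL_conjSL]
  exact (conjSL _ (slU a)).2

theorem card_uni_gl (x : P1 F) : Nat.card (uni p (GL (Fin 2) F) x) = Nat.card F := by
  obtain ⟨t, rfl⟩ := sl_trans x
  rw [uni_smul', Inv.card_map_conj]
  refine Nat.card_congr (Equiv.ofBijective (fun a : F => (⟨_, (mem_uni_gl_pinf p).2 ⟨a, rfl⟩⟩ :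
    uni p (GL (Fin 2) F) (pinf F))) ⟨fun a b h => ?_, fun ⟨A, hA⟩ => ?_⟩).symm
  · exact slU_injective (SpecialLinearGroup.toGL_injective (congrArg Subtype.val h))
  · obtain ⟨a, rfl⟩ := (mem_uni_gl_pinf p).1 hA
    exact ⟨a, rfl⟩

theorem uni_gl_free {x y : P1 F} {A : GL (Fin 2) F} (hA : A ∈ uni p (GL (Fin 2) F) x) (hy : y ≠ x)
    (h : A • y = y) : A = 1 := by
  obtain ⟨t, rfl⟩ := sl_trans x
  obtain ⟨a, rfl⟩ := (mem_uni_gl_iff p).1 hA
  rw [mul_smul, mul_smul, ← eq_inv_smul_iff] at h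
  rcases p1_cases ((t : GL (Fin 2) F)⁻¹ • y) with h1 | ⟨b, h1⟩
  · exact absurd (inv_smul_eq_iff.1 h1) hy
  · rw [h1, ← pgl_smul, ← pU, pU_smul_ppt, ppt_inj, add_eq_left] at h
    simp [h]

theorem mem_uni_gl_of_pow {A : GL (Fin 2) F} {x : P1 F} (h : A • x = x) {k : ℕ}
    (hk : A ^ p ^ k = 1) : A ∈ uni p (GL (Fin 2) F) x := by
  induction k generalizing A with
  | zero => rw [pow_zero, pow_one] at hk; exact hk ▸ Subgroup.one_mem _
  | succ k ih =>
    have h1 : A ^ p ∈ uni p (GL (Fin 2) F) x :=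
      ih (Subgroup.pow_mem (stabilizer _ x) h p) (by rw [← pow_mul, ← pow_succ', hk])
    obtain ⟨χ, h2, -⟩ := (dk_pgl (F := F) p).chi' x
    have h3 : mk A ^ p = 1 := by
      have h4 : mk (A ^ p) ∈ uni p PGL(2, F) x := (dk_pgl p).mem_uni.2
        ⟨(uni_le x h1 :), by rw [← map_pow, ((mem_uni_gl p).1 h1).2, map_one]⟩
      have h5 : χ ⟨mk A, h⟩ = 1 := unit_eq_one_of_pow (p := p) (by
        rw [← map_pow, h2]; simpa using h4)
      exact ((dk_pgl p).mem_uni.1 ((h2 _).1 h5)).2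
    rw [← map_pow, ← mk_one, eq_comm, pgl_eq_iff] at h3
    obtain ⟨u, hu0, hu⟩ := h3
    have h6 := congrArg Units.val ((mem_uni_gl p).1 h1).2
    rw [Units.val_pow_eq_pow_val, hu, smul_pow] at h6
    have h7 : u ^ p = 1 := by simpa using congrFun (congrFun h6 0) 0
    have h8 : u = 1 := congrArg Units.val
      (unit_eq_one_of_pow (p := p) (u := Units.mk0 u hu0) (Units.ext h7))
    exact (mem_uni_gl p).2 ⟨h, Units.ext (by simpa [h8] using hu)⟩

theorem exists_le_uni_gl [Finite F] {Q : Subgroup (GL (Fin 2) F)} (hQ : IsPGroup p Q) :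
    ∃ x : P1 F, Q ≤ uni p (GL (Fin 2) F) x := by
  obtain ⟨x, hx⟩ := hQ.nonempty_fixed_point_of_prime_not_dvd_card (P1 F) (by
    have := Fintype.ofFinite F
    obtain ⟨n, -, hn⟩ := FiniteField.card F p
    rw [card_P1, Nat.card_eq_fintype_card, hn, Nat.dvd_add_right (dvd_pow_self p n.ne_zero)]
    exact (Fact.out : p.Prime).not_dvd_one)
  refine ⟨x, fun A hA => ?_⟩
  obtain ⟨k, hk⟩ := hQ ⟨A, hA⟩
  exact mem_uni_gl_of_pow p (hx ⟨A, hA⟩) (congrArg Subtype.val hk)

theorem uni_gl_isPGroup (x : P1 F) : IsPGroup p (uni p (GL (Fin 2) F) x) := fun g =>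
  ⟨1, Subtype.ext (by simpa using ((mem_uni_gl p).1 g.2).2)⟩

theorem uni_gl_ne_bot (x : P1 F) : ∃ A ∈ uni p (GL (Fin 2) F) x, A ≠ 1 := by
  obtain ⟨t, rfl⟩ := sl_trans x
  refine ⟨_, (mem_uni_gl_iff p).2 ⟨1, rfl⟩, fun h => ?_⟩
  rw [mul_inv_eq_one, mul_eq_left, ← map_one SpecialLinearGroup.toGL, ← slU_zero] at h
  exact one_ne_zero (slU_injective (SpecialLinearGroup.toGL_injective h))

theorem eq_of_uni_gl_le {x y : P1 F} (h : uni p (GL (Fin 2) F) x ≤ stabilizer _ y) : x = y := by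
  obtain ⟨A, hA, hA1⟩ := uni_gl_ne_bot p x
  by_contra hxy
  exact hA1 (uni_gl_free p hA (Ne.symm hxy) (h hA))

/-- The Sylow subgroup of `GL₂(q)` attached to a point. -/
def sylowGL [Finite F] (x : P1 F) : Sylow p (GL (Fin 2) F) where
  toSubgroup := uni p _ x
  isPGroup' := uni_gl_isPGroup p x
  is_maximal' hQ h := by
    obtain ⟨y, hy⟩ := exists_le_uni_gl p hQ
    have := eq_of_uni_gl_le p (h.trans (hy.trans (uni_le y)))
    exact le_antisymm (this ▸ hy) h

theorem sylowGL_bijective [Finite F] : Function.Bijective (sylowGL (F := F) p) := by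
  refine ⟨fun x y h => eq_of_uni_gl_le p ?_, fun P => ?_⟩
  · exact (congrArg Sylow.toSubgroup h).le.trans (uni_le y)
  · obtain ⟨x, hx⟩ := exists_le_uni_gl p P.isPGroup'
    exact ⟨x, Sylow.ext (P.is_maximal' (uni_gl_isPGroup p x) hx)⟩

theorem normalizer_uni_gl (x : P1 F) :
    Subgroup.normalizer (uni p (GL (Fin 2) F) x : Set (GL (Fin 2) F)) = stabilizer _ x := by
  ext t
  rw [Subgroup.mem_normalizer_iff_map_conj_eq, ← MulEquiv.toMonoidHom_eq_coe, ← uni_smul']
  exact ⟨fun h => eq_of_uni_gl_le p (h.le.trans (uni_le x)), fun h => by rw [mem_stabilizer_iff.1 h]⟩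

theorem sylow_sl [Finite F] (P : Sylow p SL(2, F)) :
    ∃ x : P1 F, (P : Subgroup SL(2, F)) = (uni p (GL (Fin 2) F) x).comap SpecialLinearGroup.toGL := by
  obtain ⟨x, hx⟩ := exists_le_uni_gl p (P.isPGroup'.map SpecialLinearGroup.toGL)
  exact ⟨x, (P.is_maximal' ((uni_gl_isPGroup p x).comap_of_injective _
    SpecialLinearGroup.toGL_injective) (Subgroup.map_le_iff_le_comap.1 hx)).symm⟩

theorem slL_mem_uni (a : F) : (slL a : GL (Fin 2) F) ∈ uni p (GL (Fin 2) F) (ppt (0 : F)) :=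
  (mem_uni_gl p).2 ⟨smul_ppt_ppt.2 (by simp), by rw [← map_pow, slL_pow]; simp⟩

theorem mem_uni_gl_zero {A : GL (Fin 2) F} :
    A ∈ uni p (GL (Fin 2) F) (ppt (0 : F)) ↔ ∃ a : F, A = (slL a : GL (Fin 2) F) := by
  refine ⟨fun h => ?_, by rintro ⟨a, rfl⟩; exact slL_mem_uni p a⟩
  have h1 : (sl2 0 (-1) 1 0 (by simp) : SL(2, F)).toGL • pinf F = ppt 0 := smul_pinf_ppt.2 (by simp)
  rw [← h1, mem_uni_gl_iff] at h
  obtain ⟨a, rfl⟩ := h
  refine ⟨-a, ?_⟩
  rw [mul_inv_eq_iff_eq_mul, ← map_mul, ← map_mul]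
  congr 1
  ext i j; fin_cases i <;> fin_cases j <;> simp

/-- Two unipotent elements without common fixed point can be normalised simultaneously. -/
theorem normalise_unip {u v : SL(2, F)} {x y : P1 F} (hxy : x ≠ y) (hu1 : u ≠ 1)
    (hu : (u : GL (Fin 2) F) ∈ uni p (GL (Fin 2) F) x)
    (hv : (v : GL (Fin 2) F) ∈ uni p (GL (Fin 2) F) y) :
    ∃ (t : GL (Fin 2) F) (μ : F), u = conjSL t (slU 1) ∧ v = conjSL t (slL μ) := by
  obtain ⟨t, e1, e2, e3⟩ := gl_three_trans x y ((u : GL (Fin 2) F) • y) hxy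
    (fun h => hxy (smul_left_cancel _ ((uni_le x hu).trans h)))
    fun h => hu1 (SpecialLinearGroup.toGL_injective
      ((uni_gl_free p hu hxy.symm h.symm).trans (map_one _).symm))
  rw [← e1, mem_uni_gl_iff] at hu
  obtain ⟨a, ha⟩ := hu
  rw [← e2, uni_smul'] at hv
  obtain ⟨B, hB, hv⟩ := hv
  obtain ⟨μ, rfl⟩ := (mem_uni_gl_zero p).1 hB
  rw [ha, ← e2, mul_smul, mul_smul, inv_smul_smul, smul_left_cancel_iff, ← pgl_smul, ← pU,
    pU_smul_ppt, ppt_inj, zero_add] at e3
  exact ⟨t, μ, SpecialLinearGroup.toGL_injective (by rw [ha, toGL_conjSL, e3]),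
    SpecialLinearGroup.toGL_injective (by rw [toGL_conjSL]; exact hv.symm)⟩

theorem exists_sl_prime {H : Subgroup SL(2, F)} {t : GL (Fin 2) F} (h1 : conjSL t (slU 1) ∈ H)
    (h2 : conjSL t (slL 1) ∈ H) : ∃ K ≤ H, Nonempty (K ≃* SL(2, ZMod p)) := by
  let φ := (conjSL t).toMonoidHom.comp (SpecialLinearGroup.map (ZMod.castHom (dvd_refl p) F))
  have hφ : Function.Injective φ := (conjSL t).injective.comp (sl_map_injective _)
  have : NeZero p := ⟨(Fact.out : p.Prime).ne_zero⟩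
  refine ⟨φ.range, ?_, ⟨(MonoidHom.ofInjective hφ).symm⟩⟩
  rw [MonoidHom.range_eq_map, Subgroup.map_le_iff_le_comap, top_le_iff]
  refine SL2_eq_top _ (fun a => ?_) fun a => ?_
  · have : slU a = slU 1 ^ a.val := by simp [slU_pow]
    rw [this]
    refine Subgroup.pow_mem _ ?_ _
    convert h1
    change conjSL t _ ∈ H ↔ _
    congr! 2
    ext i j; fin_cases i <;> fin_cases j <;> simp
  · have : slL a = slL 1 ^ a.val := by simp [slL_pow]
    rw [this]
    refine Subgroup.pow_mem _ ?_ _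
    convert h2
    change conjSL t _ ∈ H ↔ _
    congr! 2
    ext i j; fin_cases i <;> fin_cases j <;> simp

end

end Cfsg.Agent.Class
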