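import Cfsg.Agent.Class.Herm
import Cfsg.Prelude.Def_LieClassical

/-! The concrete unitary groups. -/

set_option autoImplicit false

namespace Cfsg.Agent.Class

open Module Matrix
open scoped commutatorElement

section transfer
variable {H Γ : Type*} [Group H] [Group Γ]

theorem card_comap_of_injective (φ : H →* Γ) (hφ : Function.Injective φ) (K : Subgroup Γ) :
    Nat.card (K.comap φ) = Nat.card (φ.range ⊓ K : Subgroup Γ) := by
  rw [← Subgroup.card_map_of_injective hφ, Subgroup.map_comap_eq]

/-- The preimage of a subgroup under an injective homomorphism. -/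
noncomputable def comapEquiv (φ : H →* Γ) (hφ : Function.Injective φ) (K : Subgroup Γ) :
    K.comap φ ≃* (φ.range ⊓ K : Subgroup Γ) :=
  (Subgroup.equivMapOfInjective _ φ hφ).trans (MulEquiv.subgroupCongr (Subgroup.map_comap_eq φ K))

theorem card_center_congr (e : H ≃* Γ) :
    Nat.card (Subgroup.center H) = Nat.card (Subgroup.center Γ) :=
  Nat.card_congr (Subgroup.centerCongr e).toEquiv

theorem mem_center_congr (e : H ≃* Γ) {x : H} :
    e x ∈ Subgroup.center Γ ↔ x ∈ Subgroup.center H := by
  simp only [Subgroup.mem_center_iff]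
  constructor
  · intro h g; apply e.injective; simp [h]
  · intro h g; obtain ⟨g, rfl⟩ := e.surjective g; rw [← map_mul, h, map_mul]

theorem card_center_mul_card_quot (G : Type*) [Group G] :
    Nat.card (Subgroup.center G) * Nat.card (G ⧸ Subgroup.center G) = Nat.card G := by
  rw [mul_comm, ← Subgroup.card_eq_card_quotient_mul_card_subgroup]

variable {F : Type*} [Field F] {ι : Type*} [Fintype ι] [DecidableEq ι]

/-- The special linear group acting on column vectors. -/
noncomputable def slLin (ι : Type*) [Fintype ι] [DecidableEq ι] (F : Type*) [Field F] :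
    SpecialLinearGroup ι F →* ((ι → F) ≃ₗ[F] (ι → F)) :=
  glEquiv.toMonoidHom.comp SpecialLinearGroup.toGL

@[simp] theorem slLin_apply (A : SpecialLinearGroup ι F) (v : ι → F) :
    slLin ι F A v = (A : Matrix ι ι F) *ᵥ v := rfl

theorem slLin_injective : Function.Injective (slLin ι F) :=
  glEquiv.injective.comp SpecialLinearGroup.toGL_injective

theorem det_slLin (A : SpecialLinearGroup ι F) : (slLin ι F A).det = 1 :=
  (det_glEquiv _).trans (Units.ext A.2)

theorem exists_slLin {g : (ι → F) ≃ₗ[F] (ι → F)} (hg : g.det = 1) : ∃ A, slLin ι F A = g := by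
  obtain ⟨A, rfl⟩ := glEquiv.surjective g
  rw [det_glEquiv] at hg
  exact ⟨⟨A, congrArg Units.val hg⟩, congrArg glEquiv (Units.ext rfl)⟩

theorem finite_linearEquiv {V : Type*} [AddCommGroup V] [Module F V] [Finite V] :
    Finite (V ≃ₗ[F] V) :=
  Finite.of_injective (fun g : V ≃ₗ[F] V => (g : V → V)) DFunLike.coe_injective

end transfer

variable {F : Type*} [Field F] {σ : F →+* F} {q : ℕ}

/-- The standard unitary space. -/
def uFS (h : UF σ q) (n : ℕ) : FS (FP.herm σ h.σσ) (Fin n → F) :=
  FS.ofHerm h.σσ h.ne_id (LinearMap.mk₂'ₛₗ σ (RingHom.id F) (fun x y => ∑ i, σ (x i) * y i)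
    (fun _ _ _ => by simp [add_mul, Finset.sum_add_distrib])
    (fun _ _ _ => by simp [Finset.mul_sum, mul_assoc])
    (fun _ _ _ => by simp [mul_add, Finset.sum_add_distrib])
    (fun _ _ _ => by simp [Finset.mul_sum, mul_left_comm]))
    fun x y => by simp [h.σσ, mul_comm]

variable (h : UF σ q) {n : ℕ}

theorem uFS_B' (x y : Fin n → F) : (uFS h n).B x y = ∑ i, σ (x i) * y i := rfl

theorem uFS_B (x y : Fin n → F) : (uFS h n).B x y = Cfsg.hermForm n F q y x := by
  simp [uFS_B', Cfsg.hermForm, h.eq, mul_comm]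

theorem uFS_Q (x : Fin n → F) : (uFS h n).Q x = Cfsg.hermForm n F q x x := by
  rw [FS.herm_Q, uFS_B]

theorem uFS_nondeg : (uFS h n).Nondeg := by
  refine FS.nondeg_of_sep fun x hx => ?_
  ext i
  simpa [uFS_B', Pi.single_apply] using hx (Pi.single i 1)

theorem uFS_mem {g : (Fin n → F) ≃ₗ[F] (Fin n → F)} : g ∈ (uFS h n).Isom ↔
    ∀ u v, Cfsg.hermForm n F q (g u) (g v) = Cfsg.hermForm n F q u v := by
  rw [FS.herm_mem_Isom]
  simp only [uFS_B]
  exact forall_comm

variable (n F q) in
/-- The general unitary group acting on column vectors. -/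
noncomputable def guLin : Cfsg.GU n F q →* ((Fin n → F) ≃ₗ[F] (Fin n → F)) :=
  glEquiv.toMonoidHom.comp (Cfsg.GU n F q).subtype

variable (n F q) in
/-- The special unitary group acting on column vectors. -/
noncomputable def suLin : Cfsg.SU n F q →* ((Fin n → F) ≃ₗ[F] (Fin n → F)) :=
  (slLin (Fin n) F).comp (Cfsg.SU n F q).subtype

theorem guLin_apply (A : Cfsg.GU n F q) (v : Fin n → F) :
    guLin F q n A v = ((A : GL (Fin n) F) : Matrix _ _ F) *ᵥ v := rfl

theorem suLin_apply (A : Cfsg.SU n F q) (v : Fin n → F) :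
    suLin F q n A v = ((A : SpecialLinearGroup (Fin n) F) : Matrix _ _ F) *ᵥ v := rfl

theorem guLin_injective : Function.Injective (guLin F q n) :=
  glEquiv.injective.comp Subtype.val_injective

theorem suLin_injective : Function.Injective (suLin F q n) :=
  slLin_injective.comp Subtype.val_injective

theorem guLin_range : (guLin F q n).range = (uFS h n).Isom := by
  ext g
  rw [uFS_mem]
  constructor
  · rintro ⟨A, rfl⟩; exact A.2
  · intro hg
    obtain ⟨A, rfl⟩ := glEquiv.surjective g
    exact ⟨⟨A, hg⟩, rfl⟩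

theorem suLin_range : (suLin F q n).range = (uFS h n).SI := by
  ext g
  rw [FS.mem_SI, uFS_mem]
  constructor
  · rintro ⟨A, rfl⟩; exact ⟨A.2, det_slLin _⟩
  · rintro ⟨hg, hd⟩
    obtain ⟨A, rfl⟩ := exists_slLin hd
    exact ⟨⟨A, hg⟩, rfl⟩

variable (n) in
/-- The general unitary group as an isometry group. -/
noncomputable def guEquiv : Cfsg.GU n F q ≃* (uFS h n).Isom :=
  equivOfRange _ guLin_injective (guLin_range h)

variable (n) in
/-- The special unitary group as a special isometry group. -/
noncomputable def suEquiv : Cfsg.SU n F q ≃* (uFS h n).SI :=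
  equivOfRange _ suLin_injective (suLin_range h)

include h

theorem card_GU : Nat.card (Cfsg.GU n F q) = guCard q n := by
  rw [Nat.card_congr (guEquiv h n).toEquiv]
  exact FS.herm_card_Isom h n (uFS_nondeg h) (by simp)

theorem card_SU (hn : 1 ≤ n) : (q + 1) * Nat.card (Cfsg.SU n F q) = guCard q n := by
  have : Nonempty (Fin n) := ⟨⟨0, hn⟩⟩
  rw [Nat.card_congr (suEquiv h n).toEquiv, FS.herm_card_SI h (uFS_nondeg h)]
  simp

theorem card_center_SU (hn : 2 ≤ n) :
    Nat.card (Subgroup.center (Cfsg.SU n F q)) = Nat.gcd n (q + 1) := by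
  rw [card_center_congr (suEquiv h n), FS.herm_card_center_SI h (uFS_nondeg h) (by simpa)]
  simp

theorem card_PSU (hn : 2 ≤ n) :
    Nat.gcd n (q + 1) * ((q + 1) * Nat.card (Cfsg.PSU n F q)) = guCard q n := by
  rw [← card_SU h (by omega), ← card_center_SU h hn, ← card_center_mul_card_quot (Cfsg.SU n F q)]
  ring

theorem PSU_simple (hn : 3 ≤ n) (hq : 3 ≤ q ∨ 4 ≤ n) : IsSimpleGroup (Cfsg.PSU n F q) :=
  have := FS.herm_simple h (uFS_nondeg h (n := n)) (by simpa) (by simpa)
  (quotCenterCongr (suEquiv h n)).isSimpleGroup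

theorem unitaryTransvection_mulVec (v : Fin n → F) (c : F) (x : Fin n → F) :
    Cfsg.unitaryTransvection n q v c *ᵥ x = x + (c * (uFS h n).B v x) • v := by
  simp only [Cfsg.unitaryTransvection, add_mulVec, smul_mulVec, vecMulVec_mulVec, uFS_B', h.eq,
    dotProduct, mul_smul, one_mulVec, op_smul_eq_smul]

theorem unitaryTransvection_isom {v : Fin n → F} (hv : v ≠ 0) (hv0 : (uFS h n).Q v = 0) {c : F} :
    (∀ x y : Fin n → F, Cfsg.hermForm n F q (Cfsg.unitaryTransvection n q v c *ᵥ x)
      (Cfsg.unitaryTransvection n q v c *ᵥ y) = Cfsg.hermForm n F q x y) ↔ c + σ c = 0 := by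
  simp only [unitaryTransvection_mulVec h, ← uFS_B h]
  constructor
  · intro h1
    obtain ⟨w, hw⟩ := (uFS_nondeg h).exists_partner' hv0 hv
    have := h1 w w
    simpa [hw.B11, hw.B12, hw.B21, hw.B22, add_comm] using this
  · intro hc x y
    have := FS.Isom_B (FS.uTG_le_Isom (FS.uT_mem v c hv0 hc)) y x
    rwa [FS.uT_apply, FS.uT_apply] at this

theorem suLin_eq_uT {A : Cfsg.SU n F q} {v : Fin n → F} {c : F} (hv0 : (uFS h n).Q v = 0)
    (hA : ((A : SpecialLinearGroup (Fin n) F) : Matrix _ _ F) = Cfsg.unitaryTransvection n q v c) :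
    ∃ c' hc', suLin F q n A = (uFS h n).uT v c' hv0 hc' := by
  by_cases hv : v = 0
  · refine ⟨0, by simp, LinearEquiv.ext fun x => ?_⟩
    rw [suLin_apply, hA, unitaryTransvection_mulVec h, FS.uT_apply]; simp [hv]
  · refine ⟨c, (unitaryTransvection_isom h hv hv0).1 fun x y => ?_, LinearEquiv.ext fun x => ?_⟩
    · rw [← hA]; exact A.2 x y
    · rw [FS.uT_apply, suLin_apply, hA, unitaryTransvection_mulVec h]

theorem SU_two_equiv {K : Type*} [Field K] [Fintype K] (hK : Fintype.card K = q) :
    Nonempty (Cfsg.SU 2 F q ≃* SpecialLinearGroup (Fin 2) K) := by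
  classical
  have := h.finite
  let K0 := σ.eqLocusField (RingHom.id F)
  have := Fintype.ofFinite K0
  have h0 : Fintype.card K = Fintype.card K0 := by
    rw [hK, ← Nat.card_eq_fintype_card]; exact h.card_fixed.symm
  let j : K →+* F := K0.subtype.comp (FiniteField.ringEquivOfCardEq h0).toRingHom
  have hj : ∀ a, σ (j a) = j a := fun a => (FiniteField.ringEquivOfCardEq h0 a).2
  obtain ⟨d, hd0, hd⟩ := exists_trace_zero h.σσ h.ne_id
  have hσd : σ d = -d := by linear_combination hd
  let f : FS (FP.herm σ h.σσ) (Fin 2 → F) :=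
    FS.ofHerm h.σσ h.ne_id (LinearMap.mk₂'ₛₗ σ (RingHom.id F)
      (fun x y => d * (σ (x 0) * y 1 - σ (x 1) * y 0))
      (fun _ _ _ => by simp; ring) (fun _ _ _ => by simp; ring)
      (fun _ _ _ => by simp; ring) (fun _ _ _ => by simp; ring))
      fun x y => by simp [h.σσ, hσd]; ring
  have hB : ∀ x y, f.B x y = d * (σ (x 0) * y 1 - σ (x 1) * y 0) := fun _ _ => rfl
  have hf : f.Nondeg := by
    refine FS.nondeg_of_sep fun x hx => ?_
    ext i
    fin_cases i
    · simpa [hB, hd0] using hx (Pi.single 1 1)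
    · simpa [hB, hd0] using hx (Pi.single 0 1)
  obtain ⟨e, he⟩ := FS.herm_isIso h hf (uFS_nondeg h (n := 2)) rfl
  let φ : SpecialLinearGroup (Fin 2) K →* _ := (slLin (Fin 2) F).comp (SpecialLinearGroup.map j)
  have hφ : Function.Injective φ := by
    refine slLin_injective.comp fun A B hAB => Subtype.ext ?_
    exact Matrix.map_injective j.injective (congrArg Subtype.val hAB)
  have := finite_linearEquiv (F := F) (V := Fin 2 → F)
  have hr : φ.range = f.SI := by
    apply Subgroup.eq_of_le_of_card_ge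
    · rintro _ ⟨A, rfl⟩
      refine ⟨FS.herm_mem_Isom.2 fun x y => ?_, det_slLin _⟩
      have hdet := congrArg j A.2
      rw [det_fin_two] at hdet
      simp only [map_sub, map_mul, map_one] at hdet
      simp [hB, φ, mulVec, dotProduct, hj, hd0]
      linear_combination (σ (x 0) * y 1 - σ (x 1) * y 0) * hdet
    · have h1 := FS.herm_card_SI h hf
      rw [← Nat.card_congr (MonoidHom.ofInjective hφ).toEquiv, card_SL2, hK]
      apply le_of_eq
      apply Nat.eq_of_mul_eq_mul_left (Nat.succ_pos q)
      simp [h1, guCard, uFac, Finset.prod_range_succ]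
      ring
  exact ⟨((suEquiv h 2).trans he.siEquiv).trans (equivOfRange φ hφ hr).symm⟩

end Cfsg.Agent.Class
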