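import Cfsg.Agent.Class.Dick3

/-! Dickson's theorem for `PSL₂(q)` and consequences; tori and dihedral subgroups. -/

set_option autoImplicit false

namespace Cfsg.Agent.Class

open MulAction Matrix Matrix.ProjGenLinGroup
open scoped MatrixGroups LinearAlgebra.Projectivization

variable {F : Type*} [Field F]

theorem psl_smul (A : SL(2, F)) (x : P1 F) : (A : PSL(2, F)) • x = (A : GL (Fin 2) F) • x := rfl

theorem toPGL_smul (g : PSL(2, F)) (x : P1 F) :
    ProjectiveSpecialLinearGroup.toPGL g • x = g • x := by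
  induction g using QuotientGroup.induction_on with | H A => rfl

theorem psl_trans (x : P1 F) : ∃ g : PSL(2, F), g • pinf F = x := by
  obtain ⟨A, hA⟩ := sl_trans x
  exact ⟨A, hA⟩

theorem index_stabilizer_psl [Finite F] (x : P1 F) :
    (stabilizer PSL(2, F) x).index = Nat.card F + 1 := by
  have : IsPretransitive PSL(2, F) (P1 F) := ⟨fun a b => by
    obtain ⟨g, rfl⟩ := psl_trans a
    obtain ⟨h, rfl⟩ := psl_trans b
    exact ⟨h * g⁻¹, by simp [mul_smul]⟩⟩
  rw [index_stabilizer_of_transitive, card_P1]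

theorem gcd_two_cases (q : ℕ) (hq : 0 < q) :
    (q % 2 = 1 ∧ Nat.gcd 2 (q - 1) = 2) ∨ (q % 2 = 0 ∧ Nat.gcd 2 (q - 1) = 1) := by
  rcases Nat.mod_two_eq_zero_or_one q with h | h
  · exact Or.inr ⟨h, (Nat.Prime.coprime_iff_not_dvd Nat.prime_two).2 (by omega)⟩
  · exact Or.inl ⟨h, Nat.gcd_eq_left (by omega)⟩

theorem index_range_toPGL [Fintype F] :
    (ProjectiveSpecialLinearGroup.toPGL (n := Fin 2) (R := F)).range.index =
      Nat.gcd 2 (Fintype.card F - 1) := by
  have h1 := (ProjectiveSpecialLinearGroup.toPGL (n := Fin 2) (R := F)).range.card_mul_index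
  rw [← Nat.card_congr (MonoidHom.ofInjective
    ProjectiveSpecialLinearGroup.toPGL_injective).toEquiv, card_PGL_eq_card_SL, card_SL2,
    ← card_PSL2, mul_comm] at h1
  exact Nat.eq_of_mul_eq_mul_right Nat.card_pos h1

theorem card_PGL2 [Fintype F] :
    Nat.card PGL(2, F) = Fintype.card F * (Fintype.card F ^ 2 - 1) := by
  rw [card_PGL_eq_card_SL, card_SL2]

theorem subfield_card_pow [Fintype F] (R : Subfield F) :
    ∃ m, 1 ≤ m ∧ Nat.card R ^ m = Fintype.card F :=
  ⟨Module.finrank R F, Module.finrank_pos,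
    by rw [← Module.natCard_eq_pow_finrank, Nat.card_eq_fintype_card]⟩

theorem exists_subfield_of_pow [Fintype F] {K : Type*} [Field K] [Fintype K] {m : ℕ}
    (h : Fintype.card K ^ m = Fintype.card F) : Nonempty (K →+* F) := by
  obtain ⟨p, hp⟩ := CharP.exists K
  have : Fact p.Prime := ⟨CharP.char_is_prime K p⟩
  obtain ⟨n, -, hn⟩ := FiniteField.card K p
  have hm : m ≠ 0 := by
    rintro rfl
    exact (Fintype.one_lt_card (α := F)).ne (by simpa using h)
  have : CharP F p := by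
    obtain ⟨r, hr⟩ := CharP.exists F
    obtain ⟨k, hr', hk⟩ := FiniteField.card F r
    have : p ∣ r ^ (k : ℕ) := by
      rw [← hk, ← h, hn, ← pow_mul]; exact dvd_pow_self p (Nat.mul_ne_zero n.ne_zero hm)
    rwa [(Nat.prime_dvd_prime_iff_eq Fact.out hr').1 ((Fact.out : p.Prime).dvd_of_dvd_pow this)]
  let _ := ZMod.algebra K p
  let _ := ZMod.algebra F p
  obtain ⟨f⟩ := FiniteField.nonempty_algHom_of_finrank_dvd (F := ZMod p) (K := K) (L := F) (by
    have h1 := Module.card_eq_pow_finrank (K := ZMod p) (V := K)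
    have h2 := Module.card_eq_pow_finrank (K := ZMod p) (V := F)
    rw [h1, h2, ← pow_mul, ZMod.card] at h
    exact ⟨m, (Nat.pow_right_injective (Fact.out : p.Prime).two_le h).symm⟩)
  exact ⟨f.toRingHom⟩

section
variable (p : ℕ) [Fact p.Prime] [CharP F p]

theorem dk_psl : DK F p PSL(2, F) (P1 F) :=
  (dk_pgl p).of_injective _ ProjectiveSpecialLinearGroup.toPGL_injective
    fun g x => (toPGL_smul g x).symm

theorem p_dvd_card [Fintype F] : p ∣ Fintype.card F := by
  obtain ⟨n, -, hn⟩ := FiniteField.card F p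
  exact hn ▸ dvd_pow_self p n.ne_zero

theorem psl_order_dvd [Fintype F] {g : PSL(2, F)} (h : (orderOf g).Coprime p) :
    orderOf g ∣ (Fintype.card F + 1) / Nat.gcd 2 (Fintype.card F - 1) ∨
    orderOf g ∣ (Fintype.card F - 1) / Nat.gcd 2 (Fintype.card F - 1) := by
  rcases psl_pow_cases p g with h1 | h1
  · rw [h.eq_one_of_dvd (orderOf_dvd_of_pow_eq_one h1)]; simp
  · exact h1

include p in
/-- Dickson's theorem for subgroups of `PSL₂(q)`. -/
theorem dickson_psl [Fintype F] (H : Subgroup PSL(2, F)) :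
    (∃ x : P1 F, H ≤ stabilizer _ x) ∨
    (∃ k : ℕ, (k ∣ (Fintype.card F + 1) / Nat.gcd 2 (Fintype.card F - 1) ∨
        k ∣ (Fintype.card F - 1) / Nat.gcd 2 (Fintype.card F - 1)) ∧
      ((IsCyclic H ∧ Nat.card H = k) ∨ Nonempty (H ≃* DihedralGroup k))) ∨
    Nonempty (H ≃* alternatingGroup (Fin 4)) ∨ Nonempty (H ≃* Equiv.Perm (Fin 4)) ∨
    Nonempty (H ≃* alternatingGroup (Fin 5)) ∨
    ∃ R : Subfield F, 3 ≤ Nat.card R ∧ (Nonempty (H ≃* PSL(2, R)) ∨ Nonempty (H ≃* PGL(2, R))) := by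
  have e := H.equivMapOfInjective _ ProjectiveSpecialLinearGroup.toPGL_injective
  have ho : ∀ c, orderOf ((e.symm c : H) : PSL(2, F)) = orderOf c := fun c => by
    rw [Subgroup.orderOf_coe, MulEquiv.orderOf_eq]
  rcases dickson_pgl p (H.map ProjectiveSpecialLinearGroup.toPGL) with ⟨x, hx⟩ | ⟨c, h1, h2⟩ |
    ⟨c, h1, -, -, ⟨h2⟩⟩ | ⟨-, ⟨⟨h⟩⟩ | ⟨⟨h⟩⟩ | ⟨⟨h⟩⟩⟩ | ⟨-, ⟨h⟩, -⟩ | ⟨R, t, h1, h2, h3⟩
  · exact Or.inl ⟨x, fun g hg => (toPGL_smul g x).symm.trans (hx _ ⟨g, hg, rfl⟩)⟩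
  · refine Or.inr (Or.inl ⟨orderOf c, ho c ▸ psl_order_dvd p (ho c ▸ h1), Or.inl ⟨?_, ?_⟩⟩)
    · exact e.isCyclic.2 ⟨c, fun x => h2.ge (Subgroup.mem_top x)⟩
    · rw [Nat.card_congr e.toEquiv, ← Subgroup.card_top, ← h2, Nat.card_zpowers]
  · exact Or.inr (Or.inl ⟨orderOf c, ho c ▸ psl_order_dvd p (ho c ▸ h1), Or.inr ⟨e.trans h2⟩⟩)
  · exact Or.inr (Or.inr (Or.inl ⟨e.trans h⟩))
  · exact Or.inr (Or.inr (Or.inr (Or.inl ⟨e.trans h⟩)))
  · exact Or.inr (Or.inr (Or.inr (Or.inr (Or.inl ⟨e.trans h⟩))))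
  · exact Or.inr (Or.inr (Or.inr (Or.inr (Or.inl ⟨e.trans h⟩))))
  refine Or.inr (Or.inr (Or.inr (Or.inr (Or.inr ⟨R, h1, ?_⟩))))
  let φ := (MulAut.conj (mk t)).toMonoidHom.comp (ProjGenLinGroup.map (n := Fin 2) R.subtype)
  have hφ : Function.Injective φ := (MulAut.conj (mk t)).injective.comp (pgl_map_injective _)
  have hφ' : ∀ B, φ (mk B) = mk (t * GeneralLinearGroup.map R.subtype B * t⁻¹) := fun B => by
    simp [φ]
  let K := (H.map ProjectiveSpecialLinearGroup.toPGL).comap φ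
  have e2 : H ≃* K := e.trans ((MulEquiv.subgroupCongr (Subgroup.map_comap_eq_self (by
    intro g hg
    obtain ⟨B, rfl⟩ := h3 g hg
    exact ⟨_, hφ' B⟩)).symm).trans (K.equivMapOfInjective φ hφ).symm)
  have h4 : (ProjectiveSpecialLinearGroup.toPGL (n := Fin 2) (R := R)).range ≤ K := by
    rintro _ ⟨g, rfl⟩
    induction g using QuotientGroup.induction_on with | H B =>
    change φ (ProjGenLinGroup.mk (SpecialLinearGroup.toGL B)) ∈ H.map _
    rw [hφ', ← toGL_map]
    exact h2 B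
  have := Fintype.ofFinite R
  have h5 := Subgroup.index_dvd_of_le h4
  have h6 := index_range_toPGL (F := R)
  rcases (Nat.dvd_prime Nat.prime_two).1 (h5.trans (h6 ▸ Nat.gcd_dvd_left _ _)) with h | h
  · rw [Subgroup.index_eq_one] at h
    exact Or.inr ⟨e2.trans ((MulEquiv.subgroupCongr h).trans Subgroup.topEquiv)⟩
  · have h8 : (ProjectiveSpecialLinearGroup.toPGL (n := Fin 2) (R := R)).range.index = 2 :=
      Nat.dvd_antisymm (h6 ▸ Nat.gcd_dvd_left _ _) (h.symm.dvd.trans h5)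
    have : Finite PGL(2, R) := Finite.of_surjective _ mk_surjective
    have h9 := K.card_mul_index
    rw [← (ProjectiveSpecialLinearGroup.toPGL (n := Fin 2) (R := R)).range.card_mul_index, h,
      h8] at h9
    have h7 := Subgroup.eq_of_le_of_card_ge h4 (by omega)
    exact Or.inl ⟨e2.trans ((MulEquiv.subgroupCongr h7.symm).trans
      (MonoidHom.ofInjective ProjectiveSpecialLinearGroup.toPGL_injective).symm)⟩

theorem exists_sylow_psl [Finite F] (x : P1 F) : ∃ P : Sylow p PSL(2, F),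
    stabilizer _ x ≤ Subgroup.normalizer ((P : Subgroup PSL(2, F)) : Set PSL(2, F)) := by
  obtain ⟨P, hP⟩ := ((dk_psl (F := F) p).uni_isPGroup x).exists_le_sylow
  obtain ⟨y, hy⟩ := P.isPGroup'.nonempty_fixed_point_of_prime_not_dvd_card (P1 F) (by
    have := Fintype.ofFinite F
    rw [card_P1, Nat.card_eq_fintype_card, Nat.dvd_add_right (p_dvd_card p)]
    exact (Fact.out : p.Prime).not_dvd_one)
  have h1 : (P : Subgroup PSL(2, F)) ≤ uni p _ y := fun g hg => by
    obtain ⟨χ, h2, -⟩ := (dk_psl (F := F) p).chi' y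
    refine (h2 ⟨g, hy ⟨g, hg⟩⟩).1 ?_
    obtain ⟨k, hk⟩ := P.isPGroup' ⟨g, hg⟩
    have h3 : χ ⟨g, hy ⟨g, hg⟩⟩ ^ p ^ k = 1 := by
      rw [← map_pow, ← map_one χ]; congr 1; exact Subtype.ext (congrArg Subtype.val hk :)
    have h4 := orderOf_dvd_of_pow_eq_one h3
    exact orderOf_eq_one_iff.1 (((coprime_orderOf_unit (p := p) (ne_zero_of_dvd_ne_zero
      (pow_ne_zero k (Fact.out : p.Prime).ne_zero) h4)).pow_right k).eq_one_of_dvd h4)
  have h2 : y = x := by
    by_contra h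
    obtain ⟨t, rfl⟩ := psl_trans x
    have h3 : (slU (1 : F) : PSL(2, F)) ∈ uni p PSL(2, F) (pinf F) := (dk_psl p).mem_uni.2
      ⟨pU_smul_pinf 1, by rw [← QuotientGroup.mk_pow, slU_pow]; simp⟩
    have h4 := (dk_psl p).conj_mem_uni h3 t
    have h5 := (dk_psl p).uni_free h4 h (uni_le y (h1 (hP h4)))
    rw [mul_inv_eq_one, mul_eq_left] at h5
    exact one_ne_zero (pU_injective ((congrArg ProjectiveSpecialLinearGroup.toPGL h5).trans
      (by simp)) : (1 : F) = 0)
  subst h2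
  refine ⟨P, fun t ht => ?_⟩
  rw [← le_antisymm hP h1, Subgroup.mem_normalizer_iff_map_conj_eq, ← MulEquiv.toMonoidHom_eq_coe,
    ← uni_smul', mem_stabilizer_iff.1 ht]

theorem isCyclic_of_odd [Finite F] (H : Subgroup PGL(2, F)) (h1 : Odd (Nat.card H))
    (h2 : ¬ p ∣ Nat.card H) : IsCyclic H := by
  have : Finite PGL(2, F) := Finite.of_surjective _ mk_surjective
  have d := (dk_PL (F := F) p).subgroup H
  have hu : ∀ x : PL F, uni p H x = ⊥ := fun x => by
    obtain ⟨k, hk⟩ := (d.uni_isPGroup x).exists_card_eq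
    rcases k with _ | k
    · exact Subgroup.eq_bot_of_card_eq _ hk
    · exact absurd ((dvd_pow_self p k.succ_ne_zero).trans (hk ▸ Subgroup.card_subgroup_dvd_card _)) h2
  rcases d.dickson (fun g => PL_ex g.1) with ⟨x, hx⟩ | ⟨x, hx⟩ | ⟨-, -, h3⟩ | ⟨-, -, h3, -⟩ |
    ⟨x, h3, -⟩
  · obtain ⟨c, -, -, -, -, -, h4⟩ := d.borel x
    exact ⟨c, fun g => (h4 (hu x)).le (hx g)⟩
  · rw [← card_orbit_mul x, hx] at h1
    simp [Nat.odd_iff] at h1
  · rw [Nat.odd_iff] at h1; omega
  · rw [Nat.odd_iff] at h1; omega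
  · simp [hu] at h3

theorem exists_sl_prime_of_sylow [Finite F] (hp : p ≠ 2) (H : Subgroup SL(2, F))
    (hH : 1 < Nat.card (Sylow p H)) : ∃ K ≤ H, Nonempty (K ≃* SL(2, ZMod p)) := by
  rcases dickson_sl p H with ⟨x, hx⟩ | h | ⟨rfl, ⟨e⟩, -⟩ | ⟨R, t, -, h, -⟩
  · have : Subsingleton (Sylow p H) := by
      have h1 : ∀ P : Sylow p H, (uni p (GL (Fin 2) F) x).comap
          (SpecialLinearGroup.toGL.comp H.subtype) = P := fun P =>
        P.is_maximal' ((uni_gl_isPGroup p x).comap_of_injective _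
          (SpecialLinearGroup.toGL_injective.comp H.subtype_injective)) fun g hg => by
            obtain ⟨k, hk⟩ := P.isPGroup' ⟨g, hg⟩
            refine mem_uni_gl_of_pow p (hx g.1 g.2) (k := k) ?_
            rw [← map_pow, show g ^ p ^ k = 1 from congrArg Subtype.val hk, map_one]
      exact ⟨fun P Q => Sylow.ext ((h1 P).symm.trans (h1 Q))⟩
    simp at hH
  · have : Subsingleton (Sylow p H) := by
      have h1 : ∀ P : Sylow p H, (P : Subgroup H) = ⊥ := fun P => Subgroup.eq_bot_of_card_eq _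
        (Inv.card_sylow_of_card P (k := 0) (by simp) (h hp))
      exact ⟨fun P Q => Sylow.ext ((h1 P).trans (h1 Q).symm)⟩
    simp at hH
  · let a : alternatingGroup (Fin 5) := ⟨c[0, 1, 2], Equiv.Perm.mem_alternatingGroup.2 (by decide)⟩
    let b : alternatingGroup (Fin 5) := ⟨c[0, 1, 3], Equiv.Perm.mem_alternatingGroup.2 (by decide)⟩
    have key : ∀ g : alternatingGroup (Fin 5), g ^ 3 = 1 → ∃ u ∈ H, ∃ x : P1 F,
        (u : GL (Fin 2) F) ∈ uni 3 (GL (Fin 2) F) x ∧
        SpecialLinearGroup.toPGL u = e.symm g := fun g hg => by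
      have h1 : (e.symm g : PGL(2, F)) ^ 3 = 1 := by
        rw [← Subgroup.coe_pow, ← map_pow, hg, map_one, Subgroup.coe_one]
      obtain ⟨u, h2, h3, h4⟩ := exists_unip_lift 3 h1 (e.symm g).2
      obtain ⟨x, hx⟩ := exists_fixed_of_pow_p 3 h1
      rw [← h4] at hx
      exact ⟨u, h2, x, (mem_uni_gl 3).2 ⟨hx, by rw [← map_pow, h3, map_one]⟩, h4⟩
    obtain ⟨u, hu, x, hx, hu'⟩ := key a (by decide)
    obtain ⟨v, hv, y, hy, hv'⟩ := key b (by decide)
    have hinj : ∀ g : alternatingGroup (Fin 5), (e.symm g : PGL(2, F)) = 1 ↔ g = 1 := fun g => by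
      simp
    have huv : SpecialLinearGroup.toPGL (u * v) = e.symm (a * b) := by
      rw [map_mul, hu', hv', map_mul, Subgroup.coe_mul]
    have hxy : x ≠ y := by
      rintro rfl
      have h1 := ((mem_uni_gl 3).1 (Subgroup.mul_mem _ hx hy)).2
      have h2 : SpecialLinearGroup.toPGL (u * v) ^ 3 = 1 := by
        rw [← map_mul] at h1
        change ProjGenLinGroup.mk (SpecialLinearGroup.toGL (u * v)) ^ 3 = 1
        rw [← map_pow, h1, map_one]
      rw [huv, ← Subgroup.coe_pow, ← map_pow, hinj] at h2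
      exact absurd h2 (by decide)
    obtain ⟨t, μ, rfl, rfl⟩ := normalise_unip 3 hxy (by
      rintro rfl
      rw [map_one, eq_comm, hinj] at hu'
      exact absurd hu' (by decide)) hx hy
    have h1 : SpecialLinearGroup.toPGL (conjSL t (slU 1) * conjSL t (slL μ) *
        (conjSL t (slU 1) * conjSL t (slL μ))) = 1 := by
      rw [map_mul, huv, ← Subgroup.coe_mul, ← map_mul, hinj]; decide
    have h2 : (2 : F) ≠ 0 := mt (two_eq_zero_iff 3).1 hp
    rcases toPGL_eq_one_iff.1 h1 with h | h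
    · rw [toPGL_eq_one_iff.2 (sl2_sq_eq_one h2 h), eq_comm, hinj] at huv
      exact absurd huv (by decide)
    · have h3 := trace_of_sq_eq_neg_one h
      rw [← map_mul, trace_conjSL] at h3
      have h4 : (3 : F) = 0 := CharP.cast_eq_zero F 3
      have h5 : μ = 1 := by
        simp [trace_fin_two] at h3
        linear_combination h3 - h4
      exact exists_sl_prime 3 hu (h5 ▸ hv)
  · refine exists_sl_prime p (t := t) ?_ ?_
    · convert h (slU 1)
      ext i j; fin_cases i <;> fin_cases j <;> simp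
    · convert h (slL 1)
      ext i j; fin_cases i <;> fin_cases j <;> simp

end

theorem add_halves_of_ne (h2 : (2 : F) ≠ 0) (a : F) : a / 2 + a / 2 = a := by
  field_simp; ring

theorem sl2_index_ne_two (h2 : (2 : F) ≠ 0) (N : Subgroup SL(2, F)) : N.index ≠ 2 := by
  intro h
  have := SL2_eq_top N (fun a => by
    simpa [← slU_add, add_halves_of_ne h2] using N.mul_self_mem_of_index_two h (slU (a / 2))) fun a => by
    simpa [← slL_add, add_halves_of_ne h2] using N.mul_self_mem_of_index_two h (slL (a / 2))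
  simp [this] at h

theorem cyclic_or_quaternion_sl2 (h2 : (2 : F) ≠ 0) {G : Type*} [Group G] [Finite G]
    (hG : IsPGroup 2 G) (f : G →* SL(2, F)) (hf : Function.Injective f) :
    IsCyclic G ∨ ∃ k : ℕ, 1 ≤ k ∧ Nonempty (G ≃* QuaternionGroup (2 ^ k)) := by
  have key : ∀ x : G, x ^ 2 = 1 → x = 1 ∨ f x = -1 := fun x hx =>
    (sl2_sq_eq_one h2 (by rw [← map_mul, ← sq, hx, map_one])).imp_left (map_eq_one_iff f hf).1
  refine (Core.isCyclic_or_quaternion_of_unique hG fun x y hx hy hy1 => ?_).imp_right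
    fun ⟨_, n, h⟩ => ⟨n + 1, by omega, h⟩
  rcases key x hx with rfl | h
  · exact Subgroup.one_mem _
  · rw [hf (h.trans ((key y hy).resolve_left hy1).symm)]
    exact Subgroup.mem_zpowers y

theorem sylow_two_quaternion (h2 : (2 : F) ≠ 0) {G : Type*} [Group G] [Finite G]
    (f : G →* SL(2, F)) (hf : Function.Injective f) {E : Type*} [Field E] (hE : (2 : E) ≠ 0)
    (φ : SL(2, E) →* G) (hφ : Function.Injective φ) (S : Sylow 2 G) :
    ∃ k : ℕ, 1 ≤ k ∧ Nonempty ((S : Subgroup G) ≃* QuaternionGroup (2 ^ k)) := by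
  refine (cyclic_or_quaternion_sl2 h2 S.isPGroup' (f.comp (Subgroup.subtype _))
    (hf.comp Subtype.val_injective)).resolve_left fun hS => ?_
  have : Finite SL(2, E) := Finite.of_injective φ hφ
  obtain ⟨T⟩ : Nonempty (Sylow 2 SL(2, E)) := inferInstance
  obtain ⟨S', hS'⟩ := (T.isPGroup'.map φ).exists_le_sylow
  have h1 : IsCyclic (S' : Subgroup G) := (S.equiv S').isCyclic.1 hS
  have h3 : IsCyclic (T : Subgroup SL(2, E)) :=
    ((T : Subgroup SL(2, E)).equivMapOfInjective φ hφ).isCyclic.2 (Subgroup.isCyclic_of_le hS')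
  obtain ⟨N, hN⟩ := Inv.s0219 (even_iff_two_dvd.2 (by
    have : orderOf (-1 : SL(2, E)) = 2 := orderOf_eq_prime (by simp) (sl2_neg_one_ne hE)
    exact this.symm.dvd.trans (orderOf_dvd_natCard _))) T h3
  exact sl2_index_ne_two hE N hN

end Cfsg.Agent.Class
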