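import Cfsg.Agent.Class.Tab
import Cfsg.Agent.Char.Burnside

/-! Tori, dihedral subgroups and small subgroups of `PSL₂(q)`. -/

set_option autoImplicit false

namespace Cfsg.Agent.Class

open MulAction Matrix Matrix.ProjGenLinGroup
open scoped MatrixGroups

variable {F : Type*} [Field F]

theorem mem_range_of_pow_card [Fintype F] {K : Type*} [Field K] (j : F →+* K) {x : K}
    (h : x ^ Fintype.card F = x) : x ∈ j.range := by
  have h1 : (Polynomial.X ^ Fintype.card F - Polynomial.X : Polynomial F).Splits := by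
    rw [Polynomial.splits_iff_card_roots, FiniteField.roots_X_pow_card_sub_X, ← Finset.card_def,
      Finset.card_univ, FiniteField.X_pow_card_sub_X_natDegree_eq _ Fintype.one_lt_card]
  exact h1.mem_range_of_isRoot (FiniteField.X_pow_card_sub_X_ne_zero _ Fintype.one_lt_card)
    (by simp [h])

theorem exists_trace_root [Fintype F] {n : ℕ} (hn : n ∣ Fintype.card F + 1 ∨ n ∣ Fintype.card F - 1) :
    ∃ (ζ : AlgebraicClosure F) (τ : F), IsPrimitiveRoot ζ n ∧ ζ ≠ 0 ∧
      algebraMap F _ τ = ζ + ζ⁻¹ := by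
  have hq : 1 < Fintype.card F := Fintype.one_lt_card
  have hn0 : (n : F) ≠ 0 := by
    intro h0
    rcases hn with ⟨k, hk⟩ | ⟨k, hk⟩
    · simpa [h0] using congrArg (Nat.cast : ℕ → F) hk
    · simpa [h0, Nat.cast_sub hq.le] using congrArg (Nat.cast : ℕ → F) hk
  have : NeZero (n : F) := ⟨hn0⟩
  have : NeZero n := ⟨by rintro rfl; simp at hn0⟩
  obtain ⟨ζ, hζ⟩ := HasEnoughRootsOfUnity.exists_primitiveRoot (AlgebraicClosure F) n
  have h0 : ζ ≠ 0 := hζ.ne_zero (NeZero.ne n)
  obtain ⟨τ, hτ⟩ : ζ + ζ⁻¹ ∈ (algebraMap F (AlgebraicClosure F)).range := by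
    refine mem_range_of_pow_card _ ?_
    change FiniteField.frobeniusAlgHom F _ _ = _
    rw [map_add, map_inv₀]
    change ζ ^ Fintype.card F + (ζ ^ Fintype.card F)⁻¹ = _
    rcases hn with h | h
    · have := (hζ.pow_eq_one_iff_dvd _).2 h
      rw [pow_succ] at this
      rw [eq_inv_of_mul_eq_one_left this, inv_inv, add_comm]
    · have := (hζ.pow_eq_one_iff_dvd _).2 h
      rw [← Nat.sub_add_cancel hq.le, pow_succ, this, one_mul]
  exact ⟨ζ, τ, hζ, h0, hτ⟩

theorem exists_golden [Fintype F] (h : 5 ∣ Fintype.card F * (Fintype.card F ^ 2 - 1)) :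
    ∃ t : F, t ^ 2 = t + 1 := by
  have hq : 1 < Fintype.card F := Fintype.one_lt_card
  rw [Nat.prime_five.dvd_mul] at h
  rcases h with h | h
  · obtain ⟨p, hp⟩ := CharP.exists F
    obtain ⟨n, hp', hn⟩ := FiniteField.card F p
    obtain rfl : 5 = p := (Nat.prime_dvd_prime_iff_eq Nat.prime_five hp').1
      (Nat.prime_five.dvd_of_dvd_pow (hn ▸ h))
    have : (5 : F) = 0 := CharP.cast_eq_zero F 5
    exact ⟨3, by linear_combination this⟩
  · rw [← one_pow 2, Nat.sq_sub_sq, Nat.prime_five.dvd_mul] at h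
    obtain ⟨ζ, τ, h1, h0, h2⟩ := exists_trace_root h
    refine ⟨-τ, (algebraMap F (AlgebraicClosure F)).injective ?_⟩
    have h3 := h1.geom_sum_eq_zero (by norm_num)
    simp only [Finset.sum_range_succ, Finset.range_zero, Finset.sum_empty] at h3
    simp only [map_add, map_neg, map_pow, map_one, h2]
    field_simp
    linear_combination h3

theorem exists_A5_of_dvd [Fintype F] (h : 5 ∣ Fintype.card F * (Fintype.card F ^ 2 - 1)) :
    ∃ H : Subgroup PSL(2, F), Nonempty (H ≃* alternatingGroup (Fin 5)) := by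
  obtain ⟨t, ht⟩ := exists_golden h
  by_cases h2 : (2 : F) = 0
  · obtain ⟨b, h3, h4⟩ := exists_trace_pair (t := t) (x := t) (y := 0) (by linear_combination ht + h2)
    exact exists_A5 ht h3 h4
  · obtain ⟨b, h3, h4⟩ := exists_trace_pair_odd h2 t
    exact exists_A5 ht h3 h4

theorem exists_dihedral [Fintype F] {n : ℕ} (hn : n = Fintype.card F + 1 ∨ n = Fintype.card F - 1)
    (h3 : 3 ≤ n) : ∃ c s : PSL(2, F), orderOf c = n / Nat.gcd 2 (Fintype.card F - 1) ∧
      s * s = 1 ∧ s * c * s⁻¹ = c⁻¹ := by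
  obtain ⟨ζ, τ, h1, h0, h2⟩ := exists_trace_root (F := F) (n := n) (hn.imp Eq.dvd Eq.dvd)
  set j := algebraMap F (AlgebraicClosure F)
  have hd : ζ - ζ⁻¹ ≠ 0 := fun h => by
    have : ζ ^ 2 = 1 := by field_simp at h; linear_combination h
    have := Nat.le_of_dvd two_pos ((h1.pow_eq_one_iff_dvd _).1 this)
    omega
  let c : SL(2, F) := sl2 0 (-1) 1 τ (by simp)
  obtain ⟨a, b, hab⟩ : ∃ a b : F, a ^ 2 - τ * a * b + b ^ 2 = -1 := by
    by_cases h4 : (2 : F) = 0
    · exact ⟨0, 1, by linear_combination h4⟩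
    · obtain ⟨a, b, h⟩ := binary_form_surj h4 (a := 1) (b := -τ) (c := 1) (fun h => hd (by
        have := congrArg j h
        simp only [map_sub, map_pow, map_neg, map_mul, map_one, map_ofNat, map_zero, h2] at this
        refine pow_eq_zero_iff two_ne_zero |>.1 ?_
        rw [← this]; field_simp; ring)) (-1)
      exact ⟨a, b, by linear_combination h⟩
  let s : SL(2, F) := sl2 a b (b - τ * a) (-a) (by linear_combination -hab)
  refine ⟨c, s, ?_, ?_, ?_⟩
  · have key : ∀ k, (c : PSL(2, F)) ^ k = 1 ↔ n ∣ 2 * k := fun k => by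
      have h4 := mat2_pow (M := c.1.map j) (l := ζ) (m := ζ⁻¹) (by simp [c, trace_fin_two, h2])
        (by simp [c, det_fin_two, h0]) k
      have h5 : c.1.map j ^ k = (c ^ k).1.map j := (map_pow j.mapMatrix c.1 k).symm
      rw [h5] at h4
      have h6 : n ∣ 2 * k ↔ ζ ^ k - ζ⁻¹ ^ k = 0 := by
        rw [← h1.pow_eq_one_iff_dvd, sub_eq_zero, inv_pow, two_mul, pow_add,
          mul_eq_one_iff_eq_inv₀ (pow_ne_zero _ h0)]
      rw [← QuotientGroup.mk_pow, psl_eq_one_iff, h6]
      constructor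
      · intro h
        have h7 := congrFun (congrFun h4 1) 0
        rcases h with h | h <;> simpa [h, c] using h7.symm
      · intro h
        rw [h] at h4
        refine sl2_scalar (u := (c ^ k).1 0 0) (Matrix.map_injective j.injective
          (smul_right_injective _ hd ?_))
        have h7 := congrFun (congrFun h4 0) 0
        simp only [h4]
        ext a b; fin_cases a <;> fin_cases b <;> simp at h7 ⊢ <;> exact h7.symm
    have hq : 0 < Fintype.card F := Fintype.card_pos
    refine Nat.dvd_antisymm (orderOf_dvd_of_pow_eq_one ((key _).2 ?_)) ?_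
    · rcases gcd_two_cases _ hq with ⟨h, h'⟩ | ⟨h, h'⟩ <;> rw [h']
      · rw [Nat.mul_div_cancel' (by omega)]
      · simp
    · have := (key _).1 (pow_orderOf_eq_one _)
      rcases gcd_two_cases _ hq with ⟨h, h'⟩ | ⟨h, h'⟩ <;> rw [h']
      · exact (Nat.div_dvd_iff_dvd_mul (by omega) two_pos).2 this
      · rw [Nat.div_one]
        exact (Nat.coprime_two_right.2 (by rw [Nat.odd_iff]; omega)).dvd_of_dvd_mul_left this
  · rw [← QuotientGroup.mk_mul, psl_eq_one_iff]
    exact Or.inr (sl2_sq_of_trace (by simp [s, trace_fin_two]))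
  · rw [mul_inv_eq_iff_eq_mul, eq_inv_mul_iff_mul_eq, ← QuotientGroup.mk_mul,
      ← QuotientGroup.mk_mul]
    congr 1
    ext i j; fin_cases i <;> fin_cases j <;> simp [c, s] <;> ring

theorem dihedral_isSolvable (k : ℕ) : Group.IsSolvable (DihedralGroup k) := by
  let f : Multiplicative (ZMod k) →* DihedralGroup k :=
    MonoidHom.mk' (fun a => DihedralGroup.r a.toAdd) fun a b => rfl
  let g : DihedralGroup k →* ℤˣ := MonoidHom.mk' (fun a => match a with
    | DihedralGroup.r _ => 1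
    | DihedralGroup.sr _ => -1) (by rintro (a | a) (b | b) <;> simp)
  refine Group.isSolvable_of_ker_le_range f g ?_
  rintro (a | a) h
  · exact ⟨a, rfl⟩
  · simp [g] at h

theorem isSolvable_of_card_dvd_24 {G : Type*} [Group G] (h : Nat.card G ∣ 24) :
    Group.IsSolvable G := by
  have : Finite G := Nat.finite_of_card_ne_zero (ne_zero_of_dvd_ne_zero (by norm_num) h)
  exact Char.isSolvable_of_card_dvd_pow_mul_pow (a := 3) (b := 1) Nat.prime_two Nat.prime_three G h

theorem card_A4 : Nat.card (alternatingGroup (Fin 4)) = 12 := by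
  rw [nat_card_alternatingGroup]; simp [Nat.factorial]

theorem card_S4 : Nat.card (Equiv.Perm (Fin 4)) = 24 := by
  rw [Nat.card_perm]; simp [Nat.factorial]

theorem card_A5 : Nat.card (alternatingGroup (Fin 5)) = 60 := by
  rw [nat_card_alternatingGroup]; simp [Nat.factorial]

theorem card_PSL2_le [Fintype F] :
    Nat.card PSL(2, F) ≤ Fintype.card F * (Fintype.card F ^ 2 - 1) :=
  card_PSL2 (F := F) ▸ Nat.le_mul_of_pos_left _ (Nat.gcd_pos_of_pos_left _ two_pos)

theorem subfield_cases [Fintype F] {H : Subgroup PSL(2, F)} {R : Subfield F}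
    (h : Nonempty (H ≃* PSL(2, R)) ∨ Nonempty (H ≃* PGL(2, R))) :
    H = ⊤ ∨ ∃ m, 2 ≤ m ∧ Nat.card R ^ m = Fintype.card F := by
  obtain ⟨m, h1, hm⟩ := subfield_card_pow R
  rcases h1.eq_or_lt with rfl | h2
  · left
    have := Fintype.ofFinite R
    rw [pow_one, Nat.card_eq_fintype_card] at hm
    refine Subgroup.eq_of_le_of_card_ge le_top ?_
    rw [Subgroup.card_top]
    rcases h with ⟨⟨e⟩⟩ | ⟨⟨e⟩⟩
    · rw [Nat.card_congr e.toEquiv,
        Nat.card_congr (pslCongr (FiniteField.ringEquivOfCardEq hm)).toEquiv]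
    · rw [Nat.card_congr e.toEquiv, card_PGL2, hm]
      exact card_PSL2_le
  · exact Or.inr ⟨m, h2, hm⟩

theorem subfield_embed {H : Subgroup PSL(2, F)} {R : Type*} [Field R]
    (h : Nonempty (H ≃* PSL(2, R)) ∨ Nonempty (H ≃* PGL(2, R))) :
    ∃ f : H →* PGL(2, R), Function.Injective f := by
  rcases h with ⟨⟨e⟩⟩ | ⟨⟨e⟩⟩
  · exact ⟨ProjectiveSpecialLinearGroup.toPGL.comp e.toMonoidHom,
      ProjectiveSpecialLinearGroup.toPGL_injective.comp e.injective⟩
  · exact ⟨e.toMonoidHom, e.injective⟩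

theorem orderOf_pgl_le [Fintype F] (g : PGL(2, F)) : orderOf g ≤ Fintype.card F + 1 := by
  obtain ⟨p, hp⟩ := CharP.exists F
  have : Fact p.Prime := ⟨CharP.char_is_prime F p⟩
  have hq : 1 < Fintype.card F := Fintype.one_lt_card
  have := Nat.le_of_dvd (by omega) (p_dvd_card (F := F) p)
  rcases pgl_pow_cases p g with h | h | h
  · exact (orderOf_le_of_pow_eq_one (Fact.out : p.Prime).pos h).trans (by omega)
  · exact (orderOf_le_of_pow_eq_one (by omega) h).trans (by omega)
  · exact orderOf_le_of_pow_eq_one (by omega) h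

section
variable (p : ℕ) [Fact p.Prime] [CharP F p]

include p in
theorem stabilizer_isSolvable (x : P1 F) : Group.IsSolvable (stabilizer PSL(2, F) x) := by
  obtain ⟨χ, -, -, h⟩ := (dk_psl (F := F) p).chi' x
  have : Group.IsSolvable χ.ker := Group.isSolvable_of_comm fun a b =>
    Subtype.ext (Subtype.ext (h _ _ a.2 b.2))
  exact Group.isSolvable_of_ker_le_range χ.ker.subtype χ (by simp)

theorem dihedral_coatom [Fintype F] {c s : PSL(2, F)} (hc : (orderOf c).Coprime p)
    (hs : s * s = 1) (h : s * c * s⁻¹ = c⁻¹) (h3 : 3 ≤ orderOf c)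
    (h4 : (Fintype.card F + 1) / Nat.gcd 2 (Fintype.card F - 1) < 2 * orderOf c)
    (h5 : 6 ≤ orderOf c ∨ Nat.card PSL(2, F) = 60)
    (h6 : ∀ r, 3 ≤ r → r ^ 2 ≤ Fintype.card F → r + 1 < orderOf c) (hq2 : Fintype.card F ≠ 2) :
    ∃ H : Subgroup PSL(2, F), IsCoatom H ∧ Nonempty (H ≃* DihedralGroup (orderOf c)) := by
  have hc2 : c ^ 2 ≠ 1 := fun h => by
    have := orderOf_le_of_pow_eq_one two_pos h
    omega
  have hcs : s * c ≠ c * s := fun h' => hc2 (by
    rw [h', mul_inv_cancel_right] at h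
    rw [sq]; exact mul_eq_one_iff_eq_inv.2 h)
  obtain ⟨e⟩ := Inv.dihedral_equiv rfl hs h (by
    rintro ⟨k, rfl⟩
    exact hcs ((Commute.refl c).zpow_left k))
  have hH : Nat.card (Subgroup.closure {c, s}) = 2 * orderOf c := by
    rw [Nat.card_congr e.toEquiv, DihedralGroup.nat_card]
  have hq : 1 < Fintype.card F := Fintype.one_lt_card
  have key : ∀ M, Subgroup.closure {c, s} ≤ M → M ≠ ⊤ → ¬ (∃ x : P1 F, M ≤ stabilizer _ x) ∧
      M = Subgroup.closure {c, s} := by
    intro M hM hM'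
    have hcM : c ∈ M := hM (Subgroup.subset_closure (by simp))
    have hsM : s ∈ M := hM (Subgroup.subset_closure (by simp))
    have h0 : ¬ (∃ x : P1 F, M ≤ stabilizer _ x) := by
      rintro ⟨x, hx⟩
      obtain ⟨χ, h1, -⟩ := (dk_psl (F := F) p).chi' x
      have h2 : χ (⟨c, hx hcM⟩ ^ 2) = 1 := by
        have : (⟨s, hx hsM⟩ * ⟨c, hx hcM⟩ * ⟨s, hx hsM⟩⁻¹ : stabilizer _ x) = ⟨c, hx hcM⟩⁻¹ :=
          Subtype.ext h
        have := congrArg χ this
        rw [map_mul, map_mul, map_inv, map_inv, mul_inv_cancel_comm] at this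
        rw [map_pow, sq]; exact mul_eq_one_iff_eq_inv.2 this
      have h7 : (c ^ 2) ^ p = 1 := ((dk_psl p).mem_uni.1 ((h1 _).1 h2)).2
      rw [← pow_mul, ← orderOf_dvd_iff_pow_eq_one] at h7
      exact hc2 (orderOf_dvd_iff_pow_eq_one.1 (hc.dvd_of_dvd_mul_right h7))
    refine ⟨h0, ?_⟩
    have ho : ∀ {G : Type} [Group G] (e : M ≃* G), orderOf (e ⟨c, hcM⟩) = orderOf c :=
      fun e => by rw [e.orderOf_eq, Subgroup.orderOf_mk]
    have hdvd := Subgroup.card_subgroup_dvd_card M
    rcases dickson_psl p M with h1 | ⟨k, hk, ⟨h1, -⟩ | ⟨⟨f⟩⟩⟩ | ⟨⟨f⟩⟩ | ⟨⟨f⟩⟩ | ⟨⟨f⟩⟩ | ⟨R, h1, h2⟩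
    · exact absurd h1 h0
    · exact absurd (congrArg Subtype.val (mul_comm' (⟨s, hsM⟩ : M) ⟨c, hcM⟩)) hcs
    · have h7 : Nat.card M = 2 * k := by rw [Nat.card_congr f.toEquiv, DihedralGroup.nat_card]
      have h8 := Subgroup.card_dvd_of_le hM
      rw [hH, h7, Nat.mul_dvd_mul_iff_left two_pos] at h8
      have h9 : k < 2 * orderOf c := by
        have h10 : 0 < (Fintype.card F - 1) / Nat.gcd 2 (Fintype.card F - 1) :=
          Nat.div_pos (Nat.gcd_le_right _ (by omega)) (Nat.gcd_pos_of_pos_left _ two_pos)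
        have h11 : (Fintype.card F - 1) / Nat.gcd 2 (Fintype.card F - 1) ≤
          (Fintype.card F + 1) / Nat.gcd 2 (Fintype.card F - 1) := Nat.div_le_div_right (by omega)
        rcases hk with hk | hk <;> have := Nat.le_of_dvd (by omega) hk <;> omega
      obtain ⟨l, rfl⟩ := h8
      have h10 : 0 < Nat.card M := Nat.card_pos
      have : l = 1 := by
        rcases l with _ | _ | l
        · omega
        · rfl
        · nlinarith
      exact (Subgroup.eq_of_le_of_card_ge hM (by rw [hH, h7, this, mul_one])).symm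
    · have : ∀ a b : alternatingGroup (Fin 4), b * a * b⁻¹ = a⁻¹ → a ^ 2 = 1 := by decide +kernel
      have := this (f ⟨c, hcM⟩) (f ⟨s, hsM⟩) (by
        simp only [← map_mul, ← map_inv]; congr 1; exact Subtype.ext h)
      rw [← orderOf_dvd_iff_pow_eq_one, ho, orderOf_dvd_iff_pow_eq_one] at this
      exact absurd this hc2
    · rcases h5 with h5 | h5
      · have : ∀ a : Equiv.Perm (Fin 4), a ^ 3 = 1 ∨ a ^ 4 = 1 := by decide +kernel
        rcases this (f ⟨c, hcM⟩) with h | h <;>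
        · have := orderOf_le_of_pow_eq_one (by norm_num) h
          rw [ho] at this; omega
      · rw [Nat.card_congr f.toEquiv, card_S4, h5] at hdvd
        norm_num at hdvd
    · rcases h5 with h5 | h5
      · have : ∀ a : alternatingGroup (Fin 5), a ^ 2 = 1 ∨ a ^ 3 = 1 ∨ a ^ 5 = 1 := by
          decide +kernel
        rcases this (f ⟨c, hcM⟩) with h | h | h <;>
        · have := orderOf_le_of_pow_eq_one (by norm_num) h
          rw [ho] at this; omega
      · exact absurd (Subgroup.eq_of_le_of_card_ge le_top (by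
          rw [Subgroup.card_top, h5, Nat.card_congr f.toEquiv, card_A5])) hM'
    · obtain ⟨m, h7, h8⟩ := (subfield_cases h2).resolve_left hM'
      obtain ⟨f, hf⟩ := subfield_embed h2
      have := Fintype.ofFinite R
      have h9 := orderOf_pgl_le (f ⟨c, hcM⟩)
      rw [orderOf_injective f hf, Subgroup.orderOf_mk, ← Nat.card_eq_fintype_card] at h9
      have := h6 _ h1 (h8 ▸ Nat.pow_le_pow_right (by omega) h7)
      omega
  refine ⟨_, ⟨fun h7 => ?_, fun M hM => by_contra fun h7 => hM.ne' (key M hM.le h7).2⟩, ⟨e⟩⟩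
  have h8 := card_PSL2 (F := F)
  rw [← Subgroup.card_top (G := PSL(2, F)), ← h7, hH] at h8
  have h9 : Nat.gcd 2 (Fintype.card F - 1) * orderOf c ≤ Fintype.card F + 1 := by
    have h10 : 0 < (Fintype.card F - 1) / Nat.gcd 2 (Fintype.card F - 1) :=
      Nat.div_pos (Nat.gcd_le_right _ (by omega)) (Nat.gcd_pos_of_pos_left _ two_pos)
    have h11 : (Fintype.card F - 1) / Nat.gcd 2 (Fintype.card F - 1) ≤
      (Fintype.card F + 1) / Nat.gcd 2 (Fintype.card F - 1) := Nat.div_le_div_right (by omega)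
    refine le_trans (Nat.mul_le_mul_left _ ?_) (Nat.mul_div_le _ _)
    rcases psl_order_dvd p hc with hk | hk <;> have := Nat.le_of_dvd (by omega) hk <;> omega
  obtain ⟨k, hk⟩ : ∃ k, Fintype.card F = k + 3 := ⟨Fintype.card F - 3, by omega⟩
  have : (k + 3) ^ 2 - 1 = (k + 2) * (k + 4) := Nat.sub_eq_of_eq_add (by ring)
  rw [hk] at h8 h9
  rw [this] at h8
  nlinarith

end

end Cfsg.Agent.Class
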