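import Cfsg.Agent.Class.Exc3

/-! Symmetric groups inside symplectic and orthogonal groups in characteristic 2. -/

set_option autoImplicit false

namespace Cfsg.Agent.Class

open Module Matrix Equiv
open scoped MatrixGroups

variable {F : Type*} [Field F] {V : Type*} [AddCommGroup V] [Module F V]

theorem FS.exists_perm_hom {P : FP F} {f : FS P V} [FiniteDimensional F V] (hf : f.Nondeg)
    (h2 : (2 : F) = 0) {ι : Type*} [Fintype ι] [DecidableEq ι] (h5 : 5 ≤ Fintype.card ι) (c : ι → V)
    (o : ι) (ho : c o = 0) (hs : Submodule.span F (Set.range c) = ⊤) (a : ι → F)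
    (hB : ∀ i k, f.B (c i) (c k) = (if i = k then 1 else 0) + a i + a k + 1) {t : F}
    (hQ : ∀ i j, i ≠ j → f.Q (c i + c j) = t) :
    ∃ ρ : Perm ι →* f.Isom, Function.Injective ρ := by
  have h1 : ∀ i j k l, f.B (c i + c j) (c k + c l) = (if i = k then 1 else 0) +
      (if i = l then 1 else 0) + (if j = k then 1 else 0) + if j = l then 1 else 0 := by
    intro i j k l
    simp only [map_add, LinearMap.add_apply, hB]
    linear_combination (a i + a j + a k + a l + 2) * h2
  obtain ⟨ρ, hρ⟩ := FS.exists_hom_of_conf hf (G := Perm ι) (fun g (x : ι × ι) => (g x.1, g x.2))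
    (fun _ => rfl) (fun _ _ _ => rfl) (fun x => c x.1 + c x.2)
    (eq_top_iff.2 (hs ▸ Submodule.span_mono (by rintro _ ⟨i, rfl⟩; exact ⟨(i, o), by simp [ho]⟩)))
    (fun g x y => by simp only [h1, g.apply_eq_iff_eq]) fun g x => by
      by_cases h : x.1 = x.2
      · simp [h, ← two_smul F, h2]
      · rw [hQ _ _ h, hQ _ _ (g.injective.ne h)]
  refine ⟨ρ, (injective_iff_map_eq_one _).2 fun g hg => Equiv.ext fun i => by_contra fun hi => ?_⟩
  have h3 : ∀ j, j ≠ i → g j = i := fun j hj => by_contra fun hj' => by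
    obtain ⟨l, hl⟩ : ∃ l, l ∉ ({i, j, g i, g j} : Finset ι) := by
      by_contra! h
      have := (Finset.card_le_card fun l _ => h l : Finset.univ.card ≤ _).trans Finset.card_le_four
      rw [Finset.card_univ] at this; omega
    simp only [Finset.mem_insert, Finset.mem_singleton, not_or] at hl
    have := congrArg (fun v => f.B v (c i + c l)) (hg ▸ hρ g (i, j))
    change f.B (c i + c j) _ = f.B (c (g i) + c (g j)) _ at this
    rw [h1, h1] at this
    simp [hj, hj', show g i ≠ i from hi, Ne.symm hl.1, Ne.symm hl.2.1, Ne.symm hl.2.2.1,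
      Ne.symm hl.2.2.2] at this
  obtain ⟨j, hj⟩ := Fintype.exists_ne_of_one_lt_card (by omega) i
  obtain ⟨k, hk, hk'⟩ := exists_ne_ne_of_three_le (by omega) i j
  exact hk' (g.injective ((h3 k hk).trans (h3 j hj).symm))

variable (F) in
/-- The root lattice form of type `A`. -/
def anOS (M : ℕ) : OS F (Fin M → F) :=
  FS.ofSymm (Matrix.toBilin' (.of fun i j => if i ≤ j then 1 else 0))

variable {M : ℕ}

theorem anOS_single (i j : Fin M) :
    (anOS F M).B (Pi.single i 1) (Pi.single j 1) = (if i = j then 1 else 0) + 1 := by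
  rw [anOS, FS.ofSymm, FS.ofQuad_B, LinearMap.BilinMap.polar_toQuadraticMap]
  rcases lt_trichotomy i j with h | rfl | h
  · simp [h.le, h.ne, h.not_ge]
  · simp
  · simp [h.le, h.ne', h.not_ge]

theorem anOS_Q_single (i : Fin M) : (anOS F M).Q (Pi.single i 1) = 1 := by simp [anOS]

theorem anOS_B_single (x : Fin M → F) (j : Fin M) :
    (anOS F M).B x (Pi.single j 1) = x j + ∑ i, x i := by
  conv_lhs => rw [pi_eq_sum_univ' x]
  simp [anOS_single, mul_add, Finset.sum_add_distrib]

theorem anOS_nondeg (h : (M : F) = 0) : (anOS F M).Nondeg := FS.nondeg_of_sep fun x hx => by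
  have h1 : ∀ j, x j = -∑ i, x i := fun j => eq_neg_of_add_eq_zero_left (anOS_B_single x j ▸ hx _)
  have h2 : ∑ i, x i = 0 := by rw [Finset.sum_congr rfl fun j _ => h1 j]; simp [h]
  exact funext fun j => by simpa [h2] using h1 j

theorem span_of_single {ι κ : Type*} [Fintype ι] [DecidableEq ι] {c : κ → ι → F}
    (h : ∀ i, ∃ k, c k = Pi.single i 1) : Submodule.span F (Set.range c) = ⊤ :=
  eq_top_iff.2 ((Pi.basisFun F ι).span_eq ▸ Submodule.span_mono (by
    rintro _ ⟨i, rfl⟩; simpa using h i))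

/-- The points of the deleted permutation module. -/
def anPt (F : Type*) [Field F] (M : ℕ) : Option (Option (Fin M)) → Fin M → F
  | none => 0
  | some none => 1
  | some (some i) => Pi.single i 1

theorem anPt_B (h2 : (2 : F) = 0) (h : (M : F) = 0) (i k : Option (Option (Fin M))) :
    (anOS F M).B (anPt F M i) (anPt F M k) =
      (if i = k then 1 else 0) + i.elim 1 (fun _ => 0) + k.elim 1 (fun _ => 0) + 1 := by
  have h3 : (1 : F) + 1 = 0 := one_add_one_eq_two.trans h2
  have h4 : ∀ j, (anOS F M).B 1 (Pi.single j 1) = 1 := fun j => by simp [anOS_B_single, h]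
  rcases i with _ | _ | i <;> rcases k with _ | _ | k <;>
    simp [anPt, h3, h4, anOS_single, FS.orth_self, h2, (anOS F M).orth_symm 1]

theorem exists_perm_sp (h2 : (2 : F) = 0) {m : ℕ} (hm : 2 ≤ m) :
    ∃ ρ : Perm (Fin (2 * m + 2)) →* symplecticGroup (Fin m) F, Function.Injective ρ := by
  have h : ((2 * m : ℕ) : F) = 0 := by simp [h2]
  let f := FS.ofAlt (anOS F (2 * m)).bil fun x => by simp [FS.orth_self, h2]
  have hf : f.Nondeg := FS.nondeg_of_sep fun x hx => (anOS_nondeg h).eq_zero hx
  obtain ⟨ρ, hρ⟩ := FS.exists_perm_hom hf h2 (by simp; omega) (anPt F (2 * m)) none rfl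
    (span_of_single fun i => ⟨some (some i), rfl⟩) _ (anPt_B h2 h) (t := 0) fun _ _ _ => rfl
  obtain ⟨e, he⟩ := FS.sp_isIso _ (spFS_nondeg m F) hf (by simp [two_mul]) rfl
  let e' : Fin (2 * m + 2) ≃ Option (Option (Fin (2 * m))) := Fintype.equivOfCardEq (by simp)
  exact ⟨((he.isomEquiv.trans (spEquiv m F).symm).toMonoidHom.comp ρ).comp e'.permCongrHom,
    ((he.isomEquiv.trans (spEquiv m F).symm).injective.comp hρ).comp e'.permCongrHom.injective⟩

theorem two_eq_zero_of_card [Fintype F] (hF : Fintype.card F = 2) : (2 : F) = 0 := by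
  have := FiniteField.cast_card_eq_zero F
  rwa [hF] at this

theorem sp4_two_equiv [Fintype F] (hF : Fintype.card F = 2) :
    Nonempty (symplecticGroup (Fin 2) F ≃* Perm (Fin 6)) := by
  obtain ⟨ρ, hρ⟩ := exists_perm_sp (two_eq_zero_of_card hF) (m := 2) le_rfl
  refine (equiv_of_inj_card ρ hρ ?_).map (·.symm)
  rw [card_Sp, Nat.card_eq_fintype_card (α := F), hF]
  simp [Finset.prod_range_succ, Fintype.card_perm, Nat.factorial]

theorem o6p_two_equiv [Fintype F] (hF : Fintype.card F = 2) :
    Nonempty ((plusOS F 3).Isom ≃* Perm (Fin 8)) := by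
  have h2 := two_eq_zero_of_card hF
  have h : ((6 : ℕ) : F) = 0 := by push_cast; linear_combination 3 * h2
  have hf := anOS_nondeg h
  have h1 : (anOS F 6).Q 1 = 1 := by
    simp [anOS, toBilin'_apply, Fin.sum_univ_succ, -Finset.sum_boole]
    linear_combination 10 * h2
  obtain ⟨ρ, hρ⟩ := FS.exists_perm_hom hf h2 (by simp) (anPt F 6) none rfl
    (span_of_single fun i => ⟨some (some i), rfl⟩) _ (anPt_B h2 h) (t := 1) fun i j hij => by
      rw [FS.orth_Q_add, anPt_B h2 h, if_neg hij]
      rcases i with _ | _ | i <;> rcases j with _ | _ | j <;>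
        simp [anPt, h1, anOS_Q_single, one_add_one_eq_two, h2] at hij ⊢
  have hc : Nat.card (Perm (Option (Option (Fin 6)))) = 40320 := by
    simp [Fintype.card_perm, Nat.factorial]
  have hw : (anOS F 6).wi 3 := by_contra fun hw => by
    have h3 := FS.card_Isom_minus hf (m := 2) (by simp) hw
    have h4 := Subgroup.card_dvd_of_injective ρ hρ
    simp [hF, Finset.prod_range_succ] at h3
    rw [hc, show Nat.card (anOS F 6).Isom = 51840 by omega] at h4
    omega
  obtain ⟨e, he⟩ := FS.isIso_of_even 3 hf (plusOS_nondeg F 3) (by simp) (plusOS_finrank F 3)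
    (iff_of_true hw (plusOS_wi F 3))
  have := finite_linearEquiv (F := F) (V := Fin 6 → F)
  have h3 := FS.card_Isom_plus hf (m := 2) (by simp) hw
  simp [hF, Finset.prod_range_succ] at h3
  obtain ⟨e'⟩ := equiv_of_inj_card ρ hρ (by omega)
  exact ⟨(he.isomEquiv.trans e'.symm).trans (Fintype.equivOfCardEq (by simp)).permCongrHom⟩

theorem o4m_two_equiv [Fintype F] (hF : Fintype.card F = 2) {a b : F}
    (hab : ∀ z₁ z₂ : F, z₁ ^ 2 + a * z₁ * z₂ + b * z₂ ^ 2 = 0 → z₁ = 0 ∧ z₂ = 0) :
    Nonempty ((minusOS 1 a b).Isom ≃* Perm (Fin 5)) := by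
  have h2 := two_eq_zero_of_card hF
  have h : ((4 : ℕ) : F) = 0 := by push_cast; linear_combination 2 * h2
  have hf := anOS_nondeg h
  obtain ⟨ρ, hρ⟩ := FS.exists_perm_hom hf h2 (by simp) (fun i => anPt F 4 (i.map some)) none rfl
    (span_of_single fun i => ⟨some i, rfl⟩) (fun i => i.elim 1 fun _ => 0)
    (fun i j => by rw [anPt_B h2 h]; cases i <;> cases j <;> simp) (t := 1) fun i j hij => by
      rw [FS.orth_Q_add, anPt_B h2 h]
      rcases i with _ | i <;> rcases j with _ | j <;>
        simp [anPt, anOS_Q_single, one_add_one_eq_two, h2] at hij ⊢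
      simp [hij]
  have hc : Nat.card (Perm (Option (Fin 4))) = 120 := by
    simp [Fintype.card_perm, Nat.factorial]
  have hw : ¬ (anOS F 4).wi 2 := fun hw => by
    have h3 := FS.card_Isom_plus hf (m := 1) (by simp) hw
    have h4 := Subgroup.card_dvd_of_injective ρ hρ
    simp [hF, Finset.prod_range_succ] at h3
    rw [hc, show Nat.card (anOS F 4).Isom = 72 by omega] at h4
    omega
  obtain ⟨e, he⟩ := FS.isIso_of_even 2 hf (minusOS_nondeg 1 hab) (by simp) (minusOS_finrank 1)
    (iff_of_false hw (minusOS_not_wi 1 hab))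
  have := finite_linearEquiv (F := F) (V := Fin 4 → F)
  have h3 := FS.card_Isom_minus hf (m := 1) (by simp) hw
  simp [hF, Finset.prod_range_succ] at h3
  obtain ⟨e'⟩ := equiv_of_inj_card ρ hρ (by omega)
  exact ⟨(he.isomEquiv.trans e'.symm).trans (Fintype.equivOfCardEq (by simp)).permCongrHom⟩

theorem psl4_two_equiv [Fintype F] (hF : Fintype.card F = 2) :
    Nonempty (PSL(4, F) ≃* alternatingGroup (Fin 8)) := by
  obtain ⟨e⟩ := o6p_two_equiv hF
  obtain ⟨e'⟩ := omega6p_equiv (F := F)
  exact ⟨e'.symm.trans ((quotCenterCongr ((commCongr e).trans (MulEquiv.subgroupCongr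
    (alternatingGroup.commutator_perm_eq (by simp))))).trans
      (quotCenterBot (alternatingGroup.center_eq_bot (by simp))))⟩

end Cfsg.Agent.Class
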