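import Mathlib
import Cfsg.Prelude.Def_ClassicalGeometry
import Cfsg.Prelude.Def_LieClassical

/-! Basic facts on `GL`, `SL`, `PSL`: orders, generation, perfectness, simplicity. -/

set_option autoImplicit false

namespace Cfsg.Agent.Class

open Matrix Matrix.SpecialLinearGroup
open scoped MatrixGroups commutatorElement LinearAlgebra.Projectivization Pointwise

section general

/-- Iwasawa's criterion for the quotient by the centre. -/
theorem isSimpleGroup_quotient_center {G α : Type*} [Group G] [MulAction G α]
    [MulAction.IsQuasiPreprimitive G α] (I : MulAction.IwasawaStructure G α)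
    (hperf : commutator G = ⊤) (hker : ∀ g : G, (∀ x : α, g • x = x) → g ∈ Subgroup.center G)
    (hne : Subgroup.center G ≠ ⊤) : IsSimpleGroup (G ⧸ Subgroup.center G) := by
  have : Nontrivial (G ⧸ Subgroup.center G) := QuotientGroup.nontrivial_iff.2 hne
  refine ⟨fun N hN => ?_⟩
  set M := N.comap (QuotientGroup.mk' (Subgroup.center G)) with hM
  have hMN : M.map (QuotientGroup.mk' (Subgroup.center G)) = N :=
    Subgroup.map_comap_eq_self_of_surjective (QuotientGroup.mk'_surjective _) N
  by_cases h : MulAction.fixedPoints M α = Set.univ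
  · left
    rw [← hMN, Subgroup.map_eq_bot_iff, QuotientGroup.ker_mk']
    intro g hg
    exact hker g fun x => Set.eq_univ_iff_forall.1 h x ⟨g, hg⟩
  · right
    have := I.commutator_le M h
    rw [hperf, top_le_iff] at this
    rw [← hMN, this]
    exact Subgroup.map_top_of_surjective _ (QuotientGroup.mk'_surjective _)

theorem card_rootsOfUnity_eq_gcd {F : Type*} [Field F] [Fintype F] (n : ℕ) :
    Nat.card (rootsOfUnity n F) = Nat.gcd n (Fintype.card F - 1) := by
  have h := IsCyclic.card_powMonoidHom_ker Fˣ n
  rw [Nat.card_units, Nat.card_eq_fintype_card (α := F), Nat.gcd_comm] at h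
  rw [← h]
  congr 2

end general

section card
variable {F : Type*} [Field F] {ι : Type*} [Fintype ι] [DecidableEq ι]

theorem range_toGL :
    (toGL : SpecialLinearGroup ι F →* GL ι F).range = (GeneralLinearGroup.det : GL ι F →* Fˣ).ker := by
  ext g
  constructor
  · rintro ⟨h, rfl⟩
    simp [MonoidHom.mem_ker]
  · intro hg
    refine ⟨⟨g.1, ?_⟩, Units.ext rfl⟩
    have := congrArg Units.val (MonoidHom.mem_ker.1 hg)
    simpa using this

theorem card_SL_eq_card_ker :
    Nat.card (SpecialLinearGroup ι F) = Nat.card (GeneralLinearGroup.det : GL ι F →* Fˣ).ker := by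
  rw [← range_toGL]
  exact Nat.card_congr (MonoidHom.ofInjective toGL_injective).toEquiv

theorem card_units_mul_card_SL [Nonempty ι] :
    Nat.card Fˣ * Nat.card (SpecialLinearGroup ι F) = Nat.card (GL ι F) := by
  rw [card_SL_eq_card_ker, ← Subgroup.index_mul_card (GeneralLinearGroup.det : GL ι F →* Fˣ).ker,
    Subgroup.index_ker, MonoidHom.range_eq_top.2 GeneralLinearGroup.det_surjective]
  simp

theorem card_SL [Fintype F] (n : ℕ) (hn : 1 ≤ n) :
    (Fintype.card F - 1) * Nat.card (SpecialLinearGroup (Fin n) F)
      = ∏ i : Fin n, (Fintype.card F ^ n - Fintype.card F ^ (i : ℕ)) := by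
  have : Nonempty (Fin n) := ⟨⟨0, hn⟩⟩
  rw [← card_GL_field, ← card_units_mul_card_SL, Nat.card_units, Nat.card_eq_fintype_card (α := F)]

theorem card_center_SL [Fintype F] [Nonempty ι] :
    Nat.card (Subgroup.center (SpecialLinearGroup ι F))
      = Nat.gcd (Fintype.card ι) (Fintype.card F - 1) := by
  rw [Nat.card_congr center_equiv_rootsOfUnity.toEquiv, card_rootsOfUnity_eq_gcd,
    max_eq_left Fintype.card_pos]

theorem card_center_mul_card_PSL [Fintype F] [Nonempty ι] :
    Nat.gcd (Fintype.card ι) (Fintype.card F - 1) * Nat.card (ProjectiveSpecialLinearGroup ι F)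
      = Nat.card (SpecialLinearGroup ι F) := by
  rw [← card_center_SL, mul_comm]
  exact (Subgroup.card_eq_card_quotient_mul_card_subgroup _).symm

theorem card_SL2 [Fintype F] :
    Nat.card SL(2, F) = Fintype.card F * (Fintype.card F ^ 2 - 1) := by
  have h := card_SL (F := F) 2 (by norm_num)
  have h1 : 1 < Fintype.card F := Fintype.one_lt_card
  set q := Fintype.card F
  simp only [Fin.prod_univ_two, Fin.val_zero, Fin.val_one, pow_zero, pow_one] at h
  have : q ^ 2 - q = (q - 1) * q := by
    obtain ⟨r, hr⟩ : ∃ r, q = r + 1 := ⟨q - 1, by omega⟩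
    rw [hr]; simp only [Nat.add_sub_cancel]; apply Nat.sub_eq_of_eq_add; ring
  rw [this] at h
  apply Nat.eq_of_mul_eq_mul_left (show 0 < q - 1 by omega)
  rw [h]; ring

theorem card_GL2 [Fintype F] :
    Nat.card (GL (Fin 2) F) = (Fintype.card F - 1) * (Fintype.card F * (Fintype.card F ^ 2 - 1)) := by
  rw [← card_units_mul_card_SL, card_SL2, Nat.card_units, Nat.card_eq_fintype_card]

theorem card_PSL2 [Fintype F] :
    Nat.gcd 2 (Fintype.card F - 1) * Nat.card PSL(2, F)
      = Fintype.card F * (Fintype.card F ^ 2 - 1) := by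
  rw [← card_SL2, ← card_center_mul_card_PSL]; simp

theorem card_center_GL [Nonempty ι] :
    Nat.card (Subgroup.center (GL ι F)) = Nat.card Fˣ := by
  rw [GeneralLinearGroup.center_eq_range_scalar]
  refine (Nat.card_congr (MonoidHom.ofInjective ?_).toEquiv).symm
  intro a b h
  obtain ⟨i⟩ := ‹Nonempty ι›
  have := congrArg (fun g : GL ι F => g.1 i i) h
  simp only [GeneralLinearGroup.coe_scalar, scalar_apply, diagonal_apply_eq] at this
  exact Units.ext this

theorem card_PGL_eq_card_SL [Finite F] :
    Nat.card (ProjGenLinGroup ι F) = Nat.card (SpecialLinearGroup ι F) := by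
  rcases isEmpty_or_nonempty ι with h | h
  · have : Subsingleton (GL ι F) := ⟨fun a b => Units.ext (Subsingleton.elim _ _)⟩
    have : Subsingleton (ProjGenLinGroup ι F) := ProjGenLinGroup.mk_surjective.subsingleton
    rw [Nat.card_unique, Nat.card_unique]
  · have h1 := card_units_mul_card_SL (F := F) (ι := ι)
    have h2 := Subgroup.card_eq_card_quotient_mul_card_subgroup (Subgroup.center (GL ι F))
    rw [card_center_GL, ← h1, mul_comm] at h2
    exact (Nat.eq_of_mul_eq_mul_right Nat.card_pos h2).symm

end card

section gen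
variable {F : Type*} [Field F] {ι : Type*} [Fintype ι] [DecidableEq ι]

theorem diag2n_decompose {i j : ι} (hij : i ≠ j) (a : F) (ha : a ≠ 0) :
    diag2n hij a ha = SpecialLinearGroup.transvection hij a *
      SpecialLinearGroup.transvection hij.symm (- a⁻¹) *
      SpecialLinearGroup.transvection hij a *
      SpecialLinearGroup.transvection hij (-1) *
      SpecialLinearGroup.transvection hij.symm 1 *
      SpecialLinearGroup.transvection hij (-1) := by
  apply Subtype.ext
  simp only [diag2n_coe, coe_mul, transvection_coe, mul_add, add_mul, one_mul, mul_one,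
    single_mul_single_same, single_mul_single_of_ne _ _ _ _ hij,
    single_mul_single_of_ne _ _ _ _ hij.symm, zero_mul, add_zero]
  ext k l
  simp only [diagonal_apply, Matrix.add_apply, one_apply, single_apply]
  have := hij.symm
  have h1 := mul_inv_cancel₀ ha
  by_cases hki : i = k <;> by_cases hkj : j = k <;> by_cases hli : i = l <;> by_cases hlj : j = l <;>
    grind

theorem SL_transvection_induction (P : SpecialLinearGroup ι F → Prop) (h1 : P 1)
    (htransvec : ∀ (i j : ι) (h : i ≠ j) c, P (SpecialLinearGroup.transvection h c))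
    (hmul : ∀ A B, P A → P B → P (A * B)) (A : SpecialLinearGroup ι F) : P A := by
  rcases subsingleton_or_nontrivial ι with h | h
  · rwa [Subsingleton.elim A 1]
  refine diagonal_transvection_induction' P _ (fun i j hij c hc ↦ ?_) htransvec hmul
  rw [diag2n_decompose]
  refine hmul _ _ (hmul _ _ (hmul _ _ (hmul _ _ (hmul _ _ ?_ ?_) ?_) ?_) ?_) ?_
  all_goals exact htransvec _ _ _ _

theorem SL_eq_top_of_transvection_mem (H : Subgroup (SpecialLinearGroup ι F))
    (h : ∀ (i j : ι) (h : i ≠ j) c, SpecialLinearGroup.transvection h c ∈ H) : H = ⊤ :=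
  le_antisymm le_top fun A _ => SL_transvection_induction (· ∈ H) H.one_mem h
    (fun _ _ => H.mul_mem) A

theorem transvection_commutator {i j k : ι} (hij : i ≠ j) (hjk : j ≠ k) (hik : i ≠ k) (a b : F) :
    ⁅SpecialLinearGroup.transvection hij a, SpecialLinearGroup.transvection hjk b⁆ =
      SpecialLinearGroup.transvection hik (a * b) := by
  rw [commutatorElement_def, transvection_inv, transvection_inv]
  apply Subtype.ext
  simp only [coe_mul, transvection_coe, mul_add, add_mul, one_mul, mul_one,
    single_mul_single_same, single_mul_single_of_ne _ _ _ _ hij, single_mul_single_of_ne _ _ _ _ hik,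
    single_mul_single_of_ne _ _ _ _ hjk, single_mul_single_of_ne _ _ _ _ hik.symm,
    single_mul_single_of_ne _ _ _ _ hjk.symm,
    single_mul_single_of_ne _ _ _ _ hij.symm, zero_mul, add_zero, ← single_neg, mul_neg, neg_mul]
  abel

theorem exists_ne_ne_of_three_le (h : 3 ≤ Fintype.card ι) (i j : ι) : ∃ k, k ≠ i ∧ k ≠ j := by
  by_contra hc
  push Not at hc
  have : (Finset.univ : Finset ι) ⊆ {i, j} := by
    intro k _
    by_cases hk : k = i
    · simp [hk]
    · simp [hc k hk]
  have h2 := (Finset.card_le_card this).trans Finset.card_le_two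
  rw [Finset.card_univ] at h2
  omega

theorem commutator_SL_eq_top (h : 3 ≤ Fintype.card ι) :
    commutator (SpecialLinearGroup ι F) = ⊤ := by
  refine SL_eq_top_of_transvection_mem _ fun i j hij c => ?_
  obtain ⟨k, hki, hkj⟩ := exists_ne_ne_of_three_le h i j
  have := transvection_commutator hki.symm hkj hij c (1 : F)
  rw [mul_one] at this
  rw [← this]
  exact Subgroup.commutator_mem_commutator (Subgroup.mem_top _) (Subgroup.mem_top _)

/-- The Iwasawa structure of `SL` on projective space. -/
noncomputable def slIwasawa : MulAction.IwasawaStructure (SpecialLinearGroup ι F) (ℙ F (ι → F)) where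
  T p := lineStab p.submodule
  is_comm p := by
    rw [← Projectivization.mk_rep p, Projectivization.submodule_mk]
    exact lineStab_isMulCommutative_of_span p.rep p.rep_nonzero
  is_conj g p := by
    rw [PSL.smul_submodule, lineStab_smul]
  is_generator := by
    refine SL_eq_top_of_transvection_mem _ fun i j hij c => ?_
    refine (le_iSup (fun p : ℙ F (ι → F) => lineStab p.submodule)
      (Projectivization.mk F (Pi.single i 1) (Pi.single_ne_zero_iff.2 one_ne_zero))) ?_
    rw [Projectivization.submodule_mk]
    exact SL2Gen.transvection_mem_lineStab hij c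

theorem PSL_isSimpleGroup_of_perfect [Nontrivial ι] (h : commutator (SpecialLinearGroup ι F) = ⊤) :
    IsSimpleGroup (ProjectiveSpecialLinearGroup ι F) := by
  refine isSimpleGroup_quotient_center slIwasawa h (fun g hg => ?_) (fun h => ?_)
  · rw [← Projectivization.SL_mulAction_ker]
    exact Equiv.ext hg
  · obtain ⟨i, j, hij⟩ := exists_pair_ne ι
    have : SpecialLinearGroup.transvection hij (1 : F) ∈ Subgroup.center _ := h ▸ Subgroup.mem_top _
    exact one_ne_zero ((transvection_mem_center_iff hij _).1 this)

theorem PSL_isSimpleGroup (h : 3 ≤ Fintype.card ι) :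
    IsSimpleGroup (ProjectiveSpecialLinearGroup ι F) := by
  have : Nontrivial ι := Fintype.one_lt_card_iff_nontrivial.1 (by omega)
  exact PSL_isSimpleGroup_of_perfect (commutator_SL_eq_top h)

end gen

end Cfsg.Agent.Class
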