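import Cfsg.Agent.Class.Simple
import Cfsg.Agent.Class.Lin

/-! Symplectic groups. -/

set_option autoImplicit false

namespace Cfsg.Agent.Class

open Module Matrix
open scoped commutatorElement

section transfer
variable {F : Type*} [Field F] {ι : Type*} [Fintype ι] [DecidableEq ι]

/-- Invertible matrices as linear automorphisms. -/
noncomputable def glEquiv : GL ι F ≃* ((ι → F) ≃ₗ[F] (ι → F)) :=
  GeneralLinearGroup.toLin.trans (LinearMap.GeneralLinearGroup.generalLinearEquiv F (ι → F))

@[simp] theorem glEquiv_apply (g : GL ι F) (v : ι → F) : glEquiv g v = (g : Matrix ι ι F) *ᵥ v := rfl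

theorem det_glEquiv (g : GL ι F) : (glEquiv g).det = GeneralLinearGroup.det g := by
  apply Units.ext
  rw [LinearEquiv.coe_det, GeneralLinearGroup.val_det_apply, ← LinearMap.det_toLin']
  rfl

theorem glEquiv_symm_mulVec (g : (ι → F) ≃ₗ[F] (ι → F)) (v : ι → F) :
    ((glEquiv.symm g : GL ι F) : Matrix ι ι F) *ᵥ v = g v := by
  rw [← glEquiv_apply, MulEquiv.apply_symm_apply]

theorem matrix_ext_mulVec {A B : Matrix ι ι F} (h : ∀ v, A *ᵥ v = B *ᵥ v) : A = B :=
  Matrix.ext_iff_mulVec.2 h

/-- An injective homomorphism with prescribed range gives an isomorphism. -/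
noncomputable def equivOfRange {H Γ : Type*} [Group H] [Group Γ] (φ : H →* Γ)
    (hφ : Function.Injective φ) {G : Subgroup Γ} (h : φ.range = G) : H ≃* G :=
  (MonoidHom.ofInjective hφ).trans (MulEquiv.subgroupCongr h)

@[simp] theorem equivOfRange_coe {H Γ : Type*} [Group H] [Group Γ] (φ : H →* Γ)
    (hφ : Function.Injective φ) {G : Subgroup Γ} (h : φ.range = G) (x : H) :
    (equivOfRange φ hφ h x : Γ) = φ x := rfl

/-- Isomorphic groups have isomorphic central quotients. -/
def quotCenterCongr {G H : Type*} [Group G] [Group H] (e : G ≃* H) :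
    G ⧸ Subgroup.center G ≃* H ⧸ Subgroup.center H :=
  QuotientGroup.congr _ _ e (by
    ext x
    exact (Subgroup.mem_map_equiv (f := e)).trans (MulEquivClass.apply_mem_center_iff e.symm))

theorem commutator_eq_top_of_equiv {G H : Type*} [Group G] [Group H] (e : G ≃* H)
    (h : commutator H = ⊤) : commutator G = ⊤ := by
  have := congrArg (Subgroup.map e.symm.toMonoidHom) h
  rwa [commutator_def, Subgroup.map_commutator,
    Subgroup.map_top_of_surjective _ e.symm.surjective] at this

theorem closure_eq_top_of_map {H Γ : Type*} [Group H] [Group Γ] (φ : H →* Γ)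
    (hφ : Function.Injective φ) (S : Set H) (h : φ.range ≤ Subgroup.closure (φ '' S)) :
    Subgroup.closure S = ⊤ := by
  apply Subgroup.map_injective hφ
  rw [MonoidHom.map_closure, ← MonoidHom.range_eq_map]
  exact le_antisymm ((Subgroup.closure_le _).2 (by rintro _ ⟨x, -, rfl⟩; exact ⟨x, rfl⟩)) h

theorem card_ne_zero {α : Type*} [Finite α] (a : α) : Nat.card {x : α // x ≠ a} = Nat.card α - 1 := by
  classical
  have := Fintype.ofFinite α
  simp [Nat.card_eq_fintype_card]

theorem finrank_span_pair_le {V : Type*} [AddCommGroup V] [Module F V] (u v : V) :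
    finrank F (Submodule.span F {u, v}) ≤ 2 := by
  have := finrank_range_le_card (R := F) ![u, v]
  rwa [Set.finrank, Matrix.range_cons_cons_empty, Fintype.card_fin] at this

theorem finrank_span_triple_le {V : Type*} [AddCommGroup V] [Module F V] (u v w : V) :
    finrank F (Submodule.span F {u, v, w}) ≤ 3 := by
  have := finrank_range_le_card (R := F) ![u, v, w]
  rwa [Set.finrank, Matrix.range_cons, Matrix.range_cons_cons_empty, Fintype.card_fin] at this

end transfer

section abstract
variable {F : Type*} [Field F] {V : Type*} [AddCommGroup V] [Module F V] {f : FS (FP.sp F) V}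

namespace FS

/-- Symplectic transvection `x ↦ x - c B(u, x) u`. -/
def spT (f : FS (FP.sp F) V) (u : V) (c : F) : V ≃ₗ[F] V :=
  f.eich u 0 c (f.sp_Q u) (by simp) (by simp)

theorem spT_apply (u : V) (c : F) (x : V) : f.spT u c x = x - (c * f.B u x) • u := by
  refine (f.eich_apply _ _ _ _ _ _ x).trans ?_
  simp

theorem spT_mem (u : V) (c : F) : f.spT u c ∈ f.Isom := f.eich_mem _ _ _ _ _ _

theorem sp_goodC : f.GoodC := goodC_of_ker one_ne_zero rfl

theorem sp_Isom_le [FiniteDimensional F V] (hf : f.Nondeg) {G : Subgroup (V ≃ₗ[F] V)}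
    (hG : ∀ u c, f.spT u c ∈ G) : f.Isom ≤ G := by
  refine Isom_le_of_gen hf (fun p a ha h => ?_) fun u v hu hv h _ h2 =>
    (h2 (good_of_ker one_ne_zero rfl u)).elim
  have : f.refl p a ha h = f.spT p a⁻¹ := by ext x; rw [refl_apply, spT_apply]
  rw [this]; exact hG _ _

theorem sp_EO [FiniteDimensional F V] (hf : f.Nondeg) : f.EO = f.Isom :=
  le_antisymm EO_le_Isom (sp_Isom_le hf fun _ _ => eich_mem_EO _ _ _)

theorem spT_add (u : V) (c d : F) : f.spT u (c + d) = f.spT u c * f.spT u d := by
  ext x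
  simp only [spT_apply, LinearEquiv.mul_apply, map_sub, map_smul, f.sp_self]
  module

theorem spT_smul (a : F) (u : V) (c : F) : f.spT (a • u) c = f.spT u (a * a * c) := by
  ext x
  simp only [spT_apply, B_smul_left, FP.sp_σ]
  module

theorem conj_spT {g : V ≃ₗ[F] V} (hg : g ∈ f.Isom) (u : V) (c : F) :
    g * f.spT u c * g⁻¹ = f.spT (g u) c := by
  ext x
  simp [spT_apply, Isom_B_symm hg]

theorem sp_card_Isom [Finite F] (m : ℕ) : ∀ {V : Type*} [AddCommGroup V] [Module F V]
    [FiniteDimensional F V] {f : FS (FP.sp F) V}, f.Nondeg → finrank F V = 2 * m →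
    Nat.card f.Isom = Nat.card F ^ (m ^ 2) * ∏ i ∈ Finset.range m, (Nat.card F ^ (2 * (i + 1)) - 1) := by
  induction m with
  | zero =>
    intro V _ _ _ f hf hV
    have : Subsingleton V := finrank_zero_iff.1 hV
    have : Subsingleton (V ≃ₗ[F] V) := ⟨fun a b => LinearEquiv.ext fun _ => Subsingleton.elim _ _⟩
    simp
  | succ m ih =>
    intro V _ _ _ f hf hV
    have : Nontrivial V := Module.nontrivial_of_finrank_pos (R := F) (by omega)
    obtain ⟨u, hu⟩ := exists_ne (0 : V)
    obtain ⟨v, hv⟩ := hf.exists_partner' (f.sp_Q u) hu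
    have h1 := hv.finrank_hperp
    have h2 : finrank F (f.hperp u v) = 2 * m := by omega
    have : Finite V := Module.finite_of_finite F
    have h3 : Nat.card {x : V // x ≠ 0 ∧ f.Q x = 0} = Nat.card F ^ (2 * (m + 1)) - 1 := by
      simp only [f.sp_Q, and_true]
      rw [card_ne_zero, Module.natCard_eq_pow_finrank (K := F), hV]
    have h4 : Nat.card (FP.sp F).τ.ker = Nat.card F := by
      have : (FP.sp F).τ.ker = ⊤ := by ext; simp
      rw [this]; simp
    rw [hv.card_Isom hf, ih (hv.nondeg_hperp hf) h2, h2, h3, h4, Finset.prod_range_succ]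
    ring

theorem sp_exists_orth [FiniteDimensional F V] (hf : f.Nondeg) (W : Submodule F V)
    (hW : 2 * finrank F W < finrank F V) : ∃ w, w ∉ W ∧ ∀ x ∈ W, f.B x w = 0 := by
  by_contra h
  push Not at h
  have : f.perp W ≤ W := fun w hw => by
    by_contra h'
    obtain ⟨x, hx, hx'⟩ := h w h'
    exact hx' (hw x hx)
  have h1 := Submodule.finrank_mono this
  have h2 := hf.finrank_perp W
  omega

theorem sp_perfect [FiniteDimensional F V] (hf : f.Nondeg)
    (h : 4 < finrank F V ∨ (2 < finrank F V ∧ (2 : F) ≠ 0) ∨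
      ∃ a : F, a ≠ 0 ∧ a * a ≠ 1) : commutator f.Isom = ⊤ := by
  let φ : f.Isom →* Abelianization f.Isom := Abelianization.of
  let T : V → F → f.Isom := fun u c => ⟨f.spT u c, spT_mem u c⟩
  have hconj : ∀ u v c, u ≠ 0 → v ≠ 0 → φ (T u c) = φ (T v c) := by
    intro u v c hu hv
    obtain ⟨g, hg, rfl⟩ := witt_one hf hu hv (by rw [f.sp_Q, f.sp_Q])
    have : T (g u) c = ⟨g, hg⟩ * T u c * ⟨g, hg⟩⁻¹ := Subtype.ext (conj_spT hg u c).symm
    rw [this, map_mul, map_mul, mul_comm (φ _), map_inv, mul_inv_cancel_right]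
  have hadd : ∀ u c d, φ (T u (c + d)) = φ (T u c) * φ (T u d) := by
    intro u c d
    rw [← map_mul]; congr 1; exact Subtype.ext (spT_add u c d)
  have hzero : ∀ u, φ (T u 0) = 1 := fun u => by simpa using hadd u 0 0
  suffices hT : ∀ u c, φ (T u c) = 1 by
    have : f.Isom ≤ (commutator f.Isom).map f.Isom.subtype :=
      sp_Isom_le hf fun u c => ⟨T u c, (QuotientGroup.eq_one_iff _).1 (hT u c), rfl⟩
    rw [eq_top_iff]
    intro g _
    obtain ⟨g', hg', h⟩ := this g.2
    exact Subtype.ext h ▸ hg'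
  intro u c
  by_cases hu : u = 0
  · have : T u c = 1 := by apply Subtype.ext; ext x; simp [T, spT_apply, hu]
    rw [this, map_one]
  have two : 2 < finrank F V → ∃ v, v ∉ Submodule.span F {u} ∧ f.B u v = 0 := by
    intro h
    obtain ⟨v, hv, hv'⟩ := sp_exists_orth hf (Submodule.span F {u})
      (by rw [finrank_span_singleton hu]; omega)
    exact ⟨v, hv, hv' u (Submodule.mem_span_singleton_self u)⟩
  have ne1 : ∀ {v : V} {S : Set V}, v ∉ Submodule.span F S → ∀ x ∈ Submodule.span F S,
      x + v ≠ 0 := by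
    intro v S hv x hx h0
    apply hv
    rw [eq_neg_of_add_eq_zero_right h0]
    exact neg_mem hx
  rcases h with h | ⟨h, h2⟩ | ⟨a, ha, ha1⟩
  · obtain ⟨v, hv, huv⟩ := two (by omega)
    obtain ⟨w, hw, hw'⟩ := sp_exists_orth hf (Submodule.span F {u, v})
      (by have := finrank_span_pair_le (F := F) u v; omega)
    have mu : u ∈ Submodule.span F {u, v} := Submodule.subset_span (by simp)
    have mv : v ∈ Submodule.span F {u, v} := Submodule.subset_span (by simp)
    have huw := hw' u mu
    have hvw := hw' v mv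
    have hv0 : v ≠ 0 := by simpa using ne1 hv 0 (zero_mem _)
    have hw0 : w ≠ 0 := by simpa using ne1 hw 0 (zero_mem _)
    have rel : T (u + v + w) c * T u c * T v c * T w c = T (u + v) c * T (u + w) c * T (v + w) c := by
      apply Subtype.ext
      ext x
      simp only [T, Subgroup.coe_mul, LinearEquiv.mul_apply, spT_apply, map_sub, map_add, map_smul,
        LinearMap.add_apply, f.sp_self, huv, huw, hvw, B_comm_zero huv, B_comm_zero huw,
        B_comm_zero hvw]
      module
    have := congrArg φ rel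
    simp only [map_mul] at this
    rw [hconj _ u c (ne1 hw _ (add_mem mu mv)) hu, hconj v u c hv0 hu, hconj w u c hw0 hu,
      hconj _ u c (ne1 hv _ (Submodule.mem_span_singleton_self u)) hu,
      hconj _ u c (ne1 hw _ mu) hu, hconj _ u c (ne1 hw _ mv) hu] at this
    simpa using this
  · obtain ⟨v, hv, huv⟩ := two h
    have hv0 : v ≠ 0 := by simpa using ne1 hv 0 (zero_mem _)
    have rel : ∀ c, T (u + v) c * T (-u + v) c = T u c * T u c * T v c * T v c := by
      intro c
      apply Subtype.ext
      ext x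
      simp only [T, Subgroup.coe_mul, LinearEquiv.mul_apply, spT_apply, map_sub, map_add, map_smul,
        LinearMap.add_apply, f.sp_self, huv, B_comm_zero huv, map_neg, LinearMap.neg_apply]
      module
    have := congrArg φ (rel (c / 2))
    simp only [map_mul] at this
    rw [hconj _ u _ (ne1 hv _ (Submodule.mem_span_singleton_self u)) hu, hconj v u _ hv0 hu,
      hconj _ u _ (ne1 hv _ (neg_mem (Submodule.mem_span_singleton_self u))) hu, mul_assoc,
      ← hadd, show c / 2 + c / 2 = c by field_simp; ring] at this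
    simpa using this
  · have h1 : a * a - 1 ≠ 0 := sub_ne_zero.2 ha1
    have h2 := hconj (a • u) u (c / (a * a - 1)) (smul_ne_zero ha hu) hu
    have h3 : T (a • u) (c / (a * a - 1)) = T u (c + c / (a * a - 1)) := by
      apply Subtype.ext
      simp only [T, spT_smul]
      congr 1
      have := mul_div_cancel₀ c h1
      linear_combination this
    rw [h3, hadd] at h2
    simpa using h2

theorem sp_simple [FiniteDimensional F V] [Nontrivial V] (hf : f.Nondeg)
    (h : commutator f.Isom = ⊤) : IsSimpleGroup (f.Isom ⧸ Subgroup.center f.Isom) := by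
  obtain ⟨u, hu⟩ := exists_ne (0 : V)
  rw [← sp_EO hf] at h ⊢
  exact EO_simple hf sp_goodC hu (f.sp_Q u) h

end FS
end abstract

section concrete
variable (m : ℕ) (F : Type*) [Field F]

theorem sympForm_eq (u v : Fin m ⊕ Fin m → F) : Cfsg.sympForm m F u v =
    ∑ i, (u (.inr i) * v (.inl i) - u (.inl i) * v (.inr i)) := by
  simp [Cfsg.sympForm, J, dotProduct, Fintype.sum_sum_type, fromBlocks_mulVec, neg_mulVec,
    Finset.sum_sub_distrib]
  ring

/-- The standard symplectic space. -/
noncomputable def spFS : FS (FP.sp F) (Fin m ⊕ Fin m → F) :=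
  FS.ofAlt (Matrix.toBilin' (J (Fin m) F)) fun x => by
    rw [Matrix.toBilin'_apply']
    change Cfsg.sympForm m F x x = 0
    simp [sympForm_eq, mul_comm]

theorem spFS_B (u v : Fin m ⊕ Fin m → F) : (spFS m F).B u v = Cfsg.sympForm m F u v :=
  Matrix.toBilin'_apply' _ _ _

theorem spFS_nondeg : (spFS m F).Nondeg := by
  refine FS.nondeg_of_sep fun x hx => ?_
  ext (i | i)
  · simpa [spFS_B, sympForm_eq, Pi.single_apply] using hx (Pi.single (.inr i) 1)
  · simpa [spFS_B, sympForm_eq, Pi.single_apply] using hx (Pi.single (.inl i) 1)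

variable {m F}

theorem mem_sp_iff {A : Matrix (Fin m ⊕ Fin m) (Fin m ⊕ Fin m) F} :
    A ∈ symplecticGroup (Fin m) F ↔
      ∀ u v, Cfsg.sympForm m F (A *ᵥ u) (A *ᵥ v) = Cfsg.sympForm m F u v := by
  rw [SymplecticGroup.mem_iff', ← Matrix.toBilin'.injective.eq_iff, LinearMap.BilinForm.ext_iff]
  simp only [Matrix.toBilin'_apply', Cfsg.sympForm]
  refine forall_congr' fun u => forall_congr' fun v => ?_
  rw [← mulVec_mulVec, ← mulVec_mulVec, dotProduct_mulVec u, vecMul_transpose]

variable (m F) in
/-- The symplectic group acting on column vectors. -/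
noncomputable def spLin : symplecticGroup (Fin m) F →* ((Fin m ⊕ Fin m → F) ≃ₗ[F] (Fin m ⊕ Fin m → F)) :=
  glEquiv.toMonoidHom.comp (symplecticGroup (Fin m) F).subtype.toHomUnits

@[simp] theorem spLin_apply (A : symplecticGroup (Fin m) F) (v : Fin m ⊕ Fin m → F) :
    spLin m F A v = (A : Matrix _ _ F) *ᵥ v := rfl

theorem spLin_injective : Function.Injective (spLin m F) := fun A B h =>
  Subtype.ext (matrix_ext_mulVec fun v => by rw [← spLin_apply, h, spLin_apply])

theorem spLin_range : (spLin m F).range = (spFS m F).Isom := by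
  ext g
  rw [FS.sp_mem_Isom]
  simp only [spFS_B]
  constructor
  · rintro ⟨A, rfl⟩
    exact mem_sp_iff.1 A.2
  · intro hg
    refine ⟨⟨(glEquiv.symm g : GL _ F), mem_sp_iff.2 fun u v => ?_⟩, ?_⟩
    · rw [glEquiv_symm_mulVec, glEquiv_symm_mulVec, hg]
    · ext1 v; exact glEquiv_symm_mulVec g v

variable (m F) in
/-- The symplectic group as an isometry group. -/
noncomputable def spEquiv : symplecticGroup (Fin m) F ≃* (spFS m F).Isom :=
  equivOfRange _ spLin_injective spLin_range

theorem exists_sp_of_mem {g : (Fin m ⊕ Fin m → F) ≃ₗ[F] (Fin m ⊕ Fin m → F)}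
    (hg : g ∈ (spFS m F).Isom) : ∃ A, spLin m F A = g := by
  rw [← spLin_range] at hg; exact hg

theorem spLin_mem (A : symplecticGroup (Fin m) F) : spLin m F A ∈ (spFS m F).Isom :=
  (spLin_range (m := m) (F := F)) ▸ ⟨A, rfl⟩

theorem sympTransvection_mulVec (v : Fin m ⊕ Fin m → F) (c : F) (x : Fin m ⊕ Fin m → F) :
    Cfsg.sympTransvection m v c *ᵥ x = (spFS m F).spT v c x := by
  rw [FS.spT_apply, FS.sp_symm, spFS_B, Cfsg.sympTransvection, add_mulVec, one_mulVec, smul_mulVec,
    vecMulVec_mulVec, Cfsg.sympForm, dotProduct_comm]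
  simp [smul_smul]

theorem sympTransvection_mem (v : Fin m ⊕ Fin m → F) (c : F) :
    Cfsg.sympTransvection m v c ∈ symplecticGroup (Fin m) F := by
  rw [mem_sp_iff]
  intro x y
  rw [sympTransvection_mulVec, sympTransvection_mulVec, ← spFS_B, ← spFS_B,
    FS.Isom_B (FS.spT_mem v c)]

theorem closure_sympTransvection : Subgroup.closure {A : symplecticGroup (Fin m) F |
    ∃ (w : Fin m ⊕ Fin m → F) (c : F), (A : Matrix _ _ F) = Cfsg.sympTransvection m w c} = ⊤ := by
  refine closure_eq_top_of_map _ spLin_injective _ ?_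
  rw [spLin_range]
  refine FS.sp_Isom_le (spFS_nondeg m F) fun u c => Subgroup.subset_closure
    ⟨⟨_, sympTransvection_mem u c⟩, ⟨u, c, rfl⟩, ?_⟩
  ext1 x
  exact sympTransvection_mulVec u c x

theorem card_Sp [Finite F] : Nat.card (symplecticGroup (Fin m) F) =
    Nat.card F ^ (m ^ 2) * ∏ i ∈ Finset.range m, (Nat.card F ^ (2 * (i + 1)) - 1) := by
  rw [Nat.card_congr (spEquiv m F).toEquiv]
  exact FS.sp_card_Isom m (spFS_nondeg m F) (by simp [two_mul])

theorem exists_sq_ne_one [Finite F] (h : 4 ≤ Nat.card F) : ∃ a : F, a ≠ 0 ∧ a * a ≠ 1 := by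
  classical
  by_contra hc
  push Not at hc
  have := Fintype.ofFinite F
  have : (Finset.univ : Finset F) ⊆ {0, 1, -1} := by
    intro a _
    by_cases ha : a = 0
    · simp [ha]
    · rcases mul_self_eq_one_iff.1 (hc a ha) with h | h <;> simp [h]
  have h2 := (Finset.card_le_card this).trans Finset.card_le_three
  rw [Finset.card_univ, ← Nat.card_eq_fintype_card] at h2
  omega

theorem two_ne_zero_of_odd [Fintype F] (hF : Odd (Fintype.card F)) : (2 : F) ≠ 0 := by
  intro h
  have : ringChar F = 2 := CharP.ringChar_of_prime_eq_zero Nat.prime_two (by exact_mod_cast h)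
  have h3 := FiniteField.even_card_iff_char_two.1 this
  rw [Nat.odd_iff] at hF
  omega

theorem odd_of_two_ne_zero [Fintype F] (h : (2 : F) ≠ 0) : Odd (Fintype.card F) := by
  rw [Nat.odd_iff]
  apply FiniteField.odd_card_of_char_ne_two
  intro h2
  apply h
  have := ringChar.charP F
  rw [h2] at this
  exact CharP.cast_eq_zero F 2

theorem Sp_perfect [Fintype F] (h : 3 ≤ m ∨ (m = 2 ∧ 3 ≤ Fintype.card F) ∨ 4 ≤ Fintype.card F) :
    commutator (symplecticGroup (Fin m) F) = ⊤ := by
  refine commutator_eq_top_of_equiv (spEquiv m F) (FS.sp_perfect (spFS_nondeg m F) ?_)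
  simp only [finrank_fintype_fun_eq_card, Fintype.card_sum, Fintype.card_fin]
  by_cases h4 : 4 ≤ Fintype.card F
  · exact Or.inr (Or.inr (exists_sq_ne_one (by rwa [Nat.card_eq_fintype_card])))
  rcases h with h | h | h
  · left; omega
  · right; left
    refine ⟨by omega, two_ne_zero_of_odd ?_⟩
    have : Fintype.card F = 3 := by omega
    rw [this]; decide
  · exact (h4 h).elim

theorem PSp_simple (hm : 1 ≤ m) (h : commutator (symplecticGroup (Fin m) F) = ⊤) :
    IsSimpleGroup (Cfsg.PSp m F) := by
  have : Nonempty (Fin m) := ⟨⟨0, hm⟩⟩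
  have := FS.sp_simple (spFS_nondeg m F) (commutator_eq_top_of_equiv (spEquiv m F).symm h)
  exact (quotCenterCongr (spEquiv m F)).isSimpleGroup

end concrete

end Cfsg.Agent.Class
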