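import Cfsg.Agent.Class.FS6
import Cfsg.Agent.Inv.Small

/-! Group-theoretic lemmas: free actions, recognition of `A₄`, `S₄`, `A₅`, dihedral groups. -/

set_option autoImplicit false

namespace Cfsg.Agent.Class

open MulAction

theorem card_dvd_ncard_of_free {G X : Type*} [Group G] [MulAction G X] (S : Subgroup G) (A : Set X)
    (hA : ∀ g ∈ S, ∀ a ∈ A, g • a ∈ A) (hf : ∀ g ∈ S, ∀ a ∈ A, g • a = a → g = 1) :
    Nat.card S ∣ A.ncard := by
  let B : SubMulAction S X := ⟨A, fun g a ha => hA g g.2 a ha⟩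
  have e := selfEquivOrbitsQuotientProd (G := S) (X := B) fun b => by
    rw [eq_bot_iff]
    intro g hg
    exact Subtype.ext (hf g g.2 b b.2 (congrArg Subtype.val hg))
  have h1 : A.ncard = Nat.card B := rfl
  rw [h1, Nat.card_congr e, Nat.card_prod]
  exact dvd_mul_left _ _

variable {G : Type*} [Group G]

theorem card_dvd_card_sub_one [Finite G] (S K : Subgroup G)
    (hn : ∀ s ∈ S, ∀ k ∈ K, s * k * s⁻¹ ∈ K)
    (hf : ∀ s ∈ S, ∀ k ∈ K, s * k = k * s → s = 1 ∨ k = 1) : Nat.card S ∣ Nat.card K - 1 := by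
  let _ : MulAction G G := MulAction.compHom G (MulAut.conj : G →* MulAut G)
  have h := card_dvd_ncard_of_free S ((K : Set G) \ {1})
    (fun g hg a ha => ⟨hn g hg a ha.1, fun h => ha.2 (by
      have : g * a * g⁻¹ = 1 := h
      simpa using this)⟩)
    (fun g hg a ha h => (hf g hg a ha.1 (by
      have : g * a * g⁻¹ = a := h
      rwa [mul_inv_eq_iff_eq_mul] at this)).resolve_right ha.2)
  rwa [Set.ncard_diff_singleton_of_mem K.one_mem] at h

/-- Commuting elements of coprime orders: one of them is trivial. -/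
def Eppo (G : Type*) [Group G] : Prop :=
  ∀ s k : G, s * k = k * s → (orderOf s).Coprime (orderOf k) → s = 1 ∨ k = 1

theorem eppo_of_dvd (h : ∀ g : G, ∃ r k : ℕ, r.Prime ∧ orderOf g ∣ r ^ k) : Eppo G := by
  intro s t hc hco
  obtain ⟨r, k, hr, h1⟩ := h (s * t)
  rw [Commute.orderOf_mul_eq_mul_orderOf_of_coprime hc hco] at h1
  obtain ⟨a, -, ha⟩ := (Nat.dvd_prime_pow hr).1 ((dvd_mul_right _ _).trans h1)
  obtain ⟨b, -, hb⟩ := (Nat.dvd_prime_pow hr).1 ((dvd_mul_left _ _).trans h1)
  rw [← orderOf_eq_one_iff (x := s), ← orderOf_eq_one_iff (x := t), ha, hb]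
  rw [ha, hb] at hco
  rcases a with _ | a
  · simp
  rcases b with _ | b
  · simp
  exact absurd ((Nat.coprime_pow_left_iff (by omega) _ _).1
    ((Nat.coprime_pow_right_iff (by omega) _ _).1 hco)) (by simpa using hr.ne_one)

theorem Eppo.card_dvd [Finite G] (h : Eppo G) (S K : Subgroup G)
    (hn : ∀ s ∈ S, ∀ k ∈ K, s * k * s⁻¹ ∈ K) (hc : (Nat.card S).Coprime (Nat.card K)) :
    Nat.card S ∣ Nat.card K - 1 :=
  card_dvd_card_sub_one S K hn fun s hs k hk hsk => h s k hsk
    ((hc.coprime_dvd_left (S.orderOf_dvd_natCard hs)).coprime_dvd_right (K.orderOf_dvd_natCard hk))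

theorem Eppo.equiv_A4 [Finite G] (h : Eppo G) (hG : Nat.card G = 12) :
    Nonempty (G ≃* alternatingGroup (Fin 4)) := by
  refine Inv.s0228 hG fun z hz hc => ?_
  have : Fact (Nat.Prime 3) := ⟨Nat.prime_three⟩
  obtain ⟨a, ha⟩ := exists_prime_orderOf_dvd_card' (G := G) 3 (by rw [hG]; norm_num)
  rcases h a z (Subgroup.mem_center_iff.1 hc a) (by rw [ha, hz]; norm_num) with rfl | rfl <;>
    simp_all

theorem mem_sylow_of_mem_normalizer [Finite G] {p : ℕ} [Fact p.Prime] (P : Sylow p G) {x : G}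
    (hx : x ∈ Subgroup.normalizer ((P : Subgroup G) : Set G)) {k : ℕ} (hk : x ^ p ^ k = 1) :
    x ∈ (P : Subgroup G) := by
  have h1 : IsPGroup p (Subgroup.zpowers x) := by
    obtain ⟨j, -, hj⟩ := (Nat.dvd_prime_pow Fact.out).1 (orderOf_dvd_of_pow_eq_one hk)
    exact IsPGroup.of_card (by rw [Nat.card_zpowers, hj])
  have h2 := h1.inf_normalizer_sylow P
  exact (h2.le ⟨Subgroup.mem_zpowers x, hx⟩).2

theorem Eppo.equiv_S4 [Finite G] (h : Eppo G) (hG : Nat.card G = 24) :
    Nonempty (G ≃* Equiv.Perm (Fin 4)) := by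
  have : Fact (Nat.Prime 3) := ⟨Nat.prime_three⟩
  obtain ⟨P⟩ : Nonempty (Sylow 3 G) := inferInstance
  have hP : Nat.card (P : Subgroup G) = 3 ^ 1 := Inv.card_sylow_of_card P (m := 8) hG (by norm_num)
  have hPi : (P : Subgroup G).index = 8 := Inv.index_sylow_of_card P (k := 1) hG (by norm_num)
  set N := Subgroup.normalizer ((P : Subgroup G) : Set G) with hN
  have h1 : ∀ x ∈ N.normalCore, x ∈ (P : Subgroup G) → x = 1 := by
    intro x hx hxP
    by_contra hx1
    have hx3 : x ^ 3 ^ 1 = 1 := by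
      rw [← hP]; exact congrArg Subtype.val (pow_card_eq_one' (x := (⟨x, hxP⟩ : (P : Subgroup G))))
    have h2 : (P : Subgroup G) = Subgroup.zpowers x := by
      have : Nat.card (Subgroup.zpowers x) = 3 := by
        rw [Nat.card_zpowers]; exact orderOf_eq_prime (by simpa using hx3) hx1
      exact (Subgroup.eq_of_le_of_card_ge (Subgroup.zpowers_le.2 hxP) (by omega)).symm
    obtain ⟨S⟩ : Nonempty (Sylow 2 G) := inferInstance
    have hS : Nat.card (S : Subgroup G) = 2 ^ 3 := Inv.card_sylow_of_card S (m := 3) hG (by norm_num)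
    have := h.card_dvd S P (fun s _ k hk => by
      rw [h2] at hk
      obtain ⟨n, rfl⟩ := hk
      rw [← conj_zpow]
      refine Subgroup.zpow_mem _ (mem_sylow_of_mem_normalizer P (k := 1)
        (N.normalCore_le (N.normalCore_normal.conj_mem x hx s)) ?_) _
      rw [conj_pow, hx3]; simp) (by rw [hS, hP]; norm_num)
    rw [hS, hP] at this
    norm_num at this
  have h2 : N.normalCore = ⊥ := by
    by_contra hne
    obtain ⟨x, hx, hx1'⟩ := (Subgroup.bot_or_exists_ne_one _).resolve_left hne
    obtain ⟨a, haP, ha1⟩ : ∃ a ∈ (P : Subgroup G), a ≠ 1 := by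
      have : (P : Subgroup G) ≠ ⊥ := by intro h0; rw [h0] at hP; simp at hP
      exact (Subgroup.bot_or_exists_ne_one _).resolve_left this
    have hc : ∀ y ∈ N.normalCore, y * a = a * y := by
      intro y hy
      have h3 : y * a * y⁻¹ * a⁻¹ = 1 := h1 _ (by
        have := N.normalCore.mul_mem hy (N.normalCore_normal.conj_mem _ (N.normalCore.inv_mem hy) a)
        simpa [mul_assoc] using this)
        (Subgroup.mul_mem _ ((Subgroup.mem_normalizer_iff.1 (N.normalCore_le hy) a).1 haP)
          (Subgroup.inv_mem _ haP))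
      rw [mul_inv_eq_one, mul_inv_eq_iff_eq_mul] at h3
      exact h3
    have ha3 : orderOf a = 3 := by
      refine orderOf_eq_prime ?_ ha1
      have := congrArg Subtype.val (pow_card_eq_one' (x := (⟨a, haP⟩ : (P : Subgroup G))))
      rwa [hP] at this
    by_cases h3 : 3 ∣ orderOf x
    · have h4 : (x ^ (orderOf x / 3)) ^ 3 ^ 1 = 1 := by
        rw [← pow_mul, pow_one, Nat.div_mul_cancel h3, pow_orderOf_eq_one]
      have h5 := h1 _ (Subgroup.pow_mem _ hx _) (mem_sylow_of_mem_normalizer P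
        (N.normalCore_le (Subgroup.pow_mem _ hx _)) h4)
      have h6 := orderOf_pos x
      exact pow_ne_one_of_lt_orderOf (by omega) (by omega) h5
    · rcases h x a (hc x hx) (by
        rw [ha3]; exact ((Nat.Prime.coprime_iff_not_dvd Nat.prime_three).2 h3).symm) with h4 | h4
      · exact hx1' h4
      · exact ha1 h4
  obtain ⟨f, hf⟩ := Inv.exists_perm_embedding' N h2 rfl
  have h3 : N.index ∣ 8 := hPi ▸ Subgroup.index_dvd_of_le Subgroup.le_normalizer
  have h4 := card_sylow_modEq_one 3 G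
  rw [P.card_eq_index_normalizer] at h4
  change N.index ≡ 1 [MOD 3] at h4
  have h5 := Nat.card_le_card_of_injective f hf
  rw [hG, Nat.card_perm, Nat.card_fin] at h5
  have h6 : N.index = 4 := by
    have := Nat.le_of_dvd (by norm_num) h3
    interval_cases N.index <;> simp_all [Nat.ModEq, Nat.factorial]
  obtain ⟨f, hf⟩ := Inv.exists_perm_embedding' N h2 h6
  exact ⟨MulEquiv.ofBijective f ((Nat.bijective_iff_injective_and_card f).2
    ⟨hf, by rw [hG, Nat.card_perm, Nat.card_fin]; rfl⟩)⟩

theorem Eppo.equiv_A5 [Finite G] (h : Eppo G) (hG : Nat.card G = 60) :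
    Nonempty (G ≃* alternatingGroup (Fin 5)) := by
  have : Fact (Nat.Prime 3) := ⟨Nat.prime_three⟩
  have : Fact (Nat.Prime 5) := ⟨Nat.prime_five⟩
  obtain ⟨P⟩ : Nonempty (Sylow 2 G) := inferInstance
  have hP : Nat.card (P : Subgroup G) = 2 ^ 2 := Inv.card_sylow_of_card P (m := 15) hG (by norm_num)
  set N := Subgroup.normalizer ((P : Subgroup G) : Set G) with hN
  have hPN : (P : Subgroup G) ≤ N := Subgroup.le_normalizer
  have h1 : ¬ 5 ∣ Nat.card N := by
    intro h5
    obtain ⟨⟨y, hy⟩, hy5⟩ := exists_prime_orderOf_dvd_card' (G := N) 5 h5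
    rw [Subgroup.orderOf_mk] at hy5
    have := h.card_dvd (Subgroup.zpowers y) P (fun s hs k hk =>
      (Subgroup.mem_normalizer_iff.1 (Subgroup.zpowers_le.2 hy hs) k).1 hk)
      (by rw [Nat.card_zpowers, hy5, hP]; norm_num)
    rw [Nat.card_zpowers, hy5, hP] at this
    norm_num at this
  have h2 : Nat.card N ≠ 4 := by
    intro h4
    have h5 : (P : Subgroup G) = N := Subgroup.eq_of_le_of_card_ge hPN (by omega)
    have h6 : N ≤ Subgroup.centralizer ((P : Subgroup G) : Set G) := by
      rw [← h5]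
      have := Inv.isMulCommutative_of_card_sq hP
      exact Subgroup.le_centralizer _
    have h7 := MonoidHom.ker_transferSylow_isComplement' P h6
    have h8 := h7.card_mul
    rw [hP, hG] at h8
    have h9 : Nat.card (MonoidHom.transferSylow P h6).ker = 15 := by omega
    have := h.card_dvd P (MonoidHom.transferSylow P h6).ker
      (fun s _ k hk => (MonoidHom.normal_ker _).conj_mem k hk s) (by rw [hP, h9]; norm_num)
    rw [hP, h9] at this
    norm_num at this
  have h3 : Nat.card N = 12 := by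
    have h4 := Subgroup.card_dvd_of_le hPN
    have h5 := N.card_subgroup_dvd_card
    rw [hP] at h4
    rw [hG] at h5
    have := Nat.le_of_dvd (by norm_num) h5
    interval_cases Nat.card N <;> simp_all
  have h4 : N.index = 5 := by
    have := N.card_mul_index
    rw [h3, hG] at this; omega
  have h5 : N.normalCore = ⊥ := by
    obtain ⟨y, hy⟩ := exists_prime_orderOf_dvd_card' (G := G) 5 (by rw [hG]; norm_num)
    have h6 := Subgroup.card_dvd_of_le N.normalCore_le
    rw [h3] at h6
    have h7 := h.card_dvd (Subgroup.zpowers y) N.normalCore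
      (fun s _ k hk => N.normalCore_normal.conj_mem k hk s)
      (by rw [Nat.card_zpowers, hy]; exact Nat.Coprime.coprime_dvd_right h6 (by norm_num))
    rw [Nat.card_zpowers, hy] at h7
    have h8 : Nat.card N.normalCore = 1 ∨ Nat.card N.normalCore = 6 := by
      have := Nat.le_of_dvd (by norm_num) h6
      interval_cases Nat.card N.normalCore <;> simp_all
    rcases h8 with h8 | h8
    · exact Subgroup.eq_bot_of_card_eq _ h8
    exfalso
    obtain ⟨⟨x, hx⟩, hx3⟩ := exists_prime_orderOf_dvd_card' (G := N) 3 (by rw [h3]; norm_num)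
    rw [Subgroup.orderOf_mk] at hx3
    have h9 : Nat.card (N.normalCore ⊓ P : Subgroup G) ∣ 2 ^ 2 :=
      hP ▸ Subgroup.card_dvd_of_le inf_le_right
    have h10 : Nat.card (N.normalCore ⊓ P : Subgroup G) ∣ 6 :=
      h8 ▸ Subgroup.card_dvd_of_le inf_le_left
    have h11 := h.card_dvd (Subgroup.zpowers x) (N.normalCore ⊓ P)
      (fun s hs k hk => ⟨N.normalCore_normal.conj_mem k hk.1 s,
        (Subgroup.mem_normalizer_iff.1 (Subgroup.zpowers_le.2 hx hs) k).1 hk.2⟩)
      (by rw [Nat.card_zpowers, hx3]; exact Nat.Coprime.coprime_dvd_right h9 (by norm_num))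
    obtain ⟨t, ht, ht2⟩ := Inv.exists_involution_mem (H := N.normalCore) (by rw [h8]; norm_num)
    have h12 := Inv.even_card_of_mem (H := N.normalCore ⊓ P) ht2 ⟨ht,
      mem_sylow_of_mem_normalizer P (k := 1) (N.normalCore_le ht)
        (by rw [pow_one, ← ht2, pow_orderOf_eq_one])⟩
    rw [Nat.card_zpowers, hx3] at h11
    have := Nat.le_of_dvd (by norm_num) h9
    interval_cases Nat.card (N.normalCore ⊓ P : Subgroup G) <;> simp_all [Nat.even_iff]
  obtain ⟨f, hf⟩ := Inv.exists_perm_embedding' N h5 h4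
  exact Inv.equiv_alternating_of_injective (by norm_num) f hf (by rw [hG]; rfl)

/-- A group with a cyclic subgroup of index two all of whose outer elements are involutions. -/
theorem dihedral_of_index_two {c : G} (hi : (Subgroup.zpowers c).index = 2)
    (h : ∀ s, s ∉ Subgroup.zpowers c → s * s = 1) :
    Nonempty (G ≃* DihedralGroup (orderOf c)) := by
  obtain ⟨s, hs⟩ : ∃ s, s ∉ Subgroup.zpowers c := by
    by_contra h0
    push Not at h0
    rw [(Subgroup.eq_top_iff' _).2 h0] at hi
    simp at hi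
  have h1 : s * c ∉ Subgroup.zpowers c := by
    rwa [Subgroup.mul_mem_cancel_right _ (Subgroup.mem_zpowers c)]
  have h2 : s⁻¹ = s := inv_eq_of_mul_eq_one_right (h s hs)
  obtain ⟨e⟩ := Inv.dihedral_equiv (a := c) rfl (h s hs) (by
    rw [h2, eq_inv_iff_mul_eq_one, mul_assoc (s * c)]; exact h _ h1) hs
  have h3 : Subgroup.closure ({c, s} : Set G) = ⊤ := by
    rw [eq_top_iff]
    intro g _
    have hc : Subgroup.zpowers c ≤ Subgroup.closure ({c, s} : Set G) :=
      Subgroup.zpowers_le.2 (Subgroup.subset_closure (by simp))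
    by_cases hg : g ∈ Subgroup.zpowers c
    · exact hc hg
    · have h4 : g * s ∈ Subgroup.zpowers c :=
        (Subgroup.mul_mem_iff_of_index_two hi).2 (iff_of_false hg hs)
      exact (Subgroup.mul_mem_cancel_right _ (Subgroup.subset_closure (by simp))).1 (hc h4)
  exact ⟨(Subgroup.topEquiv.symm.trans (MulEquiv.subgroupCongr h3.symm)).trans e⟩

end Cfsg.Agent.Class
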