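import Cfsg.Agent.Class.Exc1
import Cfsg.Agent.Class.Grp

/-! Automorphisms of classical groups, I: correspondences between linear groups modulo scalars,
unipotent lifts, additive irreducibility, semilinear maps. -/

set_option autoImplicit false

namespace Cfsg.Agent.Class

open Module

variable {F : Type*} [Field F] {V : Type*} [AddCommGroup V] [Module F V]
  {V' : Type*} [AddCommGroup V'] [Module F V'] {V'' : Type*} [AddCommGroup V''] [Module F V'']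

/-! ### Scalars and unipotent elements -/

/-- The map is a scalar. -/
def IsScal (g : V ≃ₗ[F] V) : Prop := ∃ c : F, ∀ x, g x = c • x

theorem isScal_one : IsScal (1 : V ≃ₗ[F] V) := ⟨1, fun x => by simp⟩

theorem IsScal.comm {g : V ≃ₗ[F] V} (h : IsScal g) (k : V ≃ₗ[F] V) : k * g = g * k := by
  obtain ⟨c, hc⟩ := h
  ext x; simp [hc]

theorem IsScal.mem_stab {g : V ≃ₗ[F] V} (h : IsScal g) (W : Submodule F V) : g ∈ stab W := by
  obtain ⟨c, hc⟩ := h
  intro x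
  refine ⟨fun hx => hc x ▸ W.smul_mem c hx, fun hx => ?_⟩
  by_cases h0 : c = 0
  · have : x = 0 := g.injective (by rw [hc, h0, zero_smul, map_zero])
    rw [this]; exact W.zero_mem
  · rw [hc] at hx
    exact (W.smul_mem_iff h0).1 hx

theorem pow_apply_of_smul {g : V ≃ₗ[F] V} {x : V} {c : F} (h : g x = c • x) (n : ℕ) :
    (g ^ n) x = c ^ n • x := by
  induction n with
  | zero => simp
  | succ n ih => rw [pow_succ, LinearEquiv.mul_apply, h, map_smul, ih, smul_smul, pow_succ']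

/-- Elements of `p`-power order. -/
def Unip {Γ : Type*} [Group Γ] (p : ℕ) (g : Γ) : Prop := ∃ k, g ^ p ^ k = 1

section unip
variable {Γ : Type*} [Group Γ] {p : ℕ}

theorem unip_one : Unip p (1 : Γ) := ⟨0, one_pow _⟩

theorem Unip.inv {g : Γ} (h : Unip p g) : Unip p g⁻¹ := by
  obtain ⟨k, hk⟩ := h; exact ⟨k, by rw [inv_pow, hk, inv_one]⟩

theorem Unip.conj {g : Γ} (h : Unip p g) (x : Γ) : Unip p (x * g * x⁻¹) := by
  obtain ⟨k, hk⟩ := h; exact ⟨k, by rw [conj_pow, hk, mul_one, mul_inv_cancel]⟩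

theorem Unip.pow_eq {g : Γ} {k : ℕ} (h : g ^ p ^ k = 1) {l : ℕ} (hl : k ≤ l) : g ^ p ^ l = 1 := by
  obtain ⟨d, rfl⟩ := Nat.exists_eq_add_of_le hl
  rw [pow_add, pow_mul, h, one_pow]

theorem Unip.map {Δ : Type*} [Group Δ] {g : Γ} (h : Unip p g) (φ : Γ →* Δ) : Unip p (φ g) := by
  obtain ⟨k, hk⟩ := h; exact ⟨k, by rw [← map_pow, hk, map_one]⟩

theorem Unip.prod {Δ : Type*} [Group Δ] {g : Γ} {g' : Δ} (h : Unip p g) (h' : Unip p g') :
    Unip p (g, g') := by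
  obtain ⟨k, hk⟩ := h
  obtain ⟨l, hl⟩ := h'
  exact ⟨k + l, Prod.ext (Unip.pow_eq hk (by omega)) (Unip.pow_eq hl (by omega))⟩

theorem isPGroup_iff_unip {H : Subgroup Γ} : IsPGroup p H ↔ ∀ g ∈ H, Unip p g :=
  ⟨fun h g hg => by obtain ⟨k, hk⟩ := h ⟨g, hg⟩; exact ⟨k, congrArg Subtype.val hk⟩,
    fun h g => by obtain ⟨k, hk⟩ := h g g.2; exact ⟨k, Subtype.ext hk⟩⟩

theorem _root_.IsPGroup.unip4 {H : Subgroup Γ} (h : IsPGroup p H) {g : Γ} (hg : g ∈ H) : Unip p g :=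
  isPGroup_iff_unip.1 h g hg

theorem Unip.mul_of_nilpotent [Finite Γ] [Group.IsNilpotent Γ] [Fact p.Prime] {a b : Γ}
    (ha : Unip p a) (hb : Unip p b) : Unip p (a * b) := by
  have P : Sylow p Γ := default
  have hN : (P : Subgroup Γ).Normal := inferInstance
  have key : ∀ x : Γ, Unip p x → x ∈ (P : Subgroup Γ) := by
    intro x hx
    obtain ⟨k, hk⟩ := hx
    exact mem_sylow_of_mem_normalizer P (by rw [Subgroup.normalizer_eq_top]; trivial) hk
  exact P.isPGroup'.unip4 (mul_mem (key a ha) (key b hb))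

end unip

section charp
variable (p : ℕ) [Fact p.Prime] [CharP F p]

theorem eq_one_of_pow_char {c : F} {k : ℕ} (h : c ^ p ^ k = 1) : c = 1 := by
  have : (c - 1) ^ p ^ k = 0 := by rw [sub_pow_char_pow, h, one_pow, sub_self]
  exact sub_eq_zero.1 (pow_eq_zero_iff (pow_ne_zero _ (Fact.out : p.Prime).ne_zero) |>.1 this)

variable {p}

theorem Unip.apply_eq {g : V ≃ₗ[F] V} (h : Unip p g) {x : V} {c : F} (hx : g x = c • x) :
    g x = x := by
  obtain ⟨k, hk⟩ := h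
  by_cases h0 : x = 0
  · simp [h0]
  have := pow_apply_of_smul hx (p ^ k)
  rw [hk] at this
  have h1 : c ^ p ^ k = 1 := by
    have h2 : (c ^ p ^ k - 1) • x = 0 := by rw [sub_smul, ← this]; simp
    exact sub_eq_zero.1 ((smul_eq_zero.1 h2).resolve_right h0)
  rw [hx, eq_one_of_pow_char p h1, one_smul]

theorem Unip.eq_one {g : V ≃ₗ[F] V} (h : Unip p g) (hs : IsScal g) : g = 1 := by
  obtain ⟨c, hc⟩ := hs
  exact LinearEquiv.ext fun x => h.apply_eq (hc x)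

theorem Unip.fix_of_stab {g : V ≃ₗ[F] V} (h : Unip p g) {u : V}
    (hu : g ∈ stab (Submodule.span F {u})) : g u = u := by
  obtain ⟨c, hc⟩ := Submodule.mem_span_singleton.1
    ((hu u).1 (Submodule.mem_span_singleton_self u))
  exact h.apply_eq hc.symm

theorem unip_of_nilp {g : V ≃ₗ[F] V} (h : ∀ x, g (g (g x - x) - (g x - x)) - (g (g x - x) - (g x - x)) = 0) :
    Unip p g := by
  by_cases hV : Subsingleton V
  · exact ⟨0, LinearEquiv.ext fun x => Subsingleton.elim _ _⟩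
  have : Nontrivial V := not_subsingleton_iff_nontrivial.1 hV
  have : CharP (Module.End F V) p := charP_of_injective_algebraMap (algebraMap F _).injective p
  have h3 : ((g : Module.End F V) - 1) ^ 3 = 0 := by
    ext x
    simpa [pow_succ] using h x
  have h4 : ((g : Module.End F V) - 1) ^ p ^ 2 = 0 := by
    have : 3 ≤ p ^ 2 := by have := (Fact.out : p.Prime).two_le; nlinarith
    obtain ⟨d, hd⟩ := Nat.exists_eq_add_of_le this
    rw [hd, pow_add, h3, zero_mul]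
  rw [sub_pow_char_pow_of_commute _ _ (Commute.one_right _), one_pow, sub_eq_zero] at h4
  refine ⟨2, LinearEquiv.ext fun x => ?_⟩
  have := LinearMap.congr_fun h4 x
  rw [Module.End.pow_apply] at this
  rw [LinearEquiv.pow_apply]
  exact this

theorem exists_card_pow [Finite F] : ∃ n, 1 ≤ n ∧ Nat.card F = p ^ n := by
  have := Fintype.ofFinite F
  obtain ⟨n, -, hn⟩ := FiniteField.card F p
  exact ⟨n, n.2, by rw [Nat.card_eq_fintype_card, hn]⟩

theorem p_dvd_card_F [Finite F] : p ∣ Nat.card F := by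
  obtain ⟨n, h1, hn⟩ := exists_card_pow (F := F) (p := p)
  rw [hn]; exact dvd_pow_self p (by omega)

theorem exists_fixed_set [Finite V] {H : Subgroup (V ≃ₗ[F] V)} (hH : IsPGroup p H) {S : Set V}
    (hS : ∀ g ∈ H, ∀ x ∈ S, g x ∈ S) (h0 : (0 : V) ∈ S) (hd : p ∣ Nat.card S) :
    ∃ y ∈ S, y ≠ 0 ∧ ∀ g ∈ H, g y = y := by
  let A : SubMulAction H V := ⟨S, fun g x hx => hS g g.2 x hx⟩
  obtain ⟨b, hb, hne⟩ := hH.exists_fixed_point_of_prime_dvd_card_of_fixed_point A hd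
    (a := ⟨0, h0⟩) (fun g => Subtype.ext (map_zero g.1))
  exact ⟨b, b.2, fun h => hne (Subtype.ext h.symm), fun g hg => congrArg Subtype.val (hb ⟨g, hg⟩)⟩

omit [Fact p.Prime] in
include F in
theorem p_smul_eq (x : V) : p • x = 0 := by
  rw [← Nat.cast_smul_eq_nsmul F, CharP.cast_eq_zero, zero_smul]

theorem exists_fixed_add [Finite V] {H : Subgroup (V ≃ₗ[F] V)} (hH : IsPGroup p H)
    {A : AddSubgroup V} (hS : ∀ g ∈ H, ∀ x ∈ A, g x ∈ A) (hne : A ≠ ⊥) :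
    ∃ y ∈ A, y ≠ 0 ∧ ∀ g ∈ H, g y = y := by
  refine exists_fixed_set hH (S := A) hS A.zero_mem ?_
  obtain ⟨x, hx⟩ := (AddSubgroup.ne_bot_iff_exists_ne_zero).1 hne
  have h1 : addOrderOf x = p :=
    addOrderOf_eq_prime (Subtype.ext (p_smul_eq (F := F) (x : V))) hx
  rw [← h1]
  exact addOrderOf_dvd_natCard x

theorem exists_fixed [Finite V] {H : Subgroup (V ≃ₗ[F] V)} (hH : IsPGroup p H)
    {A : Submodule F V} (hS : ∀ g ∈ H, ∀ x ∈ A, g x ∈ A) (hne : A ≠ ⊥) :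
    ∃ y ∈ A, y ≠ 0 ∧ ∀ g ∈ H, g y = y :=
  exists_fixed_add hH (A := A.toAddSubgroup) hS (fun h => hne (by
    rw [eq_bot_iff]; intro x hx
    have : x ∈ A.toAddSubgroup := hx
    rw [h] at this; exact this))

end charp

/-- The fixed space of a group. -/
def fixSp (H : Subgroup (V ≃ₗ[F] V)) : Submodule F V where
  carrier := {x | ∀ g ∈ H, g x = x}
  add_mem' ha hb g hg := by rw [map_add, ha g hg, hb g hg]
  zero_mem' g _ := map_zero g
  smul_mem' c x hx g hg := by rw [map_smul, hx g hg]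

theorem mem_fixSp {H : Subgroup (V ≃ₗ[F] V)} {x : V} : x ∈ fixSp H ↔ ∀ g ∈ H, g x = x := Iff.rfl

theorem fixSp_inv {H : Subgroup (V ≃ₗ[F] V)} {m : V ≃ₗ[F] V} (hm : ∀ g ∈ H, m⁻¹ * g * m ∈ H)
    {x : V} (hx : x ∈ fixSp H) : m x ∈ fixSp H := fun g hg => by
  have := hx _ (hm g hg)
  rw [LinearEquiv.mul_apply, LinearEquiv.mul_apply, LinearEquiv.coe_inv,
    LinearEquiv.symm_apply_eq] at this
  exact this

/-! ### Correspondences -/

/-- The graph of an isomorphism between two linear groups modulo scalars. -/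
structure Corr (G : Subgroup (V ≃ₗ[F] V)) (G' : Subgroup (V' ≃ₗ[F] V'))
    (Γ : Subgroup ((V ≃ₗ[F] V) × (V' ≃ₗ[F] V'))) : Prop where
  mem1 : ∀ {g g'}, (g, g') ∈ Γ → g ∈ G
  mem2 : ∀ {g g'}, (g, g') ∈ Γ → g' ∈ G'
  ex1 : ∀ g ∈ G, ∃ g', (g, g') ∈ Γ
  ex2 : ∀ g' ∈ G', ∃ g, (g, g') ∈ Γ
  sc : ∀ {g g'}, (g, g') ∈ Γ → (IsScal g ↔ IsScal g')

/-- The inverse relation. -/
def swp {A B : Type*} [Group A] [Group B] (Γ : Subgroup (A × B)) : Subgroup (B × A) :=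
  Γ.comap (MulEquiv.prodComm : B × A ≃* A × B).toMonoidHom

@[simp] theorem mem_swp {A B : Type*} [Group A] [Group B] {Γ : Subgroup (A × B)} {a : A} {b : B} :
    (b, a) ∈ swp Γ ↔ (a, b) ∈ Γ := Iff.rfl

/-- Two subspaces whose stabilizers correspond. -/
def Rel (Γ : Subgroup ((V ≃ₗ[F] V) × (V' ≃ₗ[F] V'))) (W : Submodule F V) (W' : Submodule F V') :
    Prop := ∀ g g', (g, g') ∈ Γ → (g ∈ stab W ↔ g' ∈ stab W')

/-- The unipotent lift of a subgroup. -/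
def ulift (p : ℕ) {A B : Type*} [Group A] [Group B] (Γ : Subgroup (A × B)) (H : Subgroup A) :
    Subgroup B := Subgroup.closure {g' | Unip p g' ∧ ∃ g ∈ H, (g, g') ∈ Γ}

theorem mem_stab_map {W : Submodule F V} {a g : V ≃ₗ[F] V} :
    g ∈ stab (W.map (a : V →ₗ[F] V)) ↔ a⁻¹ * g * a ∈ stab W := by
  simp only [mem_stab, Submodule.mem_map_equiv, LinearEquiv.mul_apply, LinearEquiv.coe_inv]
  exact ⟨fun h x => by simpa using h (a x), fun h x => by simpa using h (a.symm x)⟩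

theorem map_span_single (a : V ≃ₗ[F] V) (u : V) :
    (Submodule.span F {u}).map (a : V →ₗ[F] V) = Submodule.span F {a u} := by
  rw [Submodule.map_span, Set.image_singleton]; rfl

theorem mem_stab_span [FiniteDimensional F V] {g : V ≃ₗ[F] V} {u : V} :
    g ∈ stab (Submodule.span F {u}) ↔ ∃ c : F, g u = c • u := by
  constructor
  · intro h
    obtain ⟨c, hc⟩ := Submodule.mem_span_singleton.1 ((h u).1 (Submodule.mem_span_singleton_self u))
    exact ⟨c, hc.symm⟩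
  · rintro ⟨c, hc⟩
    refine mem_stab_of_le fun x hx => ?_
    obtain ⟨d, rfl⟩ := Submodule.mem_span_singleton.1 hx
    rw [map_smul, hc, smul_smul]
    exact Submodule.smul_mem _ _ (Submodule.mem_span_singleton_self u)

variable {G : Subgroup (V ≃ₗ[F] V)} {G' : Subgroup (V' ≃ₗ[F] V')}
  {Γ : Subgroup ((V ≃ₗ[F] V) × (V' ≃ₗ[F] V'))}

theorem Rel.symm {W : Submodule F V} {W' : Submodule F V'} (h : Rel Γ W W') : Rel (swp Γ) W' W :=
  fun _ _ hg => (h _ _ hg).symm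

theorem Rel.map {W : Submodule F V} {W' : Submodule F V'} (h : Rel Γ W W') {a : V ≃ₗ[F] V}
    {a' : V' ≃ₗ[F] V'} (ha : (a, a') ∈ Γ) :
    Rel Γ (W.map (a : V →ₗ[F] V)) (W'.map (a' : V' →ₗ[F] V')) := fun g g' hg => by
  rw [mem_stab_map, mem_stab_map]
  exact h _ _ (Γ.mul_mem (Γ.mul_mem (Γ.inv_mem ha) hg) ha)

theorem Rel.map_span {u : V} {u' : V'} (h : Rel Γ (Submodule.span F {u}) (Submodule.span F {u'}))
    {a : V ≃ₗ[F] V} {a' : V' ≃ₗ[F] V'} (ha : (a, a') ∈ Γ) :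
    Rel Γ (Submodule.span F {a u}) (Submodule.span F {a' u'}) := by
  simpa only [map_span_single] using h.map ha

namespace Corr

theorem symm (h : Corr G G' Γ) : Corr G' G (swp Γ) :=
  ⟨fun hg => h.mem2 hg, fun hg => h.mem1 hg, h.ex2, h.ex1, fun hg => (h.sc hg).symm⟩

theorem isScal (h : Corr G G' Γ) {g : V ≃ₗ[F] V} {a b : V' ≃ₗ[F] V'} (ha : (g, a) ∈ Γ)
    (hb : (g, b) ∈ Γ) : IsScal (a⁻¹ * b) := by
  have := Γ.mul_mem (Γ.inv_mem ha) hb
  refine (h.sc this).1 ?_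
  simpa using isScal_one

theorem stab_congr (h : Corr G G' Γ) {W : Submodule F V} {W₁ W₂ : Submodule F V'}
    (h1 : Rel Γ W W₁) (h2 : Rel Γ W W₂) {g' : V' ≃ₗ[F] V'} (hg : g' ∈ G') :
    g' ∈ stab W₁ ↔ g' ∈ stab W₂ := by
  obtain ⟨g, hg⟩ := h.ex2 g' hg
  rw [← h1 _ _ hg, h2 _ _ hg]

variable {p : ℕ} [Fact p.Prime] [CharP F p]

theorem unip_unique (h : Corr G G' Γ) {g : V ≃ₗ[F] V} {a b : V' ≃ₗ[F] V'} (ha : (g, a) ∈ Γ)
    (hb : (g, b) ∈ Γ) (ua : Unip p a) (ub : Unip p b) : a = b := by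
  have hs := h.isScal ha hb
  obtain ⟨k, hk⟩ := ua.prod ub
  have h1 : a ^ p ^ k = 1 := congrArg Prod.fst hk
  have h2 : b ^ p ^ k = 1 := congrArg Prod.snd hk
  have hc : Commute a (a⁻¹ * b) := hs.comm a
  have : (a⁻¹ * b) ^ p ^ k = 1 := by
    have h3 := hc.mul_pow (p ^ k)
    rwa [mul_inv_cancel_left, h1, h2, one_mul, eq_comm] at h3
  exact inv_mul_eq_one.1 (Unip.eq_one ⟨k, this⟩ hs)

theorem exists_unip [Finite F] (h : Corr G G' Γ) {g : V ≃ₗ[F] V} (hg : g ∈ G) (ug : Unip p g) :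
    ∃ g', (g, g') ∈ Γ ∧ Unip p g' := by
  obtain ⟨a, ha⟩ := h.ex1 g hg
  obtain ⟨k, hk⟩ := ug
  obtain ⟨n, hn, hF⟩ := exists_card_pow (F := F) (p := p)
  have h1 : g ^ p ^ (n * k) = 1 := Unip.pow_eq hk (Nat.le_mul_of_pos_left _ hn)
  have h2 : (1, a ^ p ^ (n * k)) ∈ Γ := by
    have := Γ.pow_mem ha (p ^ (n * k))
    rwa [Prod.pow_mk, h1] at this
  have hs := (h.sc h2).1 isScal_one
  refine ⟨a * (a ^ p ^ (n * k))⁻¹, by simpa using Γ.mul_mem ha (Γ.inv_mem h2), n * k, ?_⟩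
  have hc : Commute a (a ^ p ^ (n * k))⁻¹ := (Commute.self_pow a _).inv_right
  rw [hc.mul_pow, inv_pow, mul_inv_eq_one]
  obtain ⟨c, hc⟩ := hs
  ext x
  have := Fintype.ofFinite F
  rw [pow_apply_of_smul (hc x), hc, pow_mul, ← hF, Nat.card_eq_fintype_card,
    FiniteField.pow_card_pow]

theorem unip_mul [Finite V] [Finite V'] (h : Corr G G' Γ) {H : Subgroup (V ≃ₗ[F] V)}
    (hH : IsPGroup p H) {a b : V ≃ₗ[F] V} {a' b' : V' ≃ₗ[F] V'} (ha : a ∈ H) (hb : b ∈ H)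
    (haa : (a, a') ∈ Γ) (hbb : (b, b') ∈ Γ) (ua : Unip p a') (ub : Unip p b') :
    Unip p (a' * b') := by
  have := finite_linearEquiv (F := F) (V := V)
  have := finite_linearEquiv (F := F) (V := V')
  let N : Subgroup ((V ≃ₗ[F] V) × (V' ≃ₗ[F] V')) := Γ ⊓ H.prod ⊤
  let φ : N →* H := ((MonoidHom.fst _ _).comp N.subtype).codRestrict H fun x => x.2.2.1
  have := hH.isNilpotent
  have : Group.IsNilpotent N := Subgroup.isNilpotent_of_ker_le_center φ (by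
    intro x hx
    have h1 : x.1.1 = 1 := congrArg Subtype.val hx
    have h2 : IsScal x.1.2 := (h.sc (g := x.1.1) x.2.1).1 (h1 ▸ isScal_one)
    rw [Subgroup.mem_center_iff]
    intro y
    exact Subtype.ext (Prod.ext (by simp [h1]) (h2.comm _)))
  have lift : ∀ x : N, Unip p x.1 → Unip p x := fun x ⟨k, hk⟩ => ⟨k, Subtype.ext hk⟩
  have := Unip.mul_of_nilpotent (lift ⟨(a, a'), haa, ha, trivial⟩ ((hH.unip4 ha).prod ua))
    (lift ⟨(b, b'), hbb, hb, trivial⟩ ((hH.unip4 hb).prod ub))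
  exact this.map ((MonoidHom.snd _ _).comp N.subtype)

theorem mem_ulift [Finite V] [Finite V'] (h : Corr G G' Γ) {H : Subgroup (V ≃ₗ[F] V)}
    (hH : IsPGroup p H) {g' : V' ≃ₗ[F] V'} :
    g' ∈ ulift p Γ H ↔ Unip p g' ∧ ∃ g ∈ H, (g, g') ∈ Γ := by
  refine ⟨fun hg => ?_, fun hg => Subgroup.subset_closure hg⟩
  induction hg using Subgroup.closure_induction with
  | mem x hx => exact hx
  | one => exact ⟨unip_one, 1, H.one_mem, Γ.one_mem⟩
  | mul x y _ _ hx hy =>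
    obtain ⟨ux, a, ha, hax⟩ := hx
    obtain ⟨uy, b, hb, hby⟩ := hy
    exact ⟨h.unip_mul hH ha hb hax hby ux uy, a * b, H.mul_mem ha hb, Γ.mul_mem hax hby⟩
  | inv x _ hx =>
    obtain ⟨ux, a, ha, hax⟩ := hx
    exact ⟨ux.inv, a⁻¹, H.inv_mem ha, Γ.inv_mem hax⟩

theorem isPGroup_ulift [Finite V] [Finite V'] (h : Corr G G' Γ) {H : Subgroup (V ≃ₗ[F] V)}
    (hH : IsPGroup p H) : IsPGroup p (ulift p Γ H) :=
  isPGroup_iff_unip.2 fun _ hg => ((h.mem_ulift hH).1 hg).1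

theorem ulift_le [Finite V] [Finite V'] (h : Corr G G' Γ) {H : Subgroup (V ≃ₗ[F] V)}
    (hH : IsPGroup p H) : ulift p Γ H ≤ G' := fun _ hg => by
  obtain ⟨-, g, -, hg⟩ := (h.mem_ulift hH).1 hg
  exact h.mem2 hg

theorem exists_ulift [Finite F] (h : Corr G G' Γ) {H : Subgroup (V ≃ₗ[F] V)}
    (hH : IsPGroup p H) (hG : H ≤ G) {g : V ≃ₗ[F] V} (hg : g ∈ H) :
    ∃ g' ∈ ulift p Γ H, (g, g') ∈ Γ := by
  obtain ⟨g', h1, h2⟩ := h.exists_unip (hG hg) (hH.unip4 hg)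
  exact ⟨g', Subgroup.subset_closure ⟨h2, g, hg, h1⟩, h1⟩

theorem conj_mem_ulift [Finite V] [Finite V'] (h : Corr G G' Γ) {H : Subgroup (V ≃ₗ[F] V)}
    (hH : IsPGroup p H) {m : V ≃ₗ[F] V} {m' : V' ≃ₗ[F] V'} (hm : (m, m') ∈ Γ)
    (hn : ∀ g ∈ H, m * g * m⁻¹ ∈ H) {g' : V' ≃ₗ[F] V'} (hg : g' ∈ ulift p Γ H) :
    m' * g' * m'⁻¹ ∈ ulift p Γ H := by
  obtain ⟨ug, g, hgH, hgg⟩ := (h.mem_ulift hH).1 hg
  exact (h.mem_ulift hH).2 ⟨ug.conj _, _, hn g hgH, Γ.mul_mem (Γ.mul_mem hm hgg) (Γ.inv_mem hm)⟩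

theorem card_ulift [Finite F] [Finite V] [Finite V'] (h : Corr G G' Γ) {H : Subgroup (V ≃ₗ[F] V)}
    (hH : IsPGroup p H) (hG : H ≤ G) : Nat.card (ulift p Γ H) = Nat.card H := by
  choose φ h1 h2 using fun g : H => h.exists_ulift hH hG g.2
  refine (Nat.card_eq_of_bijective (fun g : H => (⟨φ g, h1 g⟩ : ulift p Γ H)) ⟨?_, ?_⟩).symm
  · intro a b hab
    have hab : φ a = φ b := congrArg Subtype.val hab
    exact Subtype.ext (h.symm.unip_unique (g := φ a) (h2 a) (hab ▸ h2 b) (hH.unip4 a.2)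
      (hH.unip4 b.2))
  · intro g'
    obtain ⟨ug, g, hgH, hgg⟩ := (h.mem_ulift hH).1 g'.2
    exact ⟨⟨g, hgH⟩, Subtype.ext (h.unip_unique (h2 _) hgg ((h.isPGroup_ulift hH).unip4 (h1 _)) ug)⟩

theorem eq_one_of_unip (h : Corr G G' Γ) {g : V ≃ₗ[F] V} (hg : (g, 1) ∈ Γ) (ug : Unip p g) :
    g = 1 := ug.eq_one ((h.sc hg).2 isScal_one)

/-- Commuting lifts. -/
theorem comm_of_comm (h : Corr G G' Γ) {H : Subgroup (V ≃ₗ[F] V)} (hH : IsPGroup p H)
    {a b : V ≃ₗ[F] V} {a' b' : V' ≃ₗ[F] V'} (ha : a ∈ H) (hb : b ∈ H) (haa : (a, a') ∈ Γ)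
    (hbb : (b, b') ∈ Γ) (hc : a' * b' = b' * a') : a * b = b * a :=
  h.symm.unip_unique (g := a' * b') (Γ.mul_mem haa hbb) (hc ▸ Γ.mul_mem hbb haa)
    (hH.unip4 (H.mul_mem ha hb)) (hH.unip4 (H.mul_mem hb ha))

end Corr

/-- Maximality of a stabilizer, in the form used below. -/
def MaxIn (G M : Subgroup (V ≃ₗ[F] V)) : Prop :=
  ∀ K : Subgroup (V ≃ₗ[F] V), K ≤ G → G ⊓ M ≤ K → K ≤ M ∨ G ≤ K

theorem Corr.rel_of_max (h : Corr G G' Γ) {W : Submodule F V} (hm : MaxIn G (stab W))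
    {Y : Submodule F V'} (h1 : ∀ g g', (g, g') ∈ Γ → g ∈ stab W → g' ∈ stab Y)
    (h2 : ¬ G' ≤ stab Y) : Rel Γ W Y := by
  let K : Subgroup (V ≃ₗ[F] V) := (Γ ⊓ (⊤ : Subgroup _).prod (stab Y)).map (MonoidHom.fst _ _)
  have hK : ∀ g g', (g, g') ∈ Γ → (g ∈ K ↔ g' ∈ stab Y) := by
    intro g g' hg
    refine ⟨?_, fun h' => ⟨(g, g'), ⟨hg, trivial, h'⟩, rfl⟩⟩
    rintro ⟨⟨a, a'⟩, ⟨ha, -, ha'⟩, rfl⟩
    have := (stab Y).mul_mem ha' ((h.isScal ha hg).mem_stab Y)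
    simpa using this
  rcases hm K (by rintro _ ⟨⟨a, a'⟩, ⟨ha, -⟩, rfl⟩; exact h.mem1 ha) (by
    intro g hg
    obtain ⟨g', hg'⟩ := h.ex1 g hg.1
    exact (hK g g' hg').2 (h1 g g' hg' hg.2)) with h3 | h3
  · exact fun g g' hg => ⟨h1 g g' hg, fun h' => h3 ((hK g g' hg).2 h')⟩
  · refine absurd (fun g' hg' => ?_) h2
    obtain ⟨g, hg⟩ := h.ex2 g' hg'
    exact (hK g g' hg).1 (h3 (h.mem1 hg))

/-! ### Additive irreducibility -/

/-- Data giving additive irreducibility of a linear group. -/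
def Pack (p : ℕ) (L : Subgroup (V ≃ₗ[F] V)) : Prop :=
  Nontrivial V ∧ ∃ S : Set V, AddSubgroup.closure S = ⊤ ∧ ∀ z ∈ S,
    Subring.closure {c : F | ∃ g ∈ L, g z = c • z} = ⊤ ∧
      ∃ P ≤ L, IsPGroup p P ∧ ∀ x, (∀ g ∈ P, g x = x) → ∃ c : F, c • z = x

section pack
variable {p : ℕ} [Fact p.Prime] [CharP F p] {L : Subgroup (V ≃ₗ[F] V)} [Finite V]

theorem Pack.irr (h : Pack p L) {A : AddSubgroup V} (hA : ∀ g ∈ L, ∀ x ∈ A, g x ∈ A) :
    A = ⊥ ∨ A = ⊤ := by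
  refine or_iff_not_imp_left.2 fun hne => ?_
  obtain ⟨-, S, hS, h⟩ := h
  rw [eq_top_iff, ← hS, AddSubgroup.closure_le]
  intro z hz
  obtain ⟨h1, P, hP, hp, hfix⟩ := h z hz
  obtain ⟨y, hy, hy0, hyf⟩ := exists_fixed_add hp (fun g hg => hA g (hP hg)) hne
  obtain ⟨c, rfl⟩ := hfix y hyf
  have hc : c ≠ 0 := fun h => hy0 (by rw [h, zero_smul])
  let R : Subring F :=
    { carrier := {l | ∀ t : F, t • z ∈ A → (l * t) • z ∈ A}
      mul_mem' := fun {a b} ha hb t ht => by rw [mul_assoc]; exact ha _ (hb t ht)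
      one_mem' := fun t ht => by rwa [one_mul]
      add_mem' := fun {a b} ha hb t ht => by
        rw [add_mul, add_smul]; exact A.add_mem (ha t ht) (hb t ht)
      zero_mem' := fun t ht => by simp
      neg_mem' := fun {a} ha t ht => by rw [neg_mul, neg_smul]; exact A.neg_mem (ha t ht) }
  have hR : (⊤ : Subring F) ≤ R := by
    rw [← h1, Subring.closure_le]
    rintro l ⟨g, hg, hl⟩ t ht
    have := hA g hg _ ht
    rwa [map_smul, hl, smul_smul, mul_comm] at this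
  have := hR (Subring.mem_top c⁻¹) c hy
  rwa [inv_mul_cancel₀ hc, one_smul] at this

theorem Pack.irr' (h : Pack p L) {A : Submodule F V} (hA : ∀ g ∈ L, ∀ x ∈ A, g x ∈ A)
    (hne : A ≠ ⊥) (x : V) : x ∈ A := by
  rcases h.irr (A := A.toAddSubgroup) hA with h1 | h1
  · refine absurd ?_ hne
    rw [eq_bot_iff]; intro y hy
    have : y ∈ A.toAddSubgroup := hy
    rw [h1] at this; exact this
  · have : x ∈ A.toAddSubgroup := h1 ▸ AddSubgroup.mem_top x
    exact this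

theorem Pack.cen (h : Pack p L) (ψ : V →+ V) (hψ : ∀ g ∈ L, ∀ x, ψ (g x) = g (ψ x)) :
    ∃ c : F, ∀ x, ψ x = c • x := by
  obtain ⟨hV, S, hS, h'⟩ := id h
  obtain ⟨z, hz, hz0⟩ : ∃ z ∈ S, z ≠ 0 := by
    by_contra hh
    push Not at hh
    have : AddSubgroup.closure S ≤ ⊥ := (AddSubgroup.closure_le _).2 fun z hz => hh z hz
    rw [hS] at this
    exact top_ne_bot (le_bot_iff.1 this)
  obtain ⟨-, P, hP, hp, hfix⟩ := h' z hz
  obtain ⟨y, -, hy0, hyf⟩ := exists_fixed_add hp (A := ⊤) (fun _ _ _ _ => trivial) top_ne_bot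
  obtain ⟨c, hc⟩ := hfix (ψ y) fun g hg => by rw [← hψ g (hP hg), hyf g hg]
  obtain ⟨d, hd⟩ := hfix y hyf
  have hd0 : d ≠ 0 := fun h => hy0 (by rw [← hd, h, zero_smul])
  refine ⟨c * d⁻¹, fun x => ?_⟩
  let χ : V →+ V := ψ - DistribMulAction.toAddMonoidHom V (c * d⁻¹)
  rcases h.irr (A := χ.ker) (fun g hg x hx => by
    simp only [χ, AddMonoidHom.mem_ker, AddMonoidHom.sub_apply,
      DistribMulAction.toAddMonoidHom_apply, sub_eq_zero] at hx ⊢
    rw [hψ g hg, hx, map_smul]) with h1 | h1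
  · refine absurd ?_ hy0
    have : y ∈ χ.ker := by
      simp only [χ, AddMonoidHom.mem_ker, AddMonoidHom.sub_apply,
        DistribMulAction.toAddMonoidHom_apply, sub_eq_zero]
      rw [← hc, ← hd, smul_smul, inv_mul_cancel_right₀ hd0]
    rwa [h1] at this
  · have : x ∈ χ.ker := h1 ▸ AddSubgroup.mem_top x
    simpa [χ, sub_eq_zero] using this

theorem Pack.semilinear [Finite F] (h : Pack p L) (φ : V' ≃+ V)
    (hφ : ∀ g ∈ L, ∃ g' : V' →ₗ[F] V', ∀ x, φ (g' x) = g (φ x)) :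
    ∃ ρ : F ≃+* F, ∀ (c : F) x, φ (c • x) = ρ c • φ x := by
  have := h.1
  have key : ∀ c : F, ∃ d : F, ∀ x, φ (c • x) = d • φ x := by
    intro c
    obtain ⟨d, hd⟩ := h.cen (φ.toAddMonoidHom.comp
      ((DistribMulAction.toAddMonoidHom V' c).comp φ.symm.toAddMonoidHom)) (fun g hg x => by
        obtain ⟨g', hg'⟩ := hφ g hg
        obtain ⟨y, rfl⟩ := φ.surjective x
        simp [← hg'])
    exact ⟨d, fun x => by simpa using hd (φ x)⟩
  choose r hr using key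
  obtain ⟨z, hz⟩ := exists_ne (0 : V)
  obtain ⟨y, rfl⟩ := φ.surjective z
  have inj : ∀ a b : F, a • φ y = b • φ y → a = b := fun a b hab =>
    smul_left_injective F hz hab
  let ρ : F →+* F :=
    { toFun := r
      map_one' := inj _ _ (by rw [← hr, one_smul, one_smul])
      map_mul' := fun a b => inj _ _ (by rw [← hr, mul_smul, hr, hr, smul_smul])
      map_zero' := inj _ _ (by rw [← hr, zero_smul, zero_smul, map_zero])
      map_add' := fun a b => inj _ _ (by rw [← hr, add_smul, map_add, hr, hr, add_smul]) }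
  exact ⟨RingEquiv.ofBijective ρ (Finite.injective_iff_bijective.1 ρ.injective), hr⟩

end pack

theorem closure_sq_eq_top [Finite F] {S : Set F} (h : ∀ c : F, c ≠ 0 → c * c ∈ S) :
    Subring.closure S = ⊤ := by
  have hs : ∀ c : F, c * c ∈ Subring.closure S := fun c => by
    by_cases hc : c = 0
    · simp [hc]
    · exact Subring.subset_closure (h c hc)
  rw [eq_top_iff]
  intro x _
  by_cases h2 : (2 : F) = 0
  · obtain ⟨c, rfl⟩ := exists_sq_char_two h2 x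
    exact hs c
  · have : x = (x + 1) / 2 * ((x + 1) / 2) - (x - 1) / 2 * ((x - 1) / 2) := by field_simp; ring
    rw [this]
    exact sub_mem (hs _) (hs _)

end Cfsg.Agent.Class
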