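import Cfsg.Agent.Class.Aut1

/-! Automorphisms of classical groups, II: semilinear maps and the automorphisms they induce. -/

set_option autoImplicit false

namespace Cfsg.Agent.Class

open Module

variable {F : Type*} [Field F] {V : Type*} [AddCommGroup V] [Module F V]
  {V' : Type*} [AddCommGroup V'] [Module F V'] {V'' : Type*} [AddCommGroup V''] [Module F V'']

theorem card_ringAut [Finite F] {p : ℕ} [Fact p.Prime] {f : ℕ} (hF : Nat.card F = p ^ f) :
    Nat.card (RingAut F) = f := by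
  have := Fintype.ofFinite F
  have : CharP F p := by
    obtain ⟨r, hr⟩ := CharP.exists F
    have hp := CharP.char_is_prime F r
    obtain ⟨n, -, hn⟩ := FiniteField.card F r
    rw [Nat.card_eq_fintype_card, hn] at hF
    have h1 : r ∣ p ^ f := hF ▸ dvd_pow_self r n.2.ne'
    rwa [(Nat.prime_dvd_prime_iff_eq hp Fact.out).1 (hp.dvd_of_dvd_pow h1)] at hr
  let _ : Algebra (ZMod p) F := ZMod.algebra F p
  have h1 : finrank (ZMod p) F = f := by
    have := Module.card_eq_pow_finrank (K := ZMod p) (V := F)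
    rw [ZMod.card, ← Nat.card_eq_fintype_card, hF] at this
    exact (Nat.pow_right_injective (Fact.out : p.Prime).two_le this).symm
  rw [← h1, ← IsGalois.card_aut_eq_finrank]
  refine Nat.card_congr ⟨fun ρ => AlgEquiv.ofRingEquiv (f := ρ) fun x => ?_, fun ρ => ρ.toRingEquiv,
    fun _ => rfl, fun _ => rfl⟩
  exact RingHom.congr_fun (Subsingleton.elim ((ρ : F →+* F).comp (algebraMap (ZMod p) F))
    (algebraMap (ZMod p) F)) x

theorem charP_of_card_eq [Finite F] {p : ℕ} [Fact p.Prime] {f : ℕ} (hF : Nat.card F = p ^ f) :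
    CharP F p := by
  have := Fintype.ofFinite F
  obtain ⟨r, hr⟩ := CharP.exists F
  have hp := CharP.char_is_prime F r
  obtain ⟨n, -, hn⟩ := FiniteField.card F r
  rw [Nat.card_eq_fintype_card, hn] at hF
  have h1 : r ∣ p ^ f := hF ▸ dvd_pow_self r n.2.ne'
  rwa [(Nat.prime_dvd_prime_iff_eq hp Fact.out).1 (hp.dvd_of_dvd_pow h1)] at hr

/-- Semilinear automorphisms. -/
@[ext] structure GamL (F : Type*) [Field F] (V : Type*) [AddCommGroup V] [Module F V] where
  T : V ≃+ V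
  ρ : RingAut F
  smul : ∀ (c : F) x, T (c • x) = ρ c • T x

namespace GamL

theorem symm_smul (a : GamL F V) (c : F) (x : V) :
    a.T.symm (c • x) = a.ρ.symm c • a.T.symm x := by
  apply a.T.injective
  rw [a.smul]; simp

instance instGroupGamL : Group (GamL F V) where
  mul a b := ⟨b.T.trans a.T, a.ρ * b.ρ, fun c x => by
    rw [AddEquiv.trans_apply, b.smul, a.smul]; rfl⟩
  one := ⟨AddEquiv.refl V, 1, fun _ _ => rfl⟩
  inv a := ⟨a.T.symm, a.ρ⁻¹, a.symm_smul⟩
  mul_assoc _ _ _ := rfl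
  one_mul _ := rfl
  mul_one _ := rfl
  inv_mul_cancel a := GamL.ext a.T.self_trans_symm (inv_mul_cancel a.ρ)

@[simp] theorem mul_T (a b : GamL F V) (x : V) : (a * b).T x = a.T (b.T x) := rfl
@[simp] theorem mul_ρ (a b : GamL F V) (c : F) : (a * b).ρ c = a.ρ (b.ρ c) := rfl
@[simp] theorem one_T (x : V) : (1 : GamL F V).T x = x := rfl
@[simp] theorem one_ρ (c : F) : (1 : GamL F V).ρ c = c := rfl
@[simp] theorem inv_T (a : GamL F V) (x : V) : (a⁻¹).T x = a.T.symm x := rfl
@[simp] theorem inv_T_symm (a : GamL F V) (x : V) : (a⁻¹).T.symm x = a.T x := rfl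
@[simp] theorem inv_ρ (a : GamL F V) (c : F) : (a⁻¹).ρ c = a.ρ.symm c := rfl

/-- The companion field automorphism. -/
def fld : GamL F V →* RingAut F where
  toFun a := a.ρ
  map_one' := rfl
  map_mul' _ _ := rfl

/-- Linear maps are semilinear. -/
def ofLin : (V ≃ₗ[F] V) →* GamL F V where
  toFun g := ⟨g.toAddEquiv, 1, fun c x => g.map_smul c x⟩
  map_one' := rfl
  map_mul' _ _ := rfl

@[simp] theorem ofLin_T (g : V ≃ₗ[F] V) (x : V) : (ofLin g).T x = g x := rfl
@[simp] theorem ofLin_ρ (g : V ≃ₗ[F] V) (c : F) : (ofLin g).ρ c = c := rfl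

theorem ofLin_injective : Function.Injective (ofLin : (V ≃ₗ[F] V) →* GamL F V) := fun a b h =>
  LinearEquiv.ext fun x => by simpa using congrArg (fun t : GamL F V => t.T x) h

theorem range_ofLin : (ofLin : (V ≃ₗ[F] V) →* GamL F V).range = fld.ker := by
  ext a
  constructor
  · rintro ⟨g, rfl⟩; rfl
  · intro h
    have h : a.ρ = 1 := h
    exact ⟨{ a.T with map_smul' := fun c x => by simpa [h] using a.smul c x }, GamL.ext rfl h.symm⟩

/-- Conjugation of a linear map by a semilinear one. -/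
def cj (a : GamL F V) (g : V ≃ₗ[F] V) : V ≃ₗ[F] V where
  toFun x := a.T (g (a.T.symm x))
  invFun x := a.T (g.symm (a.T.symm x))
  map_add' x y := by simp
  map_smul' c x := by rw [symm_smul, map_smul, a.smul]; simp
  left_inv x := by simp
  right_inv x := by simp

@[simp] theorem cj_apply (a : GamL F V) (g : V ≃ₗ[F] V) (x : V) :
    a.cj g x = a.T (g (a.T.symm x)) := rfl

/-- Conjugation as an automorphism. -/
def conj : GamL F V →* MulAut (V ≃ₗ[F] V) where
  toFun a :=
    { toFun := a.cj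
      invFun := a⁻¹.cj
      left_inv := fun g => by ext x; simp
      right_inv := fun g => by ext x; simp
      map_mul' := fun g h => by ext x; simp }
  map_one' := rfl
  map_mul' _ _ := rfl

@[simp] theorem conj_apply (a : GamL F V) (g : V ≃ₗ[F] V) (x : V) :
    conj a g x = a.T (g (a.T.symm x)) := rfl

theorem conj_T (a : GamL F V) (g : V ≃ₗ[F] V) (x : V) : conj a g (a.T x) = a.T (g x) := by simp

theorem conj_ofLin (g h : V ≃ₗ[F] V) : conj (ofLin g) h = g * h * g⁻¹ := rfl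

/-- The image of a subspace. -/
def mapS (a : GamL F V) (W : Submodule F V) : Submodule F V where
  carrier := {x | a.T.symm x ∈ W}
  add_mem' ha hb := by simpa using W.add_mem ha hb
  zero_mem' := by simp
  smul_mem' c x hx := by
    change _ ∈ W
    rw [symm_smul]; exact W.smul_mem _ hx

theorem mem_mapS {a : GamL F V} {W : Submodule F V} {x : V} : x ∈ a.mapS W ↔ a.T.symm x ∈ W :=
  Iff.rfl

theorem card_mapS (a : GamL F V) (W : Submodule F V) : Nat.card (a.mapS W) = Nat.card W :=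
  Nat.card_congr (a.T.symm.toEquiv.subtypeEquiv fun _ => Iff.rfl)

theorem mapS_span (a : GamL F V) (u : V) :
    a.mapS (Submodule.span F {u}) = Submodule.span F {a.T u} := by
  ext x
  simp only [mem_mapS, Submodule.mem_span_singleton]
  constructor
  · rintro ⟨c, hc⟩
    exact ⟨a.ρ c, by rw [← a.smul, hc]; simp⟩
  · rintro ⟨c, rfl⟩
    exact ⟨a.ρ.symm c, by rw [symm_smul]; simp⟩

theorem conj_mem_stab {a : GamL F V} {W : Submodule F V} {g : V ≃ₗ[F] V} :
    conj a g ∈ stab (a.mapS W) ↔ g ∈ stab W := by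
  simp only [mem_stab, mem_mapS, conj_apply, AddEquiv.symm_apply_apply]
  exact ⟨fun h x => by simpa using h (a.T x), fun h x => h _⟩

theorem card_eq [Finite F] (S : Subgroup (GamL F V)) (h : ∀ ρ, ∃ a ∈ S, a.ρ = ρ) :
    Nat.card S = Nat.card (RingAut F) * Nat.card (S.comap ofLin) := by
  rw [card_eq_map_mul_inf_ker fld S, card_comap_of_injective _ ofLin_injective, range_ofLin,
    inf_comm]
  congr 1
  have : S.map fld = ⊤ := eq_top_iff.2 fun ρ _ => h ρ
  rw [this, Subgroup.card_top]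

end GamL

/-! ### Graphs of isomorphisms -/

/-- Central quotient. -/
abbrev PQ (G : Type*) [Group G] := G ⧸ Subgroup.center G

/-- Automorphisms descend to the central quotient. -/
def quotAut (G : Type*) [Group G] : MulAut G →* MulAut (PQ G) where
  toFun e := quotCenterCongr e
  map_one' := by
    ext x
    induction x using QuotientGroup.induction_on
    rfl
  map_mul' a b := by
    ext x
    induction x using QuotientGroup.induction_on
    rfl

theorem quotAut_mk {G : Type*} [Group G] (e : MulAut G) (g : G) :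
    quotAut G e (g : PQ G) = (e g : G) := rfl

/-- Restriction of automorphisms to an invariant subgroup. -/
def resMulAut {A Γ : Type*} [Group A] [Group Γ] (φ : A →* MulAut Γ) (G : Subgroup Γ)
    (h : ∀ a, ∀ g ∈ G, φ a g ∈ G) : A →* MulAut G where
  toFun a :=
    { toFun := fun g => ⟨φ a g, h a g g.2⟩
      invFun := fun g => ⟨φ a⁻¹ g, h _ g g.2⟩
      left_inv := fun g => by ext; simp
      right_inv := fun g => by ext; simp
      map_mul' := fun g k => by ext; simp }
  map_one' := by ext; simp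
  map_mul' a b := by ext; simp

variable {G : Subgroup (V ≃ₗ[F] V)} {G' : Subgroup (V' ≃ₗ[F] V')} {G'' : Subgroup (V'' ≃ₗ[F] V'')}

/-- The graph of an isomorphism of central quotients. -/
def gr (α : PQ G ≃* PQ G') : Subgroup ((V ≃ₗ[F] V) × (V' ≃ₗ[F] V')) where
  carrier := {x | ∃ (h1 : x.1 ∈ G) (h2 : x.2 ∈ G'), α ((⟨x.1, h1⟩ : G) : PQ G) = (⟨x.2, h2⟩ : G')}
  mul_mem' := by
    rintro a b ⟨h1, h2, h⟩ ⟨h3, h4, h'⟩
    refine ⟨G.mul_mem h1 h3, G'.mul_mem h2 h4, ?_⟩
    have := congrArg₂ (· * ·) h h'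
    simp only [← map_mul, ← QuotientGroup.mk_mul] at this
    exact this
  one_mem' := ⟨G.one_mem, G'.one_mem, map_one α⟩
  inv_mem' := by
    rintro a ⟨h1, h2, h⟩
    refine ⟨G.inv_mem h1, G'.inv_mem h2, ?_⟩
    have := congrArg (·⁻¹) h
    simp only [← map_inv, ← QuotientGroup.mk_inv] at this
    exact this

theorem mem_gr {α : PQ G ≃* PQ G'} {g : G} {g' : G'} : (g.1, g'.1) ∈ gr α ↔ α g = g' :=
  ⟨fun ⟨_, _, h⟩ => h, fun h => ⟨g.2, g'.2, h⟩⟩

theorem gr_ex1 (α : PQ G ≃* PQ G') {g : V ≃ₗ[F] V} (hg : g ∈ G) : ∃ g', (g, g') ∈ gr α := by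
  obtain ⟨g', h⟩ := QuotientGroup.mk_surjective (α ((⟨g, hg⟩ : G) : PQ G))
  exact ⟨g', hg, g'.2, h.symm⟩

theorem mem_gr_symm {α : PQ G ≃* PQ G'} {g : V ≃ₗ[F] V} {g' : V' ≃ₗ[F] V'} :
    (g', g) ∈ gr α.symm ↔ (g, g') ∈ gr α :=
  ⟨fun ⟨h1, h2, h⟩ => ⟨h2, h1, by rw [← h]; simp⟩, fun ⟨h1, h2, h⟩ => ⟨h2, h1, by rw [← h]; simp⟩⟩

theorem gr_trans {α : PQ G ≃* PQ G'} {β : PQ G' ≃* PQ G''} {g : V ≃ₗ[F] V} {g' : V' ≃ₗ[F] V'}
    {g'' : V'' ≃ₗ[F] V''} (h : (g, g') ∈ gr α) (h' : (g', g'') ∈ gr β) : (g, g'') ∈ gr (α.trans β) := by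
  obtain ⟨h1, h2, h⟩ := h
  obtain ⟨h3, h4, h'⟩ := h'
  exact ⟨h1, h4, by rw [MulEquiv.trans_apply, h, h']⟩

/-- The centre consists of the scalars. -/
def ZS (G : Subgroup (V ≃ₗ[F] V)) : Prop := ∀ g : G, g ∈ Subgroup.center G → IsScal g.1

theorem ZS.iff (h : ZS G) {g : G} : (g : PQ G) = 1 ↔ IsScal g.1 := by
  rw [QuotientGroup.eq_one_iff]
  exact ⟨h g, fun hs => Subgroup.mem_center_iff.2 fun k => Subtype.ext (hs.comm k)⟩

theorem corr_gr (h : ZS G) (h' : ZS G') (α : PQ G ≃* PQ G') : Corr G G' (gr α) where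
  mem1 := fun ⟨h1, _, _⟩ => h1
  mem2 := fun ⟨_, h2, _⟩ => h2
  ex1 _ hg := gr_ex1 α hg
  ex2 _ hg := gr_ex1 α.symm hg |>.imp fun _ => mem_gr_symm.1
  sc := by
    rintro g g' ⟨h1, h2, hα⟩
    rw [← h.iff (g := ⟨g, h1⟩), ← h'.iff (g := ⟨g', h2⟩), ← hα, map_eq_one_iff α α.injective]

theorem Rel.gr_symm {α : PQ G ≃* PQ G'} {W : Submodule F V} {W' : Submodule F V'}
    (h : Rel (gr α) W W') : Rel (gr α.symm) W' W := fun _ _ hg => (h _ _ (mem_gr_symm.1 hg)).symm

theorem Rel.gr_trans (hZ : ZS G) (hZ'' : ZS G'') {α : PQ G ≃* PQ G'} {β : PQ G' ≃* PQ G''}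
    {W : Submodule F V} {W' : Submodule F V'} {W'' : Submodule F V''} (h : Rel (gr α) W W')
    (h' : Rel (gr β) W' W'') : Rel (gr (α.trans β)) W W'' := by
  intro g g'' hg
  obtain ⟨a, ha⟩ := gr_ex1 α ((corr_gr hZ hZ'' _).mem1 hg)
  obtain ⟨b, hb⟩ := gr_ex1 β ha.2.1
  have hs := (corr_gr hZ hZ'' _).isScal (Class.gr_trans ha hb) hg
  rw [h _ _ ha, h' _ _ hb]
  refine ⟨fun h => ?_, fun h => ?_⟩
  · simpa using (stab W'').mul_mem h (hs.mem_stab W'')
  · simpa using (stab W'').mul_mem h ((stab W'').inv_mem (hs.mem_stab W''))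

theorem Pack.zs [Finite V] {p : ℕ} [Fact p.Prime] [CharP F p] (h : Pack p G) : ZS G := fun g hg =>
  h.cen g.1.toAddEquiv.toAddMonoidHom fun k hk x =>
    (LinearEquiv.congr_fun (congrArg Subtype.val (Subgroup.mem_center_iff.1 hg ⟨k, hk⟩)) x).symm

/-- The automorphisms induced by semilinear maps normalizing `G`. -/
def autHom (G : Subgroup (V ≃ₗ[F] V)) (S : Subgroup (GamL F V))
    (h : ∀ a ∈ S, ∀ g ∈ G, GamL.conj a g ∈ G) : S →* MulAut (PQ G) :=
  (quotAut G).comp (resMulAut (GamL.conj.comp S.subtype) G fun a => h a a.2)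

variable {S : Subgroup (GamL F V)} {hS : ∀ a ∈ S, ∀ g ∈ G, GamL.conj a g ∈ G}

theorem mem_gr_autHom (a : S) {g : V ≃ₗ[F] V} (hg : g ∈ G) :
    (g, GamL.conj a.1 g) ∈ gr (autHom G S hS a) := ⟨hg, hS a a.2 g hg, rfl⟩

theorem autHom_eq {a : S} {α : MulAut (PQ G)} (h : ∀ g ∈ G, (g, GamL.conj a.1 g) ∈ gr α) :
    autHom G S hS a = α := by
  ext x
  induction x using QuotientGroup.induction_on with
  | H g => exact (h g g.2).2.2.symm

theorem mem_gr_of_scal (hZ : ZS G') {α : PQ G ≃* PQ G'} {g : V ≃ₗ[F] V} {a b : V' ≃ₗ[F] V'}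
    (ha : (g, a) ∈ gr α) (hb : b ∈ G') (hs : IsScal (a⁻¹ * b)) : (g, b) ∈ gr α := by
  obtain ⟨h1, h2, h⟩ := ha
  refine ⟨h1, hb, h.trans ?_⟩
  have := (hZ.iff (g := ⟨a, h2⟩⁻¹ * ⟨b, hb⟩)).2 hs
  rwa [QuotientGroup.mk_mul, QuotientGroup.mk_inv, inv_mul_eq_one] at this

theorem rel_autHom (hZ : ZS G) (a : S) (W : Submodule F V) :
    Rel (gr (autHom G S hS a)) W (a.1.mapS W) := by
  intro g g' hg
  have hc := corr_gr hZ hZ (autHom G S hS a)
  have hs := hc.isScal (mem_gr_autHom a (hc.mem1 hg)) hg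
  rw [← GamL.conj_mem_stab (a := a.1)]
  refine ⟨fun h => ?_, fun h => ?_⟩
  · simpa using (stab _).mul_mem h (hs.mem_stab _)
  · simpa using (stab _).mul_mem h ((stab _).inv_mem (hs.mem_stab _))

/-- `G` is generated by its unipotent elements. -/
def UGen (p : ℕ) (G : Subgroup (V ≃ₗ[F] V)) : Prop :=
  ∀ K : Subgroup (V ≃ₗ[F] V), (∀ g ∈ G, Unip p g → g ∈ K) → G ≤ K

theorem card_range_autHom [Finite F] [Finite V] {p : ℕ} [Fact p.Prime] [CharP F p] (hP : Pack p G)
    (hgen : UGen p G) (hsc : ∀ c, GamL.ofLin (scal V c) ∈ S) :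
    Nat.card S = (Nat.card F - 1) * Nat.card (autHom G S hS).range := by
  have := hP.1
  have hk : (autHom G S hS).ker = ((GamL.ofLin.comp (scal V)).codRestrict S hsc).range := by
    ext a
    constructor
    · intro ha
      have ha : autHom G S hS a = 1 := ha
      have hc := corr_gr hP.zs hP.zs (1 : MulAut (PQ G))
      have h1 := hgen ((GamL.conj a.1).toMonoidHom.eqLocus (MonoidHom.id _)) fun g hg ug =>
        hc.unip_unique (ha ▸ mem_gr_autHom a hg) ⟨hg, hg, rfl⟩ (ug.map (GamL.conj a.1).toMonoidHom) ug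
      obtain ⟨c, hc⟩ := hP.cen a.1.T.toAddMonoidHom fun g hg x => by
        have := LinearEquiv.congr_fun (h1 hg) (a.1.T x)
        simpa using this
      have hc : ∀ x, a.1.T x = c • x := hc
      obtain ⟨z, hz⟩ := exists_ne (0 : V)
      have hc0 : c ≠ 0 := fun h => hz (a.1.T.injective (by rw [hc, h, zero_smul, map_zero]))
      refine ⟨Units.mk0 c hc0, Subtype.ext (GamL.ext (AddEquiv.ext fun x => (hc x).symm) ?_)⟩
      refine RingEquiv.ext fun d => smul_left_injective F (smul_ne_zero hc0 hz) ?_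
      have := a.1.smul d z
      rw [hc, hc, smul_comm] at this
      exact this
    · rintro ⟨c, rfl⟩
      refine autHom_eq fun g hg => ?_
      have : GamL.conj (GamL.ofLin (scal V c)) g = g := by
        rw [GamL.conj_ofLin, ← scal_comm, mul_inv_cancel_right]
      exact this.symm ▸ ⟨hg, hg, rfl⟩
  rw [← (autHom G S hS).ker.card_mul_index, Subgroup.index_ker, hk, ← Nat.card_units]
  congr 1
  refine (Nat.card_congr (MonoidHom.ofInjective ?_).toEquiv).symm
  intro a b hab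
  exact scal_injective (GamL.ofLin_injective (congrArg Subtype.val hab))

/-! ### Index computations -/

theorem card_eq_of_range_top {A : Type*} [Group A] {H : Subgroup A} (h : ∀ a, a ∈ H) :
    Nat.card A = Nat.card H := by
  rw [show H = ⊤ from eq_top_iff.2 fun a _ => h a, Subgroup.card_top]

theorem card_eq_two_mul {A : Type*} [Group A] {H : Subgroup A} {t : A} (ht : t ∉ H)
    (h : ∀ a, a ∈ H ∨ t⁻¹ * a ∈ H) : Nat.card A = 2 * Nat.card H := by
  rw [← H.index_mul_card]
  congr 1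
  rw [Subgroup.index, Nat.card_eq_two_iff]
  refine ⟨(1 : A), t, fun h1 => ht (by simpa using QuotientGroup.eq.1 h1), ?_⟩
  rw [Set.eq_univ_iff_forall]
  intro x
  induction x using QuotientGroup.induction_on with
  | H a =>
    rcases h a with h | h
    · exact Or.inl (QuotientGroup.eq.2 (by simpa using h))
    · exact Or.inr (QuotientGroup.eq.2 h).symm

theorem card_eq_three_mul {A : Type*} [Group A] {H : Subgroup A} {s t : A} (hs : s ∉ H) (ht : t ∉ H)
    (hst : s⁻¹ * t ∉ H) (h : ∀ a, a ∈ H ∨ s⁻¹ * a ∈ H ∨ t⁻¹ * a ∈ H) :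
    Nat.card A = 3 * Nat.card H := by
  rw [← H.index_mul_card]
  congr 1
  rw [Subgroup.index, ← Set.ncard_univ, Set.ncard_eq_three]
  refine ⟨(1 : A), s, t, fun h1 => hs (by simpa using QuotientGroup.eq.1 h1),
    fun h1 => ht (by simpa using QuotientGroup.eq.1 h1), fun h1 => hst (QuotientGroup.eq.1 h1), ?_⟩
  symm
  rw [Set.eq_univ_iff_forall]
  intro x
  induction x using QuotientGroup.induction_on with
  | H a =>
    rcases h a with h | h | h
    · exact Or.inl (QuotientGroup.eq.2 (by simpa using h))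
    · exact Or.inr (Or.inl (QuotientGroup.eq.2 h).symm)
    · exact Or.inr (Or.inr (QuotientGroup.eq.2 h).symm)

theorem card_mulAut_congr {A B : Type*} [Group A] [Group B] (e : A ≃* B) :
    Nat.card (MulAut A) = Nat.card (MulAut B) := Nat.card_congr (MulAut.congr e).toEquiv

end Cfsg.Agent.Class
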