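import Cfsg.Agent.Class.Aut2

/-! Automorphisms of classical groups, III: the special linear group. -/

set_option autoImplicit false

namespace Cfsg.Agent.Class

open Module

variable {F : Type*} [Field F] {V : Type*} [AddCommGroup V] [Module F V]

theorem exists_addEquiv_of_rel {A B : Type*} [AddGroup A] [AddGroup B] (R : A → B → Prop)
    (h1 : ∀ a, ∃ b, R a b) (h2 : ∀ b, ∃ a, R a b) (h3 : ∀ a b b', R a b → R a b' → b = b')
    (h4 : ∀ a a' b, R a b → R a' b → a = a')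
    (h5 : ∀ a a' b b', R a b → R a' b' → R (a + a') (b + b')) :
    ∃ φ : A ≃+ B, ∀ a b, R a b ↔ φ a = b := by
  choose φ hφ using h1
  refine ⟨AddEquiv.ofBijective (AddMonoidHom.mk' φ fun a a' =>
    h3 _ _ _ (hφ _) (h5 _ _ _ _ (hφ a) (hφ a'))) ⟨fun a a' h => h4 _ _ _ (hφ a) ?_, fun b => ?_⟩,
    fun a b => ⟨fun h => h3 _ _ _ (hφ a) h, fun h => h ▸ hφ a⟩⟩
  · have h : φ a = φ a' := h
    exact h ▸ hφ a'
  · obtain ⟨a, ha⟩ := h2 b
    exact ⟨a, h3 _ _ _ (hφ a) ha⟩

/-- Pairs of maps intertwined by `T` up to a scalar. -/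
def semi (T : GamL F V) : Subgroup ((V ≃ₗ[F] V) × (V ≃ₗ[F] V)) where
  carrier := {x | ∃ c : Fˣ, ∀ y, x.2 (T.T y) = (c : F) • T.T (x.1 y)}
  mul_mem' := by
    rintro a b ⟨c, hc⟩ ⟨d, hd⟩
    exact ⟨d * c, fun y => by simp [hc, hd, smul_smul]⟩
  one_mem' := ⟨1, fun y => by simp⟩
  inv_mem' := by
    rintro a ⟨c, hc⟩
    refine ⟨c⁻¹, fun y => ?_⟩
    have := hc (a.1.symm y)
    simp only [LinearEquiv.apply_symm_apply] at this
    simp only [Prod.snd_inv, Prod.fst_inv, LinearEquiv.coe_inv, LinearEquiv.symm_apply_eq, map_smul,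
      this, smul_smul]
    simp

theorem mem_semi {T : GamL F V} {g g' : V ≃ₗ[F] V} :
    (g, g') ∈ semi T ↔ ∃ c : Fˣ, ∀ y, g' (T.T y) = (c : F) • T.T (g y) := Iff.rfl

theorem conj_mem_semi (T : GamL F V) (g : V ≃ₗ[F] V) : (g, GamL.conj T g) ∈ semi T :=
  ⟨1, fun y => by simp⟩

theorem mem_semi_of_isScal {T : GamL F V} {g a b : V ≃ₗ[F] V} (ha : (g, a) ∈ semi T)
    (hs : IsScal (a⁻¹ * b)) : (g, b) ∈ semi T := by
  have : (1, a⁻¹ * b) ∈ semi T := by
    obtain ⟨c, hc⟩ := hs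
    by_cases h0 : c = 0
    · refine ⟨1, fun y => ?_⟩
      have : T.T y = 0 := (a⁻¹ * b).injective (by rw [hc, h0, zero_smul, map_zero])
      simp [this]
    · exact ⟨Units.mk0 c h0, fun y => hc _⟩
  simpa using (semi T).mul_mem ha this

theorem isScal_of_mem_semi {T : GamL F V} {g a b : V ≃ₗ[F] V} (ha : (g, a) ∈ semi T)
    (hb : (g, b) ∈ semi T) : IsScal (a⁻¹ * b) := by
  obtain ⟨c, hc⟩ := (semi T).mul_mem ((semi T).inv_mem ha) hb
  refine ⟨c, fun x => ?_⟩
  obtain ⟨y, rfl⟩ := T.T.surjective x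
  simpa using hc y

theorem rel_semi (T : GamL F V) (W : Submodule F V) : Rel (semi T) W (T.mapS W) := by
  intro g g' hg
  have hs := isScal_of_mem_semi (conj_mem_semi T g) hg
  rw [← GamL.conj_mem_stab (a := T)]
  refine ⟨fun h => ?_, fun h => ?_⟩
  · simpa using (stab _).mul_mem h (hs.mem_stab _)
  · simpa using (stab _).mul_mem h ((stab _).inv_mem (hs.mem_stab _))

/-- The elements on which the correspondence is given by `T`. -/
def agree (Γ : Subgroup ((V ≃ₗ[F] V) × (V ≃ₗ[F] V))) (T : GamL F V) : Subgroup (V ≃ₗ[F] V) :=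
  (Γ ⊓ semi T).map (MonoidHom.fst _ _)

theorem mem_agree {Γ : Subgroup ((V ≃ₗ[F] V) × (V ≃ₗ[F] V))} {T : GamL F V} {g g' : V ≃ₗ[F] V}
    (h1 : (g, g') ∈ Γ) (h2 : (g, g') ∈ semi T) : g ∈ agree Γ T := ⟨(g, g'), ⟨h1, h2⟩, rfl⟩

theorem Corr.mem_semi {G : Subgroup (V ≃ₗ[F] V)} {Γ : Subgroup ((V ≃ₗ[F] V) × (V ≃ₗ[F] V))}
    (h : Corr G G Γ) {T : GamL F V} {g g' : V ≃ₗ[F] V} (hg : g ∈ agree Γ T) (h1 : (g, g') ∈ Γ) :
    (g, g') ∈ semi T := by
  obtain ⟨⟨a, a'⟩, ⟨h2, h3⟩, rfl⟩ := hg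
  exact mem_semi_of_isScal h3 (h.isScal h2 h1)

theorem Corr.agree_le {G : Subgroup (V ≃ₗ[F] V)} {Γ : Subgroup ((V ≃ₗ[F] V) × (V ≃ₗ[F] V))}
    (h : Corr G G Γ) (T : GamL F V) : agree Γ T ≤ G := by
  rintro _ ⟨⟨a, a'⟩, ⟨h2, -⟩, rfl⟩
  exact h.mem1 h2

theorem mem_range_autHom {G : Subgroup (V ≃ₗ[F] V)} (hZ : ZS G) {S : Subgroup (GamL F V)}
    {hS : ∀ a ∈ S, ∀ g ∈ G, GamL.conj a g ∈ G} {α : MulAut (PQ G)} {T : GamL F V} (hT : T ∈ S)
    (h : G ≤ agree (gr α) T) : α ∈ (autHom G S hS).range := by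
  refine ⟨⟨T, hT⟩, autHom_eq fun g hg => ?_⟩
  obtain ⟨g', hg'⟩ := gr_ex1 α hg
  exact mem_gr_of_scal hZ hg' (hS T hT g hg)
    (isScal_of_mem_semi ((corr_gr hZ hZ α).mem_semi (h hg) hg') (conj_mem_semi T g))

/-! ### Dilations and transvections -/

theorem exists_dual_one {W : Submodule F V} {x : V} (hx : x ∉ W) :
    ∃ l : Dual F V, l x = 1 ∧ ∀ w ∈ W, l w = 0 := by
  obtain ⟨l, h1, h2⟩ := W.exists_le_ker_of_notMem hx
  exact ⟨(l x)⁻¹ • l, by simp [h1], fun w hw => by simp [LinearMap.mem_ker.1 (h2 hw)]⟩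

theorem exists_dual_single {x : V} (hx : x ≠ 0) : ∃ l : Dual F V, l x = 1 :=
  (exists_dual_one (W := ⊥) (by simpa)).imp fun _ h => h.1

theorem exists_dual_pair {x z : V} (hx : x ∉ Submodule.span F {z}) :
    ∃ l : Dual F V, l x = 1 ∧ l z = 0 :=
  (exists_dual_one hx).imp fun _ h => ⟨h.1, h.2 z (Submodule.mem_span_singleton_self z)⟩

theorem exists_eq_one_of_ne {l : Dual F V} (hl : l ≠ 0) : ∃ v, l v = 1 := by
  obtain ⟨x, hx⟩ := DFunLike.ne_iff.1 hl
  exact ⟨(l x)⁻¹ • x, by simpa using inv_mul_cancel₀ hx⟩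

/-- Dilation or transvection. -/
noncomputable def dl (l : Dual F V) (a : V) (h : 1 + l a ≠ 0) : V ≃ₗ[F] V :=
  LinearEquiv.dilatransvection (f := l) (v := a) h.isUnit

theorem dl_apply (l : Dual F V) (a : V) (h : 1 + l a ≠ 0) (x : V) : dl l a h x = x + l x • a :=
  LinearEquiv.dilatransvection.apply

theorem det_dl [FiniteDimensional F V] (l : Dual F V) (a : V) (h : 1 + l a ≠ 0) :
    ((dl l a h).det : F) = 1 + l a := by
  rw [LinearEquiv.coe_det]
  exact LinearMap.transvection.det l a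

/-- The special linear group. -/
noncomputable def SLV (F : Type*) [Field F] (V : Type*) [AddCommGroup V] [Module F V] :
    Subgroup (V ≃ₗ[F] V) := (LinearEquiv.det).ker

theorem mem_SLV {g : V ≃ₗ[F] V} : g ∈ SLV F V ↔ g.det = 1 := Iff.rfl

/-- Transvection. -/
def tq (l : Dual F V) (a : V) (h : l a = 0) : V ≃ₗ[F] V := LinearEquiv.transvection h

theorem tq_apply (l : Dual F V) (a : V) (h : l a = 0) (x : V) : tq l a h x = x + l x • a := rfl

theorem tq_mem (l : Dual F V) (a : V) (h : l a = 0) : tq l a h ∈ SLV F V :=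
  LinearEquiv.transvection.det_eq_one h

theorem tq_mem_stab [FiniteDimensional F V] (l : Dual F V) {a : V} (h : l a = 0)
    {W : Submodule F V} (ha : a ∈ W) : tq l a h ∈ stab W :=
  mem_stab_of_le fun _ hx => W.add_mem hx (W.smul_mem _ ha)

/-- Maps acting trivially on `Y` and on the quotient by `Y`. -/
def HQ (Y : Submodule F V) : Subgroup (V ≃ₗ[F] V) where
  carrier := {g | (∀ x, g x - x ∈ Y) ∧ ∀ y ∈ Y, g y = y}
  mul_mem' := by
    rintro a b ⟨h1, h2⟩ ⟨h3, h4⟩
    refine ⟨fun x => ?_, fun y hy => by simp [h4 y hy, h2 y hy]⟩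
    simpa using Y.add_mem (h1 (b x)) (h3 x)
  one_mem' := ⟨fun x => by simp, fun _ _ => rfl⟩
  inv_mem' := by
    rintro a ⟨h1, h2⟩
    refine ⟨fun x => ?_, fun y hy => ?_⟩
    · simpa using Y.neg_mem (h1 (a.symm x))
    · rw [LinearEquiv.coe_inv, LinearEquiv.symm_apply_eq, h2 y hy]

theorem tq_mem_HQ (l : Dual F V) {a : V} (h : l a = 0) {Y : Submodule F V} (ha : a ∈ Y)
    (hl : ∀ y ∈ Y, l y = 0) : tq l a h ∈ HQ Y :=
  ⟨fun x => by simpa [tq_apply] using Y.smul_mem _ ha, fun y hy => by simp [tq_apply, hl y hy]⟩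

theorem conj_mem_HQ {Y : Submodule F V} {m g : V ≃ₗ[F] V} (hm : m ∈ stab Y) (hg : g ∈ HQ Y) :
    m * g * m⁻¹ ∈ HQ Y := by
  refine ⟨fun x => ?_, fun y hy => ?_⟩
  · simpa using (hm _).1 (hg.1 (m.symm x))
  · simp [hg.2 (m.symm y) (((stab Y).inv_mem hm y).1 hy)]

theorem HQ_le_stab (Y : Submodule F V) : HQ Y ≤ stab Y := fun g hg x =>
  ⟨fun hx => by rwa [hg.2 x hx], fun hx => by simpa using Y.sub_mem hx (hg.1 x)⟩

theorem mem_span_of_fix_HQ {z x : V} (hz : z ≠ 0) (h : ∀ g ∈ HQ (Submodule.span F {z}), g x = x) :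
    ∃ c : F, c • z = x := by
  rw [← Submodule.mem_span_singleton]
  by_contra hx
  obtain ⟨l, h1, h2⟩ := exists_dual_one hx
  have := h _ (tq_mem_HQ l (h2 z (Submodule.mem_span_singleton_self z))
    (Submodule.mem_span_singleton_self z) h2)
  simp [tq_apply, h1, hz] at this

theorem card_le_card_HQ [Finite F] [FiniteDimensional F V] (Y : Submodule F V) :
    Nat.card F ^ ((finrank F V - finrank F Y) * finrank F Y) ≤ Nat.card (HQ Y) := by
  have : Finite V := Module.finite_of_finite F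
  have := finite_linearEquiv (F := F) (V := V)
  let N : ((V ⧸ Y) →ₗ[F] Y) → (V →ₗ[F] V) := fun ψ => Y.subtype ∘ₗ ψ ∘ₗ Y.mkQ
  have hN : ∀ ψ y, y ∈ Y → N ψ y = 0 := fun ψ y hy => by
    simp [N, (Submodule.Quotient.mk_eq_zero Y).2 hy]
  have hN' : ∀ ψ x, N ψ x ∈ Y := fun ψ x => (ψ (Y.mkQ x)).2
  let E : ((V ⧸ Y) →ₗ[F] Y) → HQ Y := fun ψ =>
    ⟨LinearEquiv.ofLinear (1 + N ψ) (1 - N ψ)
      (LinearMap.ext fun x => by simp [hN ψ _ (hN' ψ x)])
      (LinearMap.ext fun x => by simp [hN ψ _ (hN' ψ x)]),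
      fun x => by simpa using hN' ψ x, fun y hy => by simp [hN ψ y hy]⟩
  have hE : Function.Injective E := fun a b h => by
    ext x
    have := LinearEquiv.congr_fun (congrArg Subtype.val h) x
    simpa [E, N] using this
  have h1 := Nat.card_le_card_of_injective E hE
  rwa [Module.natCard_eq_pow_finrank (K := F), Module.finrank_linearMap,
    show finrank F (V ⧸ Y) = finrank F V - finrank F Y by
      have := Y.finrank_quotient_add_finrank; omega] at h1

section hyp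
variable {l : Dual F V} {v : V}

/-- Transvection with axis `ker l`. -/
def tk (a : LinearMap.ker l) : V ≃ₗ[F] V := tq l a (LinearMap.mem_ker.1 a.2)

theorem tk_apply (a : LinearMap.ker l) (x : V) : tk a x = x + l x • (a : V) := rfl

theorem ker_apply (a : LinearMap.ker l) : l a = 0 := a.2

theorem exists_tk (hv : l v = 1) {g : V ≃ₗ[F] V} (hg : g ∈ HQ (LinearMap.ker l)) :
    ∃ a : LinearMap.ker l, g = tk a := by
  refine ⟨⟨g v - v, hg.1 v⟩, LinearEquiv.ext fun x => ?_⟩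
  have := hg.2 (x - l x • v) (by simp [hv])
  rw [map_sub, map_smul, sub_eq_sub_iff_sub_eq_sub] at this
  change _ = x + l x • (g v - v)
  rw [smul_sub, ← this]; abel

theorem tk_mem (a : LinearMap.ker l) : tk a ∈ HQ (LinearMap.ker l) :=
  tq_mem_HQ l _ a.2 fun _ h => h

theorem tk_inj (hv : l v = 1) {a b : LinearMap.ker l} (h : tk a = tk b) : a = b := by
  simpa [tk_apply, hv] using LinearEquiv.congr_fun h v

theorem tk_mul (a b : LinearMap.ker l) : tk a * tk b = tk (a + b) := by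
  ext x; simp [tk_apply, ker_apply]; abel

theorem card_HQ_ker_le [Finite F] [FiniteDimensional F V] (hv : l v = 1) :
    Nat.card (HQ (LinearMap.ker l)) ≤ Nat.card F ^ finrank F (LinearMap.ker l) := by
  have : Finite V := Module.finite_of_finite F
  rw [← Module.natCard_eq_pow_finrank]
  refine Nat.card_le_card_of_surjective
    (fun a : LinearMap.ker l => (⟨tk a, tk_mem a⟩ : HQ _)) fun g => ?_
  obtain ⟨a, ha⟩ := exists_tk hv g.2
  exact ⟨a, Subtype.ext ha.symm⟩

theorem apply_of_stab (hv : l v = 1) {g : V ≃ₗ[F] V} (hg : g ∈ stab (LinearMap.ker l)) (x : V) :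
    l (g x) = l (g v) * l x := by
  have := (hg (x - l x • v)).1 (by simp [hv])
  rw [LinearMap.mem_ker, map_sub, map_smul, map_sub, map_smul, sub_eq_zero] at this
  rw [this, smul_eq_mul, mul_comm]

theorem conj_tk (hv : l v = 1) {g : V ≃ₗ[F] V} (hg : g ∈ stab (LinearMap.ker l)) {c : F}
    (hc : l (g v) = c) {a b : LinearMap.ker l} (hab : c • (b : V) = g a) :
    g * tk a * g⁻¹ = tk b := by
  rw [mul_inv_eq_iff_eq_mul]
  ext x
  simp only [LinearEquiv.mul_apply, tk_apply, map_add, map_smul, apply_of_stab hv hg x, hc, ← hab,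
    smul_smul, mul_comm]

theorem isCompl_ker (hv : l v = 1) : IsCompl (LinearMap.ker l) (Submodule.span F {v}) := by
  constructor
  · rw [Submodule.disjoint_def]
    intro x h1 h2
    obtain ⟨c, rfl⟩ := Submodule.mem_span_singleton.1 h2
    simp only [LinearMap.mem_ker, map_smul, hv, smul_eq_mul, mul_one] at h1
    simp [h1]
  · rw [codisjoint_iff, eq_top_iff]
    intro x _
    have : x = (x - l x • v) + l x • v := by abel
    rw [this]
    exact Submodule.add_mem_sup (by simp [hv])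
      (Submodule.smul_mem _ _ (Submodule.mem_span_singleton_self v))

/-- The Levi factor acting on the hyperplane. -/
def levL (l : Dual F V) (v : V) : Subgroup (LinearMap.ker l ≃ₗ[F] LinearMap.ker l) where
  carrier := {h | ∃ g ∈ SLV F V, ∃ c : Fˣ, g v = (c : F) • v ∧
    ∀ w : LinearMap.ker l, g w = (c : F) • (h w : V)}
  mul_mem' := by
    rintro a b ⟨g, hg, c, h1, h2⟩ ⟨g', hg', c', h1', h2'⟩
    exact ⟨g * g', mul_mem hg hg', c' * c, by simp [h1, h1', smul_smul],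
      fun w => by simp [h2, h2', smul_smul]⟩
  one_mem' := ⟨1, one_mem _, 1, by simp, fun w => by simp⟩
  inv_mem' := by
    rintro a ⟨g, hg, c, h1, h2⟩
    refine ⟨g⁻¹, inv_mem hg, c⁻¹, ?_, fun w => ?_⟩
    · rw [LinearEquiv.coe_inv, LinearEquiv.symm_apply_eq, map_smul, h1, smul_smul]; simp
    · rw [LinearEquiv.coe_inv, LinearEquiv.symm_apply_eq, map_smul, h2, smul_smul]; simp

theorem mem_levL_of_det [FiniteDimensional F V] (hv : l v = 1)
    (h : LinearMap.ker l ≃ₗ[F] LinearMap.ker l) (c : Fˣ) (hc : h.det * c = 1) :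
    scal _ c⁻¹ * h ∈ levL l v := by
  have hv0 : v ≠ 0 := fun h => by simp [h] at hv
  refine ⟨sumAut (isCompl_ker hv) (h, scal _ c), ?_, c, ?_, fun w => ?_⟩
  · rw [mem_SLV, det_sumAut, det_scal, finrank_span_singleton hv0, pow_one, hc]
  · exact sumAut_apply_right _ _ ⟨v, Submodule.mem_span_singleton_self v⟩
  · rw [sumAut_apply_left]; simp [smul_smul, -map_inv]

theorem exists_mem_levL {g : V ≃ₗ[F] V} (hg : g ∈ SLV F V) (h1 : g ∈ stab (LinearMap.ker l))
    {c : Fˣ} (h2 : g v = (c : F) • v) : 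
    ∃ h ∈ levL l v, ∀ w : LinearMap.ker l, g w = (c : F) • (h w : V) := by
  have : ∀ w : LinearMap.ker l, g w = (c : F) •
      ((scal (LinearMap.ker l) c⁻¹ * resAut (LinearMap.ker l) g h1 : _ ≃ₗ[F] _) w : V) := fun w => by
    simp [smul_smul, -map_inv]; rfl
  exact ⟨_, ⟨g, hg, c, h2, this⟩, this⟩

end hyp

section charp
variable {p : ℕ} [Fact p.Prime] [CharP F p]

theorem HQ_isPGroup (Y : Submodule F V) : IsPGroup p (HQ Y) :=
  isPGroup_iff_unip.2 fun g hg => unip_of_nilp fun x => by simp [hg.2 _ (hg.1 x)]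

theorem Unip.mem_SLV {g : V ≃ₗ[F] V} (h : Unip p g) : g ∈ SLV F V := by
  obtain ⟨k, hk⟩ := h.map LinearEquiv.det
  exact Units.ext (eq_one_of_pow_char p (k := k) (by simpa using congrArg Units.val hk))

include p in
theorem HQ_le_SLV (Y : Submodule F V) : HQ Y ≤ SLV F V := fun _ hg =>
  ((HQ_isPGroup (p := p) Y).unip4 hg).mem_SLV

theorem closure_ne_zero [Nontrivial V] : AddSubgroup.closure {z : V | z ≠ 0} = ⊤ := by
  rw [eq_top_iff]
  intro x _
  by_cases h : x = 0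
  · rw [h]; exact zero_mem _
  · exact AddSubgroup.subset_closure h

theorem pack_levL [Finite F] [FiniteDimensional F V] {l : Dual F V} {v : V} (hv : l v = 1)
    (hn : 2 ≤ finrank F V) : Pack p (levL l v) := by
  have hl : l ≠ 0 := fun h => by simp [h] at hv
  have : Nontrivial (LinearMap.ker l) := finrank_pos_iff (R := F).1 (by
    have := Module.Dual.finrank_ker_add_one_of_ne_zero hl; omega)
  refine ⟨this, {z | z ≠ 0}, closure_ne_zero, fun z hz => ⟨closure_sq_eq_top fun c hc => ?_,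
    HQ (Submodule.span F {z}), fun h hh => ?_, HQ_isPGroup _, fun x => mem_span_of_fix_HQ hz⟩⟩
  · obtain ⟨m, hm⟩ := exists_dual_single (F := F) hz
    have h1 : 1 + m ((c - 1) • z) ≠ 0 := by simpa [hm] using hc
    refine ⟨_, mem_levL_of_det hv (dl m _ h1) (Units.mk0 c hc)⁻¹ ?_, ?_⟩
    · rw [mul_inv_eq_one]; ext; rw [det_dl]; simp [hm]
    · simp [dl_apply, hm, sub_smul, smul_smul]
  · simpa using mem_levL_of_det hv h 1 (by rw [mul_one]; exact HQ_le_SLV (p := p) _ hh)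

omit [Fact p.Prime] [CharP F p] in
theorem exists_SLV_trans [FiniteDimensional F V] (hn : 2 ≤ finrank F V) {x y : V} (hx : x ≠ 0)
    (hy : y ≠ 0) : ∃ g ∈ SLV F V, g x = y := by
  have key : ∀ x y : V, x ≠ 0 → y ∉ Submodule.span F {x} → ∃ g ∈ SLV F V, g x = y := by
    intro x y hx hy
    have : x ∉ Submodule.span F {y - x} := by
      intro h
      obtain ⟨c, hc⟩ := Submodule.mem_span_singleton.1 h
      have hc0 : c ≠ 0 := fun h => hx (by rw [← hc, h, zero_smul])
      refine hy (Submodule.mem_span_singleton.2 ⟨c⁻¹ + 1, ?_⟩)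
      rw [add_smul, one_smul]
      nth_rewrite 1 [← hc]
      rw [smul_smul, inv_mul_cancel₀ hc0, one_smul, sub_add_cancel]
    obtain ⟨l, h1, h2⟩ := exists_dual_pair this
    exact ⟨tq l _ h2, tq_mem _ _ _, by simp [tq_apply, h1]⟩
  by_cases h : y ∈ Submodule.span F {x}
  · obtain ⟨w, hw⟩ : ∃ w, w ∉ Submodule.span F {x} := by
      by_contra hh
      push Not at hh
      have := finrank_span_singleton (K := F) hx
      rw [show Submodule.span F {x} = ⊤ from eq_top_iff.2 fun w _ => hh w, finrank_top] at this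
      omega
    obtain ⟨g, hg, h1⟩ := key x w hx hw
    obtain ⟨g', hg', h2⟩ := key y w hy fun h' =>
      hw ((Submodule.span_singleton_le_iff_mem y _).2 h h')
    exact ⟨g'⁻¹ * g, mul_mem (inv_mem hg') hg, by simp [h1, ← h2]⟩
  · exact key x y hx h

theorem pack_SLV [Finite F] [FiniteDimensional F V] (hn : 2 ≤ finrank F V) : Pack p (SLV F V) := by
  have : Nontrivial V := finrank_pos_iff (R := F).1 (by omega)
  exact ⟨this, {z | z ≠ 0}, closure_ne_zero, fun z hz => ⟨closure_sq_eq_top fun c hc =>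
    exists_SLV_trans hn hz (smul_ne_zero (mul_ne_zero hc hc) hz),
    HQ (Submodule.span F {z}), HQ_le_SLV (p := p) _, HQ_isPGroup _, fun x => mem_span_of_fix_HQ hz⟩⟩

end charp

theorem le_of_stab_SLV [FiniteDimensional F V] {W W' : Submodule F V} (hW : W' ≠ ⊥)
    (h : ∀ g ∈ SLV F V, g ∈ stab W → g ∈ stab W') : W ≤ W' := by
  intro w hw
  by_contra hw'
  obtain ⟨x, hx, hx0⟩ := (Submodule.ne_bot_iff W').1 hW
  have : x ∉ Submodule.span F {w} := by
    intro h
    obtain ⟨c, rfl⟩ := Submodule.mem_span_singleton.1 h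
    exact hw' ((W'.smul_mem_iff fun h => hx0 (by simp [h])).1 hx)
  obtain ⟨l, h1, h2⟩ := exists_dual_pair this
  have := (h _ (tq_mem l w h2) (tq_mem_stab l h2 hw) x).1 hx
  rw [tq_apply, h1, one_smul] at this
  exact hw' (by simpa using W'.sub_mem this hx)

theorem exists_tq_hyp [FiniteDimensional F V] {W : Submodule F V} {l₁ l₂ : Dual F V}
    (h1 : ∃ a ∈ W, l₁ a ≠ 0) (h2 : ∃ a ∈ W, l₂ a ≠ 0) :
    ∃ g ∈ SLV F V, g ∈ stab W ∧ ∀ x, l₁ x = 0 ↔ l₂ (g x) = 0 := by
  obtain ⟨a, ha, h1, h2⟩ : ∃ a ∈ W, l₁ a ≠ 0 ∧ l₂ a ≠ 0 := by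
    obtain ⟨a, ha, h1⟩ := h1
    obtain ⟨b, hb, h2⟩ := h2
    by_cases h3 : l₂ a = 0
    · by_cases h4 : l₁ b = 0
      · exact ⟨a + b, W.add_mem ha hb, by simpa [h4], by simpa [h3]⟩
      · exact ⟨b, hb, h4, h2⟩
    · exact ⟨a, ha, h1, h3⟩
  have h : ((l₁ a)⁻¹ • l₁ - (l₂ a)⁻¹ • l₂) a = 0 := by simp [h1, h2]
  refine ⟨tq _ a h, tq_mem _ _ _, tq_mem_stab _ h ha, fun x => ?_⟩
  have : l₂ (tq _ a h x) = (l₁ a)⁻¹ * l₂ a * l₁ x := by
    simp only [tq_apply, map_add, map_smul, LinearMap.sub_apply, LinearMap.smul_apply, smul_eq_mul]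
    field_simp; ring
  simp [this, h1, h2]

theorem maxIn_SLV [FiniteDimensional F V] (l : Dual F V) :
    MaxIn (SLV F V) (stab (LinearMap.ker l)) := by
  intro K hK hM
  refine or_iff_not_imp_left.2 fun h g hg => ?_
  obtain ⟨k, hk, hk'⟩ := SetLike.not_le_iff_exists.1 h
  by_cases hg' : g ∈ stab (LinearMap.ker l)
  · exact hM ⟨hg, hg'⟩
  have key : ∀ g : V ≃ₗ[F] V, g ∉ stab (LinearMap.ker l) →
      ∃ a ∈ LinearMap.ker l, (l ∘ₗ (g.symm : V →ₗ[F] V)) a ≠ 0 := by
    intro g hg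
    by_contra hh
    push Not at hh
    exact hg ((stab _).inv_mem_iff.1 (mem_stab_of_le hh))
  obtain ⟨m, hm, hm', h3⟩ := exists_tq_hyp (key k hk') (key g hg')
  have : g⁻¹ * m * k ∈ K := hM ⟨(SLV F V).mul_mem ((SLV F V).mul_mem ((SLV F V).inv_mem hg) hm) (hK hk), fun x => by
    simpa using h3 (k x)⟩
  have h4 := K.mul_mem (K.mul_mem (hM ⟨hm, hm'⟩) hk) (K.inv_mem this)
  simpa [mul_assoc] using h4

theorem exists_ker_eq [FiniteDimensional F V] {Y : Submodule F V} (h : finrank F Y + 1 = finrank F V) :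
    ∃ l : Dual F V, l ≠ 0 ∧ Y = LinearMap.ker l := by
  obtain ⟨l, hl, hY⟩ := Y.exists_le_ker_of_lt_top (by
    rw [lt_top_iff_ne_top]; rintro rfl; simp at h)
  exact ⟨l, hl, Submodule.eq_of_le_of_finrank_eq hY (by
    have := Module.Dual.finrank_ker_add_one_of_ne_zero hl; omega)⟩

section main
variable {p : ℕ} [Fact p.Prime] [CharP F p] [Finite F] [FiniteDimensional F V]
  {Γ : Subgroup ((V ≃ₗ[F] V) × (V ≃ₗ[F] V))}

theorem le_HQ_of_normal (hn : 2 ≤ finrank F V) {l : Dual F V} (hl : l ≠ 0)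
    {N : Subgroup (V ≃ₗ[F] V)} (hN : IsPGroup p N) (h1 : N ≤ stab (LinearMap.ker l))
    (h2 : ∀ m ∈ SLV F V, m ∈ stab (LinearMap.ker l) → ∀ g ∈ N, m * g * m⁻¹ ∈ N) :
    N ≤ HQ (LinearMap.ker l) := by
  have : Finite V := Module.finite_of_finite F
  obtain ⟨v, hv⟩ := exists_eq_one_of_ne hl
  have hP := pack_levL (p := p) hv hn
  have := hP.1
  obtain ⟨y, hy, hy0, hyf⟩ := exists_fixed hN (A := LinearMap.ker l)
    (fun g hg x hx => (h1 hg x).1 hx) (Submodule.nontrivial_iff_ne_bot.1 this)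
  have key := hP.irr' (A := (fixSp N).comap (LinearMap.ker l).subtype) (by
    rintro h ⟨g, hg, c, hc1, hc2⟩ x hx
    have hs : g ∈ stab (LinearMap.ker l) := mem_stab_of_le fun w hw => by
      rw [hc2 ⟨w, hw⟩]; exact Submodule.smul_mem _ _ (h _).2
    have := fixSp_inv (m := g) (fun k hk => by
      simpa using h2 g⁻¹ (inv_mem hg) (inv_mem hs) k hk) hx
    rw [Submodule.subtype_apply, hc2, Submodule.smul_mem_iff _ c.ne_zero] at this
    exact this) (by
    rw [Submodule.ne_bot_iff]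
    exact ⟨⟨y, hy⟩, hyf, fun h => hy0 (congrArg Subtype.val h)⟩)
  refine fun g hg => ⟨fun x => ?_, fun y hy => key ⟨y, hy⟩ g hg⟩
  obtain ⟨k, hk⟩ := hN.unip4 hg
  have h3 : ∀ m : ℕ, l ((g ^ m) v) = l (g v) ^ m := by
    intro m
    induction m with
    | zero => simp [hv]
    | succ m ih => rw [pow_succ', LinearEquiv.mul_apply, apply_of_stab hv (h1 hg), ih, pow_succ']
  have h4 : l (g v) = 1 := eq_one_of_pow_char p (k := k) (by rw [← h3, hk]; simpa)
  rw [LinearMap.mem_ker, map_sub, apply_of_stab hv (h1 hg), h4, one_mul, sub_self]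

theorem ulift_HQ_le (hc : Corr (SLV F V) (SLV F V) Γ) (hn : 2 ≤ finrank F V) {l : Dual F V}
    (hl : l ≠ 0) {Y : Submodule F V} (h : Rel Γ (LinearMap.ker l) Y) :
    ulift p (swp Γ) (HQ Y) ≤ HQ (LinearMap.ker l) := by
  have : Finite V := Module.finite_of_finite F
  refine le_HQ_of_normal hn hl (hc.symm.isPGroup_ulift (HQ_isPGroup Y)) (fun g hg => ?_)
    fun m hm hm' g hg => ?_
  · obtain ⟨-, g', h1, h2⟩ := (hc.symm.mem_ulift (HQ_isPGroup Y)).1 hg
    exact (h _ _ h2).2 (HQ_le_stab Y h1)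
  · obtain ⟨m', h1⟩ := hc.ex1 m hm
    exact hc.symm.conj_mem_ulift (HQ_isPGroup Y) (m := m') h1
      (fun _ => conj_mem_HQ ((h _ _ h1).1 hm')) hg

include p in
theorem SL_thmA (hc : Corr (SLV F V) (SLV F V) Γ) (hn : 2 ≤ finrank F V) {l : Dual F V}
    (hl : l ≠ 0) :
    ∃ Y, Rel Γ (LinearMap.ker l) Y ∧ (finrank F Y = 1 ∨ finrank F Y + 1 = finrank F V) := by
  have : Finite V := Module.finite_of_finite F
  have : Nontrivial V := finrank_pos_iff (R := F).1 (by omega)
  obtain ⟨v, hv⟩ := exists_eq_one_of_ne hl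
  have hk := Module.Dual.finrank_ker_add_one_of_ne_zero hl
  have hQ := HQ_isPGroup (p := p) (LinearMap.ker l)
  set Y := fixSp (ulift p Γ (HQ (LinearMap.ker l))) with hY
  obtain ⟨y, -, hy0, hyf⟩ := exists_fixed (hc.isPGroup_ulift hQ) (A := ⊤) (fun _ _ _ _ => trivial)
    top_ne_bot
  obtain ⟨x, hx⟩ : ∃ x, x ∉ Y := by
    by_contra hh
    push Not at hh
    obtain ⟨a, ha⟩ := (finrank_pos_iff_exists_ne_zero (R := F) (M := LinearMap.ker l)).1 (by omega)
    obtain ⟨g', h1, h2⟩ := hc.exists_ulift hQ (HQ_le_SLV (p := p) _) (tk_mem a)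
    have h3 : g' = 1 := LinearEquiv.ext fun x => hh x g' h1
    have h4 := hc.eq_one_of_unip (h3 ▸ h2) (hQ.unip4 (tk_mem a))
    exact ha (by simpa [tk_apply, hv] using LinearEquiv.congr_fun h4 v)
  have hR : Rel Γ (LinearMap.ker l) Y := hc.rel_of_max (maxIn_SLV l) (fun g g' hg hs =>
    mem_stab_of_le fun x hx => fixSp_inv (fun k hk => by
      simpa using hc.conj_mem_ulift hQ (Γ.inv_mem hg) (fun _ => conj_mem_HQ (inv_mem hs)) hk) hx)
    (fun h => by
      obtain ⟨g, hg, h1⟩ := exists_SLV_trans hn hy0 (fun h => hx (h ▸ Y.zero_mem) : x ≠ 0)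
      exact hx (h1 ▸ (h hg y).1 hyf))
  refine ⟨Y, hR, ?_⟩
  have := finite_linearEquiv (F := F) (V := V)
  have h1 := (card_le_card_HQ Y).trans ((hc.symm.card_ulift (HQ_isPGroup (p := p) Y)
    (HQ_le_SLV (p := p) Y)).symm.le.trans ((Subgroup.card_le_of_le
      (ulift_HQ_le hc hn hl hR)).trans (card_HQ_ker_le hv)))
  rw [Nat.pow_le_pow_iff_right Finite.one_lt_card] at h1
  have h2 : 0 < finrank F Y := by
    rw [finrank_pos_iff_exists_ne_zero]
    exact ⟨⟨y, hyf⟩, fun h => hy0 (congrArg Subtype.val h)⟩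
  have h3 : finrank F Y < finrank F V := Submodule.finrank_lt fun h => hx (h ▸ trivial)
  obtain ⟨a, ha⟩ := Nat.exists_eq_add_of_lt h2
  obtain ⟨b, hb⟩ := Nat.exists_eq_add_of_lt h3
  rw [hb, ha] at h1 hk
  rw [show 0 + a + 1 + b + 1 - (0 + a + 1) = b + 1 by omega] at h1
  have : a * b = 0 := by nlinarith
  rcases Nat.mul_eq_zero.1 this with h | h <;> omega

include p in
theorem SL_thmN (hc : Corr (SLV F V) (SLV F V) Γ) (hn : 2 ≤ finrank F V) {l l' : Dual F V}
    {v v' : V} (hv : l v = 1) (hl' : l' ≠ 0) (hv' : v' ≠ 0)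
    (h1 : Rel Γ (LinearMap.ker l) (LinearMap.ker l'))
    (h2 : Rel Γ (Submodule.span F {v}) (Submodule.span F {v'})) :
    ∃ T, SLV F V ≤ agree Γ T := by
  have : Finite V := Module.finite_of_finite F
  have hl : l ≠ 0 := fun h => by simp [h] at hv
  have hv0 : v ≠ 0 := fun h => by simp [h] at hv
  have hk := Module.Dual.finrank_ker_add_one_of_ne_zero hl
  have hQ := fun l : Dual F V => HQ_isPGroup (p := p) (LinearMap.ker l)
  have lift1 : ∀ a : LinearMap.ker l, ∃ g' ∈ HQ (LinearMap.ker l'), (tk a, g') ∈ Γ := fun a => by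
    obtain ⟨g', h3, h4⟩ := hc.exists_ulift (hQ l) (HQ_le_SLV (p := p) _) (tk_mem a)
    exact ⟨g', ulift_HQ_le hc.symm hn hl' h1.symm h3, h4⟩
  wlog hv1 : l' v' = 1 generalizing v'
  · have h3 : l' v' ≠ 0 := by
      intro h
      obtain ⟨a, ha⟩ := (finrank_pos_iff_exists_ne_zero (R := F) (M := LinearMap.ker l)).1 (by omega)
      obtain ⟨g', h3, h4⟩ := lift1 a
      obtain ⟨c, hc⟩ := mem_stab_span.1 ((h2 _ _ h4).2 (mem_stab_span.2 ⟨1, by
        rw [h3.2 v' h, one_smul]⟩))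
      have h5 := ((hQ l).unip4 (tk_mem a)).apply_eq hc
      exact ha (by simpa [tk_apply, hv] using h5)
    refine this (v' := (l' v')⁻¹ • v') (smul_ne_zero (inv_ne_zero h3) hv') ?_ (by simp [h3])
    rwa [Submodule.span_singleton_smul_eq (inv_ne_zero h3).isUnit]
  obtain ⟨φ, hφ⟩ := exists_addEquiv_of_rel
    (fun (a : LinearMap.ker l) (b : LinearMap.ker l') => (tk a, tk b) ∈ Γ)
    (fun a => by
      obtain ⟨g', h3, h4⟩ := lift1 a
      obtain ⟨b, rfl⟩ := exists_tk hv1 h3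
      exact ⟨b, h4⟩)
    (fun b => by
      obtain ⟨g, h3, h4⟩ := hc.symm.exists_ulift (hQ l') (HQ_le_SLV (p := p) _) (tk_mem b)
      obtain ⟨a, rfl⟩ := exists_tk hv (ulift_HQ_le hc hn hl h1 h3)
      exact ⟨a, h4⟩)
    (fun a b b' h h' => (tk_inj hv1 (hc.unip_unique h h'
      ((hQ l').unip4 (tk_mem b)) ((hQ l').unip4 (tk_mem b')))))
    (fun a a' b h h' => (tk_inj hv (hc.symm.unip_unique h h'
      ((hQ l).unip4 (tk_mem a)) ((hQ l).unip4 (tk_mem a')))))
    (fun a a' b b' h h' => by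
      have := Γ.mul_mem h h'
      rwa [Prod.mk_mul_mk, tk_mul, tk_mul] at this)
  -- equivariance
  have equi : ∀ g g', (g, g') ∈ Γ → g ∈ stab (LinearMap.ker l) → g ∈ stab (Submodule.span F {v}) →
      ∃ (c c' : Fˣ), ∃ h ∈ levL l v, ∃ h' ∈ levL l' v', g v = (c : F) • v ∧ g' v' = (c' : F) • v' ∧
        (∀ w : LinearMap.ker l, g w = (c : F) • (h w : V)) ∧
        (∀ w : LinearMap.ker l', g' w = (c' : F) • (h' w : V)) ∧
        ∀ w, φ (h w) = h' (φ w) := by
    intro g g' hg s1 s2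
    obtain ⟨c, hc1⟩ := mem_stab_span.1 s2
    obtain ⟨c', hc2⟩ := mem_stab_span.1 ((h2 _ _ hg).1 s2)
    have hc0 : c ≠ 0 := fun h => hv0 (g.injective (by simp [hc1, h]))
    have hc0' : c' ≠ 0 := fun h => hv' (g'.injective (by simp [hc2, h]))
    have s1' := (h1 _ _ hg).1 s1
    obtain ⟨h, hh, e1⟩ := exists_mem_levL (hc.mem1 hg) s1 (c := Units.mk0 c hc0) hc1
    obtain ⟨h', hh', e2⟩ := exists_mem_levL (hc.mem2 hg) s1' (c := Units.mk0 c' hc0') hc2
    refine ⟨_, _, h, hh, h', hh', hc1, hc2, e1, e2, fun w => (hφ _ _).1 ?_⟩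
    have := Γ.mul_mem (Γ.mul_mem hg ((hφ w _).2 rfl)) (Γ.inv_mem hg)
    rwa [Prod.inv_mk, Prod.mk_mul_mk, Prod.mk_mul_mk,
      conj_tk hv s1 (by simp [hc1, hv]) (e1 w).symm,
      conj_tk hv1 s1' (by simp [hc2, hv1]) (e2 _).symm] at this
  obtain ⟨ρ, hρ⟩ := (pack_levL (p := p) hv1 hn).semilinear φ (by
    rintro h' ⟨g', hg', c', e1, e2⟩
    obtain ⟨g, hg⟩ := hc.ex2 g' hg'
    obtain ⟨c, c'', h, -, h'', -, -, e3, -, e4, e5⟩ := equi g g' hg
      ((h1 _ _ hg).2 (mem_stab_of_le fun w hw => by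
        rw [e2 ⟨w, hw⟩]; exact Submodule.smul_mem _ _ (h' _).2))
      ((h2 _ _ hg).2 (mem_stab_span.2 ⟨_, e1⟩))
    refine ⟨h, fun x => (e5 x).trans (Subtype.ext ?_)⟩
    have e6 : (c'' : F) = c' := smul_left_injective F hv' (e3.symm.trans e1)
    exact smul_right_injective V c'.ne_zero (by simp only; rw [← e2, e4, e6]))
  let π : V →+ LinearMap.ker l := AddMonoidHom.mk' (fun x => ⟨x - l x • v, by simp [hv]⟩)
    fun x y => Subtype.ext (by simp [add_smul]; abel)
  let T0 : V →+ V := AddMonoidHom.mk' (fun x => φ (π x) + ρ (l x) • v') fun x y => by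
    simp [add_smul]; abel
  have hT0 : ∀ (a : LinearMap.ker l) (c : F), T0 (a + c • v) = φ a + ρ c • v' := fun a c => by
    have e1 : l (a + c • v) = c := by simp [hv, ker_apply]
    have e2 : π (a + c • v) = a := Subtype.ext (by
      change _ - _ = _
      rw [e1, add_sub_cancel_right])
    change (φ (π _) : V) + ρ (l _) • v' = _
    rw [e1, e2]
  have dec : ∀ x, ∃ (a : LinearMap.ker l) (c : F), x = a + c • v := fun x =>
    ⟨π x, l x, (sub_add_cancel _ _).symm⟩
  have hlT : ∀ x, l' (T0 x) = ρ (l x) := fun x => by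
    obtain ⟨a, c, rfl⟩ := dec x
    rw [hT0]
    simp [hv, hv1, ker_apply]
  have hinj : Function.Injective T0 := by
    rw [injective_iff_map_eq_zero]
    intro x hx
    have e1 := hlT x
    obtain ⟨a, c, rfl⟩ := dec x
    rw [hx] at e1
    have e2 : c = 0 := by simpa [hv, ker_apply] using e1.symm
    rw [hT0, e2] at hx
    simpa [e2] using hx
  let T : GamL F V := ⟨AddEquiv.ofBijective T0 (Finite.injective_iff_bijective.1 hinj), ρ,
    fun c x => by
      obtain ⟨a, d, rfl⟩ := dec x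
      change T0 _ = _ • T0 _
      rw [smul_add, smul_smul, ← Submodule.coe_smul, hT0, hT0, hρ]
      simp [smul_smul]⟩
  have hT : ∀ (a : LinearMap.ker l) (c : F), T.T (a + c • v) = φ a + ρ c • v' := hT0
  have hTa : ∀ a : LinearMap.ker l, T.T a = φ a := fun a => by simpa using hT a 0
  have hTv : T.T v = v' := by simpa using hT 0 1
  have hQT : ∀ a : LinearMap.ker l, (tk a, tk (φ a)) ∈ semi T := fun a =>
    ⟨1, fun y => by
      simp only [tk_apply, map_add, T.smul, hTa, Units.val_one, one_smul]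
      rw [show l' (T.T y) = ρ (l y) from hlT y]⟩
  have hM : ∀ g ∈ SLV F V, g ∈ stab (LinearMap.ker l) → g ∈ agree Γ T := by
    intro g hg s1
    have e0 : l (g v) ≠ 0 := fun h => by simpa [hv] using (s1 v).2 h
    let a : LinearMap.ker l := ⟨v - (l (g v))⁻¹ • g v, by simp [hv, e0]⟩
    have e1 : tk a * g ∈ stab (Submodule.span F {v}) := mem_stab_span.2 ⟨l (g v), by
      simp [tk_apply, a, smul_sub, smul_smul, e0]⟩
    have e2 := mem_agree ((hφ a _).2 rfl) (hQT a)
    obtain ⟨g', hg'⟩ := hc.ex1 _ (mul_mem (HQ_le_SLV (p := p) _ (tk_mem a)) hg)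
    obtain ⟨c, c', h, -, h', -, e3, e4, e5, e6, e7⟩ := equi _ _ hg'
      (mul_mem (HQ_le_stab _ (tk_mem a)) s1) e1
    have e8 : tk a * g ∈ agree Γ T := mem_agree hg' ⟨c' * (Units.map (ρ : F →* F) c)⁻¹,
      fun y => by
        obtain ⟨w, d, rfl⟩ := dec y
        rw [hT, map_add, map_smul, e6, e4, map_add (tk a * g), map_smul, e5, e3, smul_comm d,
          ← smul_add (c : F), T.smul, hT, e7, smul_smul]
        have : ρ c ≠ 0 := by simp
        simp [T, smul_smul]
        congr 1; field_simp⟩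
    simpa using mul_mem (inv_mem e2) e8
  have hpt : ∀ z, z ≠ 0 → Rel Γ (Submodule.span F {z}) (Submodule.span F {T.T z}) := by
    intro z hz
    by_cases hlz : l z = 0
    · obtain ⟨g, hg, rfl⟩ := exists_SLV_trans hn hv0 hz
      obtain ⟨g', hg'⟩ := hc.ex1 g hg
      have e1 := h2.map_span hg'
      obtain ⟨y, hy⟩ := T.T.surjective (g' v')
      have hy0 : y ≠ 0 := fun h => hv' (g'.injective (by simp [← hy, h]))
      obtain ⟨c, hc'⟩ := mem_span_of_fix_HQ (x := y) hz fun k hk => by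
        have k1 : k ∈ SLV F V := HQ_le_SLV (p := p) (F := F) _ hk
        obtain ⟨k', hk'⟩ := hc.ex1 k k1
        have k2 : k ∈ stab (LinearMap.ker l) := mem_stab_of_le fun w hw => by
          have := (Submodule.span_singleton_le_iff_mem _ (LinearMap.ker l)).2 hlz (hk.1 w)
          simpa using Submodule.add_mem _ this hw
        have k3 := rel_semi T (Submodule.span F {y}) _ _ (hc.mem_semi (hM k k1 k2) hk')
        rw [GamL.mapS_span, hy, ← e1 _ _ hk'] at k3
        exact ((HQ_isPGroup (p := p) _).unip4 hk).fix_of_stab (k3.2 (HQ_le_stab _ hk))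
      have hc0 : c ≠ 0 := fun h => hy0 (by simp [← hc', h])
      rwa [← hy, ← hc', T.smul, Submodule.span_singleton_smul_eq (by simpa using hc0)] at e1
    · obtain ⟨a, c, rfl⟩ := dec z
      have hc0 : c ≠ 0 := fun h => hlz (by simp [h, ker_apply])
      have e1 := h2.map_span ((hφ (c⁻¹ • a) _).2 rfl)
      rw [← Submodule.span_singleton_smul_eq hc0.isUnit (tk _ v),
        ← Submodule.span_singleton_smul_eq (r := ρ c) (by simpa using hc0) (tk _ v')] at e1
      rw [hT]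
      convert e1 using 3
      · simp [tk_apply, hv, smul_smul, hc0, add_comm]
      · simp [tk_apply, hv1, smul_smul, hc0, add_comm, hρ]
  refine ⟨T, fun g hg => ?_⟩
  obtain ⟨g', hg'⟩ := hc.ex1 g hg
  refine mem_agree hg' (mem_semi_of_isScal (conj_mem_semi T g) ?_)
  obtain ⟨c, hc'⟩ := LinearMap.exists_eq_smul_id_of_forall_notLinearIndependent
    (f := ((GamL.conj T g)⁻¹ * g' : V ≃ₗ[F] V).toLinearMap) fun x => by
      obtain ⟨z, rfl⟩ := T.T.surjective x
      by_cases hz : z = 0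
      · exact fun h => h.ne_zero 0 (by simp [hz])
      have e1 := le_of_stab_SLV (W := Submodule.span F {g' (T.T z)})
        (W' := Submodule.span F {T.T (g z)}) (by simpa using hz) fun k hk =>
          (hc.stab_congr ((hpt z hz).map_span hg') (hpt _ (by simpa using hz)) hk).1
      obtain ⟨d, hd⟩ := Submodule.mem_span_singleton.1
        (e1 (Submodule.mem_span_singleton_self _))
      rw [LinearIndependent.pair_iff' (by simpa using hz)]
      push Not
      refine ⟨d, ?_⟩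
      change _ = (GamL.conj T g).symm (g' _)
      rw [LinearEquiv.eq_symm_apply, map_smul, GamL.conj_T, hd]
  exact ⟨c, fun x => by simpa using LinearMap.congr_fun hc' x⟩

end main

theorem rel_of_ex {V' : Type*} [AddCommGroup V'] [Module F V'] {G : Subgroup (V ≃ₗ[F] V)}
    {G' : Subgroup (V' ≃ₗ[F] V')} {Γ : Subgroup ((V ≃ₗ[F] V) × (V' ≃ₗ[F] V'))} (hc : Corr G G' Γ)
    {W : Submodule F V} {W' : Submodule F V'}
    (h : ∀ g ∈ G, ∃ g', (g, g') ∈ Γ ∧ (g ∈ stab W ↔ g' ∈ stab W')) : Rel Γ W W' := by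
  intro g g' hg
  obtain ⟨a, ha, h1⟩ := h g (hc.mem1 hg)
  have hs := hc.isScal ha hg
  rw [h1]
  refine ⟨fun h => ?_, fun h => ?_⟩
  · simpa using (stab _).mul_mem h (hs.mem_stab _)
  · simpa using (stab _).mul_mem h ((stab _).inv_mem (hs.mem_stab _))

theorem UGen.map_mem {p : ℕ} {G : Subgroup (V ≃ₗ[F] V)} (h : UGen p G)
    (φ : (V ≃ₗ[F] V) ≃* (V ≃ₗ[F] V)) (hφ : ∀ g ∈ G, Unip p g → φ g ∈ G) {g : V ≃ₗ[F] V}
    (hg : g ∈ G) : φ g ∈ G := h (G.comap φ.toMonoidHom) hφ hg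

section coords
open Matrix
variable {ι : Type*} [Fintype ι] [DecidableEq ι]

/-- A field automorphism applied to the coordinates. -/
def coordG (ι : Type*) (ρ : RingAut F) : GamL F (ι → F) :=
  ⟨AddEquiv.piCongrRight fun _ => ρ.toAddEquiv, ρ, fun c x => funext fun i => map_mul ρ c (x i)⟩

omit [Fintype ι] [DecidableEq ι] in
@[simp] theorem coordG_T (ρ : RingAut F) (x : ι → F) (i : ι) : (coordG ι ρ).T x i = ρ (x i) := rfl

theorem slLin_range : (slLin ι F).range = SLV F (ι → F) := by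
  ext g
  exact ⟨by rintro ⟨A, rfl⟩; exact det_slLin A, fun h => exists_slLin h⟩

theorem uGen_SLV {p : ℕ} [Fact p.Prime] [CharP F p] : UGen p (SLV F (ι → F)) := by
  intro K hK g hg
  obtain ⟨A, rfl⟩ := exists_slLin hg
  refine SL_transvection_induction (fun A => slLin ι F A ∈ K) (by simp) (fun i j h c => ?_)
    (fun A B ha hb => by simpa using K.mul_mem ha hb) A
  refine hK _ (det_slLin _) ((HQ_isPGroup (Submodule.span F {Pi.single i 1})).unip4 ?_)
  have : ∀ x, slLin ι F (SpecialLinearGroup.transvection h c) x = x + (c * x j) • Pi.single i 1 := by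
    intro x
    rw [transvection_eq_tv, slLin_apply, tv_coe, one_add_vecMulVec_mulVec]
    ext k; by_cases hk : k = i <;> simp [hk, mul_comm]
  refine ⟨fun x => ?_, fun y hy => ?_⟩
  · rw [this, add_sub_cancel_left]
    exact Submodule.smul_mem _ _ (Submodule.mem_span_singleton_self _)
  · obtain ⟨d, rfl⟩ := Submodule.mem_span_singleton.1 hy
    simp [this, h.symm]

/-- The inverse transpose. -/
noncomputable def invT (ι : Type*) [Fintype ι] [DecidableEq ι] (F : Type*) [Field F] :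
    MulAut ((ι → F) ≃ₗ[F] (ι → F)) :=
  (glEquiv.symm.trans (glDual (Equiv.refl ι))).trans glEquiv

theorem invT_dot (g : (ι → F) ≃ₗ[F] (ι → F)) (x y : ι → F) : invT ι F g x ⬝ᵥ g y = x ⬝ᵥ y := by
  obtain ⟨A, rfl⟩ := (glEquiv (ι := ι) (F := F)).surjective g
  have : ((glDual (Equiv.refl ι) A : GL ι F) : Matrix ι ι F) = ((A⁻¹ : GL ι F) : Matrix ι ι F)ᵀ := by
    ext i j; exact glDual_apply _ A i j
  simp only [invT, MulEquiv.trans_apply, MulEquiv.symm_apply_apply, glEquiv_apply, this]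
  rw [mulVec_transpose, ← dotProduct_mulVec, mulVec_mulVec, ← Units.val_mul, inv_mul_cancel]
  simp

/-- The functional given by the dot product. -/
def dotL (v : ι → F) : Dual F (ι → F) := dotProductBilin F F v

omit [DecidableEq ι] in
theorem dotL_apply (v x : ι → F) : dotL v x = v ⬝ᵥ x := rfl

theorem dotL_ne {v : ι → F} (hv : v ≠ 0) : dotL v ≠ 0 := fun h =>
  hv (dotProduct_eq_zero _ fun w => LinearMap.congr_fun h w)

theorem stab_dual {g g' : (ι → F) ≃ₗ[F] (ι → F)} (h : ∀ x y, g' x ⬝ᵥ g y = x ⬝ᵥ y) {v : ι → F}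
    (hv : v ≠ 0) : g ∈ stab (LinearMap.ker (dotL v)) ↔ g' ∈ stab (Submodule.span F {v}) := by
  rw [mem_stab_span]
  constructor
  · intro hg
    obtain ⟨w, hw⟩ := exists_eq_one_of_ne (dotL_ne hv)
    have h0 : dotL v (g w) ≠ 0 := fun h => by simpa [hw] using (hg w).2 h
    refine ⟨(dotL v (g w))⁻¹, dotProduct_eq _ _ fun y => ?_⟩
    obtain ⟨y, rfl⟩ := g.surjective y
    rw [h, smul_dotProduct, ← dotL_apply v (g y), apply_of_stab hw hg y, smul_eq_mul,
      inv_mul_cancel_left₀ h0, dotL_apply]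
  · rintro ⟨c, hc⟩
    have hc0 : c ≠ 0 := fun h => hv (g'.injective (by simp [hc, h]))
    refine mem_stab_of_le fun y hy => ?_
    have := h v y
    rw [hc, smul_dotProduct, ← dotL_apply v y, hy] at this
    simpa [hc0, dotL_apply] using this

theorem card_mulAut_SLV [Finite F] {p : ℕ} [Fact p.Prime] {f : ℕ} (hF : Nat.card F = p ^ f)
    (hn : 2 ≤ Fintype.card ι) : Nat.card (MulAut (PQ (SLV F (ι → F)))) =
      (if Fintype.card ι = 2 then 1 else 2) * f * Nat.card (SpecialLinearGroup ι F) := by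
  have := charP_of_card_eq hF
  have hn' : 2 ≤ finrank F (ι → F) := by simpa using hn
  have hP := pack_SLV (p := p) hn'
  have hZ := hP.zs
  have hall : ∀ (φ : MulAut ((ι → F) ≃ₗ[F] (ι → F))), ∀ g ∈ SLV F (ι → F), φ g ∈ SLV F (ι → F) :=
    fun φ g hg => (uGen_SLV (p := p)).map_mem φ (fun g _ ug => (ug.map φ.toMonoidHom).mem_SLV) hg
  have hS : ∀ a ∈ (⊤ : Subgroup (GamL F (ι → F))), ∀ g ∈ SLV F (ι → F),
    GamL.conj a g ∈ SLV F (ι → F) := fun a _ => hall _
  set H := (autHom _ ⊤ hS).range with hH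
  have hcard : Nat.card H = f * Nat.card (SpecialLinearGroup ι F) := by
    have h1 := card_range_autHom (hS := hS) hP uGen_SLV fun _ => trivial
    have : Nonempty ι := Fintype.card_pos_iff.1 (by omega)
    rw [GamL.card_eq ⊤ fun ρ => ⟨coordG ι ρ, trivial, rfl⟩, card_ringAut hF, Subgroup.comap_top,
      Subgroup.card_top, ← Nat.card_congr glEquiv.toEquiv, ← card_units_mul_card_SL,
      Nat.card_units, mul_left_comm] at h1
    exact (Nat.eq_of_mul_eq_mul_left (by have := Finite.one_lt_card (α := F); omega) h1).symm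
  let δ : MulAut (PQ (SLV F (ι → F))) :=
    quotAut _ (resMulAut (MonoidHom.id _) _ hall (invT ι F))
  have hδ : ∀ v : ι → F, v ≠ 0 → Rel (gr δ) (LinearMap.ker (dotL v)) (Submodule.span F {v}) :=
    fun v hv => rel_of_ex (corr_gr hZ hZ δ) fun g hg =>
      ⟨invT ι F g, ⟨hg, hall _ g hg, rfl⟩, stab_dual (invT_dot g) hv⟩
  have hker := fun (l : Dual F (ι → F)) (hl : l ≠ 0) => Module.Dual.finrank_ker_add_one_of_ne_zero hl
  have eqS : ∀ {W W' : Submodule F (ι → F)}, W ≠ ⊥ → W' ≠ ⊥ →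
      (∀ g ∈ SLV F (ι → F), g ∈ stab W ↔ g ∈ stab W') → W = W' := fun h1 h2 h =>
    le_antisymm (le_of_stab_SLV h2 fun g hg => (h g hg).1) (le_of_stab_SLV h1 fun g hg => (h g hg).2)
  have hne : ∀ {W : Submodule F (ι → F)}, 0 < finrank F W → W ≠ ⊥ := by
    rintro W h rfl; simp at h
  have key : ∀ (α : MulAut (PQ (SLV F (ι → F)))) (l l' : Dual F (ι → F)), l ≠ 0 → l' ≠ 0 →
      Rel (gr α) (LinearMap.ker l) (LinearMap.ker l') → α ∈ H := by
    intro α l l' hl hl' h
    have hc := corr_gr hZ hZ α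
    obtain ⟨v, hv⟩ := exists_eq_one_of_ne hl
    have hv0 : v ≠ 0 := fun h => by simp [h] at hv
    obtain ⟨Y, h1, h2⟩ := SL_thmA (p := p) (corr_gr hZ hZ (δ.trans α)) hn' (dotL_ne hv0)
    have h3 : Rel (gr α) (Submodule.span F {v}) Y := by
      have := (hδ v hv0).gr_symm.gr_trans hZ hZ h1
      rwa [show δ.symm.trans (δ.trans α) = α from MulEquiv.ext fun x => by simp] at this
    have h4 : finrank F Y = 1 := by
      refine h2.elim id fun h2 => ?_
      obtain ⟨l'', hl'', rfl⟩ := exists_ker_eq h2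
      obtain ⟨g', hg', -, h5⟩ := exists_tq_hyp (W := ⊤) (l₁ := l') (l₂ := l'')
        (by simpa using DFunLike.ne_iff.1 hl') (by simpa using DFunLike.ne_iff.1 hl'')
      obtain ⟨g, hg⟩ := hc.ex2 g' hg'
      have h6 := h.map hg
      have h7 : (LinearMap.ker l').map (g' : (ι → F) →ₗ[F] (ι → F)) = LinearMap.ker l'' := by
        ext x
        simpa [Submodule.mem_map_equiv] using h5 (g'.symm x)
      rw [h7] at h6
      have h8 := LinearEquiv.finrank_map_eq g (LinearMap.ker l)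
      have h9 := hker l hl
      have := eqS (by simpa using hv0) (hne (by omega)) fun k hk =>
        hc.symm.stab_congr h3.symm h6.symm hk
      rw [← this, finrank_span_singleton hv0] at h8
      omega
    obtain ⟨v', hv', hv''⟩ := finrank_eq_one_iff'.1 h4
    have h5 : Y = Submodule.span F {(v' : ι → F)} := by
      refine le_antisymm (fun y hy => ?_) ((Submodule.span_singleton_le_iff_mem _ _).2 v'.2)
      obtain ⟨c, hc⟩ := hv'' ⟨y, hy⟩
      exact Submodule.mem_span_singleton.2 ⟨c, congrArg Subtype.val hc⟩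
    obtain ⟨T, hT⟩ := SL_thmN (p := p) hc hn' hv hl' (by simpa using hv') h (h5 ▸ h3)
    exact mem_range_autHom hZ trivial hT
  obtain ⟨v, hv⟩ := (finrank_pos_iff_exists_ne_zero (R := F) (M := ι → F)).1 (by omega)
  have hA := fun α : MulAut (PQ (SLV F (ι → F))) =>
    SL_thmA (p := p) (corr_gr hZ hZ α) hn' (dotL_ne hv)
  split_ifs with h2
  · rw [card_eq_of_range_top (H := H) fun α => ?_, hcard, one_mul]
    obtain ⟨Y, h3, h4⟩ := hA α
    obtain ⟨l', hl', rfl⟩ := exists_ker_eq (Y := Y) (by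
      refine h4.elim (fun h => ?_) id
      simp [h, h2])
    exact key α _ _ (dotL_ne hv) hl' h3
  · rw [card_eq_two_mul (H := H) (t := δ) ?_ fun α => ?_, hcard, mul_assoc]
    · rintro ⟨T, hT⟩
      have h3 := rel_autHom (hS := hS) hZ T (LinearMap.ker (dotL v))
      rw [hT] at h3
      have h4 := hker _ (dotL_ne hv)
      have h5 := T.1.card_mapS (LinearMap.ker (dotL v))
      rw [Module.natCard_eq_pow_finrank (K := F), Module.natCard_eq_pow_finrank (K := F)
        (V := LinearMap.ker _), Nat.pow_right_inj Finite.one_lt_card] at h5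
      have := eqS (by simpa using hv) (hne (by omega)) fun k hk =>
        (corr_gr hZ hZ δ).stab_congr (hδ v hv) h3 hk
      rw [← this, finrank_span_singleton hv] at h5
      simp at h4
      omega
    · obtain ⟨Y, h3, h4 | h4⟩ := hA α
      · right
        obtain ⟨v', hv', hv''⟩ := finrank_eq_one_iff'.1 h4
        have h5 : Y = Submodule.span F {(v' : ι → F)} := by
          refine le_antisymm (fun y hy => ?_) ((Submodule.span_singleton_le_iff_mem _ _).2 v'.2)
          obtain ⟨c, hc⟩ := hv'' ⟨y, hy⟩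
          exact Submodule.mem_span_singleton.2 ⟨c, congrArg Subtype.val hc⟩
        have hv1 : (v' : ι → F) ≠ 0 := by simpa using hv'
        exact key _ _ _ (dotL_ne hv) (dotL_ne hv1)
          ((h5 ▸ h3).gr_trans hZ hZ (hδ _ hv1).gr_symm)
      · left
        obtain ⟨l', hl', rfl⟩ := exists_ker_eq h4
        exact key α _ _ (dotL_ne hv) hl' h3

end coords

end Cfsg.Agent.Class
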