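import Cfsg.Agent.Class.Aut3

/-! Automorphisms of classical groups, IV: images of point stabilizers in formed spaces. -/

set_option autoImplicit false

namespace Cfsg.Agent.Class

open Module
open scoped commutatorElement LinearAlgebra.Projectivization Pointwise

variable {F : Type*} [Field F] {P : FP F} {V : Type*} [AddCommGroup V] [Module F V]
  {P' : FP F} {V' : Type*} [AddCommGroup V'] [Module F V']

namespace FS
variable {f : FS P V} {f' : FS P' V'} {u v : V}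

theorem X_regular (hu : f.Q u = 0) {g : V ≃ₗ[F] V} (hg : g ∈ f.X u hu) {s : V} (hs : f.B u s ≠ 0)
    (h : g s = s) : g = 1 := by
  obtain ⟨w, a, hw, ha, rfl⟩ := hg
  rw [eich_apply, sub_sub, ← add_smul, add_sub_assoc, add_eq_left, sub_eq_zero] at h
  set t := (f.B u s)⁻¹ * (P.ε * f.B w s + P.σ a * f.B u s) with ht
  have h1 : w = t • u := by rw [ht, mul_smul, ← h, smul_smul, inv_mul_cancel₀ hs, one_smul]
  have h2 : t = P.ε * P.σ t + P.σ a := by
    nth_rewrite 1 [ht]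
    nth_rewrite 1 [h1]
    rw [B_smul_left]; field_simp
  ext x
  rw [eich_apply]
  nth_rewrite 1 [h1]
  nth_rewrite 1 [h1]
  rw [B_smul_left, LinearEquiv.coe_one, id]
  match_scalars
  · rfl
  · linear_combination f.B u x * h2

theorem X_ext (hu : f.Q u = 0) {g k : V ≃ₗ[F] V} (hg : g ∈ f.X u hu) (hk : k ∈ f.X u hu) {s : V}
    (hs : f.B u s ≠ 0) (h : g s = k s) : g = k := by
  have := X_regular hu (mul_mem (inv_mem hk) hg) hs (by simp [h])
  exact (inv_mul_eq_one.1 this).symm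

/-- Eichler transformations parametrized by the complement of a hyperbolic pair. -/
def IsHyp.E (h : f.IsHyp u v) (w : f.hperp u v) (a : F) (ha : P.τ a = f.Q w) : V ≃ₗ[F] V :=
  f.eich u w a h.Q1 (mem_hperp.1 w.2).1 ha

section E
variable (h : f.IsHyp u v)

theorem IsHyp.E_mem (w : f.hperp u v) (a : F) (ha : P.τ a = f.Q w) : h.E w a ha ∈ f.X u h.Q1 :=
  eich_mem_X _ _ _

theorem IsHyp.E_apply (w : f.hperp u v) (a : F) (ha : P.τ a = f.Q w) (x : V) :
    h.E w a ha x = x + f.B u x • (w : V) - (P.ε * f.B w x) • u - (P.σ a * f.B u x) • u := rfl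

theorem IsHyp.E_right (w : f.hperp u v) (a : F) (ha : P.τ a = f.Q w) :
    h.E w a ha v = v + w - P.σ a • u := by
  simp [h.E_apply, h.B12, B_comm_zero (mem_hperp.1 w.2).2]

theorem IsHyp.exists_E_right {s : V} (hs : f.Q s = 0) (h1 : f.B u s = 1) :
    ∃ w a ha, h.E w a ha v = s := by
  obtain ⟨a, b, w, hw, rfl⟩ := h.decomp s
  have hb : b = 1 := by simpa [h.B11, h.B12, (mem_hperp.1 hw).1] using h1
  subst hb
  rw [h.Q_decomp _ _ hw, mul_one] at hs
  refine ⟨⟨w, hw⟩, -P.σ a, by rw [map_neg]; linear_combination -hs, ?_⟩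
  rw [h.E_right]
  simp [P.σσ]; abel

theorem IsHyp.exists_E {g : V ≃ₗ[F] V} (hg : g ∈ f.X u h.Q1) : ∃ w a ha, g = h.E w a ha := by
  have hI := X_le_Isom _ hg
  obtain ⟨w, a, ha, h1⟩ := h.exists_E_right (s := g v) (by rw [Isom_Q hI, h.Q2])
    (by rw [← h.B12, ← Isom_B hI u v, X_fix _ hg])
  exact ⟨w, a, ha, X_ext h.Q1 hg (h.E_mem _ _ _) (by simp [h.B12]) h1.symm⟩

theorem IsHyp.E_inj {w w' : f.hperp u v} {a a' : F} {ha : P.τ a = f.Q w} {ha' : P.τ a' = f.Q w'}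
    (e : h.E w a ha = h.E w' a' ha') : w = w' ∧ a = a' := by
  have e1 := LinearEquiv.congr_fun e v
  rw [h.E_right, h.E_right] at e1
  have e2 := congrArg (f.B v) e1
  simp only [map_sub, map_add, map_smul, (mem_hperp.1 w.2).2, (mem_hperp.1 w'.2).2, h.B21,
    smul_eq_mul, sub_right_inj, mul_left_inj' P.ε_ne] at e2
  have e3 := P.σ.injective e2
  subst e3
  exact ⟨by simpa using e1, rfl⟩

theorem IsHyp.E_congr {w w' : f.hperp u v} {a a' : F} {ha : P.τ a = f.Q w} {ha' : P.τ a' = f.Q w'}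
    (e1 : w = w') (e2 : a = a') : h.E w a ha = h.E w' a' ha' := by subst e1 e2; rfl

theorem τ_E_mul {w w' : V} {a a' : F} (ha : P.τ a = f.Q w) (ha' : P.τ a' = f.Q w') :
    P.τ (a + a' + f.B w' w) = f.Q (w + w') := by
  rw [Q_add, map_add, map_add, ha, ha', f.τ_B_comm]

theorem IsHyp.E_mul (w w' : f.hperp u v) (a a' : F) (ha : P.τ a = f.Q w) (ha' : P.τ a' = f.Q w') :
    h.E w a ha * h.E w' a' ha' = h.E (w + w') (a + a' + f.B w' w) (τ_E_mul ha ha') :=
  f.eich_mul _ _ _ _ _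

theorem IsHyp.E_zero : h.E 0 0 (by simp) = 1 := f.eich_zero _

theorem IsHyp.conj_E {g : V ≃ₗ[F] V} (hg : g ∈ f.Isom) {c : F} (hc : g u = c • u)
    {w w' : f.hperp u v} (hw : (w' : V) = P.σ c • g w) {a : F} (ha : P.τ a = f.Q w)
    (ha' : P.τ (c * a * P.σ c) = f.Q w') :
    g * h.E w a ha * g⁻¹ = h.E w' (c * a * P.σ c) ha' := by
  rw [mul_inv_eq_iff_eq_mul]
  ext x
  have e1 : f.B u x = P.σ c * f.B u (g x) := by rw [← B_smul_left, ← hc, Isom_B hg]
  simp only [LinearEquiv.mul_apply, h.E_apply, map_sub, map_add, map_smul, hc, hw, B_smul_left,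
    P.σσ, Isom_B hg, e1, map_mul]
  match_scalars <;> ring

theorem τ_conj' {g : V ≃ₗ[F] V} (hg : g ∈ f.Isom) {c a : F} {w w' : V} (hw : w' = P.σ c • g w)
    (ha : P.τ a = f.Q w) : P.τ (c * a * P.σ c) = f.Q w' := by
  rw [hw, Q_smul, Isom_Q hg, ← ha, ← P.τ_conj, P.σσ]

theorem IsHyp.card_X_le [Finite F] [FiniteDimensional F V] :
    Nat.card (f.X u h.Q1) ≤ Nat.card F ^ finrank F (f.hperp u v) * Nat.card P.τ.ker := by
  have : Finite V := Module.finite_of_finite F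
  have h1 := h.card_partners ⊤ trivial trivial one_ne_zero (c := 0) ⟨0, map_zero _⟩
  rw [inf_top_eq] at h1
  rw [← h1]
  refine Nat.card_le_card_of_injective (fun g => ⟨g.1 v, trivial, ?_, ?_⟩) fun a b hab => ?_
  · rw [← h.B12, ← Isom_B (X_le_Isom _ g.2) u v, X_fix _ g.2]
  · rw [Isom_Q (X_le_Isom _ g.2), h.Q2]
  · exact Subtype.ext (X_ext h.Q1 a.2 b.2 (by simp [h.B12]) (congrArg Subtype.val hab))

include h in
theorem IsHyp.right_of_left {g : V ≃ₗ[F] V} (hg : g ∈ f.Isom) {c d : F} (hc : g u = c • u)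
    (hd : g v = d • v) : P.σ c * d = 1 := by
  rw [← h.B12, ← Isom_B hg u v, hc, hd, B_smul_left, map_smul, h.B12]; simp

omit h in
theorem mem_stab_hperp [FiniteDimensional F V] {g : V ≃ₗ[F] V} (hg : g ∈ f.Isom) {c d : F}
    (hc : g u = c • u) (hd : g v = d • v) : g ∈ stab (f.hperp u v) := by
  refine mem_stab_perp hg (mem_stab_of_le fun x hx => ?_)
  obtain ⟨a, b, rfl⟩ := Submodule.mem_span_pair.1 hx
  exact Submodule.mem_span_pair.2 ⟨a * c, b * d, by simp [hc, hd, smul_smul]⟩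

end E

/-- The Levi factor acting on the complement of a hyperbolic pair. -/
def levF (f : FS P V) (u v : V) : Subgroup (f.hperp u v ≃ₗ[F] f.hperp u v) where
  carrier := {h | ∃ g ∈ f.EO, ∃ c : Fˣ, g u = (c : F) • u ∧ g v = (P.σ c)⁻¹ • v ∧
    ∀ w, (h w : V) = P.σ c • g w}
  mul_mem' := by
    rintro a b ⟨g, hg, c, h1, h2, h3⟩ ⟨g', hg', c', h1', h2', h3'⟩
    exact ⟨g * g', mul_mem hg hg', c' * c, by simp [h1, h1', smul_smul],
      by simp [h2, h2', smul_smul, mul_comm], fun w => by simp [h3, h3', smul_smul, mul_comm]⟩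
  one_mem' := ⟨1, one_mem _, 1, by simp, by simp, fun w => by simp⟩
  inv_mem' := by
    rintro a ⟨g, hg, c, h1, h2, h3⟩
    have hc : P.σ c ≠ 0 := by simp
    refine ⟨g⁻¹, inv_mem hg, c⁻¹, ?_, ?_, fun w => ?_⟩
    · rw [LinearEquiv.coe_inv, LinearEquiv.symm_apply_eq, map_smul, h1, smul_smul]; simp
    · rw [LinearEquiv.coe_inv, LinearEquiv.symm_apply_eq, map_smul, h2, smul_smul]; simp [hc]
    · obtain ⟨w, rfl⟩ := a.surjective w
      simp [h3, smul_smul, hc]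

theorem IsHyp.exists_levF [FiniteDimensional F V] (h : f.IsHyp u v) {g : V ≃ₗ[F] V} (hg : g ∈ f.EO)
    {c d : F} (hc : g u = c • u) (hd : g v = d • v) :
    ∃ k ∈ f.levF u v, ∀ w, (k w : V) = P.σ c • g w := by
  have h1 := h.right_of_left (EO_le_Isom hg) hc hd
  have hc0 : c ≠ 0 := fun h => by simp [h] at h1
  have hs := mem_stab_hperp (EO_le_Isom hg) hc hd
  have : ∀ w, ((scal (f.hperp u v) (Units.mk0 (P.σ c) (by simpa using hc0)) *
      resAut (f.hperp u v) g hs : _ ≃ₗ[F] _) w : V) = P.σ c • g w := fun w => rfl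
  exact ⟨_, ⟨g, hg, Units.mk0 c hc0, hc, by rw [hd, Units.val_mk0, eq_inv_of_mul_eq_one_right h1],
    this⟩, this⟩

/-- The unipotent radical of the stabilizer of a totally singular subspace. -/
def UU (f : FS P V) (Y : Submodule F V) : Subgroup (V ≃ₗ[F] V) where
  carrier := {g | g ∈ f.EO ∧ (∀ y ∈ Y, g y = y) ∧ ∀ x ∈ f.perp Y, g x - x ∈ Y}
  mul_mem' := by
    rintro a b ⟨h0, h1, h2⟩ ⟨h0', h3, h4⟩
    refine ⟨mul_mem h0 h0', fun y hy => by simp [h3 y hy, h1 y hy], fun x hx => ?_⟩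
    have := Y.add_mem (h2 x hx) (h4 x hx)
    rw [← h1 _ (h4 x hx), map_sub] at this
    simpa using this
  one_mem' := ⟨one_mem _, fun _ _ => rfl, fun x _ => by simp⟩
  inv_mem' := by
    rintro a ⟨h0, h1, h2⟩
    have h3 : ∀ y ∈ Y, a⁻¹ y = y := fun y hy => by
      rw [LinearEquiv.coe_inv, LinearEquiv.symm_apply_eq, h1 y hy]
    refine ⟨inv_mem h0, h3, fun x hx => ?_⟩
    have := Y.neg_mem (h2 x hx)
    rw [← h3 _ this] at this
    simpa using this

theorem UU_le_EO (Y : Submodule F V) : f.UU Y ≤ f.EO := fun _ h => h.1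

theorem UU_le_stab (Y : Submodule F V) : f.UU Y ≤ stab Y := fun _ h => fix_le_stab Y h.2.1

theorem conj_mem_UU {Y : Submodule F V} {m g : V ≃ₗ[F] V} (hm : m ∈ f.EO) (hm' : m ∈ stab Y)
    (hg : g ∈ f.UU Y) : m * g * m⁻¹ ∈ f.UU Y := by
  refine ⟨mul_mem (mul_mem hm hg.1) (inv_mem hm), fun y hy => ?_, fun x hx => ?_⟩
  · simp [hg.2.1 (m.symm y) (((stab Y).inv_mem hm' y).1 hy)]
  · simpa using (hm' _).1 (hg.2.2 (m.symm x)
      (((stab _).inv_mem (mem_stab_perp (EO_le_Isom hm) hm') x).1 hx))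

theorem eich_mem_UU {Y : Submodule F V} (hY : f.TS Y) {y w : V} (hy : y ∈ Y) (hw : w ∈ f.perp Y)
    {a : F} (ha : P.τ a = f.Q w) : f.eich y w a (hY.1 y hy) (hw y hy) ha ∈ f.UU Y := by
  refine ⟨eich_mem_EO _ _ _, fun z hz => f.eich_apply_of_orth _ _ _ (hY.2 y hy z hz)
    (B_comm_zero (hw z hz)), fun x hx => ?_⟩
  simpa [eich_apply, hx y hy, sub_sub_cancel_left] using Y.smul_mem _ hy

theorem ts_span_single (hu : f.Q u = 0) : f.TS (Submodule.span F {u}) :=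
  ts_span (by simpa) (by simpa using B_self_of_Q hu)

theorem X_le_UU (hu : f.Q u = 0) : f.X u hu ≤ f.UU (Submodule.span F {u}) := by
  rintro _ ⟨w, a, hw, ha, rfl⟩
  exact eich_mem_UU (ts_span_single hu) (Submodule.mem_span_singleton_self u)
    (mem_perp_singleton.2 hw) ha

/-- The elements fixing the orthogonal complement pointwise. -/
def AA (f : FS P V) (Y : Submodule F V) : Subgroup (V ≃ₗ[F] V) := f.EO ⊓ fix (f.perp Y : Set V)

theorem AA_le_UU {Y : Submodule F V} (hY : f.TS Y) : f.AA Y ≤ f.UU Y := fun g hg =>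
  ⟨hg.1, fun y hy => hg.2 y (hY.le_perp hy), fun x hx => by simp [hg.2 x hx]⟩

theorem conj_mem_AA {Y : Submodule F V} {m g : V ≃ₗ[F] V} (hm : m ∈ f.EO) (hm' : m ∈ stab Y)
    (hg : g ∈ f.AA Y) : m * g * m⁻¹ ∈ f.AA Y := by
  refine ⟨f.EO.mul_mem (f.EO.mul_mem hm hg.1) (f.EO.inv_mem hm), fun y hy => ?_⟩
  simp [hg.2 (m.symm y) (((stab _).inv_mem (mem_stab_perp (EO_le_Isom hm) hm') y).1 hy)]

theorem sub_mem_perp {Y : Submodule F V} {g : V ≃ₗ[F] V} (hg : g ∈ f.Isom) (h : ∀ y ∈ Y, g y = y)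
    (x : V) : g x - x ∈ f.perp Y := fun y hy => by
  rw [map_sub, sub_eq_zero]
  nth_rewrite 1 [← h y hy]
  exact Isom_B hg _ _

theorem AA_comm (hf : f.Nondeg) {Y : Submodule F V} (hY : f.TS Y) {a b : V ≃ₗ[F] V}
    (ha : a ∈ f.AA Y) (hb : b ∈ f.AA Y) : a * b = b * a := by
  have key : ∀ a ∈ f.AA Y, ∀ b ∈ f.AA Y, ∀ x, a (b x) = a x + b x - x := fun a ha b hb x => by
    have h1 := sub_mem_perp (EO_le_Isom hb.1) hb.2 x
    rw [hf.perp_perp] at h1
    have h2 := ha.2 _ (hY.le_perp h1)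
    rw [map_sub, sub_eq_iff_eq_add] at h2
    rw [h2]; abel
  ext x
  simp [key a ha b hb, key b hb a ha, add_comm]

theorem card_le_card_AA [Finite F] [FiniteDimensional F V] (hf : f.Nondeg) (k : ℕ) :
    ∀ Y : Submodule F V, f.TS Y → finrank F Y = k →
      Nat.card F ^ k.choose 2 * Nat.card P.τ.ker ^ k ≤ Nat.card (f.AA Y) := by
  have : Finite V := Module.finite_of_finite F
  have := finite_linearEquiv (F := F) (V := V)
  induction k with
  | zero => intro Y _ _; simpa using Nat.succ_le_of_lt Nat.card_pos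
  | succ k ih =>
    intro Y hY hk
    obtain ⟨φ, hφ⟩ := (finrank_le_iff_exists_linearMap (R := F) (M := Fin k → F) (M' := Y)).1
      (by simp [hk])
    set Y' := LinearMap.range (Y.subtype ∘ₗ φ)
    have hle : Y' ≤ Y := by rintro _ ⟨x, rfl⟩; exact (φ x).2
    have hk' : finrank F Y' = k := by
      rw [LinearMap.finrank_range_of_inj (f := Y.subtype ∘ₗ φ) (Y.subtype_injective.comp hφ)]; simp
    obtain ⟨y, hy, hy'⟩ := SetLike.exists_of_lt (lt_of_le_of_ne hle fun h => by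
      rw [h] at hk'; omega)
    obtain ⟨s, hs1, hs2⟩ := hf.exists_dual hy' P.ε
    have hs3 : f.B y s = 1 := by rw [f.symm, hs2, P.σε, P.εε]
    have hτ : ∀ (w : Y') (t : P.τ.ker), P.τ t = f.Q w := fun w t => by
      rw [hY.1 _ (hle w.2)]; exact t.2
    let e : Y' → P.τ.ker → (V ≃ₗ[F] V) := fun w t =>
      f.eich y w t (hY.1 y hy) (hY.2 _ hy _ (hle w.2)) (hτ w t)
    have he : ∀ w t, e w t ∈ f.AA Y := fun w t => ⟨eich_mem_EO _ _ _, fun x hx =>
      f.eich_apply_of_orth _ _ _ (hx y hy) (hx _ (hle w.2))⟩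
    have hA : f.AA Y' ≤ f.AA Y := fun g hg => ⟨hg.1, fun x hx => hg.2 x (perp_anti hle hx)⟩
    have hval : ∀ (g : f.AA Y') w t, (g.1 * e w t) s = s + w - P.σ t • y := fun g w t => by
      have h1 : g.1 s = s := g.2.2 s fun z hz => B_comm_zero (hs1 z hz)
      have h2 : ∀ z ∈ Y, g.1 z = z := fun z hz => (hA g.2).2 z (hY.le_perp hz)
      simp [e, eich_apply, hs3, B_comm_zero (hs1 _ w.2), h1, h2 y hy, h2 _ (hle w.2)]
    have := Nat.card_le_card_of_injective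
      (fun x : f.AA Y' × Y' × P.τ.ker => (⟨x.1.1 * e x.2.1 x.2.2, mul_mem (hA x.1.2) (he _ _)⟩ : f.AA Y))
      (by
        rintro ⟨g, w, t⟩ ⟨g', w', t'⟩ hh
        have h1 : g.1 * e w t = g'.1 * e w' t' := congrArg Subtype.val hh
        have h2 := LinearEquiv.congr_fun h1 s
        rw [hval, hval] at h2
        have h3 := congrArg (f.B s) h2
        simp only [map_sub, map_add, map_smul, hs1 _ w.2, hs1 _ w'.2, hs2, smul_eq_mul,
          sub_right_inj, mul_left_inj' P.ε_ne] at h3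
        obtain rfl : t = t' := Subtype.ext (P.σ.injective h3)
        obtain rfl : w = w' := by simpa using h2
        obtain rfl : g = g' := Subtype.ext (mul_right_cancel h1)
        rfl)
    rw [Nat.card_prod, Nat.card_prod, Module.natCard_eq_pow_finrank (K := F) (V := Y'), hk'] at this
    refine le_trans ?_ this
    rw [Nat.choose_succ_succ' k 1, Nat.choose_one_right, pow_add, pow_succ]
    have := ih Y' (hY.mono hle) hk'
    calc _ = (Nat.card F ^ k.choose 2 * Nat.card P.τ.ker ^ k) * (Nat.card F ^ k * Nat.card P.τ.ker) := by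
            ring
      _ ≤ _ := Nat.mul_le_mul_right _ this

section charp
variable {p : ℕ} [Fact p.Prime] [CharP F p]

theorem UU_isPGroup (Y : Submodule F V) : IsPGroup p (f.UU Y) :=
  isPGroup_iff_unip.2 fun g hg => unip_of_nilp fun x => by
    rw [hg.2.1 _ (hg.2.2 _ (sub_mem_perp (EO_le_Isom hg.1) hg.2.1 x)), sub_self]

theorem X_isPGroup (hu : f.Q u = 0) : IsPGroup p (f.X u hu) :=
  (UU_isPGroup _).to_le (X_le_UU hu)

theorem AA_isPGroup {Y : Submodule F V} (hY : f.TS Y) : IsPGroup p (f.AA Y) :=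
  (UU_isPGroup _).to_le (AA_le_UU hY)

theorem uGen_EO : UGen p f.EO := fun _ hK =>
  EO_le fun _ _ _ hu _ _ => hK _ (eich_mem_EO _ _ _) ((X_isPGroup hu).unip4 (eich_mem_X _ _ _))

end charp

theorem coatom_pt {G : Type*} [Group G] [DistribMulAction G V] [SMulCommClass G F V]
    (hI : ∀ (g : G) x, f.Q (g • x) = f.Q x) (hf : f.Nondeg) (hG : f.GoodC)
    (hE : ∀ u hu, ∀ x ∈ f.X u hu, ∃ g : G, ∀ v, g • v = x v) (hu : u ≠ 0) (huQ : f.Q u = 0)
    {K : Subgroup G} (hK : ∀ g : G, (∃ c : F, c • u = g • u) → g ∈ K) :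
    K = ⊤ ∨ ∀ g ∈ K, ∃ c : F, c • u = g • u := by
  have := isPreprimitive_sing (hI := hI) hf hG hE
  obtain ⟨v, h⟩ := hf.exists_partner' huQ hu
  have : Nontrivial (f.sing G hI) := ⟨pt hI v h.ne2 h.Q2, pt hI u hu huQ, by
    rw [Ne, pt_eq_iff]
    rintro ⟨c, hc⟩
    have := h.B12
    simp [← hc, h.B11] at this⟩
  have h1 := MulAction.IsPreprimitive.isCoatom_stabilizer_of_isPreprimitive G (pt hI u hu huQ)
  have h2 : ∀ g : G, g ∈ MulAction.stabilizer G (pt hI u hu huQ) ↔ ∃ c : F, c • u = g • u :=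
    fun g => by rw [MulAction.mem_stabilizer_iff, smul_pt, pt_eq_iff]
  rcases h1.le_iff.1 (show _ ≤ K from fun g hg => hK g ((h2 g).1 hg)) with h3 | h3
  · exact Or.inl h3
  · exact Or.inr fun g hg => (h2 g).1 (h3 ▸ hg)

theorem maxIn_EO [FiniteDimensional F V] (hf : f.Nondeg) (hG : f.GoodC) (hu : u ≠ 0)
    (huQ : f.Q u = 0) : MaxIn f.EO (stab (Submodule.span F {u})) := by
  intro K hK hM
  rcases coatom_pt (G := f.EO) Q_EO_smul hf hG
    (fun u hu x hx => ⟨⟨x, X_le_EO hu hx⟩, fun _ => rfl⟩) hu huQ (K := K.subgroupOf f.EO)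
    (fun g ⟨c, hc⟩ => hM ⟨g.2, mem_stab_span.2 ⟨c, hc.symm⟩⟩) with h | h
  · exact Or.inr (Subgroup.subgroupOf_eq_top.1 h)
  · refine Or.inl fun g hg => ?_
    obtain ⟨c, hc⟩ := h ⟨g, hK hg⟩ hg
    exact mem_stab_span.2 ⟨c, hc.symm⟩

theorem conj_mem_X' (hu : f.Q u = 0) {m g : V ≃ₗ[F] V} (hm : m ∈ f.Isom) {c : F}
    (hc : m u = c • u) (hg : g ∈ f.X u hu) : m * g * m⁻¹ ∈ f.X u hu := by
  have := conj_mem_X hu hm hg
  simp only [hc] at this
  exact X_smul_le hu c this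

/-- The standing assumptions. -/
structure AG (p : ℕ) (f : FS P V) : Prop where
  nd : f.Nondeg
  gc : f.GoodC
  hyp : ∃ u v, f.IsHyp u v
  pack : ∀ u v, f.IsHyp u v → Pack p (f.levF u v)

section main
variable {p : ℕ} [Fact p.Prime] [CharP F p] [Finite F] [FiniteDimensional F V]
  [FiniteDimensional F V'] {Γ : Subgroup ((V ≃ₗ[F] V) × (V' ≃ₗ[F] V'))}

theorem AG.exists_fixed_sing (hf : f.AG p) {H : Subgroup (V ≃ₗ[F] V)} (hH : IsPGroup p H)
    (hI : H ≤ f.Isom) : ∃ y, f.Q y = 0 ∧ y ≠ 0 ∧ ∀ g ∈ H, g y = y := by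
  have : Finite V := Module.finite_of_finite F
  obtain ⟨u, v, h⟩ := hf.hyp
  refine exists_fixed_set hH (S := {x | f.Q x = 0}) (fun g hg x hx => (Isom_Q (hI hg) x).trans hx)
    f.Q_zero ?_
  have h1 := h.card_Q (c := 0) ⟨0, map_zero _⟩
  have := (hf.pack u v h).1
  have h2 : 0 < finrank F (f.hperp u v) := finrank_pos
  change p ∣ Nat.card {x // f.Q x = 0}
  rw [h1]
  exact dvd_add (p_dvd_card_F.mul_right _)
    (((dvd_pow p_dvd_card_F h2.ne').mul_right _).mul_left _)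

include p in
theorem mem_of_X_inv (hf : f.Nondeg) (hG : f.GoodC) (hu : u ≠ 0) (huQ : f.Q u = 0)
    {Y : Submodule F V} (hY : Y ≠ ⊥) (h : ∀ g ∈ f.X u huQ, ∀ y ∈ Y, g y ∈ Y) : u ∈ Y := by
  have : Finite V := Module.finite_of_finite F
  obtain ⟨y, hy, hy0, hyf⟩ := exists_fixed (X_isPGroup (p := p) huQ) h hY
  obtain ⟨c, rfl⟩ := mem_span_of_fix_X hf hG hu huQ hyf
  exact (Y.smul_mem_iff fun h => hy0 (by simp [h])).1 hy

omit [FiniteDimensional F V] [Finite F] in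
theorem X_le_stab [FiniteDimensional F V] (huQ : f.Q u = 0) :
    f.X u huQ ≤ stab (Submodule.span F {u}) := fun _ hg =>
  mem_stab_span.2 ⟨1, by rw [X_fix _ hg, one_smul]⟩

theorem AG.span_eq (hf : f.AG p) {u' : V} (hu : u ≠ 0) (huQ : f.Q u = 0) (hu' : u' ≠ 0)
    (h : ∀ g ∈ f.EO, g ∈ stab (Submodule.span F {u}) → g ∈ stab (Submodule.span F {u'})) :
    ∃ c : F, c • u' = u :=
  Submodule.mem_span_singleton.1 (mem_of_X_inv (p := p) hf.nd hf.gc hu huQ (by simpa using hu')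
    fun g hg y => (h g (X_le_EO _ hg) (X_le_stab _ hg) y).1)

theorem AG.le_X_of_normal (hf : f.AG p) (h : f.IsHyp u v) {N : Subgroup (V ≃ₗ[F] V)}
    (hN : IsPGroup p N) (h0 : N ≤ f.EO) (h1 : N ≤ stab (Submodule.span F {u}))
    (h2 : ∀ m ∈ f.EO, m ∈ stab (Submodule.span F {u}) → ∀ g ∈ N, m * g * m⁻¹ ∈ N) :
    N ≤ f.X u h.Q1 := by
  have : Finite V := Module.finite_of_finite F
  have := finite_linearEquiv (F := F) (V := V)
  have hP := hf.pack u v h
  have hX := X_isPGroup (p := p) h.Q1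
  have hNX : IsPGroup p (N ⊔ f.X u h.Q1 : Subgroup _) := hN.to_sup_of_normal_left' hX fun m hm =>
    Subgroup.mem_normalizer_fintype fun g hg => h2 m (X_le_EO _ hm) (X_le_stab _ hm) g hg
  have hle : N ⊔ f.X u h.Q1 ≤ f.EO ⊓ stab (Submodule.span F {u}) :=
    sup_le (le_inf h0 h1) (le_inf (X_le_EO _) (X_le_stab _))
  set N' := (N ⊔ f.X u h.Q1) ⊓ fix {v} with hN'
  have hN'p : IsPGroup p N' := hNX.to_inf_left
  have hfix : ∀ g ∈ N', g u = u ∧ g v = v := fun g hg =>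
    ⟨(hN'p.unip4 hg).fix_of_stab (hle hg.1).2, hg.2 v rfl⟩
  have := hP.1
  obtain ⟨y, hy, hy0, hyf⟩ := exists_fixed hN'p (A := f.hperp u v) (fun g hg x hx =>
    (mem_stab_hperp (EO_le_Isom (hle hg.1).1) (c := 1) (d := 1) (by simp [(hfix g hg).1])
      (by simp [(hfix g hg).2]) x).1 hx) (Submodule.nontrivial_iff_ne_bot.1 this)
  have key := hP.irr' (A := (fixSp N').comap (f.hperp u v).subtype) (by
    rintro k ⟨g, hg, c, hc1, hc2, hc3⟩ x hx
    have hs : g⁻¹ ∈ stab (Submodule.span F {u}) := inv_mem (mem_stab_span.2 ⟨_, hc1⟩)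
    have := fixSp_inv (m := g) (fun n hn => ?_) hx
    · rw [Submodule.mem_comap, Submodule.subtype_apply, hc3]
      exact Submodule.smul_mem _ _ this
    refine ⟨?_, fun z hz => ?_⟩
    · have : N ⊔ f.X u h.Q1 ≤ (N ⊔ f.X u h.Q1).comap (MulAut.conj g⁻¹).toMonoidHom := by
        obtain ⟨d, hd⟩ := mem_stab_span.1 hs
        exact sup_le (fun n hn => Subgroup.mem_sup_left (h2 _ (inv_mem hg) hs n hn))
          fun n hn => Subgroup.mem_sup_right (conj_mem_X' _ (EO_le_Isom (inv_mem hg)) hd hn)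
      simpa using this hn.1
    · rw [Set.mem_singleton_iff.1 hz]
      rw [LinearEquiv.mul_apply, LinearEquiv.mul_apply, LinearEquiv.coe_inv,
        LinearEquiv.symm_apply_eq, hc2, map_smul, (hfix n hn).2]) (by
    rw [Submodule.ne_bot_iff]
    exact ⟨⟨y, hy⟩, hyf, fun h => hy0 (congrArg Subtype.val h)⟩)
  intro n hn
  have hI := EO_le_Isom (h0 hn)
  obtain ⟨x, hx, hxv⟩ := X_trans h.Q1 (r := n v) (s := v) (by rw [Isom_Q hI, h.Q2]) h.Q2
    (by rw [← h.B12, ← Isom_B hI u v, (hN.unip4 hn).fix_of_stab (h1 hn)]) h.B12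
  have h3 : x * n ∈ N' := ⟨mul_mem (Subgroup.mem_sup_right hx) (Subgroup.mem_sup_left hn),
    fun z hz => by rw [Set.mem_singleton_iff.1 hz]; exact hxv⟩
  have h4 : x * n = 1 := LinearEquiv.ext fun z => by
    obtain ⟨a, b, w, hw, rfl⟩ := h.decomp z
    rw [map_add, map_add, map_smul, map_smul, (hfix _ h3).1, (hfix _ h3).2,
      show (x * n) w = w from key ⟨w, hw⟩ _ h3]
    rfl
  rw [eq_inv_of_mul_eq_one_right h4]
  exact inv_mem hx

theorem AG.ulift_le_X (hf : f.AG p) (hc : Corr f.EO f'.EO Γ) (h : f.IsHyp u v)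
    {Y : Submodule F V'} (hR : Rel Γ (Submodule.span F {u}) Y) {N : Subgroup (V' ≃ₗ[F] V')}
    (hN : IsPGroup p N) (h1 : N ≤ stab Y)
    (h2 : ∀ m ∈ f'.EO, m ∈ stab Y → ∀ g ∈ N, m * g * m⁻¹ ∈ N) :
    ulift p (swp Γ) N ≤ f.X u h.Q1 := by
  have : Finite V := Module.finite_of_finite F
  have : Finite V' := Module.finite_of_finite F
  refine hf.le_X_of_normal h (hc.symm.isPGroup_ulift hN) (hc.symm.ulift_le hN) (fun g hg => ?_)
    fun m hm hm' g hg => ?_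
  · obtain ⟨-, g', h3, h4⟩ := (hc.symm.mem_ulift hN).1 hg
    exact (hR _ _ h4).2 (h1 h3)
  · obtain ⟨m', h3⟩ := hc.ex1 m hm
    exact hc.symm.conj_mem_ulift hN (m := m') h3 (h2 _ (hc.mem2 h3) ((hR _ _ h3).1 hm')) hg

theorem AG.thmA (hf : f.AG p) (hf' : f'.AG p) (hc : Corr f.EO f'.EO Γ) (h : f.IsHyp u v) :
    ∃ Y, f'.TS Y ∧ Y ≠ ⊥ ∧ Rel Γ (Submodule.span F {u}) Y := by
  have : Finite V := Module.finite_of_finite F
  have : Finite V' := Module.finite_of_finite F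
  have hX := X_isPGroup (p := p) h.Q1
  set R := ulift p Γ (f.X u h.Q1) with hR
  have hRp : IsPGroup p R := hc.isPGroup_ulift hX
  -- the image of the point stabilizer
  let M : Set (V' ≃ₗ[F] V') := {g' | ∃ g ∈ stab (Submodule.span F {u}), (g, g') ∈ Γ}
  have hM : ∀ m ∈ M, m ∈ stab (fixSp R) := by
    rintro m' ⟨m, hm, hmm⟩
    refine mem_stab_of_le fun x hx => fixSp_inv (fun k hk => ?_) hx
    obtain ⟨c, hc'⟩ := mem_stab_span.1 (inv_mem hm)
    simpa using hc.conj_mem_ulift hX (Γ.inv_mem hmm)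
      (fun _ => conj_mem_X' _ (EO_le_Isom (inv_mem (hc.mem1 hmm))) hc') hk
  have hMI : ∀ m ∈ M, m ∈ f'.Isom := by rintro m' ⟨m, -, hmm⟩; exact EO_le_Isom (hc.mem2 hmm)
  obtain ⟨y, hy0, hyQ, hyM⟩ : ∃ y, y ≠ 0 ∧ ∃ hyQ : f'.Q y = 0, ∀ g ∈ f'.X y hyQ, g ∈ M := by
    obtain ⟨u', v', h'⟩ := hf'.hyp
    have hX' := X_isPGroup (p := p) h'.Q1
    obtain ⟨z, hzQ, hz0, hz⟩ := hf.exists_fixed_sing (hc.symm.isPGroup_ulift hX')
      ((hc.symm.ulift_le hX').trans EO_le_Isom)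
    obtain ⟨g, hg, c, hgc⟩ := EO_trans hf.nd hf.gc hz0 hzQ h.ne1 h.Q1
    obtain ⟨g', hg'⟩ := hc.ex1 g hg
    have hI' := EO_le_Isom (hc.mem2 hg')
    refine ⟨g' u', by simpa using h'.ne1, by rw [Isom_Q hI', h'.Q1], fun x hx => ?_⟩
    have h1 := conj_mem_X _ (inv_mem hI') hx
    simp only [LinearEquiv.coe_inv, LinearEquiv.symm_apply_apply] at h1
    obtain ⟨k, hk, hk'⟩ := hc.symm.exists_ulift hX' (X_le_EO _) h1
    have hc0 : c ≠ 0 := fun h0 => hz0 (g.injective (by simp [← hgc, h0]))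
    refine ⟨g * k * g⁻¹, mem_stab_span.2 ⟨1, ?_⟩, ?_⟩
    · have : g.symm u = c⁻¹ • z := by
        rw [LinearEquiv.symm_apply_eq, map_smul, ← hgc, smul_smul, inv_mul_cancel₀ hc0, one_smul]
      simp [this, hz k hk, ← hgc, smul_smul, hc0]
    · simpa [mul_assoc] using Γ.mul_mem (Γ.mul_mem hg' hk') (Γ.inv_mem hg')
  have hRM : ∀ g ∈ R, g ∈ M := fun g hg => by
    obtain ⟨-, k, h1, h2⟩ := (hc.mem_ulift hX).1 hg
    exact ⟨k, X_le_stab _ h1, h2⟩
  have hy1 : y ∈ fixSp R := mem_of_X_inv (p := p) hf'.nd hf'.gc hy0 hyQ (by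
    obtain ⟨z, -, h1, h2⟩ := exists_fixed hRp (A := ⊤) (fun _ _ _ _ => trivial)
      (by rw [Submodule.ne_bot_iff]; exact ⟨y, trivial, hy0⟩)
    rw [Submodule.ne_bot_iff]; exact ⟨z, h2, h1⟩) fun g hg z => (hM g (hyM g hg) z).1
  have hy2 : y ∈ f'.perp (fixSp R) := mem_of_X_inv (p := p) hf'.nd hf'.gc hy0 hyQ (by
    intro hb
    have h1 : fixSp R = ⊤ := by
      rw [← hf'.nd.perp_perp (fixSp R), hb, eq_top_iff]
      intro x _ w hw
      simp [(Submodule.mem_bot F).1 hw]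
    obtain ⟨w, a, ha, hτ, -, h2, h3⟩ := hf.gc 0 _ _ h (by simp) (by simp)
    have h4 := h.E_mem ⟨w, mem_hperp.2 ⟨h2, h3⟩⟩ a hτ
    obtain ⟨g', h5, h6⟩ := hc.exists_ulift hX (X_le_EO _) h4
    have h7 : g' = 1 := LinearEquiv.ext fun x => (h1 ▸ Submodule.mem_top : x ∈ fixSp R) g' h5
    have h8 := hc.eq_one_of_unip (h7 ▸ h6) (hX.unip4 h4)
    exact ha (h.E_inj (h8.trans h.E_zero.symm)).2)
    fun g hg z => (mem_stab_perp (X_le_Isom _ hg) (hM g (hyM g hg)) z).1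
  have hTS : f'.TS (Submodule.span F {x | ∃ m ∈ M, x = m y}) := ts_span
    (by rintro _ ⟨m, hm, rfl⟩; rw [Isom_Q (hMI m hm), hyQ])
    (by
      rintro _ ⟨m, hm, rfl⟩ _ ⟨m', hm', rfl⟩
      exact (mem_stab_perp (hMI _ hm') (hM _ hm') y).1 hy2 _ ((hM _ hm y).1 hy1))
  have hy3 : y ∈ Submodule.span F {x | ∃ m ∈ M, x = m y} :=
    Submodule.subset_span ⟨1, ⟨1, one_mem _, one_mem _⟩, rfl⟩
  refine ⟨_, hTS, (Submodule.ne_bot_iff _).2 ⟨y, hy3, hy0⟩,
    hc.rel_of_max (maxIn_EO hf.nd hf.gc h.ne1 h.Q1) (fun g g' hg hs => mem_stab_of_le ?_) fun hh => ?_⟩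
  · refine fun x hx => Submodule.span_le (p := Submodule.comap (g' : V' →ₗ[F] V')
      (Submodule.span F {x | ∃ m ∈ M, x = m y})).2 ?_ hx
    rintro _ ⟨m', ⟨m, hm, hmm⟩, rfl⟩
    exact Submodule.subset_span ⟨g' * m', ⟨g * m, mul_mem hs hm, Γ.mul_mem hg hmm⟩, rfl⟩
  · obtain ⟨s, hs⟩ := hf'.nd.exists_partner' hyQ hy0
    obtain ⟨g, hg, c, hgc⟩ := EO_trans hf'.nd hf'.gc hy0 hyQ hs.ne2 hs.Q2
    have hc0 : c ≠ 0 := fun h0 => hy0 (g.injective (by simp [← hgc, h0]))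
    have := hTS.2 _ hy3 _ ((hh hg y).1 hy3)
    simp [← hgc, hs.B12, hc0] at this

theorem AG.card_bound (hf : f.AG p) (hf' : f'.AG p) (hc : Corr f.EO f'.EO Γ) (h : f.IsHyp u v)
    {Y : Submodule F V'} (hY : f'.TS Y) (hR : Rel Γ (Submodule.span F {u}) Y) :
    Nat.card F ^ (finrank F Y).choose 2 * Nat.card P'.τ.ker ^ finrank F Y ≤
      Nat.card F ^ finrank F (f.hperp u v) * Nat.card P.τ.ker := by
  have : Finite V := Module.finite_of_finite F
  have : Finite V' := Module.finite_of_finite F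
  have := finite_linearEquiv (F := F) (V := V)
  have hA := AA_isPGroup (p := p) hY
  refine (card_le_card_AA hf'.nd _ Y hY rfl).trans (le_trans ?_ h.card_X_le)
  rw [← hc.symm.card_ulift hA inf_le_left]
  exact Subgroup.card_le_of_le (hf.ulift_le_X hc h hR hA ((AA_le_UU hY).trans (UU_le_stab Y))
    fun m hm hm' g => conj_mem_AA hm hm')

theorem AG.card_bound' (hf : f.AG p) (hf' : f'.AG p) (hc : Corr f.EO f'.EO Γ) (h : f.IsHyp u v)
    {Y : Submodule F V'} (hY : f'.TS Y) (hR : Rel Γ (Submodule.span F {u}) Y)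
    (hna : ∃ w ∈ f.hperp u v, ∃ w' ∈ f.hperp u v, f.B w' w ≠ f.B w w') :
    Nat.card F ^ (finrank F Y).choose 2 * Nat.card P'.τ.ker ^ finrank F Y ≤ Nat.card P.τ.ker := by
  have : Finite V := Module.finite_of_finite F
  have : Finite V' := Module.finite_of_finite F
  have hA := AA_isPGroup (p := p) hY
  refine (card_le_card_AA hf'.nd _ Y hY rfl).trans ?_
  rw [← hc.symm.card_ulift hA inf_le_left]
  set A := ulift p (swp Γ) (f'.AA Y)
  have hAX : A ≤ f.X u h.Q1 := hf.ulift_le_X hc h hR hA ((AA_le_UU hY).trans (UU_le_stab Y))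
    fun m hm hm' g => conj_mem_AA hm hm'
  let D : AddSubgroup (f.hperp u v) :=
    { carrier := {w | ∃ a ha, h.E w a ha ∈ A}
      add_mem' := by
        rintro w w' ⟨a, ha, h1⟩ ⟨a', ha', h2⟩
        exact ⟨_, _, h.E_mul w w' a a' ha ha' ▸ mul_mem h1 h2⟩
      zero_mem' := ⟨0, by simp, h.E_zero ▸ one_mem _⟩
      neg_mem' := by
        rintro w ⟨a, ha, h1⟩
        exact ⟨_, _, f.eich_inv _ _ ha ▸ inv_mem h1⟩ }
  rcases (hf.pack u v h).irr (A := D) (by
    rintro k ⟨g, hg, c, hc1, hc2, hc3⟩ w ⟨a, ha, h1⟩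
    obtain ⟨g', hg'⟩ := hc.ex1 g hg
    refine ⟨_, τ_conj' (EO_le_Isom hg) (hc3 w) ha, ?_⟩
    rw [← h.conj_E (EO_le_Isom hg) hc1 (hc3 w) ha]
    exact hc.symm.conj_mem_ulift hA (m := g') hg' (fun _ => conj_mem_AA (hc.mem2 hg')
      ((hR _ _ hg').1 (mem_stab_span.2 ⟨_, hc1⟩))) h1) with hD | hD
  · have key : ∀ g : A, ∃ t : P.τ.ker, h.E 0 t (by simpa using AddMonoidHom.mem_ker.1 t.2) = g := fun g => by
      obtain ⟨w, a, ha, h1⟩ := h.exists_E (hAX g.2)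
      have : w ∈ D := ⟨a, ha, h1 ▸ g.2⟩
      rw [hD, AddSubgroup.mem_bot] at this
      subst this
      exact ⟨⟨a, by simpa using ha⟩, h1.symm⟩
    choose t ht using key
    exact Nat.card_le_card_of_injective t fun a b hab => Subtype.ext (by rw [← ht, ← ht, hab])
  · exfalso
    obtain ⟨w, hw, w', hw', hne⟩ := hna
    obtain ⟨a, ha, h1⟩ : (⟨w, hw⟩ : f.hperp u v) ∈ D := hD ▸ trivial
    obtain ⟨a', ha', h2⟩ : (⟨w', hw'⟩ : f.hperp u v) ∈ D := hD ▸ trivial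
    obtain ⟨-, g, h3, h4⟩ := (hc.symm.mem_ulift hA).1 h1
    obtain ⟨-, g', h5, h6⟩ := (hc.symm.mem_ulift hA).1 h2
    have := hc.comm_of_comm (X_isPGroup (p := p) h.Q1) (hAX h1) (hAX h2) h4 h6
      (AA_comm hf'.nd hY h3 h5)
    rw [h.E_mul, h.E_mul] at this
    exact hne (by simpa [add_comm] using (h.E_inj this).2)

theorem AG.UU_comm (hf : f.AG p) (hc : Corr f.EO f'.EO Γ) (h : f.IsHyp u v)
    {Y : Submodule F V'} (hR : Rel Γ (Submodule.span F {u}) Y)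
    (hab : ∀ w ∈ f.hperp u v, ∀ w' ∈ f.hperp u v, f.B w' w = f.B w w') {a b : V' ≃ₗ[F] V'}
    (ha : a ∈ f'.UU Y) (hb : b ∈ f'.UU Y) : a * b = b * a := by
  have hU := UU_isPGroup (p := p) (f := f') Y
  have h1 := hf.ulift_le_X hc h hR hU (UU_le_stab Y) fun m hm hm' g => conj_mem_UU hm hm'
  obtain ⟨g, h2, h3⟩ := hc.symm.exists_ulift hU (UU_le_EO Y) ha
  obtain ⟨k, h4, h5⟩ := hc.symm.exists_ulift hU (UU_le_EO Y) hb
  refine hc.symm.comm_of_comm hU ha hb h3 h5 ?_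
  obtain ⟨w, c, hc, rfl⟩ := h.exists_E (h1 h2)
  obtain ⟨w', c', hc', rfl⟩ := h.exists_E (h1 h4)
  rw [h.E_mul, h.E_mul]
  exact h.E_congr (add_comm _ _) (by rw [hab _ w.2 _ w'.2, add_comm c])

theorem AG.symm_of_ab (hf : f.AG p) (hf' : f'.AG p) (hc : Corr f.EO f'.EO Γ) (h : f.IsHyp u v)
    {Y : Submodule F V'} (hY : f'.TS Y) (hY0 : Y ≠ ⊥) (hR : Rel Γ (Submodule.span F {u}) Y)
    (hab : ∀ w ∈ f.hperp u v, ∀ w' ∈ f.hperp u v, f.B w' w = f.B w w') {w w' : V'}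
    (hw : w ∈ f'.perp Y) (hw' : w' ∈ f'.perp Y) : f'.B w' w = f'.B w w' := by
  obtain ⟨y, hy, hy0⟩ := (Submodule.ne_bot_iff _).1 hY0
  obtain ⟨a, ha⟩ := f'.ex w
  obtain ⟨a', ha'⟩ := f'.ex w'
  have := hf.UU_comm hc h hR hab (eich_mem_UU hY hy hw ha) (eich_mem_UU hY hy hw' ha')
  rw [← commutatorElement_eq_one_iff_mul_comm, eich_commutator] at this
  obtain ⟨s, hs⟩ := hf'.nd.exists_partner' (hY.1 y hy) hy0
  have := LinearEquiv.congr_fun this s
  simpa [eich_apply, hs.B12, hy0, sub_eq_zero, P'.σ.injective.eq_iff] using this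

theorem AG.perp_eq_of_ab (hf : f.AG p) (hf' : f'.AG p) (hc : Corr f.EO f'.EO Γ) (h : f.IsHyp u v)
    {Y : Submodule F V'} (hY : f'.TS Y) (hk : 2 ≤ finrank F Y) (hR : Rel Γ (Submodule.span F {u}) Y)
    (hab : ∀ w ∈ f.hperp u v, ∀ w' ∈ f.hperp u v, f.B w' w = f.B w w') :
    2 * finrank F Y = finrank F V' := by
  obtain ⟨y, hy⟩ := exists_linearIndependent_of_le_finrank (R := F) hk
  have hy' : LinearIndependent F fun i => (y i : V') := hy.map' Y.subtype Y.ker_subtype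
  obtain ⟨s, hs⟩ := hf'.nd.exists_dual_family hy' ![0, 1]
  have h1 : f'.perp Y ≤ Y := by
    intro w' hw'
    rw [← hf'.nd.perp_perp Y]
    intro w hw
    obtain ⟨a, ha⟩ := f'.ex w
    obtain ⟨a', ha'⟩ := f'.ex w'
    have := LinearEquiv.congr_fun (hf.UU_comm hc h hR hab (eich_mem_UU hY (y 0).2 hw ha)
      (eich_mem_UU hY (y 1).2 hw' ha')) s
    have e0 := hs 0
    have e1 := hs 1
    simp only [Matrix.cons_val_zero, Matrix.cons_val_one] at e0 e1
    simp only [LinearEquiv.mul_apply, eich_apply, map_sub, map_add, map_smul, e0, e1,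
      hY.2 _ (y _).2 _ (y _).2, hw _ (y _).2, hw' _ (y _).2, B_comm_zero (hw _ (y _).2),
      B_comm_zero (hw' _ (y _).2), smul_eq_mul] at this
    have h2 : (P'.ε * f'.B w w') • (y 0 : V') = 0 := by linear_combination (norm := module) -this
    simpa [P'.ε_ne, hy.ne_zero 0] using h2
  have := hf'.nd.finrank_perp Y
  rw [le_antisymm h1 hY.le_perp] at this
  omega

end main

end FS

end Cfsg.Agent.Class
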