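import Cfsg.Agent.Class.Aut4

/-! Automorphisms of classical groups, V: point preserving correspondences are induced by
semisimilarities. -/

set_option autoImplicit false

namespace Cfsg.Agent.Class

open Module
open scoped commutatorElement

variable {F : Type*} [Field F] {P : FP F} {V : Type*} [AddCommGroup V] [Module F V]

theorem FP.map_ε (P : FP F) (ρ : RingAut F) : ρ P.ε = P.ε := by
  rcases mul_self_eq_one_iff.1 P.εε with h | h <;> simp [h]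

theorem comm_mem_prod {A B : Type*} [Group A] [Group B] {Γ : Subgroup (A × B)} {a b : A} {a' b' : B}
    (h1 : (a, a') ∈ Γ) (h2 : (b, b') ∈ Γ) : (⁅a, b⁆, ⁅a', b'⁆) ∈ Γ :=
  Γ.mul_mem (Γ.mul_mem (Γ.mul_mem h1 h2) (Γ.inv_mem h1)) (Γ.inv_mem h2)

namespace FS
variable {f : FS P V} {u v u' v' : V}

/-- The group of semisimilarities. -/
def GamS (f : FS P V) : Subgroup (GamL F V) where
  carrier := {T | ∃ μ : F, μ ≠ 0 ∧ (∀ x y, f.B (T.T x) (T.T y) = μ * T.ρ (f.B x y)) ∧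
    ∀ x a, P.τ a = f.Q x ↔ P.τ (μ * T.ρ a) = f.Q (T.T x)}
  mul_mem' := by
    rintro a b ⟨m, h0, h1, h2⟩ ⟨n, h3, h4, h5⟩
    exact ⟨m * a.ρ n, by simp [h0, h3], fun x y => by simp [h1, h4, mul_assoc],
      fun x c => by rw [h5, h2]; simp [mul_assoc]⟩
  one_mem' := ⟨1, one_ne_zero, by simp, by simp⟩
  inv_mem' := by
    rintro a ⟨m, h0, h1, h2⟩
    refine ⟨a.ρ.symm m⁻¹, by simp [h0], fun x y => ?_, fun x c => ?_⟩
    · obtain ⟨x, rfl⟩ := a.T.surjective x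
      obtain ⟨y, rfl⟩ := a.T.surjective y
      simp [h1, h0]
    · obtain ⟨x, rfl⟩ := a.T.surjective x
      simp [h2 x, h0]

theorem IsHyp.σ_mult (h : f.IsHyp u v) (hσ : ∀ (ρ : RingAut F) a, ρ (P.σ a) = P.σ (ρ a))
    {T : GamL F V} {μ : F} (h1 : ∀ x y, f.B (T.T x) (T.T y) = μ * T.ρ (f.B x y)) : P.σ μ = μ := by
  have := f.symm (T.T u) (T.T v)
  rw [h1, h1, h.B12, h.B21, P.map_ε, map_one, mul_one, mul_comm] at this
  exact (mul_left_cancel₀ P.ε_ne this).symm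

theorem conj_mem_X_semi (hσ : ∀ (ρ : RingAut F) a, ρ (P.σ a) = P.σ (ρ a)) (h : ∃ u v, f.IsHyp u v)
    {T : GamL F V} (hT : T ∈ f.GamS) (hu : f.Q u = 0) (hu' : f.Q (T.T u) = 0) {g : V ≃ₗ[F] V}
    (hg : g ∈ f.X u hu) : GamL.conj T g ∈ f.X (T.T u) hu' := by
  obtain ⟨μ, h0, h1, h2⟩ := hT
  obtain ⟨_, _, h⟩ := h
  have hμ := h.σ_mult hσ h1
  obtain ⟨w, a, hw, ha, rfl⟩ := hg
  refine ⟨μ⁻¹ • T.T w, μ⁻¹ * T.ρ a, by simp [h1, hw], ?_, ?_⟩
  · rw [Q_smul, ← (h2 _ _).1 ha, ← P.τ_conj, map_inv₀, hμ]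
    congr 1; field_simp
  · ext x
    obtain ⟨x, rfl⟩ := T.T.surjective x
    simp only [GamL.conj_T, eich_apply, map_sub, map_add, T.smul, h1, B_smul_left, map_mul,
      map_inv₀, hμ, P.map_ε, hσ]
    match_scalars <;> field_simp

theorem GamS_Q_zero {T : GamL F V} (hT : T ∈ f.GamS) (hu : f.Q u = 0) : f.Q (T.T u) = 0 := by
  obtain ⟨μ, -, -, h2⟩ := hT
  simpa using ((h2 u 0).1 (by simp [hu])).symm

theorem conj_mem_EO_semi (hσ : ∀ (ρ : RingAut F) a, ρ (P.σ a) = P.σ (ρ a)) (h : ∃ u v, f.IsHyp u v) :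
    ∀ T ∈ f.GamS, ∀ g ∈ f.EO, GamL.conj T g ∈ f.EO := fun T hT _ hg =>
  EO_le (G := f.EO.comap (GamL.conj T).toMonoidHom) (fun _ _ _ hu _ _ =>
    X_le_EO _ (conj_mem_X_semi hσ h hT hu (GamS_Q_zero hT hu) (eich_mem_X _ _ _))) hg

theorem IsHyp.closure_sing (h : f.IsHyp u v) :
    AddSubgroup.closure {x | x ≠ 0 ∧ f.Q x = 0} = ⊤ := by
  have key : ∀ x, f.Q x = 0 → x ∈ AddSubgroup.closure {x | x ≠ 0 ∧ f.Q x = 0} := fun x hx => by
    by_cases h0 : x = 0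
    · rw [h0]; exact zero_mem _
    · exact AddSubgroup.subset_closure ⟨h0, hx⟩
  rw [eq_top_iff]
  intro x _
  obtain ⟨a, b, w, hw, rfl⟩ := h.decomp x
  obtain ⟨c, hc⟩ := f.ex w
  refine add_mem (add_mem (key _ (by simp [Q_smul, h.Q1])) (key _ (by simp [Q_smul, h.Q2]))) ?_
  have h1 := h.E_right ⟨w, hw⟩ c hc
  have h2 : w = h.E ⟨w, hw⟩ c hc v - v + P.σ c • u := by rw [h1]; simp only; abel
  rw [h2]
  exact add_mem (sub_mem (key _ (by rw [Isom_Q (X_le_Isom _ (h.E_mem _ _ _)), h.Q2])) (key _ h.Q2))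
    (key _ (by simp [Q_smul, h.Q1]))

theorem exists_opp' (hf : f.Nondeg) (hG : f.GoodC) {x y : V} (hx : x ≠ 0) (hxQ : f.Q x = 0)
    (hy : y ≠ 0) (hyQ : f.Q y = 0) : ∃ s, (s ≠ 0 ∧ f.Q s = 0) ∧ f.B x s ≠ 0 ∧ f.B y s ≠ 0 := by
  by_cases hli : LinearIndependent F ![x, y]
  · obtain ⟨s, h1, h2, h3⟩ := exists_opp hf hG hxQ hyQ hli
    exact ⟨s, ⟨fun h => by simp [h] at h2, h1⟩, h2, h3⟩
  · rw [LinearIndependent.pair_iff' hx] at hli
    push Not at hli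
    obtain ⟨c, rfl⟩ := hli
    obtain ⟨s, hs⟩ := hf.exists_partner' hxQ hx
    have : c ≠ 0 := fun h => hy (by simp [h])
    exact ⟨s, ⟨hs.ne2, hs.Q2⟩, by simp [hs.B12], by simp [hs.B12, this]⟩

/-- The parametrized Eichler transformation lies in `K`. -/
def IsHyp.EK (h : f.IsHyp u v) (K : Subgroup (V ≃ₗ[F] V)) (w : f.hperp u v) (a : F) : Prop :=
  ∃ ha, h.E w a ha ∈ K

theorem IsHyp.EK.mul {h : f.IsHyp u v} {K : Subgroup (V ≃ₗ[F] V)} {w w' : f.hperp u v} {a a' : F}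
    (h1 : h.EK K w a) (h2 : h.EK K w' a') : h.EK K (w + w') (a + a' + f.B w' w) := by
  obtain ⟨ha, h1⟩ := h1
  obtain ⟨ha', h2⟩ := h2
  exact ⟨_, h.E_mul w w' a a' ha ha' ▸ mul_mem h1 h2⟩

theorem IsHyp.E_inv (h : f.IsHyp u v) (w : f.hperp u v) (a : F) (ha : P.τ a = f.Q w) :
    (h.E w a ha)⁻¹ = h.E (-w) (P.ε * P.σ a) (by rw [P.τ_symm, ha, Submodule.coe_neg, Q_neg]) :=
  f.eich_inv _ _ ha

theorem IsHyp.EK.neg {h : f.IsHyp u v} {K : Subgroup (V ≃ₗ[F] V)} {w : f.hperp u v} {a : F}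
    (h1 : h.EK K w a) : h.EK K (-w) (P.ε * P.σ a) := by
  obtain ⟨ha, h1⟩ := h1
  exact ⟨_, h.E_inv w a ha ▸ inv_mem h1⟩

theorem IsHyp.X_le (h : f.IsHyp u v) {K : Subgroup (V ≃ₗ[F] V)}
    (h1 : ∀ t, P.τ t = 0 → h.EK K 0 t) (h2 : ∀ w, ∃ a, h.EK K w a) : f.X u h.Q1 ≤ K := by
  intro g hg
  obtain ⟨w, a, ha, rfl⟩ := h.exists_E hg
  obtain ⟨b, h3⟩ := h2 w
  have := h3.mul (h1 (a - b) (by simp [ha, h3.1]))
  simp only [add_zero, add_sub_cancel, Submodule.coe_zero, map_zero, LinearMap.zero_apply] at this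
  exact this.2

theorem IsHyp.X_le_of_sing (h : f.IsHyp u v) {z z' : f.hperp u v}
    (hz : (f.res (f.hperp u v)).IsHyp z z') {K : Subgroup (V ≃ₗ[F] V)}
    (hK : ∀ w : f.hperp u v, f.Q w = 0 → h.EK K w 0) : f.X u h.Q1 ≤ K := by
  refine h.X_le (fun t ht => ?_) fun w => ?_
  · have e1 : f.Q z = 0 := hz.Q1
    have e2 : f.Q z' = 0 := hz.Q2
    have e3 : f.B z z' = 1 := hz.B12
    have e4 : f.Q ((z' + P.σ t • z : f.hperp u v) : V) = 0 := by
      rw [Submodule.coe_add, add_comm, Q_add]; simp [Q_smul, e1, e2, e3, P.σσ, ht]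
    have := ((hK z' e2).mul (hK (P.σ t • z) (by simp [Q_smul, e1]))).mul (hK _ e4).neg
    rw [add_neg_cancel, Submodule.coe_neg, map_neg, LinearMap.neg_apply, B_self_of_Q e4] at this
    simpa [e3, P.σσ] using this
  · let D : AddSubgroup (f.hperp u v) :=
      { carrier := {w | ∃ a, h.EK K w a}
        add_mem' := fun ⟨_, h1⟩ ⟨_, h2⟩ => ⟨_, h1.mul h2⟩
        zero_mem' := ⟨0, hK 0 (by simp)⟩
        neg_mem' := fun ⟨_, h1⟩ => ⟨_, h1.neg⟩ }
    have : ⊤ ≤ D := by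
      rw [← hz.closure_sing, AddSubgroup.closure_le]
      exact fun x hx => ⟨0, hK _ hx.2⟩
    exact this trivial

/-- The standing assumptions, second part. -/
structure AN (p : ℕ) (f : FS P V) : Prop extends f.AG p where
  comm : ∀ (ρ : RingAut F) a, ρ (P.σ a) = P.σ (ρ a)
  card : ∀ u v, f.IsHyp u v → Nat.card P.τ.ker < Nat.card (f.hperp u v)
  alt : ∀ u v, f.IsHyp u v →
    ((f.res (f.hperp u v)).GoodC ∧ ∃ z z', (f.res (f.hperp u v)).IsHyp z z') ∨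
    (finrank F (f.hperp u v) = 1 ∧
      (∀ t, P.τ t = 0 → ∃ w w' : f.hperp u v, f.B w' w - f.B w w' = t) ∧
      ∃ g ∈ f.EO, ∃ c l : F, l ≠ 1 ∧ c * P.σ c = 1 ∧ g u = c • u ∧ g v = c • v ∧
        ∀ w : f.hperp u v, P.σ c • g w = l • (w : V))

section main
variable {p : ℕ} [Fact p.Prime] [CharP F p] [Finite F] [FiniteDimensional F V]
  {Γ : Subgroup ((V ≃ₗ[F] V) × (V ≃ₗ[F] V))}

theorem AN.exists_S (hf : f.AN p) (h : f.IsHyp u v) : ∃ S : Set (f.hperp u v),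
    AddSubgroup.closure S = ⊤ ∧ (∀ z ∈ S, ∀ x : f.hperp u v, (∀ g ∈ f.EO, Unip p g → g u = u →
      g v = v → g z = z → g x = x) → ∃ c : F, c • z = x) ∧
    ∀ z ∈ S, ∀ z' ∈ S, ∃ s ∈ S, f.B z s ≠ 0 ∧ f.B z' s ≠ 0 := by
  have hW := h.nondeg_hperp hf.nd
  rcases hf.alt u v h with ⟨hG, z, z', hz⟩ | ⟨h1, -⟩
  · refine ⟨_, hz.closure_sing, fun y hy x hx => mem_span_of_fix_X hW hG hy.1 hy.2 ?_,
      fun y hy y' hy' => exists_opp' hW hG hy.1 hy.2 hy'.1 hy'.2⟩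
    rintro _ ⟨w, a, hw, ha, rfl⟩
    have e1 := mem_hperp.1 y.2
    have e2 := mem_hperp.1 w.2
    exact Subtype.ext (hx (f.eich y w a hy.2 hw ha) (eich_mem_EO _ _ _)
      ((X_isPGroup _).unip4 (eich_mem_X _ _ _))
      (f.eich_apply_of_orth _ _ _ (B_comm_zero e1.1) (B_comm_zero e2.1))
      (f.eich_apply_of_orth _ _ _ (B_comm_zero e1.2) (B_comm_zero e2.2)) (f.eich_apply_self _ _ _))
  · have := (hf.pack u v h).1
    have key : ∀ z : f.hperp u v, z ≠ 0 → ∀ x, ∃ c : F, c • z = x := fun z hz =>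
      (finrank_eq_one_iff_of_nonzero' z hz).1 h1
    refine ⟨_, closure_ne_zero, fun z hz x _ => key z hz x, fun z hz z' hz' => ⟨z, hz, ?_⟩⟩
    have h2 : f.B z z ≠ 0 := fun h0 => hz (hW.eq_zero fun y => by
      obtain ⟨c, rfl⟩ := key z hz y
      simp [h0])
    obtain ⟨c, rfl⟩ := key z hz z'
    have : c ≠ 0 := fun h => hz' (by simp [h])
    simp [h2, this]

theorem AG.lift_X (hf : f.AG p) (hc : Corr f.EO f.EO Γ) {x x' : V} (hxQ : f.Q x = 0) (hx' : x' ≠ 0)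
    (hxQ' : f.Q x' = 0) (hR : Rel Γ (Submodule.span F {x}) (Submodule.span F {x'}))
    {g : V ≃ₗ[F] V} (hg : g ∈ f.X x hxQ) : ∃ g' ∈ f.X x' hxQ', (g, g') ∈ Γ := by
  obtain ⟨s, hs⟩ := hf.nd.exists_partner' hxQ' hx'
  have hX := X_isPGroup (p := p) hxQ
  obtain ⟨g', h1, h2⟩ := hc.exists_ulift hX (X_le_EO _) hg
  refine ⟨g', hf.ulift_le_X hc.symm hs hR.symm hX (X_le_stab _) (fun m hm hm' k hk => ?_) h1, h2⟩
  obtain ⟨c, hc⟩ := mem_stab_span.1 hm'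
  exact conj_mem_X' _ (EO_le_Isom hm) hc hk

theorem AG.orth (hf : f.AG p) (hc : Corr f.EO f.EO Γ) {x x' y y' : V} (hx : x ≠ 0)
    (hxQ : f.Q x = 0) (hx' : x' ≠ 0) (hxQ' : f.Q x' = 0) (hy : y ≠ 0) (hyQ : f.Q y = 0)
    (hy' : y' ≠ 0) (h1 : Rel Γ (Submodule.span F {x}) (Submodule.span F {x'}))
    (h2 : Rel Γ (Submodule.span F {y}) (Submodule.span F {y'})) (h : f.B x y = 0) :
    f.B x' y' = 0 := by
  by_cases hxy : ∃ c : F, c • x = y
  · obtain ⟨c, rfl⟩ := hxy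
    rw [Submodule.span_singleton_smul_eq (Ne.isUnit fun h => hy (by simp [h]))] at h2
    obtain ⟨d, hd⟩ := hf.span_eq hx' hxQ' hy' fun g hg => (hc.stab_congr h1 h2 hg).1
    have := B_self_of_Q hxQ'
    nth_rewrite 2 [← hd] at this
    simpa [show d ≠ 0 from fun h => hx' (by simp [← hd, h])] using this
  by_contra hne
  have hg := eich_mem_X hxQ h (a := 0) (by simp [hyQ])
  obtain ⟨g', h3, h4⟩ := hf.lift_X hc hxQ hx' hxQ' h1 hg
  have h5 := ((X_isPGroup (p := p) _).unip4 h3).fix_of_stab ((h2 _ _ h4).1 (mem_stab_span.2 ⟨1, by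
    rw [one_smul]; exact f.eich_apply_of_orth _ _ _ h (B_self_of_Q hyQ)⟩))
  rw [X_regular _ h3 hne h5] at h4
  obtain ⟨s, hs⟩ := hf.nd.exists_partner' hxQ hx
  have := LinearEquiv.congr_fun (hc.eq_one_of_unip h4 ((X_isPGroup (p := p) _).unip4 hg)) s
  simp only [eich_apply, hs.B12, one_smul, map_zero, zero_mul, zero_smul, sub_zero,
    LinearEquiv.coe_one, id, add_sub_assoc, add_eq_left, sub_eq_zero] at this
  exact hxy ⟨_, this.symm⟩

/-- Two corresponding hyperbolic pairs. -/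
structure NC (f : FS P V) (Γ : Subgroup ((V ≃ₗ[F] V) × (V ≃ₗ[F] V))) (u v u' v' : V) : Prop where
  c : Corr f.EO f.EO Γ
  h : f.IsHyp u v
  h' : f.IsHyp u' v'
  ru : Rel Γ (Submodule.span F {u}) (Submodule.span F {u'})
  rv : Rel Γ (Submodule.span F {v}) (Submodule.span F {v'})

omit [Finite F] [FiniteDimensional F V] in
theorem NC.symm (H : f.NC Γ u v u' v') : f.NC (swp Γ) u' v' u v :=
  ⟨H.c.symm, H.h', H.h, H.ru.symm, H.rv.symm⟩

/-- Corresponding parameters. -/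
def NC.R (H : f.NC Γ u v u' v') (w : f.hperp u v) (a : F) (w' : f.hperp u' v') (a' : F) : Prop :=
  ∃ ha ha', (H.h.E w a ha, H.h'.E w' a' ha') ∈ Γ

omit [Finite F] [FiniteDimensional F V] in
theorem NC.R.symm {H : f.NC Γ u v u' v'} {w a w' a'} (h : H.R w a w' a') : H.symm.R w' a' w a := by
  obtain ⟨h1, h2, h⟩ := h
  exact ⟨h2, h1, h⟩

theorem NC.ex (hf : f.AG p) (H : f.NC Γ u v u' v') (w : f.hperp u v) (a : F) (ha : P.τ a = f.Q w) :
    ∃ w' a', H.R w a w' a' := by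
  obtain ⟨g', h1, h2⟩ := hf.lift_X H.c H.h.Q1 H.h'.ne1 H.h'.Q1 H.ru (H.h.E_mem w a ha)
  obtain ⟨w', a', ha', rfl⟩ := H.h'.exists_E h1
  exact ⟨w', a', ha, ha', h2⟩

omit [Finite F] [FiniteDimensional F V] in
include p in
theorem NC.R.uniq {H : f.NC Γ u v u' v'} {w a} {w₁ w₂ : f.hperp u' v'} {a₁ a₂ : F}
    (e1 : H.R w a w₁ a₁) (e2 : H.R w a w₂ a₂) : w₁ = w₂ ∧ a₁ = a₂ := by
  obtain ⟨_, _, e1⟩ := e1
  obtain ⟨_, _, e2⟩ := e2
  exact H.h'.E_inj (H.c.unip_unique e1 e2 ((X_isPGroup (p := p) _).unip4 (H.h'.E_mem _ _ _))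
    ((X_isPGroup (p := p) _).unip4 (H.h'.E_mem _ _ _)))

omit [Finite F] in
theorem NC.equi (H : f.NC Γ u v u' v') {g g' : V ≃ₗ[F] V} (hg : (g, g') ∈ Γ) {c d : F}
    (e1 : g u = c • u) (e2 : g v = d • v) : ∃ c' d' : F, g' u' = c' • u' ∧ g' v' = d' • v' ∧
      ∃ k ∈ f.levF u v, ∃ k' ∈ f.levF u' v', (∀ w, (k w : V) = P.σ c • g w) ∧
        (∀ w, (k' w : V) = P.σ c' • g' w) ∧ ∀ w a w' a', H.R w a w' a' →
          H.R (k w) (c * a * P.σ c) (k' w') (c' * a' * P.σ c') := by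
  obtain ⟨c', e3⟩ := mem_stab_span.1 ((H.ru _ _ hg).1 (mem_stab_span.2 ⟨_, e1⟩))
  obtain ⟨d', e4⟩ := mem_stab_span.1 ((H.rv _ _ hg).1 (mem_stab_span.2 ⟨_, e2⟩))
  obtain ⟨k, hk, e5⟩ := H.h.exists_levF (H.c.mem1 hg) e1 e2
  obtain ⟨k', hk', e6⟩ := H.h'.exists_levF (H.c.mem2 hg) e3 e4
  have i1 := EO_le_Isom (H.c.mem1 hg)
  have i2 := EO_le_Isom (H.c.mem2 hg)
  refine ⟨c', d', e3, e4, k, hk, k', hk', e5, e6, fun w a w' a' ⟨ha, ha', hh⟩ =>
    ⟨τ_conj' i1 (e5 w) ha, τ_conj' i2 (e6 w') ha', ?_⟩⟩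
  rw [← H.h.conj_E i1 e1 (e5 w) ha, ← H.h'.conj_E i2 e3 (e6 w') ha']
  exact Γ.mul_mem (Γ.mul_mem hg hh) (Γ.inv_mem hg)

omit [Finite F] [FiniteDimensional F V] in
theorem NC.R.mul {H : f.NC Γ u v u' v'} {w₁ w₂ : f.hperp u v} {w₁' w₂' : f.hperp u' v'}
    {a₁ a₂ a₁' a₂' : F} (e1 : H.R w₁ a₁ w₁' a₁') (e2 : H.R w₂ a₂ w₂' a₂') :
    H.R (w₁ + w₂) (a₁ + a₂ + f.B w₂ w₁) (w₁' + w₂') (a₁' + a₂' + f.B w₂' w₁') := by
  obtain ⟨h₁, h₁', e1⟩ := e1
  obtain ⟨h₂, h₂', e2⟩ := e2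
  refine ⟨τ_E_mul h₁ h₂, τ_E_mul h₁' h₂', ?_⟩
  rw [← H.h.E_mul _ _ _ _ h₁ h₂, ← H.h'.E_mul _ _ _ _ h₁' h₂']
  exact Γ.mul_mem e1 e2

omit [Finite F] [FiniteDimensional F V] in
theorem NC.R.neg {H : f.NC Γ u v u' v'} {w : f.hperp u v} {w' : f.hperp u' v'}
    {a a' : F} (e : H.R w a w' a') : H.R (-w) (P.ε * P.σ a) (-w') (P.ε * P.σ a') := by
  obtain ⟨h, h', e⟩ := e
  have := Γ.inv_mem e
  rw [Prod.inv_mk, H.h.E_inv, H.h'.E_inv] at this
  exact ⟨_, _, this⟩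

theorem NC.zc (hf : f.AN p) {H : f.NC Γ u v u' v'} {t : F} {w' : f.hperp u' v'} {a' : F}
    (e : H.R 0 t w' a') : w' = 0 := by
  have : Finite V := Module.finite_of_finite F
  let D : AddSubgroup (f.hperp u' v') :=
    { carrier := {w' | ∃ t a', H.R 0 t w' a'}
      add_mem' := fun ⟨_, _, h1⟩ ⟨_, _, h2⟩ => ⟨_, _, add_zero (0 : f.hperp u v) ▸ h1.mul h2⟩
      zero_mem' := ⟨0, 0, by simp, by simp, by rw [H.h.E_zero, H.h'.E_zero]; exact one_mem _⟩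
      neg_mem' := fun ⟨_, _, h1⟩ => ⟨_, _, neg_zero (G := f.hperp u v) ▸ h1.neg⟩ }
  rcases (hf.pack u' v' H.h').irr (A := D) (by
    rintro k' ⟨g', hg', c', e1, e2, e3⟩ w ⟨t, a, h1⟩
    obtain ⟨g, hg⟩ := H.c.ex2 g' hg'
    obtain ⟨c, d, -, -, k'', -, k, -, e4, -, e5⟩ := H.symm.equi (g := g') hg e1 e2
    have h2 := (e5 _ _ _ _ h1.symm).symm
    rw [show k'' = k' from LinearEquiv.ext fun w => Subtype.ext (by rw [e3, e4]), map_zero] at h2
    exact ⟨_, _, h2⟩) with hD | hD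
  · have : w' ∈ D := ⟨_, _, e⟩
    rwa [hD] at this
  · refine absurd ?_ (hf.card u' v' H.h').not_ge
    have key : ∀ w' : f.hperp u' v', ∃ t : P.τ.ker, ∃ a', H.R 0 t w' a' := fun w' => by
      obtain ⟨t, a, h1⟩ : w' ∈ D := hD ▸ trivial
      exact ⟨⟨t, by simpa using h1.1⟩, a, h1⟩
    choose t a h1 using key
    exact Nat.card_le_card_of_injective t fun x y hxy => ((h1 x).uniq (p := p) (hxy ▸ h1 y)).1

theorem NC.exists_φ (hf : f.AN p) (H : f.NC Γ u v u' v') : ∃ φ : f.hperp u v ≃+ f.hperp u' v',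
    ∀ w w', (∃ a a', H.R w a w' a') ↔ φ w = w' := by
  refine exists_addEquiv_of_rel _ (fun w => ?_) (fun w' => ?_) ?_ ?_ ?_
  · obtain ⟨a, ha⟩ := f.ex w
    obtain ⟨w', h1⟩ := H.ex hf.toAG w a ha
    exact ⟨w', a, h1⟩
  · obtain ⟨a, ha⟩ := f.ex w'
    obtain ⟨w, b, h1⟩ := H.symm.ex hf.toAG w' a ha
    exact ⟨w, b, a, h1.symm⟩
  · rintro w w₁ w₂ ⟨a, b, h1⟩ ⟨a', b', h2⟩
    have h4 := h1.mul h2.neg
    rw [add_neg_cancel] at h4
    exact add_neg_eq_zero.1 (NC.zc hf h4)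
  · rintro w₁ w₂ w ⟨a, b, h1⟩ ⟨a', b', h2⟩
    have h4 := (h1.mul h2.neg).symm
    rw [add_neg_cancel] at h4
    exact add_neg_eq_zero.1 (NC.zc hf h4)
  · rintro w₁ w₂ w₁' w₂' ⟨a, b, h1⟩ ⟨a', b', h2⟩
    exact ⟨_, _, h1.mul h2⟩

set_option maxHeartbeats 1000000 in
theorem NC.thmN (hf : f.AN p) (H : f.NC Γ u v u' v') : ∃ T ∈ f.GamS, f.EO ≤ agree Γ T := by
  have : Finite V := Module.finite_of_finite F
  have h := H.h
  have h' := H.h'
  have hW := h.nondeg_hperp hf.nd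
  have hW' := h'.nondeg_hperp hf.nd
  obtain ⟨φ, hφ⟩ := H.exists_φ hf
  have ex : ∀ (w : f.hperp u v) a, P.τ a = f.Q w → ∃ a', H.R w a (φ w) a' := fun w a ha => by
    obtain ⟨w', a', h1⟩ := H.ex hf.toAG w a ha
    obtain rfl := (hφ _ _).1 ⟨_, _, h1⟩
    exact ⟨a', h1⟩
  have equi : ∀ {g g' : V ≃ₗ[F] V}, (g, g') ∈ Γ → ∀ {c d : F}, g u = c • u → g v = d • v →
      ∃ c' d' : F, g' u' = c' • u' ∧ g' v' = d' • v' ∧
      ∃ (k : f.hperp u v ≃ₗ[F] f.hperp u v) (k' : f.hperp u' v' ≃ₗ[F] f.hperp u' v'),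
        (∀ w, (k w : V) = P.σ c • g w) ∧ (∀ w, (k' w : V) = P.σ c' • g' w) ∧
        (∀ w, φ (k w) = k' (φ w)) ∧ ∀ w a w' a', H.R w a w' a' →
          H.R (k w) (c * a * P.σ c) (k' w') (c' * a' * P.σ c') := by
    intro g g' hg c d e1 e2
    obtain ⟨c', d', e3, e4, k, -, k', -, e5, e6, e7⟩ := H.equi hg e1 e2
    refine ⟨c', d', e3, e4, k, k', e5, e6, fun w => ?_, e7⟩
    obtain ⟨a, ha⟩ := f.ex w
    obtain ⟨a', h1⟩ := ex w a ha
    exact (hφ _ _).1 ⟨_, _, e7 _ _ _ _ h1⟩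
  obtain ⟨ρ, hρ⟩ := (hf.pack u' v' h').semilinear φ (by
    rintro k' ⟨g', hg', c', e1, e2, e3⟩
    obtain ⟨g, hg⟩ := H.c.ex2 g' hg'
    obtain ⟨c, e4⟩ := mem_stab_span.1 ((H.ru _ _ hg).2 (mem_stab_span.2 ⟨_, e1⟩))
    obtain ⟨d, e5⟩ := mem_stab_span.1 ((H.rv _ _ hg).2 (mem_stab_span.2 ⟨_, e2⟩))
    obtain ⟨c'', d', e6, -, k, k'', -, e7, e8, -⟩ := equi hg e4 e5
    have e9 : c'' = c' := smul_left_injective F h'.ne1 (e6.symm.trans e1)
    exact ⟨k, fun x => (e8 x).trans (Subtype.ext (by rw [e7, e3, e9]))⟩)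
  -- the forms are proportional
  obtain ⟨μ, hμ⟩ : ∃ μ : F, ∀ x y : f.hperp u v, f.B (φ x) (φ y) = μ * ρ (f.B x y) := by
    obtain ⟨S, hS, hfix, hopp⟩ := hf.exists_S h
    have k1 : ∀ z ∈ S, ∃ m : F, ∀ y : f.hperp u v, f.B (φ z) (φ y) = m * ρ (f.B z y) := by
      intro z hz
      obtain ⟨s, hs⟩ := hW.2
        { toFun := fun y => ρ.symm (f.B (φ z) (φ y))
          map_add' := fun x y => by simp
          map_smul' := fun c y => by simp [hρ] }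
      have hs : ∀ y : f.hperp u v, f.B s y = ρ.symm (f.B (φ z) (φ y)) := LinearMap.congr_fun hs
      obtain ⟨c, rfl⟩ := hfix z hz s fun g hg ug e1 e2 e3 => by
        obtain ⟨g', hg', ug'⟩ := H.c.exists_unip hg ug
        obtain ⟨c', d', e4, -, k, k', e5, e6, e7, -⟩ := equi hg' (c := 1) (d := 1) (by simp [e1])
          (by simp [e2])
        have e8 : c' = 1 := smul_left_injective F h'.ne1
          (by simp only; rw [← e4, ug'.apply_eq e4, one_smul])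
        simp only [e8, map_one, one_smul] at e5 e6
        have e9 : k z = z := Subtype.ext (by rw [e5, e3])
        rw [← e5, Subtype.coe_inj, ← sub_eq_zero]
        refine hW.eq_zero fun y => ?_
        obtain ⟨y, rfl⟩ := k.surjective y
        simp only [comap_B, Submodule.subtype_apply, map_sub, LinearMap.sub_apply, sub_eq_zero]
        rw [hs, e5, e5, Isom_B (EO_le_Isom hg), hs]
        nth_rewrite 2 [← e9]
        rw [e7, e7, e6, e6, Isom_B (EO_le_Isom (H.c.mem2 hg'))]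
      exact ⟨ρ (P.σ c), fun y => by rw [← map_mul, ← B_smul_left, ← Submodule.coe_smul, hs]; simp⟩
    choose! m hm using k1
    have k2 : ∀ z ∈ S, ∀ s ∈ S, f.B z s ≠ 0 → m z = P.σ (m s) := fun z hz s hs hne => by
      have := f.symm (φ s) (φ z)
      rw [hm z hz, hm s hs, f.symm z s] at this
      simp only [map_mul, P.map_ε, P.σε, hf.comm, P.σσ] at this
      refine mul_right_cancel₀ (b := ρ (f.B z s)) (by simpa using hne) ?_
      linear_combination this + P.σ (m s) * ρ (f.B z s) * P.εε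
    have := (hf.pack u v h).1
    obtain ⟨z, hz⟩ : S.Nonempty := by
      rw [Set.nonempty_iff_ne_empty]
      rintro rfl
      simp at hS
    refine ⟨m z, fun x y => ?_⟩
    have hx : x ∈ AddSubgroup.closure S := hS ▸ trivial
    induction hx using AddSubgroup.closure_induction with
    | mem x hx =>
      obtain ⟨s, hs, h1, h2⟩ := hopp z hz x hx
      rw [hm x hx, k2 z hz s hs h1, k2 x hx s hs h2]
    | zero => simp
    | add x x' _ _ h1 h2 => simp [h1, h2, mul_add]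
    | neg x _ h1 => simp [h1]
  have := (hf.pack u v h).1
  obtain ⟨x₀, y₀, hxy⟩ : ∃ x y : f.hperp u v, f.B x y ≠ 0 := by
    obtain ⟨x, hx⟩ := exists_ne (0 : f.hperp u v)
    by_contra hh
    push Not at hh
    exact hx (hW.eq_zero (hh x))
  have hμ0 : μ ≠ 0 := by
    rintro rfl
    obtain ⟨x, hx⟩ := exists_ne (0 : f.hperp u v)
    refine hx (φ.map_eq_zero_iff.1 (hW'.eq_zero fun y => ?_))
    obtain ⟨y, rfl⟩ := φ.surjective y
    simpa using hμ x y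
  have hσμ : P.σ μ = μ := by
    have := f.symm (φ y₀) (φ x₀)
    rw [hμ, hμ, f.symm x₀ y₀] at this
    simp only [map_mul, P.map_ε, P.σε, hf.comm, P.σσ] at this
    refine mul_right_cancel₀ (b := ρ (f.B x₀ y₀)) (by simpa using hxy) ?_
    linear_combination -this - P.σ μ * ρ (f.B x₀ y₀) * P.εε
  have hN : ∀ {g g' : V ≃ₗ[F] V} {c c' : F} {k : f.hperp u v ≃ₗ[F] f.hperp u v}
      {k' : f.hperp u' v' ≃ₗ[F] f.hperp u' v'}, (g, g') ∈ Γ → (∀ w, (k w : V) = P.σ c • g w) →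
      (∀ w, (k' w : V) = P.σ c' • g' w) → (∀ w, φ (k w) = k' (φ w)) →
      c' * P.σ c' = ρ (c * P.σ c) := by
    intro g g' c c' k k' hg e1 e2 e3
    have := hμ (k x₀) (k y₀)
    rw [e3, e3, e1, e1, e2, e2, B_smul_left, B_smul_left, map_smul, map_smul,
      Isom_B (EO_le_Isom (H.c.mem1 hg)), Isom_B (EO_le_Isom (H.c.mem2 hg)), hμ, P.σσ, P.σσ] at this
    refine mul_right_cancel₀ (b := μ * ρ (f.B x₀ y₀)) (by simp [hxy, hμ0]) ?_
    simp only [smul_eq_mul, map_mul] at this ⊢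
    linear_combination this
  -- the semilinear map
  let π : V →+ f.hperp u v := AddMonoidHom.mk' (fun x => ⟨_, h.proj_mem x⟩)
    fun x y => Subtype.ext (by simp [add_smul, mul_add]; abel)
  let T0 : V →+ V := AddMonoidHom.mk'
    (fun x => (ρ (P.ε * f.B v x) * μ) • u' + ρ (f.B u x) • v' + φ (π x)) fun x y => by
      simp [add_smul, mul_add, add_mul]; abel
  have hT0 : ∀ (a b : F) (w : f.hperp u v),
      T0 (a • u + b • v + w) = (ρ a * μ) • u' + ρ b • v' + φ w := fun a b w => by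
    have e1 : f.B u (a • u + b • v + w) = b := by simp [h.B11, h.B12, (mem_hperp.1 w.2).1]
    have e2 : P.ε * f.B v (a • u + b • v + w) = a := by
      simp [h.B21, h.B22, (mem_hperp.1 w.2).2, mul_left_comm, P.εε]
    have e3 : π (a • u + b • v + w) = w := Subtype.ext (by
      change _ - _ - _ = _
      rw [e1, e2]; abel)
    change (ρ (_ * _) * μ) • u' + ρ (f.B _ _) • v' + φ (π _) = _
    rw [e1, e2, e3]
  have dec : ∀ x, ∃ (a b : F) (w : f.hperp u v), x = a • u + b • v + w := fun x => by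
    obtain ⟨a, b, w, hw, rfl⟩ := h.decomp x
    exact ⟨a, b, ⟨w, hw⟩, rfl⟩
  have hB0 : ∀ x y, f.B (T0 x) (T0 y) = μ * ρ (f.B x y) := fun x y => by
    obtain ⟨a, b, w, rfl⟩ := dec x
    obtain ⟨a', b', w', rfl⟩ := dec y
    rw [hT0, hT0, h.B_decomp _ _ _ _ w.2 w'.2, h'.B_decomp _ _ _ _ (φ w).2 (φ w').2, hμ]
    simp only [map_add, map_mul, hf.comm, hσμ, P.map_ε]
    ring
  have hinj : Function.Injective T0 := by
    rw [injective_iff_map_eq_zero]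
    refine fun x hx => hf.nd.eq_zero fun y => ?_
    simpa [hx, hμ0] using (hB0 x y).symm
  let T : GamL F V := ⟨AddEquiv.ofBijective T0 (Finite.injective_iff_bijective.1 hinj), ρ,
    fun c x => by
      obtain ⟨a, b, w, rfl⟩ := dec x
      change T0 _ = _ • T0 _
      rw [smul_add, smul_add, smul_smul, smul_smul, ← Submodule.coe_smul, hT0, hT0, hρ]
      simp [smul_smul, mul_assoc]⟩
  have hT : ∀ (a b : F) (w : f.hperp u v),
    T.T (a • u + b • v + w) = (ρ a * μ) • u' + ρ b • v' + φ w := hT0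
  have hB : ∀ x y, f.B (T.T x) (T.T y) = μ * ρ (f.B x y) := hB0
  have hTρ : ∀ c, T.ρ c = ρ c := fun _ => rfl
  have hTu : T.T u = μ • u' := by simpa using hT 1 0 0
  have hTv : T.T v = v' := by simpa using hT 0 1 0
  have hTw : ∀ w : f.hperp u v, T.T w = φ w := fun w => by simpa using hT 0 0 w
  have hTE : ∀ w a ha x, T.T (h.E w a ha x) = f.eMap u' (φ w) (μ * ρ a) (T.T x) := fun w a ha x => by
    have e1 : f.B u' (T.T x) = ρ (f.B u x) := by
      have := hB u x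
      rw [hTu, B_smul_left, hσμ] at this
      exact mul_left_cancel₀ hμ0 this
    simp only [h.E_apply, eMap_apply, map_sub, map_add, T.smul, hTu, e1, ← hTw, hB, hTρ, map_mul,
      hf.comm, hσμ, P.map_ε]
    match_scalars <;> ring
  have inA : ∀ {w a w' a'}, H.R w a w' a' → a' = μ * ρ a → h.EK (agree Γ T) w a := by
    rintro w a w' a' h1 rfl
    obtain rfl := (hφ _ _).1 ⟨_, _, h1⟩
    obtain ⟨ha, ha', h1⟩ := h1
    exact ⟨ha, mem_agree h1 ⟨1, fun y => by rw [hTE, Units.val_one, one_smul]; rfl⟩⟩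
  have ofA : ∀ {w a a'}, H.R w a (φ w) a' → h.EK (agree Γ T) w a → a' = μ * ρ a := by
    rintro w a a' ⟨ha, ha', h1⟩ ⟨_, h2⟩
    obtain ⟨c, hc⟩ := H.c.mem_semi h2 h1
    have e1 := hc v
    rw [hTE, hTv, h'.E_right, eMap_apply] at e1
    have e2 := congrArg (f.B u') e1
    have e3 := congrArg (f.B v') e1
    simp only [map_sub, map_add, map_smul, h'.B11, h'.B12, h'.B21, h'.B22, (mem_hperp.1 (φ w).2).1,
      (mem_hperp.1 (φ w).2).2, B_comm_zero (mem_hperp.1 (φ w).2).2, smul_eq_mul] at e2 e3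
    refine P.σ.injective (mul_right_cancel₀ P.ε_ne ?_)
    linear_combination -e3 - P.σ (μ * ρ a) * P.ε * e2
  have hX : f.X u h.Q1 ≤ agree Γ T := by
    rcases hf.alt u v h with ⟨-, z, z', hz⟩ | ⟨-, h1, g, hg, c, l, hl, hc, e1, e2, e3⟩
    · refine h.X_le_of_sing hz fun w hw => ?_
      obtain ⟨a', h1⟩ := ex w 0 (by simp [hw])
      refine inA h1 ?_
      obtain ⟨ha, ha', h1⟩ := h1
      have := hf.orth H.c h.ne2 h.Q2 h'.ne2 h'.Q2 (by simpa using h.ne2)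
        (by rw [Isom_Q (X_le_Isom _ (h.E_mem _ _ _)), h.Q2]) (by simpa using h'.ne2) H.rv
        (H.rv.map_span h1) (by simp [h.E_right, h.B22, (mem_hperp.1 w.2).2])
      simpa [h'.E_right, h'.B22, h'.B21, (mem_hperp.1 (φ w).2).2, P.ε_ne] using this
    · refine h.X_le (fun t ht => ?_) fun w => ?_
      · obtain ⟨w, w', rfl⟩ := h1 t ht
        obtain ⟨a, ha⟩ := f.ex w
        obtain ⟨b, hb⟩ := f.ex w'
        obtain ⟨a', _, ha', h2⟩ := ex w a ha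
        obtain ⟨b', _, hb', h3⟩ := ex w' b hb
        have h4 := comm_mem_prod h2 h3
        simp only [IsHyp.E, eich_commutator] at h4
        exact inA (w' := 0) ⟨_, _, h4⟩ (by rw [hμ, hμ, map_sub, mul_sub])
      · obtain ⟨w, rfl⟩ : ∃ w₀, w = (l - 1) • w₀ :=
          ⟨(l - 1)⁻¹ • w, by rw [smul_smul, mul_inv_cancel₀ (sub_ne_zero.2 hl), one_smul]⟩
        obtain ⟨a, ha⟩ := f.ex w
        obtain ⟨a', h2⟩ := ex w a ha
        obtain ⟨g', hg'⟩ := H.c.ex1 g hg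
        obtain ⟨c', d', -, -, k, k', e4, e5, e6, e7⟩ := equi hg' e1 e2
        have e8 := hN hg' e4 e5 e6
        rw [hc, map_one] at e8
        have e9 : k w + -w = (l - 1) • w := Subtype.ext (by simp [e4, e3, add_smul, sub_eq_add_neg])
        refine ⟨_, e9 ▸ inA ((e7 _ _ _ _ h2).mul h2.neg) ?_⟩
        rw [mul_right_comm c', e8, mul_right_comm c, hc, one_mul, one_mul, ← f.B_self _ _ ha,
          ← f.B_self _ _ h2.2.1, ← e6, ← map_neg φ, hμ, hμ, map_add, mul_add]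
  have hTS : T ∈ f.GamS := by
    refine ⟨μ, hμ0, hB, fun x a => ?_⟩
    obtain ⟨b, c, w, rfl⟩ := dec x
    rw [hT, h.Q_decomp _ _ w.2, h'.Q_decomp _ _ (φ w).2, ← sub_eq_iff_eq_add', ← sub_eq_iff_eq_add',
      ← map_sub, ← map_sub, hTρ, show μ * ρ a - P.σ (ρ b * μ) * ρ c = μ * ρ (a - P.σ b * c) by
        simp only [map_mul, map_sub, hf.comm, hσμ]; ring]
    refine ⟨fun ha => ?_, fun ha => ?_⟩
    · obtain ⟨a', h1⟩ := ex w _ ha
      rw [← ofA h1 ⟨ha, hX (h.E_mem _ _ _)⟩, h1.2.1]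
    · obtain ⟨w₁, a₁, h2⟩ := H.symm.ex hf.toAG _ _ ha
      obtain rfl := φ.injective ((hφ _ _).1 ⟨_, _, h2.symm⟩)
      rw [ρ.injective (mul_left_cancel₀ hμ0 (ofA h2.symm ⟨h2.2.1, hX (h.E_mem _ _ _)⟩)), h2.2.1]
  refine ⟨T, hTS, (maxIn_EO hf.nd hf.gc h.ne1 h.Q1 _ (H.c.agree_le T) ?_).resolve_left ?_⟩
  · rintro m ⟨hm, hm'⟩
    obtain ⟨c, hc⟩ := mem_stab_span.1 hm'
    have hI := EO_le_Isom hm
    have e0 : P.σ c * f.B u (m v) = 1 := by rw [← B_smul_left, ← hc, Isom_B hI, h.B12]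
    have hc0 : P.σ c ≠ 0 := fun h => by simp [h] at e0
    obtain ⟨x, hx, hxv⟩ := X_trans h.Q1 (r := P.σ c • m v) (s := v)
      (by rw [Q_smul, Isom_Q hI, h.Q2, mul_zero]) h.Q2 (by simpa using e0) h.B12
    have e1 : (x * m) u = c • u := by simp [hc, X_fix _ hx]
    have e2 : (x * m) v = (P.σ c)⁻¹ • v := by
      rw [map_smul] at hxv
      nth_rewrite 2 [← hxv]
      rw [smul_smul, inv_mul_cancel₀ hc0, one_smul]; rfl
    obtain ⟨g', hg'⟩ := H.c.ex1 _ (mul_mem (X_le_EO _ hx) hm)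
    obtain ⟨c', d', e3, e4, k, k', e5, e6, e7, -⟩ := equi hg' e1 e2
    have e8 := hN hg' e5 e6 e7
    have e9 := h'.right_of_left (EO_le_Isom (H.c.mem2 hg')) e3 e4
    have hc0' : P.σ c' ≠ 0 := fun h => by simp [h] at e9
    have hρ0 : ρ (P.σ c) ≠ 0 := by simpa using hc0
    have : x * m ∈ agree Γ T := mem_agree hg' ⟨Units.mk0 (ρ (P.σ c) * (P.σ c')⁻¹) (by simp [hρ0, hc0']),
      fun y => by
        obtain ⟨a, b, w, rfl⟩ := dec y
        have f1 : (x * m) w = (P.σ c)⁻¹ • (k w : V) := by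
          rw [e5, smul_smul, inv_mul_cancel₀ hc0, one_smul]
        have f2 : g' (φ w) = (P.σ c')⁻¹ • (φ (k w) : V) := by
          rw [e7, e6, smul_smul, inv_mul_cancel₀ hc0', one_smul]
        rw [hT, map_add (x * m), map_add (x * m), map_smul, map_smul, e1, e2, f1, smul_smul,
          smul_smul, ← Submodule.coe_smul, hT, hρ, map_add, map_add, map_smul, map_smul, e3, e4, f2,
          eq_inv_of_mul_eq_one_right e9]
        simp only [Units.val_mk0, map_mul, map_inv₀, Submodule.coe_smul] at e8 ⊢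
        match_scalars
        · field_simp; linear_combination ρ a * e8
        · field_simp
        · field_simp⟩
    simpa using mul_mem (inv_mem (hX hx)) this
  · intro hle
    obtain ⟨w, a, ha, hτ, -, h2, h3⟩ := hf.gc 0 _ _ h (by simp) (by simp)
    have hy := eich_mem_X h.Q2 h3 hτ
    set y := f.eich v w a h.Q2 h3 hτ with hydef
    have e1 : f.B u (y u) = -(P.σ a * P.ε) := by simp [hydef, eich_apply, h.B11, h.B12, h.B21, h2,
      B_comm_zero h2]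
    have e2 : f.B u (y u) ≠ 0 := by simp [e1, ha, P.ε_ne]
    obtain ⟨y', hy', hyy⟩ := hf.lift_X H.c h.Q2 h'.ne2 h'.Q2 H.rv hy
    have hyQ : f.Q (y u) = 0 := by rw [Isom_Q (X_le_Isom _ hy), h.Q1]
    obtain ⟨w₁, a₁, ha₁, e3⟩ := h.exists_E_right (s := (f.B u (y u))⁻¹ • y u)
      (by rw [Q_smul, hyQ, mul_zero]) (by simp [e2])
    obtain ⟨a₂, _, ha₂, e4⟩ := ex w₁ a₁ ha₁
    obtain ⟨c, hc⟩ := H.c.mem_semi (hX (h.E_mem _ _ _)) e4
    have r1 := H.rv.map_span e4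
    have e5 := hc v
    rw [hTv, e3, T.smul, smul_smul] at e5
    rw [e3, e5, Submodule.span_singleton_smul_eq (inv_ne_zero e2).isUnit,
      Submodule.span_singleton_smul_eq (Ne.isUnit (by simpa using e2))] at r1
    have r2 := H.ru.map_span hyy
    obtain ⟨d, hd⟩ := hf.span_eq (u := y' u') (u' := T.T (y u)) (by simpa using h'.ne1)
      (by rw [Isom_Q (X_le_Isom _ hy'), h'.Q1]) (by simpa using h.ne1)
      fun g hg => (H.c.stab_congr r2 r1 hg).1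
    have hy'' : GamL.conj T y ∈ f.X v' h'.Q2 := by
      have := conj_mem_X_semi hf.comm hf.hyp hTS h.Q2 (hTv ▸ h'.Q2) hy
      simpa only [hTv] using this
    rw [← GamL.conj_T, hTu, map_smul, smul_smul] at hd
    have e6 : d * μ = 1 := by
      have := congrArg (f.B v') hd
      rw [map_smul] at this
      nth_rewrite 1 [← X_fix _ hy''] at this
      nth_rewrite 2 [← X_fix _ hy'] at this
      rw [Isom_B (X_le_Isom _ hy''), Isom_B (X_le_Isom _ hy'), h'.B21] at this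
      exact mul_right_cancel₀ P.ε_ne (by simpa using this)
    rw [e6, one_smul] at hd
    have e7 := X_ext _ hy'' hy' (by simp [h'.B21, P.ε_ne]) hd
    obtain ⟨e, he⟩ := mem_stab_span.1 (hle (mem_agree hyy (e7 ▸ conj_mem_semi T y)))
    simp [he, h.B11] at e2

theorem AN.thmN (hf : f.AN p) (hc : Corr f.EO f.EO Γ) (hu : u ≠ 0) (huQ : f.Q u = 0) (hu' : u' ≠ 0)
    (huQ' : f.Q u' = 0) (hR : Rel Γ (Submodule.span F {u}) (Submodule.span F {u'})) :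
    ∃ T ∈ f.GamS, f.EO ≤ agree Γ T := by
  obtain ⟨v, h⟩ := hf.nd.exists_partner' huQ hu
  obtain ⟨g, hg, c, hgc⟩ := EO_trans hf.nd hf.gc hu huQ h.ne2 h.Q2
  obtain ⟨g', hg'⟩ := hc.ex1 g hg
  have hc0 : c ≠ 0 := fun h0 => hu (g.injective (by simp [← hgc, h0]))
  have r := hR.map_span hg'
  rw [← hgc, Submodule.span_singleton_smul_eq hc0.isUnit] at r
  have hQ : f.Q (g' u') = 0 := by rw [Isom_Q (EO_le_Isom (hc.mem2 hg')), huQ']
  have hne : f.B u' (g' u') ≠ 0 := fun h0 => by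
    simpa [h.B12] using hf.orth hc.symm hu' huQ' hu huQ (by simpa using hu') hQ h.ne2 hR.symm
      r.symm h0
  refine NC.thmN hf ⟨hc, h, isHyp_of_ne huQ' hQ hne, hR, ?_⟩
  rwa [Submodule.span_singleton_smul_eq (inv_ne_zero hne).isUnit]

end main

end FS

end Cfsg.Agent.Class
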