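import Cfsg.Agent.Class.Orth3

/-! Transfer of the orthogonal theory to matrices and to bilinear forms. -/

set_option autoImplicit false

namespace Cfsg.Agent.Class

open Module

variable {F : Type*} [Field F]

section mat
open Matrix
variable {ι : Type} [Fintype ι] [DecidableEq ι] (f : OS F (ι → F))

theorem oEquiv_rf_iff {A : Cfsg.isometryGroup F f.Q} {v : ι → F} :
    ((A : GL ι F) : Matrix _ _ F) = Cfsg.reflectionMatrix f.Q v ↔ oEquiv f A = f.rf v :=
  oEquiv_eq_iff f (reflectionMatrix_mulVec f v)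

theorem oEquiv_ee_iff {A : Cfsg.isometryGroup F f.Q} {u v : ι → F} (hu : f.Q u = 0) (hv : f.Q v = 0)
    (huv : f.B u v = 0) (c : F) :
    ((A : GL ι F) : Matrix _ _ F) = Cfsg.siegelMatrix f.Q u v c ↔ oEquiv f A = f.ee u (c • v) :=
  oEquiv_eq_iff f fun x => by
    rw [siegelMatrix_mulVec, FS.ee_apply hu (by simp [huv])]
    simp [FS.orth_Q_smul, hv, smul_smul, mul_comm]

/-- `PΩ` in abstract form. -/
noncomputable def pomegaEquiv : Cfsg.POmega F f.Q ≃*
    commutator f.Isom ⧸ Subgroup.center (commutator f.Isom) := quotCenterCongr (commCongr (oEquiv f))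

theorem comap_SOs : f.SOs.comap (oEquiv f).toMonoidHom = Cfsg.specialIsometryGroup F f.Q := by
  ext A
  change (oEquiv f A).1.det = 1 ↔ _
  rw [det_oEquiv]; rfl

/-- `SO` in abstract form. -/
noncomputable def soEquiv : Cfsg.specialIsometryGroup F f.Q ≃* f.SOs :=
  ((oEquiv f).subgroupMap _).trans (MulEquiv.subgroupCongr (by
    rw [← comap_SOs]; exact Subgroup.map_comap_eq_self_of_surjective (oEquiv f).surjective _))

theorem exists_neg_iff : (∃ g : Cfsg.isometryGroup F f.Q, g ∈ Cfsg.Omega F f.Q ∧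
    ((g : GL ι F) : Matrix ι ι F) = -1) ↔ f.neg1 ∈ commutator f.Isom := by
  have : ∀ g : Cfsg.isometryGroup F f.Q, ((g : GL ι F) : Matrix ι ι F) = -1 ↔ oEquiv f g = f.neg1 :=
    fun g => oEquiv_eq_iff f fun x => by simp [neg_mulVec]
  simp only [this, ← mem_commutator_congr (oEquiv f)]
  exact ⟨fun ⟨_, h1, h2⟩ => h2 ▸ h1, fun h => ⟨(oEquiv f).symm f.neg1, by simpa, by simp⟩⟩

end mat

theorem card_index_two_congr {G H : Type*} [Group G] [Group H] (e : G ≃* H) :
    Nat.card {K : Subgroup G // K.index = 2} = Nat.card {K : Subgroup H // K.index = 2} :=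
  card_index_two_of_surj e.toMonoidHom e.surjective fun K _ x hx => by
    rw [(map_eq_one_iff _ e.injective).1 hx]; exact one_mem _

theorem existsUnique_index_two_congr {G H : Type*} [Group G] [Group H] (e : G ≃* H)
    (h : ∃! K : Subgroup H, K.index = 2) : ∃! K : Subgroup G, K.index = 2 := by
  have := card_index_two_congr e
  rw [← unique_subtype_iff_existsUnique] at h ⊢
  obtain ⟨h⟩ := h
  rw [Nat.card_unique (α := {K : Subgroup H // K.index = 2}), Nat.card_eq_one_iff_unique] at this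
  exact ⟨@Unique.mk' _ ⟨this.2.some⟩ this.1⟩

open Classical in
theorem gcd_four_pow [Fintype F] (m : ℕ) (hm : 1 ≤ m) :
    (Nat.gcd 4 (Fintype.card F ^ m - 1) =
      if (2 : F) = 0 then 1 else if Fintype.card F ^ m % 4 = 1 then 4 else 2) ∧
    (Nat.gcd 4 (Fintype.card F ^ m + 1) =
      if (2 : F) = 0 then 1 else if Fintype.card F ^ m % 4 = 3 then 4 else 2) := by
  have h0 : 1 ≤ Fintype.card F ^ m := Nat.one_le_pow _ _ Fintype.card_pos
  have h1 : (2 : F) = 0 ↔ Fintype.card F ^ m % 2 = 0 := by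
    rw [← Nat.even_iff, Nat.even_pow' (by omega), ← Nat.not_odd_iff_even, ← not_iff_not, not_not]
    exact ⟨odd_of_two_ne_zero, two_ne_zero_of_odd⟩
  simp only [h1]
  generalize Fintype.card F ^ m = n at *
  rw [Nat.gcd_rec 4, Nat.gcd_rec 4 (n + 1)]
  have : n % 4 = 0 ∨ n % 4 = 1 ∨ n % 4 = 2 ∨ n % 4 = 3 := by omega
  rcases this with h | h | h | h
  · rw [show (n - 1) % 4 = 3 by omega, show (n + 1) % 4 = 1 by omega]; simp [show n % 2 = 0 by omega]
  · rw [show (n - 1) % 4 = 0 by omega, show (n + 1) % 4 = 2 by omega]; simp [show n % 2 = 1 by omega, h]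
  · rw [show (n - 1) % 4 = 1 by omega, show (n + 1) % 4 = 3 by omega]; simp [show n % 2 = 0 by omega]
  · rw [show (n - 1) % 4 = 2 by omega, show (n + 1) % 4 = 0 by omega]; simp [show n % 2 = 1 by omega, h]

variable {V : Type*} [AddCommGroup V] [Module F V] {U : Type*} [AddCommGroup U] [Module F U]

namespace FS

theorem card_pomega_plus [Fintype F] [FiniteDimensional F V] {f : OS F V} (hf : f.Nondeg) {m : ℕ}
    (hn : finrank F V = 2 * (m + 1)) (hm : 2 ≤ m) (hw : f.wi (m + 1)) :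
    Nat.gcd 4 (Fintype.card F ^ (m + 1) - 1) *
      Nat.card (commutator f.Isom ⧸ Subgroup.center (commutator f.Isom)) =
    Fintype.card F ^ ((m + 1) * m) * (Fintype.card F ^ (m + 1) - 1) *
      ∏ i ∈ Finset.range m, (Fintype.card F ^ (2 * (i + 1)) - 1) := by
  have h1 := card_pomega hf (by omega)
  have h2 := card_Isom_even m hf hn
  rw [sg, if_pos hw, ← h1, Nat.card_eq_fintype_card (α := F)] at h2
  rw [(gcd_four_pow _ (by omega)).1]
  have h0 : 1 ≤ Fintype.card F ^ (m + 1) := Nat.one_le_pow _ _ Fintype.card_pos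
  by_cases h : (2 : F) = 0
  · simp only [h, if_true] at h2 ⊢
    zify [h0] at h2 ⊢
    linarith
  · simp only [h, if_false, neg1_mem_plus hf h hn hw] at h2 ⊢
    zify [h0] at h2 ⊢
    linarith

theorem card_pomega_minus [Fintype F] [FiniteDimensional F V] {f : OS F V} (hf : f.Nondeg) {m : ℕ}
    (hn : finrank F V = 2 * (m + 1)) (hm : 2 ≤ m) (hw : ¬ f.wi (m + 1)) :
    Nat.gcd 4 (Fintype.card F ^ (m + 1) + 1) *
      Nat.card (commutator f.Isom ⧸ Subgroup.center (commutator f.Isom)) =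
    Fintype.card F ^ ((m + 1) * m) * (Fintype.card F ^ (m + 1) + 1) *
      ∏ i ∈ Finset.range m, (Fintype.card F ^ (2 * (i + 1)) - 1) := by
  have h1 := card_pomega hf (by omega)
  have h2 := card_Isom_even m hf hn
  rw [sg, if_neg hw, ← h1, Nat.card_eq_fintype_card (α := F)] at h2
  rw [(gcd_four_pow _ (by omega)).2]
  by_cases h : (2 : F) = 0
  · simp only [h, if_true] at h2 ⊢
    zify at h2 ⊢
    linarith
  · simp only [h, if_false, neg1_mem_minus hf h hn hw] at h2 ⊢
    zify at h2 ⊢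
    linarith

theorem card_pomega_odd [Fintype F] [FiniteDimensional F V] {f : OS F V} (hf : f.Nondeg) {m : ℕ}
    (h2 : (2 : F) ≠ 0) (hn : finrank F V = 2 * m + 1) (hm : 2 ≤ m) :
    2 * Nat.card (commutator f.Isom ⧸ Subgroup.center (commutator f.Isom)) =
    Fintype.card F ^ (m ^ 2) * ∏ i ∈ Finset.range m, (Fintype.card F ^ (2 * (i + 1)) - 1) := by
  have h1 := card_pomega hf (by omega)
  rw [card_Isom_odd m hf hn, if_neg h2, if_neg (by simp [neg1_mem_iff hf h2, hn]),
    Nat.card_eq_fintype_card (α := F)] at h1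
  linarith

/-- The orthogonal space of a symmetric bilinear form. -/
def ofSymm (B : LinearMap.BilinForm F V) : OS F V := ofQuad B.toQuadraticMap

@[simp] theorem ofSymm_Q (B : LinearMap.BilinForm F V) (x : V) : (ofSymm B).Q x = B x x := rfl

theorem ofSymm_B {B : LinearMap.BilinForm F V} (hS : B.IsSymm) (x y : V) :
    (ofSymm B).B x y = 2 * B x y := by
  rw [ofSymm, ofQuad_B, LinearMap.BilinMap.polar_toQuadraticMap, hS.eq y x, two_mul]

theorem ofSymm_nondeg [FiniteDimensional F V] {B : LinearMap.BilinForm F V} (h2 : (2 : F) ≠ 0)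
    (hS : B.IsSymm) (hB : B.Nondegenerate) : (ofSymm B).Nondeg :=
  nondeg_of_sep fun x hx => hB.1 x fun y => by simpa [ofSymm_B hS, h2] using hx y

theorem ofSymm_wi [FiniteDimensional F V] {B : LinearMap.BilinForm F V} (h2 : (2 : F) ≠ 0)
    (hS : B.IsSymm) {m : ℕ} : (ofSymm B).wi m ↔
      ∃ X : Submodule F V, finrank F X = m ∧ ∀ x ∈ X, ∀ y ∈ X, B x y = 0 := by
  constructor
  · intro h
    obtain ⟨W, h1, h3⟩ := h.exists_eq
    exact ⟨W, h3, fun x hx y hy => by simpa [ofSymm_B hS, h2] using h1.2 x hx y hy⟩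
  · rintro ⟨W, h1, h3⟩
    exact ⟨W, orth_ts.2 fun x hx => h3 x hx x hx, h1.ge⟩

theorem tmul_isSymm {B₁ : LinearMap.BilinForm F U} {B₂ : LinearMap.BilinForm F V} {ε : F}
    (hε : ε * ε = 1) (h₁ : ∀ x y, B₁ y x = ε * B₁ x y) (h₂ : ∀ x y, B₂ y x = ε * B₂ x y) :
    (B₁.tmul B₂).IsSymm := by
  refine ⟨fun x y => ?_⟩
  induction x with
  | zero => simp
  | add a b ha hb => simp_all
  | tmul a b =>
    induction y with
    | zero => simp
    | add a b ha hb => simp_all
    | tmul c d =>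
      simp only [LinearMap.BilinForm.tmul, LinearMap.BilinMap.tensorDistrib_tmul,
        LinearMap.BilinForm.tensorDistrib_tmul, smul_eq_mul, RingHom.id_apply]
      rw [h₁ a c, h₂ b d]; linear_combination (-(B₂ b d * B₁ a c)) * hε

theorem tmul_disc [FiniteDimensional F U] [FiniteDimensional F V] {B₁ : LinearMap.BilinForm F U}
    {B₂ : LinearMap.BilinForm F V} (h2 : (2 : F) ≠ 0) (h₁ : B₁.Nondegenerate) (h₂ : B₂.Nondegenerate)
    (hS₁ : B₁.IsSymm) (hS₂ : B₂.IsSymm) :
    (B₁.tmul B₂).IsSymm ∧ (ofSymm (B₁.tmul B₂)).Nondeg ∧ (ofSymm (B₁.tmul B₂)).disc =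
      (ofSymm B₁).disc ^ finrank F V * (ofSymm B₂).disc ^ finrank F U := by
  have hS := tmul_isSymm (B₁ := B₁) (B₂ := B₂) (one_mul 1) (fun x y => by rw [one_mul, hS₁.eq])
    (fun x y => by rw [one_mul, hS₂.eq])
  obtain ⟨a, ha⟩ := (ofSymm_nondeg h2 hS₁ h₁).exists_OB h2 rfl
  obtain ⟨b, hb⟩ := (ofSymm_nondeg h2 hS₂ h₂).exists_OB h2 rfl
  have key : ∀ x y z w, (B₁.tmul B₂) (x ⊗ₜ y) (z ⊗ₜ w) = B₁ x z * B₂ y w := fun x y z w => by
    simp [LinearMap.BilinForm.tmul, mul_comm]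
  have h : (ofSymm (B₁.tmul B₂)).OB fun p : Fin _ × Fin _ => a p.1 ⊗ₜ[F] b p.2 := by
    refine ⟨fun p p' hp => ?_, fun p => ?_, by simp⟩
    · rw [ofSymm_B ⟨hS.eq⟩, key]
      by_cases h3 : p.1 = p'.1
      · have := hb.orth p.2 p'.2 fun h => hp (Prod.ext h3 h)
        simp_all [ofSymm_B hS₂]
      · have := ha.orth _ _ h3
        simp_all [ofSymm_B hS₁]
    · rw [ofSymm_Q, key]; exact mul_ne_zero (ha.ne _) (hb.ne _)
  refine ⟨hS, h.nondeg h2, ?_⟩
  rw [h.disc_eq h2, ha.disc_eq h2, hb.disc_eq h2, sqc_prod _ h.ne, sqc_prod _ ha.ne, sqc_prod _ hb.ne]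
  simp only [ofSymm_Q, key]
  rw [Finset.prod_congr rfl fun p _ => sqc_mul (ha.ne p.1) (hb.ne p.2), Finset.prod_mul_distrib,
    Fintype.prod_prod_type, Fintype.prod_prod_type_right]
  simp [Finset.prod_pow]

end FS

end Cfsg.Agent.Class
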