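import Cfsg.Agent.Class.Aut5
import Cfsg.Agent.Class.Orth4

/-! Automorphisms of classical groups, VI: verification of the hypotheses and counting. -/

set_option autoImplicit false

namespace Cfsg.Agent.Class

open Module
open scoped commutatorElement

variable {F : Type*} [Field F] {P : FP F} {V : Type*} [AddCommGroup V] [Module F V]

theorem Pack.mono {p : ℕ} {L L' : Subgroup (V ≃ₗ[F] V)} (h : Pack p L) (hle : L ≤ L') :
    Pack p L' := by
  obtain ⟨h0, S, hS, h⟩ := h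
  refine ⟨h0, S, hS, fun z hz => ?_⟩
  obtain ⟨h1, Q, hQ, h2⟩ := h z hz
  exact ⟨eq_top_iff.2 (h1.ge.trans (Subring.closure_mono fun c ⟨g, hg, e⟩ => ⟨g, hle hg, e⟩)),
    Q, hQ.trans hle, h2⟩

theorem closure_eq_top_of_ne {S : Set F} (h : ∀ c : F, c ≠ 0 → c ∈ S) : Subring.closure S = ⊤ :=
  eq_top_iff.2 fun c _ => by
    by_cases hc : c = 0
    · rw [hc]; exact zero_mem _
    · exact Subring.subset_closure (h c hc)

namespace FS
variable {f : FS P V} {u v : V}

theorem pack_of_sing {p : ℕ} [Fact p.Prime] [CharP F p] (hf : f.Nondeg) (hG : f.GoodC)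
    (h : f.IsHyp u v) {L : Subgroup (V ≃ₗ[F] V)} (hL : f.EO ≤ L)
    (ht : ∀ z z', f.IsHyp z z' → Subring.closure {c : F | ∃ g ∈ L, g z = c • z} = ⊤) :
    Pack p L := by
  refine ⟨⟨u, 0, h.ne1⟩, _, h.closure_sing, fun z hz => ?_⟩
  obtain ⟨z', hz'⟩ := hf.exists_partner' hz.2 hz.1
  exact ⟨ht z z' hz', f.X z hz.2, (X_le_EO _).trans hL, X_isPGroup _,
    fun x hx => mem_span_of_fix_X hf hG hz.1 hz.2 hx⟩

theorem res_EO_le_levF : (f.res (f.hperp u v)).EO ≤ f.levF u v := by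
  refine EO_le fun z w a hz hw ha => ?_
  have e1 : ∀ x : f.hperp u v, f.B x u = 0 := fun x => B_comm_zero (mem_hperp.1 x.2).1
  have e2 : ∀ x : f.hperp u v, f.B x v = 0 := fun x => B_comm_zero (mem_hperp.1 x.2).2
  refine ⟨f.eich z w a hz hw ha, eich_mem_EO _ _ _, 1, ?_, ?_, fun x => ?_⟩
  · exact (f.eich_apply _ _ _ _ _ _ _).trans (by simp [e1])
  · exact (f.eich_apply _ _ _ _ _ _ _).trans (by simp [e2])
  · rw [Units.val_one, map_one, one_smul]
    exact Eq.trans (by simp [eich_apply]) (f.eich_apply _ _ _ _ _ _ _).symm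

theorem IsHyp.of_res {W : Submodule F V} {z z' : W} (h : (f.res W).IsHyp z z') :
    f.IsHyp (z : V) z' := ⟨h.Q1, h.Q2, h.B12⟩

theorem card_hperp [Finite F] [FiniteDimensional F V] (h : f.IsHyp u v) :
    Nat.card (f.hperp u v) = Nat.card F ^ (finrank F V - 2) := by
  rw [Module.natCard_eq_pow_finrank (K := F), ← h.finrank_hperp]; simp

theorem scal_mem_GamS (c : Fˣ) : GamL.ofLin (scal V c) ∈ f.GamS := by
  refine ⟨P.σ c * c, by simp, fun x y => by simp; ring, fun x a => ?_⟩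
  have e : P.τ (P.σ c * c * a) = P.σ c * c * P.τ a := by rw [← P.τ_conj]; congr 1; ring
  simp only [GamL.ofLin_ρ, GamL.ofLin_T, scal_apply, Q_smul, e]
  exact (mul_right_inj' (by simp)).symm

/-- Similarities with given multiplier. -/
def IsSim (f : FS P V) (g : V ≃ₗ[F] V) (μ : F) : Prop :=
  (∀ x y, f.B (g x) (g y) = μ * f.B x y) ∧ ∀ x a, P.τ a = f.Q x ↔ P.τ (μ * a) = f.Q (g x)

theorem card_Sim (h : f.IsHyp u v) (M : Subgroup Fˣ)
    (hM : ∀ μ : Fˣ, μ ∈ M ↔ ∃ g, f.IsSim g μ) :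
    Nat.card (f.GamS.comap GamL.ofLin) = Nat.card M * Nat.card f.Isom := by
  let D : Subgroup ((V ≃ₗ[F] V) × Fˣ) :=
    { carrier := {x | f.IsSim x.1 x.2}
      mul_mem' := by
        rintro a b ⟨h1, h2⟩ ⟨h4, h5⟩
        exact ⟨fun x y => by simp [h1, h4, mul_assoc], fun x c => by rw [h5, h2]; simp [mul_assoc]⟩
      one_mem' := ⟨by simp, by simp⟩
      inv_mem' := by
        rintro a ⟨h1, h2⟩
        refine ⟨fun x y => ?_, fun x c => ?_⟩
        · obtain ⟨x, rfl⟩ := a.1.surjective x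
          obtain ⟨y, rfl⟩ := a.1.surjective y
          simp [h1]
        · obtain ⟨x, rfl⟩ := a.1.surjective x
          simp [h2 x] }
  have inj : ∀ a ∈ D, ∀ b ∈ D, a.1 = b.1 → a = b := fun a ha b hb e => Prod.ext e (Units.ext (by
    have h1 := ha.1 u v
    have h2 := hb.1 u v
    rw [e, h2, h.B12] at h1
    simpa using h1.symm))
  have e1 : Nat.card (f.GamS.comap GamL.ofLin) = Nat.card D := by
    symm
    refine Nat.card_congr (Equiv.ofBijective (fun a => ⟨a.1.1, a.1.2, a.1.2.ne_zero, a.2.1, a.2.2⟩)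
      ⟨fun a b e => Subtype.ext (inj _ a.2 _ b.2 (congrArg Subtype.val e)), ?_⟩)
    rintro ⟨g, μ, h0, h1, h2⟩
    exact ⟨⟨(g, Units.mk0 μ h0), h1, h2⟩, rfl⟩
  have e2 : D.map (MonoidHom.snd _ _) = M := by
    ext μ
    rw [hM]
    exact ⟨fun ⟨a, ha, e⟩ => ⟨a.1, e ▸ ha⟩, fun ⟨g, hg⟩ => ⟨(g, μ), hg, rfl⟩⟩
  rw [e1, card_eq_map_mul_inf_ker (MonoidHom.snd _ _) D, e2]
  congr 1
  refine Nat.card_congr (Equiv.ofBijective (fun a => ⟨a.1.1, ?_⟩)
    ⟨fun a b e => Subtype.ext (inj _ a.2.1 _ b.2.1 (congrArg Subtype.val e)), ?_⟩)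
  · obtain ⟨⟨g, μ⟩, ⟨h1, h2⟩, h3⟩ := a
    obtain rfl : μ = 1 := h3
    refine ⟨by simpa using h1, fun x => ?_⟩
    obtain ⟨a, ha⟩ := f.ex x
    simpa [ha] using ((h2 x a).1 ha).symm
  · rintro ⟨g, hg⟩
    exact ⟨⟨(g, 1), ⟨by simpa using hg.1, by simp [hg.2]⟩, rfl⟩, rfl⟩

section main
variable {p : ℕ} [Fact p.Prime] [CharP F p] [Finite F] [FiniteDimensional F V]

/-- The automorphisms induced by semisimilarities. -/
def AN.ind (hf : f.AN p) : Subgroup (MulAut (PQ f.EO)) :=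
  (autHom f.EO f.GamS (conj_mem_EO_semi hf.comm hf.hyp)).range

theorem AN.card_ind (hf : f.AN p) (hP : Pack p f.EO) {k : ℕ} (hF : Nat.card F = p ^ k)
    (hρ : ∀ ρ, ∃ T ∈ f.GamS, T.ρ = ρ) (M : Subgroup Fˣ) (hM : ∀ μ : Fˣ, μ ∈ M ↔ ∃ g, f.IsSim g μ) :
    (Nat.card F - 1) * Nat.card hf.ind = k * (Nat.card M * Nat.card f.Isom) := by
  have := Module.finite_of_finite F (M := V)
  obtain ⟨u, v, h⟩ := hf.hyp
  rw [AN.ind, ← card_range_autHom hP uGen_EO scal_mem_GamS, GamL.card_eq _ hρ, card_ringAut hF,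
    card_Sim h M hM]

theorem exists_span_of_ts {Y : Submodule F V} (hY : f.TS Y) (h1 : finrank F Y = 1) :
    ∃ y, y ≠ 0 ∧ f.Q y = 0 ∧ Y = Submodule.span F {y} := by
  obtain ⟨v', hv', hv''⟩ := finrank_eq_one_iff'.1 h1
  refine ⟨v', by simpa using hv', hY.1 _ v'.2,
    le_antisymm (fun y hy => ?_) ((Submodule.span_singleton_le_iff_mem _ _).2 v'.2)⟩
  obtain ⟨c, hc⟩ := hv'' ⟨y, hy⟩
  exact Submodule.mem_span_singleton.2 ⟨c, congrArg Subtype.val hc⟩

theorem AN.mem_ind (hf : f.AN p) (hP : Pack p f.EO) {α : MulAut (PQ f.EO)} (hu : u ≠ 0)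
    (huQ : f.Q u = 0) {Y : Submodule F V} (hY : f.TS Y) (h1 : finrank F Y = 1)
    (hR : Rel (gr α) (Submodule.span F {u}) Y) : α ∈ hf.ind := by
  have := Module.finite_of_finite F (M := V)
  obtain ⟨y, hy, hyQ, rfl⟩ := exists_span_of_ts hY h1
  obtain ⟨T, hT, h⟩ := hf.thmN (corr_gr hP.zs hP.zs α) hu huQ hy hyQ hR
  exact mem_range_autHom hP.zs hT h

end main

/-! ### Symplectic groups -/

section sp
variable {f : FS (FP.sp F) V}

theorem sp_exists_hyp [Nontrivial V] (hf : f.Nondeg) : ∃ u v, f.IsHyp u v := by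
  obtain ⟨u, hu⟩ := exists_ne (0 : V)
  exact ⟨u, hf.exists_partner' (f.sp_Q u) hu⟩

variable {p : ℕ} [Fact p.Prime] [CharP F p] [FiniteDimensional F V]

theorem sp_pack [Nontrivial V] (hf : f.Nondeg) : Pack p f.EO := by
  obtain ⟨u, v, h⟩ := sp_exists_hyp hf
  exact pack_of_sing hf sp_goodC h le_rfl fun z z' hz => closure_eq_top_of_ne fun c hc =>
    ⟨hz.scale c hc, by rw [sp_EO hf]; exact hz.scale_mem c hc, hz.scale_left c hc⟩

theorem sp_AN [Finite F] (hf : f.Nondeg) (hn : 4 ≤ finrank F V) : f.AN p := by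
  have : Nontrivial V := Module.nontrivial_of_finrank_pos (R := F) (by omega)
  have nt : ∀ u v, f.IsHyp u v → Nontrivial (f.hperp u v) := fun u v h =>
    Module.nontrivial_of_finrank_pos (R := F) (by have := h.finrank_hperp; omega)
  refine ⟨⟨hf, sp_goodC, sp_exists_hyp hf, fun u v h => ?_⟩, fun _ _ => rfl, fun u v h => ?_,
    fun u v h => ?_⟩
  · have := nt u v h
    exact (sp_pack (h.nondeg_hperp hf)).mono res_EO_le_levF
  · rw [card_ker_sp, card_hperp h]
    exact lt_self_pow₀ Finite.one_lt_card (by omega)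
  · have := nt u v h
    exact Or.inl ⟨sp_goodC, sp_exists_hyp (h.nondeg_hperp hf)⟩

omit [Fact p.Prime] [CharP F p] in
theorem sp_exists_sim (hf : f.Nondeg) (μ : Fˣ) : ∃ g, f.IsSim g μ := by
  let f' : FS (FP.sp F) V :=
    { B := (μ : F) • f.B
      Q := f.Q
      symm := fun x y => by simp [f.sp_symm x y]
      Q_add := fun x y => by simp [sp_Q]
      Q_smul := f.Q_smul
      ex := f.ex
      B_self := fun x a _ => by simp [sp_self] }
  have hf' : f'.Nondeg := nondeg_of_sep fun x hx => hf.eq_zero fun y => by simpa [f'] using hx y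
  obtain ⟨e, he⟩ := sp_isIso _ hf hf' rfl rfl
  exact ⟨e, he.1, fun x a => by simp [sp_Q]⟩

end sp

/-! ### Orthogonal groups -/

section orth
variable {f : OS F V}

theorem orth_isSim {g : V ≃ₗ[F] V} {μ : F} (hμ : μ ≠ 0) :
    f.IsSim g μ ↔ ∀ x, f.Q (g x) = μ * f.Q x := by
  refine ⟨fun h x => ((h.2 x _).1 rfl).symm, fun h => ⟨fun x y => ?_, fun x a => ?_⟩⟩
  · have := h (x + y)
    rw [map_add, orth_Q_add, orth_Q_add, h, h] at this
    linear_combination this
  · simp [h, hμ]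

theorem orth_mem_GamS {T : GamL F V} {μ : F} (hμ : μ ≠ 0)
    (h : ∀ x, f.Q (T.T x) = μ * T.ρ (f.Q x)) : T ∈ f.GamS := by
  refine ⟨μ, hμ, fun x y => ?_, fun x a => by simp [h, hμ]⟩
  have := h (x + y)
  rw [map_add, orth_Q_add, orth_Q_add, h, h, map_add, map_add] at this
  linear_combination this

theorem IsHyp.rf_swap (h : f.IsHyp u v) (a b : F) {w : V} (hw : w ∈ f.hperp u v) :
    (f.rf (u - v)).1 (a • u + b • v + w) = b • u + a • v + w := by
  have hQ : f.Q (u - v) = -1 := by simp [orth_Q_sub, h.Q1, h.Q2, h.B12]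
  have := h.B21
  simp only [FP.orth_ε] at this
  simp only [rf_apply, hQ, map_add, map_sub, map_smul, LinearMap.sub_apply, h.B11, h.B12, h.B22,
    this, (mem_hperp.1 hw).1, (mem_hperp.1 hw).2, smul_eq_mul]
  match_scalars <;> field_simp <;> ring

variable [Finite F] [FiniteDimensional F V]

theorem orth_scale_sq (hf : f.Nondeg) (hn : 5 ≤ finrank F V) (h : f.IsHyp u v) {c : F}
    (hc : c ≠ 0) : h.scale (c * c) (mul_ne_zero hc hc) ∈ f.EO := by
  have := Subgroup.commutator_mem_commutator (Subgroup.mem_top (⟨_, h.scale_mem c hc⟩ : f.Isom))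
    (Subgroup.mem_top (f.rf (u - v)))
  rw [← commutator_def, ← EOs_eq hf (rc_of_five hn) (by omega)] at this
  have h2 : ((⁅(⟨_, h.scale_mem c hc⟩ : f.Isom), f.rf (u - v)⁆ : f.Isom) : V ≃ₗ[F] V) ∈ f.EO := this
  convert h2 using 1
  rw [commutatorElement_def, rf_inv]
  simp only [Subgroup.coe_mul, Subgroup.coe_inv]
  have e : (h.scale c hc)⁻¹ = h.scale c⁻¹ (inv_ne_zero hc) := by
    rw [inv_eq_iff_mul_eq_one, ← h.scale_mul]
    ext x
    simp [h.scale_apply, hc]
  rw [e]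
  ext x
  obtain ⟨a, b, w, hw, rfl⟩ := h.decomp x
  simp only [LinearEquiv.mul_apply, h.scale_decomp _ _ _ _ hw, h.rf_swap _ _ hw, FP.orth_σ]
  match_scalars <;> field_simp

variable {p : ℕ} [Fact p.Prime] [CharP F p]

theorem orth_pack (hf : f.Nondeg) (hn : 5 ≤ finrank F V) : Pack p f.EO := by
  obtain ⟨u, v, h⟩ := hf.exists_hyp (by omega)
  exact pack_of_sing hf (orth_goodC hf hn) h le_rfl fun z z' hz => closure_sq_eq_top fun c hc =>
    ⟨_, orth_scale_sq hf hn hz hc, hz.scale_left _ _⟩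

theorem orth_AN (hf : f.Nondeg) (hn : 7 ≤ finrank F V) : f.AN p := by
  refine ⟨⟨hf, orth_goodC hf (by omega), hf.exists_hyp (by omega), fun u v h => ?_⟩,
    fun _ _ => rfl, fun u v h => ?_, fun u v h => ?_⟩
  · have := h.finrank_hperp
    exact (orth_pack (h.nondeg_hperp hf) (by omega)).mono res_EO_le_levF
  · rw [card_ker_orth, card_hperp h]
    exact one_lt_pow₀ Finite.one_lt_card (by omega)
  · have := h.finrank_hperp
    exact Or.inl ⟨orth_goodC (h.nondeg_hperp hf) (by omega),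
      (h.nondeg_hperp hf).exists_hyp (by omega)⟩

theorem orth_exists_sim (hf : f.Nondeg) {m : ℕ} (hn : finrank F V = 2 * m) (μ : Fˣ) :
    ∃ g, f.IsSim g μ := by
  obtain ⟨e, he⟩ := isIso_of_even m hf (hf.smul μ.ne_zero) hn hn (smul_wi μ.ne_zero).symm
  exact ⟨e, (orth_isSim μ.ne_zero).2 he.2⟩

theorem orth_sim_iff (hf : f.Nondeg) (h2 : (2 : F) ≠ 0) (hn : Odd (finrank F V)) (μ : Fˣ) :
    μ ∈ (powMonoidHom 2 : Fˣ →* Fˣ).range ↔ ∃ g, f.IsSim g μ := by
  constructor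
  · rintro ⟨c, rfl⟩
    exact ⟨scal V c, (orth_isSim (Units.ne_zero _)).2 fun x => by simp [orth_Q_smul, sq]⟩
  · rintro ⟨g, hg⟩
    have h1 : (f.smul (μ : F)).IsIso f g := orth_isIso ((orth_isSim μ.ne_zero).1 hg)
    have h3 := h1.disc_eq hf h2
    rw [disc_smul hf h2 μ.ne_zero, mul_eq_right] at h3
    obtain ⟨k, hk⟩ := hn
    rw [hk, pow_succ, pow_mul, sq, SqC.mul_self, one_pow, one_mul, sqc_eq_one μ.ne_zero] at h3
    obtain ⟨c, hc⟩ := h3
    have : c ≠ 0 := fun h => μ.ne_zero (by simp [hc, h])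
    exact ⟨Units.mk0 c this, Units.ext (by simp [hc, sq])⟩

end orth

/-! ### Unitary groups -/

section herm
variable {σ : F →+* F} {hσ : ∀ a, σ (σ a) = a} {q : ℕ} {f : FS (FP.herm σ hσ) V}

theorem _root_.Cfsg.Agent.Class.UF.comm (h : UF σ q) (ρ : RingAut F) (a : F) :
    ρ (σ a) = σ (ρ a) := by rw [h.eq, h.eq, map_pow]

theorem herm_mem_GamS (h : UF σ q) {T : GamL F V} {μ : F} (hμ : μ ≠ 0) (hμ' : σ μ = μ)
    (hT : ∀ x y, f.B (T.T x) (T.T y) = μ * T.ρ (f.B x y)) : T ∈ f.GamS := by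
  refine ⟨μ, hμ, hT, fun x a => ?_⟩
  simp only [FP.herm_τ, herm_Q, hT, map_mul, hμ', ← h.comm, ← mul_add, ← map_add]
  rw [mul_right_inj' hμ, T.ρ.injective.eq_iff]

theorem _root_.Cfsg.Agent.Class.UF.exists_cube_ne (h : UF σ q) (hq : 3 ≤ q) :
    ∃ l : F, σ l * l = 1 ∧ l ^ 3 ≠ 1 := by
  by_contra! H
  have := h.finite
  have h1 := Nat.card_le_card_of_injective
    (fun x : {x : F // σ x * x = 1} => (⟨x.1, H _ x.2⟩ : {x : F // x ^ 3 = 1}))
    fun a b e => Subtype.ext (Subtype.mk.inj e)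
  rw [h.card_norm_one, card_pow_eq_one (by norm_num)] at h1
  have := Nat.gcd_le_left (m := 3) (Nat.card F - 1) (by norm_num)
  omega

theorem closure_of_fixed (hσ : ∀ a, σ (σ a) = a) {S : Set F} (h1 : ∀ c, c ≠ 0 → σ c = c → c ∈ S)
    {l : F} (hl : l ∈ S) (hl' : σ l ≠ l) : Subring.closure S = ⊤ := by
  have h0 : ∀ c, σ c = c → c ∈ Subring.closure S := fun c hc => by
    by_cases h : c = 0
    · rw [h]; exact zero_mem _
    · exact Subring.subset_closure (h1 c h hc)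
  refine eq_top_iff.2 fun x _ => ?_
  have hd : l - σ l ≠ 0 := sub_ne_zero.2 hl'.symm
  have hd' : σ l - l ≠ 0 := sub_ne_zero.2 hl'
  have e : x = (x - (x - σ x) / (l - σ l) * l) + (x - σ x) / (l - σ l) * l := by ring
  rw [e]
  refine add_mem (h0 _ ?_) (mul_mem (h0 _ ?_) (Subring.subset_closure hl))
  · simp only [map_sub, map_mul, map_div₀, hσ]
    field_simp
    ring
  · simp only [map_sub, map_div₀, hσ]
    field_simp
    ring

variable [FiniteDimensional F V]

theorem herm_exists_det' {e : V} (he : f.B e e = 1) {l : F} (hl : σ l * l = 1) :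
    ∃ g ∈ f.Isom, (g.det : F) = l ∧ g e = l • e ∧ ∀ x, f.B e x = 0 → g x = x := by
  by_cases h1 : l = 1
  · exact ⟨1, Subgroup.one_mem _, by simp [h1], by simp [h1], fun _ _ => rfl⟩
  have h2 : 1 - l ≠ 0 := sub_ne_zero.2 (Ne.symm h1)
  have h3 : 1 - σ l ≠ 0 := by simpa using (map_ne_zero σ).2 h2
  refine ⟨f.refl e (1 - l)⁻¹ (inv_ne_zero h2) (by rw [herm_Q, he]; exact herm_τ_quasi hl h1),
    f.refl_mem _ _ _ _, ?_, by simp [refl_apply, he, sub_smul], fun x hx => by simp [refl_apply, hx]⟩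
  rw [det_refl]
  simp only [FP.herm_ε, FP.herm_σ, map_inv₀, map_sub, map_one]
  field_simp
  linear_combination hl

theorem herm_torus (h : UF σ q) (hf : f.Nondeg) (hq : 3 ≤ q ∨ 4 ≤ finrank F V) (hh : f.IsHyp u v)
    {e : V} (he : e ∈ f.hperp u v) (he1 : f.B e e = 1) {c : F} (hc : c ≠ 0) :
    ∃ g ∈ f.EO, g u = c • u ∧ g v = (σ c)⁻¹ • v ∧ g e = (σ c / c) • e := by
  have : Nontrivial V := ⟨u, 0, hh.ne1⟩
  have hc' : σ c ≠ 0 := by simpa using hc
  have h1 := B_comm_zero (mem_hperp.1 he).1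
  have h2 := B_comm_zero (mem_hperp.1 he).2
  obtain ⟨k, hk, hd, hke, hx⟩ := herm_exists_det' he1 (l := σ c / c) (by simp [hσ, hc, hc'])
  refine ⟨hh.scale c hc * k, ?_, by simp [hx u h1, hh.scale_left],
    by simp [hx v h2, hh.scale_right], by simp [hke, hh.scale_perp _ _ he]⟩
  rw [herm_EO h hf hq]
  refine mem_SI.2 ⟨mul_mem (hh.scale_mem c hc) hk, Units.ext ?_⟩
  simp only [map_mul, Units.val_mul, hd, hh.det_scale, FP.herm_σ, Units.val_one]
  field_simp

theorem herm_exists_e (h : UF σ q) (hf : f.Nondeg) (hn : 3 ≤ finrank F V) (hh : f.IsHyp u v) :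
    ∃ e : f.hperp u v, f.B e e = 1 := by
  have : Nontrivial (f.hperp u v) :=
    Module.nontrivial_of_finrank_pos (R := F) (by have := hh.finrank_hperp; omega)
  exact (hh.nondeg_hperp hf).exists_norm_one h

variable {p : ℕ} [Fact p.Prime] [CharP F p]

theorem herm_pack (h : UF σ q) (hf : f.Nondeg) (hn : 3 ≤ finrank F V)
    (hq : 3 ≤ q ∨ 4 ≤ finrank F V) : Pack p f.EO := by
  obtain ⟨u, v, hh⟩ := hf.herm_exists_hyp h (by omega)
  refine pack_of_sing hf (herm_goodC h) hh le_rfl fun z z' hz => closure_eq_top_of_ne fun c hc => ?_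
  obtain ⟨e, he⟩ := herm_exists_e h hf hn hz
  obtain ⟨g, hg, h1, -⟩ := herm_torus h hf hq hz e.2 he hc
  exact ⟨g, hg, h1⟩

theorem herm_AN (h : UF σ q) (hf : f.Nondeg) (hn : 3 ≤ finrank F V)
    (hq : 3 ≤ q ∨ 4 ≤ finrank F V) : f.AN p := by
  have := h.finite
  have : Nontrivial V := Module.nontrivial_of_finrank_pos (R := F) (by omega)
  have one : ∀ u v, f.IsHyp u v → finrank F V = 3 → ∀ e : f.hperp u v, f.B e e = 1 →
      ∀ w : f.hperp u v, ∃ c : F, c • e = w := fun u v hh h3 e he w =>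
    (finrank_eq_one_iff_of_nonzero' e (fun h0 => by simp [h0] at he)).1
      (by have := hh.finrank_hperp; omega) w
  refine ⟨⟨hf, herm_goodC h, hf.herm_exists_hyp h (by omega), fun u v hh => ?_⟩,
    h.comm, fun u v hh => ?_, fun u v hh => ?_⟩
  · have hd := hh.finrank_hperp
    by_cases h3 : finrank F V = 3
    · obtain ⟨e, he⟩ := herm_exists_e h hf hn hh
      have he0 : e ≠ 0 := fun h0 => by simp [h0] at he
      have : Nontrivial (f.hperp u v) := ⟨e, 0, he0⟩
      refine ⟨this, _, closure_ne_zero, fun z hz => ⟨?_, ⊥, bot_le, IsPGroup.of_bot, fun x _ => ?_⟩⟩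
      · have key : ∀ c : F, c ≠ 0 →
            σ c * (σ c / c) ∈ {c : F | ∃ g ∈ f.levF u v, g z = c • z} := fun c hc => by
          obtain ⟨g, hg, h1, h2, h4⟩ := herm_torus h hf hq hh e.2 he hc
          obtain ⟨k, hk, h5⟩ := hh.exists_levF hg h1 h2
          obtain ⟨d, rfl⟩ := one u v hh h3 e he z
          refine ⟨k, hk, Subtype.ext ?_⟩
          simp [h5, h4, smul_smul, mul_comm, mul_left_comm]
        obtain ⟨l, hl, hl3⟩ := h.exists_cube_ne (by omega)
        obtain ⟨c, hc, rfl⟩ := h.hilbert90 hl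
        have hc' : σ c ≠ 0 := by simpa using hc
        refine closure_of_fixed hσ (fun c hc hc' => by simpa [hc', hc] using key c hc) (key c hc)
          fun e => hl3 ?_
        simp only [map_mul, map_div₀, hσ] at e
        field_simp at e ⊢
        exact e
      · obtain ⟨d, rfl⟩ := one u v hh h3 e he z
        obtain ⟨d', rfl⟩ := one u v hh h3 e he x
        have : d ≠ 0 := fun h0 => hz (by simp [h0])
        exact ⟨d' / d, by rw [smul_smul, div_mul_cancel₀ _ this]⟩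
    · obtain ⟨a, b, hab⟩ := (hh.nondeg_hperp hf).herm_exists_hyp h (by omega)
      refine pack_of_sing (hh.nondeg_hperp hf) (herm_goodC h) hab res_EO_le_levF fun z z' hz =>
        closure_sq_eq_top fun c hc => ?_
      obtain ⟨c, rfl⟩ : ∃ d, σ d = c := ⟨σ c, hσ c⟩
      have hc' : c ≠ 0 := by simpa using hc
      have hz' := hz.of_res
      have h1 : u ∈ f.hperp z z' :=
        mem_hperp.2 ⟨B_comm_zero (mem_hperp.1 z.2).1, B_comm_zero (mem_hperp.1 z'.2).1⟩
      have h2 : v ∈ f.hperp z z' :=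
        mem_hperp.2 ⟨B_comm_zero (mem_hperp.1 z.2).2, B_comm_zero (mem_hperp.1 z'.2).2⟩
      have hg : hh.scale c hc' * hz'.scale (σ c) hc ∈ f.EO := by
        rw [herm_EO h hf hq]
        refine mem_SI.2 ⟨mul_mem (hh.scale_mem _ _) (hz'.scale_mem _ _), Units.ext ?_⟩
        simp only [map_mul, Units.val_mul, IsHyp.det_scale, FP.herm_σ, Units.val_one, hσ]
        field_simp
      obtain ⟨k, hk, h5⟩ := hh.exists_levF hg (c := c) (d := (σ c)⁻¹)
        (by simp [hz'.scale_perp _ _ h1, hh.scale_left])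
        (by simp [hz'.scale_perp _ _ h2, hh.scale_right])
      refine ⟨k, hk, Subtype.ext ?_⟩
      simp [h5, hz'.scale_left, hh.scale_perp _ _ z.2, smul_smul]
  · rw [h.card_ker, card_hperp hh, h.card, ← pow_mul]
    exact lt_self_pow₀ h.two_le (by omega)
  · have hd := hh.finrank_hperp
    by_cases h3 : finrank F V = 3
    · obtain ⟨e, he⟩ := herm_exists_e h hf hn hh
      refine Or.inr ⟨by omega, fun t ht => ?_, ?_⟩
      · obtain ⟨θ, hθ⟩ := exists_trace_eq hσ h.ne_id (map_one σ)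
        refine ⟨e, (-θ * t) • e, ?_⟩
        have ht : σ t = -t := eq_neg_of_add_eq_zero_right ht
        simp only [Submodule.coe_smul, B_smul_left, map_smul, he, FP.herm_σ, map_mul, map_neg, ht,
          smul_eq_mul]
        linear_combination t * hθ
      · obtain ⟨l, hl, hl3⟩ := h.exists_cube_ne (by omega)
        have hc : l ≠ 0 := fun h0 => by simp [h0] at hl
        have hs : σ l = l⁻¹ := eq_inv_of_mul_eq_one_left hl
        obtain ⟨g, hg, h1, h2, h4⟩ := herm_torus h hf hq hh e.2 he hc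
        refine ⟨g, hg, l, (l ^ 3)⁻¹, by simpa using hl3, by simp [hs, hc], h1, by simp [h2, hs],
          fun w => ?_⟩
        obtain ⟨d, rfl⟩ := one u v hh h3 e he w
        simp only [Submodule.coe_smul, map_smul, h4, FP.herm_σ, hs]
        match_scalars
        field_simp
    · exact Or.inl ⟨herm_goodC h, (hh.nondeg_hperp hf).herm_exists_hyp h (by omega)⟩

/-- The units fixed by `σ`. -/
def fixU (σ : F →+* F) : Subgroup Fˣ := (Units.map σ.toMonoidHom).eqLocus (MonoidHom.id _)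

theorem mem_fixU {c : Fˣ} : c ∈ fixU σ ↔ σ c = c := Units.ext_iff

theorem card_fixU (h : UF σ q) : Nat.card (fixU σ) = q - 1 := by
  have := h.finite
  rw [← h.card_fixed, ← card_and_ne_add_one (p := fun x => σ x = x) (map_zero σ), Nat.add_sub_cancel]
  refine Nat.card_congr (Equiv.ofBijective (fun c => ⟨c.1, c.1.ne_zero, mem_fixU.1 c.2⟩)
    ⟨fun a b e => Subtype.ext (Units.ext (Subtype.mk.inj e)), ?_⟩)
  rintro ⟨c, h0, hc⟩
  exact ⟨⟨Units.mk0 c h0, mem_fixU.2 hc⟩, rfl⟩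

omit [FiniteDimensional F V] in
theorem herm_sim_iff (h : UF σ q) (hh : f.IsHyp u v) (μ : Fˣ) :
    μ ∈ fixU σ ↔ ∃ g, f.IsSim g μ := by
  rw [mem_fixU]
  constructor
  · intro hμ
    obtain ⟨c, hc⟩ := h.exists_norm hμ
    have h0 : c ≠ 0 := fun h0 => μ.ne_zero (by simp [← hc, h0])
    refine ⟨scal V (Units.mk0 c h0), fun x y => by simp [← hc]; ring, fun x a => ?_⟩
    simp only [FP.herm_τ, scal_apply, Q_smul, FP.herm_σ, Units.val_mk0, hc, map_mul, hμ, ← mul_add]
    exact (mul_right_inj' μ.ne_zero).symm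
  · rintro ⟨g, hg⟩
    exact hh.σ_mult h.comm (T := GamL.ofLin g) hg.1

end herm

end FS

end Cfsg.Agent.Class
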