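import Cfsg.Agent.Class.Aut6

/-! Automorphisms of classical groups, VII: the generic cases. -/

set_option autoImplicit false

namespace Cfsg.Agent.Class

open Module
open scoped commutatorElement

variable {F : Type*} [Field F] {P : FP F} {V : Type*} [AddCommGroup V] [Module F V]
  {V' : Type*} [AddCommGroup V'] [Module F V']

theorem choose_two_le {k c : ℕ} (hk : 2 ≤ k) (h : k.choose 2 ≤ c * (k - 1)) : k ≤ 2 * c := by
  obtain ⟨j, rfl⟩ : ∃ j, k = j + 2 := ⟨k - 2, by omega⟩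
  have e : (j + 2).choose 2 * 2 = (j + 2) * (j + 1) := by
    rw [Nat.choose_two_right, Nat.div_mul_cancel (Nat.even_mul_pred_self _).two_dvd]; rfl
  have : (j + 2) * (j + 1) ≤ (2 * c) * (j + 1) := by
    rw [← e]; simp only [show j + 2 - 1 = j + 1 from rfl] at h; nlinarith
  exact Nat.le_of_mul_le_mul_right this (by omega)

namespace FS
variable {f : FS P V} {u v : V}
variable {p : ℕ} [Fact p.Prime] [CharP F p] [Finite F] [FiniteDimensional F V]
  [FiniteDimensional F V']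

omit [Finite F] in
theorem finrank_pos_of_ne_bot {Y : Submodule F V} (h : Y ≠ ⊥) : 1 ≤ finrank F Y :=
  Nat.pos_of_ne_zero fun h0 => h (Submodule.finrank_eq_zero.1 h0)

/-- Nonabelian unipotent radicals: all automorphisms are induced. -/
theorem AN.mem_ind_of_na (hf : f.AN p) (hP : Pack p f.EO) (hk : 1 < Nat.card P.τ.ker)
    (h : f.IsHyp u v) (hna : ∃ w ∈ f.hperp u v, ∃ w' ∈ f.hperp u v, f.B w' w ≠ f.B w w')
    (α : MulAut (PQ f.EO)) : α ∈ hf.ind := by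
  have := Module.finite_of_finite F (M := V)
  have hc := corr_gr hP.zs hP.zs α
  obtain ⟨Y, hY, hY0, hR⟩ := hf.toAG.thmA hf.toAG hc h
  have h1 := hf.toAG.card_bound' hf.toAG hc h hY hR hna
  have h2 := finrank_pos_of_ne_bot hY0
  have h3 : Nat.card P.τ.ker ^ finrank F Y ≤ Nat.card P.τ.ker ^ 1 :=
    (Nat.le_mul_of_pos_left _ (pow_pos Nat.card_pos _)).trans (by simpa using h1)
  rw [Nat.pow_le_pow_iff_right hk] at h3
  exact hf.mem_ind hP h.ne1 h.Q1 hY (by omega) hR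

theorem herm_card_mulAut {σ : F →+* F} {hσ : ∀ a, σ (σ a) = a} {q : ℕ} {f : FS (FP.herm σ hσ) V}
    (h : UF σ q) (hf : f.Nondeg) (hn : 3 ≤ finrank F V) (hq : 3 ≤ q ∨ 4 ≤ finrank F V)
    {k : ℕ} (hF : Nat.card F = p ^ k) (hρ : ∀ ρ, ∃ T ∈ f.GamS, T.ρ = ρ) :
    (q + 1) * Nat.card (MulAut (PQ f.EO)) = k * Nat.card f.Isom := by
  have hA := herm_AN (p := p) h hf hn hq
  have hP := herm_pack (p := p) h hf hn hq
  obtain ⟨u, v, hh⟩ := hA.hyp
  have h1 := hA.card_ind hP hF hρ _ (herm_sim_iff h hh)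
  have h2 := h.two_le
  rw [card_fixU h, h.card_sub_one, mul_assoc, mul_left_comm k,
    mul_right_inj' (by omega)] at h1
  rw [card_eq_of_range_top (H := hA.ind), h1]
  refine hA.mem_ind_of_na hP (by rw [h.card_ker]; omega) hh ?_
  obtain ⟨e, he⟩ := herm_exists_e h hf hn hh
  obtain ⟨c, hc⟩ := DFunLike.ne_iff.1 h.ne_id
  exact ⟨e, e.2, c • e, Submodule.smul_mem _ _ e.2, by simpa [he] using hc⟩

theorem orth_dim {f : OS F V} {Γ : Subgroup ((V ≃ₗ[F] V) × (V ≃ₗ[F] V))} (hf : f.Nondeg)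
    (hn : 7 ≤ finrank F V) (hc : Corr f.EO f.EO Γ) (h : f.IsHyp u v) {Y : Submodule F V}
    (hY : f.TS Y) (hY0 : Y ≠ ⊥) (hR : Rel Γ (Submodule.span F {u}) Y) :
    finrank F Y = 1 ∨ (finrank F Y = 4 ∧ finrank F V = 8) := by
  obtain ⟨p, _⟩ := CharP.exists F
  have : Fact p.Prime := ⟨CharP.char_is_prime F p⟩
  have hA := (orth_AN (p := p) hf hn).toAG
  have h2 := finrank_pos_of_ne_bot hY0
  refine (eq_or_lt_of_le h2).imp Eq.symm fun h3 => ?_
  have h4 := hA.perp_eq_of_ab hA hc h hY h3 hR fun w _ w' _ => f.orth_symm _ _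
  have h5 := hA.card_bound hA hc h hY hR
  have h6 := h.finrank_hperp
  rw [card_ker_orth, one_pow, mul_one, mul_one, Nat.pow_le_pow_iff_right Finite.one_lt_card] at h5
  have := choose_two_le (c := 2) h3 (by omega)
  omega

theorem orth_mem_ind {f : OS F V} (hf : f.Nondeg) (hn : 7 ≤ finrank F V)
    (h8 : finrank F V = 8 → ¬ f.wi 4) (α : MulAut (PQ f.EO)) : α ∈ (orth_AN (p := p) hf hn).ind := by
  have := Module.finite_of_finite F (M := V)
  have hA := orth_AN (p := p) hf hn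
  have hP := orth_pack (p := p) hf (by omega)
  obtain ⟨u, v, h⟩ := hA.hyp
  have hc := corr_gr hP.zs hP.zs α
  obtain ⟨Y, hY, hY0, hR⟩ := hA.toAG.thmA hA.toAG hc h
  rcases orth_dim hf hn hc h hY hY0 hR with h1 | h1
  · exact hA.mem_ind hP h.ne1 h.Q1 hY h1 hR
  · exact absurd ⟨Y, hY, h1.1.ge⟩ (h8 h1.2)

theorem orth_card_ind_even {f : OS F V} (hf : f.Nondeg) (hn : 7 ≤ finrank F V) {m : ℕ}
    (hm : finrank F V = 2 * m) {k : ℕ} (hF : Nat.card F = p ^ k)
    (hρ : ∀ ρ, ∃ T ∈ f.GamS, T.ρ = ρ) :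
    Nat.card (orth_AN (p := p) hf hn).ind = k * Nat.card f.Isom := by
  have h1 := (orth_AN (p := p) hf hn).card_ind (orth_pack hf (by omega)) hF hρ ⊤
    fun μ => ⟨fun _ => orth_exists_sim hf hm μ, fun _ => trivial⟩
  have : 1 < Nat.card F := Finite.one_lt_card
  rwa [Subgroup.card_top, Nat.card_units, mul_left_comm k, mul_right_inj' (by omega)] at h1

theorem orth_card_ind_odd {f : OS F V} (hf : f.Nondeg) (hn : 7 ≤ finrank F V) (h2 : (2 : F) ≠ 0)
    (hm : Odd (finrank F V)) {k : ℕ} (hF : Nat.card F = p ^ k)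
    (hρ : ∀ ρ, ∃ T ∈ f.GamS, T.ρ = ρ) :
    2 * Nat.card (orth_AN (p := p) hf hn).ind = k * Nat.card f.Isom := by
  have h1 := (orth_AN (p := p) hf hn).card_ind (orth_pack hf (by omega)) hF hρ _
    (orth_sim_iff hf h2 hm)
  have h3 := (powMonoidHom 2 : Fˣ →* Fˣ).range.index_mul_card
  have h4 : (powMonoidHom 2 : Fˣ →* Fˣ).range.index = 2 := card_SqC_odd h2
  rw [h4, Nat.card_units] at h3
  rwa [← h3, mul_comm 2, mul_assoc, mul_left_comm k, mul_right_inj' Nat.card_pos.ne'] at h1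

omit [Finite F] in
theorem sp_exists_na {f : FS (FP.sp F) V} (hf : f.Nondeg) (h2 : (2 : F) ≠ 0) {W : Submodule F V}
    (hW : finrank F V < 2 * finrank F W) : ∃ w ∈ W, ∃ w' ∈ W, f.B w' w ≠ f.B w w' := by
  by_contra! H
  have : f.TS W := sp_ts.2 fun x hx y hy => by
    have := H x hx y hy
    rw [f.sp_symm] at this
    refine mul_left_cancel₀ h2 ?_
    linear_combination -this
  have := this.two_mul_finrank_le hf
  omega

theorem sp_dim {f : FS (FP.sp F) V} {Γ : Subgroup ((V ≃ₗ[F] V) × (V ≃ₗ[F] V))} (hf : f.Nondeg)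
    (hn : 4 ≤ finrank F V) (h2 : (2 : F) = 0) (hc : Corr f.EO f.EO Γ) (h : f.IsHyp u v)
    {Y : Submodule F V} (hY : f.TS Y) (hY0 : Y ≠ ⊥) (hR : Rel Γ (Submodule.span F {u}) Y) :
    finrank F Y = 1 ∨ (finrank F Y = 2 ∧ finrank F V = 4) := by
  obtain ⟨p, _⟩ := CharP.exists F
  have : Fact p.Prime := ⟨CharP.char_is_prime F p⟩
  have hA := (sp_AN (p := p) hf hn).toAG
  have h1 := finrank_pos_of_ne_bot hY0
  refine (eq_or_lt_of_le h1).imp Eq.symm fun h3 => ?_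
  have h4 := hA.perp_eq_of_ab hA hc h hY h3 hR fun w _ w' _ => by
    rw [f.sp_symm]; linear_combination (-f.B w w') * h2
  have h5 := hA.card_bound hA hc h hY hR
  have h6 := h.finrank_hperp
  rw [card_ker_sp, ← pow_add, ← pow_succ, Nat.pow_le_pow_iff_right Finite.one_lt_card] at h5
  have := choose_two_le (c := 1) h3 (by omega)
  omega

theorem sp_mem_ind {f : FS (FP.sp F) V} (hf : f.Nondeg) (hn : 4 ≤ finrank F V)
    (h4 : (2 : F) = 0 → finrank F V ≠ 4) (α : MulAut (PQ f.EO)) : α ∈ (sp_AN (p := p) hf hn).ind := by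
  have := Module.finite_of_finite F (M := V)
  have : Nontrivial V := Module.nontrivial_of_finrank_pos (R := F) (by omega)
  have hA := sp_AN (p := p) hf hn
  have hP := sp_pack (p := p) hf
  obtain ⟨u, v, h⟩ := hA.hyp
  by_cases h2 : (2 : F) = 0
  · have hc := corr_gr hP.zs hP.zs α
    obtain ⟨Y, hY, hY0, hR⟩ := hA.toAG.thmA hA.toAG hc h
    rcases sp_dim hf hn h2 hc h hY hY0 hR with h1 | h1
    · exact hA.mem_ind hP h.ne1 h.Q1 hY h1 hR
    · exact absurd h1.2 (h4 h2)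
  · refine hA.mem_ind_of_na hP (by rw [card_ker_sp]; exact Finite.one_lt_card) h ?_ α
    have := h.finrank_hperp
    obtain ⟨w, -, w', -, e⟩ := sp_exists_na (h.nondeg_hperp hf) h2 (W := ⊤) (by simp; omega)
    exact ⟨w, w.2, w', w'.2, e⟩

theorem sp_card_ind {f : FS (FP.sp F) V} (hf : f.Nondeg) (hn : 4 ≤ finrank F V)
    {k : ℕ} (hF : Nat.card F = p ^ k) (hρ : ∀ ρ, ∃ T ∈ f.GamS, T.ρ = ρ) :
    Nat.card (sp_AN (p := p) hf hn).ind = k * Nat.card f.Isom := by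
  have : Nontrivial V := Module.nontrivial_of_finrank_pos (R := F) (by omega)
  have h1 := (sp_AN (p := p) hf hn).card_ind (sp_pack hf) hF hρ ⊤
    fun μ => ⟨fun _ => sp_exists_sim hf μ, fun _ => trivial⟩
  have : 1 < Nat.card F := Finite.one_lt_card
  rwa [Subgroup.card_top, Nat.card_units, mul_left_comm k, mul_right_inj' (by omega)] at h1

theorem orth_ne_sp {f : OS F V} {f' : FS (FP.sp F) V'} (hf : f.Nondeg) (hf' : f'.Nondeg)
    (h2 : (2 : F) ≠ 0) {m : ℕ} (hm : 3 ≤ m) (hn : finrank F V = 2 * m + 1)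
    (hn' : finrank F V' = 2 * m) : IsEmpty (PQ f.EO ≃* PQ f'.EO) := ⟨fun α => by
  obtain ⟨p, _⟩ := CharP.exists F
  have : Fact p.Prime := ⟨CharP.char_is_prime F p⟩
  have := Module.finite_of_finite F (M := V)
  have := Module.finite_of_finite F (M := V')
  have : Nontrivial V' := Module.nontrivial_of_finrank_pos (R := F) (by omega)
  have hA := (orth_AN (p := p) hf (by omega)).toAG
  have hA' := (sp_AN (p := p) hf' (by omega)).toAG
  have hc := corr_gr (orth_pack (p := p) hf (by omega)).zs (sp_pack (p := p) hf').zs α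
  obtain ⟨u, v, h⟩ := hA.hyp
  obtain ⟨Y, hY, hY0, hR⟩ := hA.thmA hA' hc h
  have h1 := finrank_pos_of_ne_bot hY0
  rcases eq_or_lt_of_le h1 with h3 | h3
  · have := hf'.finrank_perp Y
    obtain ⟨w, hw, w', hw', e⟩ := sp_exists_na hf' h2 (W := f'.perp Y) (by omega)
    exact e (hA.symm_of_ab hA' hc h hY hY0 hR (fun w _ w' _ => f.orth_symm _ _) hw hw')
  · have h4 := hA.perp_eq_of_ab hA' hc h hY h3 hR fun w _ w' _ => f.orth_symm _ _
    have h5 := hA.card_bound hA' hc h hY hR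
    have h6 := h.finrank_hperp
    rw [card_ker_orth, card_ker_sp, ← pow_add, mul_one,
      Nat.pow_le_pow_iff_right Finite.one_lt_card] at h5
    have := choose_two_le (c := 1) h3 (by omega)
    omega⟩

end FS

/-! ### Field automorphisms -/

open FS

@[simp] theorem coordG_ρ (ι : Type*) (ρ : RingAut F) : (coordG ι ρ).ρ = ρ := rfl

theorem spFS_semi (m : ℕ) (ρ : RingAut F) : ∃ T ∈ (spFS m F).GamS, T.ρ = ρ :=
  ⟨coordG _ ρ, ⟨1, one_ne_zero, fun x y => by simp [spFS_B, sympForm_eq], fun x a => by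
    simp [sp_Q]⟩, rfl⟩

theorem uFS_semi {σ : F →+* F} {q : ℕ} (h : UF σ q) (n : ℕ) (ρ : RingAut F) :
    ∃ T ∈ (uFS h n).GamS, T.ρ = ρ :=
  ⟨coordG _ ρ, herm_mem_GamS h one_ne_zero (map_one σ) fun x y => by simp [uFS_B', h.comm], rfl⟩

theorem plusOS_semi (m : ℕ) (ρ : RingAut F) : ∃ T ∈ (plusOS F m).GamS, T.ρ = ρ :=
  ⟨coordG _ ρ, orth_mem_GamS one_ne_zero fun x => by simp [plusOS_Q], rfl⟩

theorem oddOS_semi (m : ℕ) (ρ : RingAut F) : ∃ T ∈ (oddOS F m).GamS, T.ρ = ρ :=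
  ⟨coordG _ ρ, orth_mem_GamS one_ne_zero fun x => by simp [oddOS_Q], rfl⟩

theorem minusOS_semi [Finite F] (m : ℕ) {a b : F}
    (hab : ∀ z₁ z₂ : F, z₁ ^ 2 + a * z₁ * z₂ + b * z₂ ^ 2 = 0 → z₁ = 0 ∧ z₂ = 0) (ρ : RingAut F) :
    ∃ T ∈ (minusOS m a b).GamS, T.ρ = ρ := by
  have hab' : ∀ z₁ z₂ : F, z₁ ^ 2 + ρ a * z₁ * z₂ + ρ b * z₂ ^ 2 = 0 → z₁ = 0 ∧ z₂ = 0 := by
    intro x y h
    obtain ⟨x, rfl⟩ := ρ.surjective x
    obtain ⟨y, rfl⟩ := ρ.surjective y
    simpa using hab x y (ρ.injective (by simpa using h))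
  obtain ⟨e, he⟩ := isIso_of_even (m + 1) (minusOS_nondeg m hab) (minusOS_nondeg m hab')
    (minusOS_finrank m) (minusOS_finrank m)
    (iff_of_false (minusOS_not_wi m hab) (minusOS_not_wi m hab'))
  refine ⟨GamL.ofLin e * coordG _ ρ, orth_mem_GamS one_ne_zero fun x => ?_, ?_⟩
  · rw [GamL.mul_T, GamL.ofLin_T, he.2]
    simp [minusOS_Q, show (GamL.ofLin e * coordG _ ρ).ρ = ρ from rfl]
  · ext c; rfl

noncomputable def pspEquiv (m : ℕ) (F : Type*) [Field F] : Cfsg.PSp m F ≃* PQ (spFS m F).EO :=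
  quotCenterCongr ((spEquiv m F).trans (MulEquiv.subgroupCongr (sp_EO (spFS_nondeg m F)).symm))

noncomputable def pomegaEquiv' [Finite F] {ι : Type} [Fintype ι] [DecidableEq ι] {f : OS F (ι → F)}
    (hf : f.Nondeg) (hn : 5 ≤ finrank F (ι → F)) : Cfsg.POmega F f.Q ≃* PQ f.EO :=
  (pomegaEquiv f).trans (quotCenterCongr (omegaEquiv hf hn))

theorem two_eq_zero_iff_of_card [Fintype F] {p f : ℕ} [hp : Fact p.Prime]
    (hF : Fintype.card F = p ^ f) : (2 : F) = 0 ↔ p = 2 := by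
  have := charP_of_card_eq (F := F) (p := p) (f := f) (by rw [Nat.card_eq_fintype_card, hF])
  have h := CharP.cast_eq_zero_iff F p 2
  rw [Nat.cast_ofNat] at h
  rw [h, Nat.prime_dvd_prime_iff_eq hp.out Nat.prime_two]

theorem even_half_iff {q : ℕ} (hq : Odd q) (m : ℕ) : Even (m * (q - 1) / 2) ↔ q ^ m % 4 = 1 := by
  obtain ⟨k, rfl⟩ := hq
  rw [Nat.add_sub_cancel, mul_left_comm, Nat.mul_div_cancel_left _ two_pos, Nat.even_mul]
  rcases Nat.even_or_odd' k with ⟨j, rfl | rfl⟩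
  · have : (2 * (2 * j) + 1) % 4 = 1 := by omega
    simp [Nat.pow_mod, this]
  · have : (2 * (2 * j + 1) + 1) % 4 = 3 := by omega
    rw [Nat.pow_mod, this]
    rcases Nat.even_or_odd' m with ⟨i, rfl | rfl⟩
    · simp [pow_mul, Nat.pow_mod]
    · simp [pow_succ, pow_mul, Nat.pow_mod, Nat.mul_mod, Nat.even_add_one]

theorem odd_pow_mod_four {q : ℕ} (hq : Odd q) (m : ℕ) : q ^ m % 4 = 3 ↔ ¬ q ^ m % 4 = 1 := by
  obtain ⟨k, hk⟩ := hq.pow (n := m)
  omega

end Cfsg.Agent.Class
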