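import Cfsg.Agent.Class.Rep2
import Cfsg.Agent.S1081
import Cfsg.Agent.S1098

/-! Automorphisms of classical groups, VIII: triality and the graph automorphism of `Sp₄(2ᶠ)`. -/

set_option autoImplicit false

namespace Cfsg.Agent.Class

open Module Cfsg.Lie Cfsg.Agent.Lie

variable {F : Type*} [Field F] {P : FP F} {V : Type*} [AddCommGroup V] [Module F V]

theorem Unip.mul_of_commute {Γ : Type*} [Group Γ] {p : ℕ} {a b : Γ} (ha : Unip p a) (hb : Unip p b)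
    (h : Commute a b) : Unip p (a * b) := by
  obtain ⟨k, hk⟩ := ha
  obtain ⟨l, hl⟩ := hb
  exact ⟨k + l, by rw [h.mul_pow, Unip.pow_eq hk (by omega), Unip.pow_eq hl (by omega), one_mul]⟩

/-- `g - 1` has rank at most `n`. -/
def RkLe (n : ℕ) (g : V ≃ₗ[F] V) : Prop := ∃ W : Submodule F V, finrank F W ≤ n ∧ ∀ x, g x - x ∈ W

theorem RkLe.conj [Finite F] [FiniteDimensional F V] {n : ℕ} {g : V ≃ₗ[F] V} (h : RkLe n g)
    (T : GamL F V) : RkLe n (GamL.conj T g) := by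
  obtain ⟨W, h1, h2⟩ := h
  have h5 := T.card_mapS W
  rw [Module.natCard_eq_pow_finrank (K := F), Module.natCard_eq_pow_finrank (K := F) (V := W),
    Nat.pow_right_inj Finite.one_lt_card] at h5
  exact ⟨T.mapS W, h5 ▸ h1, fun x => GamL.mem_mapS.2 (by simpa using h2 _)⟩

theorem not_rkLe {ι : Type} [Fintype ι] [DecidableEq ι] {n : ℕ} {g : (ι → F) ≃ₗ[F] (ι → F)}
    (j : Fin (n + 1) → ι) (hj : Function.Injective j)
    (h : ∀ k, ∃ x, g x - x = Pi.single (j k) 1) : ¬ RkLe n g := by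
  rintro ⟨W, h1, h2⟩
  have := Submodule.finrank_mono (show Submodule.span F (Set.range fun k => (Pi.single (j k) 1 : ι → F))
    ≤ W from Submodule.span_le.2 (by
      rintro _ ⟨k, rfl⟩
      obtain ⟨x, hx⟩ := h k
      simpa only [hx, SetLike.mem_coe] using h2 x))
  rw [finrank_span_single F j hj, Fintype.card_fin] at this
  omega

namespace FS
variable {f : FS P V} {u v : V}
variable {p : ℕ} [Fact p.Prime] [CharP F p] [Finite F] [FiniteDimensional F V]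

theorem AN.not_mem_ind (hf : f.AN p) (hP : Pack p f.EO) {α : MulAut (PQ f.EO)} {g g' : f.EO}
    (h : α g = g') (ug : Unip p g.1) (ug' : Unip p g'.1) {n : ℕ} (h1 : RkLe n g.1)
    (h2 : ¬ RkLe n g'.1) : α ∉ hf.ind := by
  have := Module.finite_of_finite F (M := V)
  rintro ⟨T, rfl⟩
  rw [(corr_gr hP.zs hP.zs _).unip_unique (mem_gr.2 h) (mem_gr_autHom T g.2) ug'
    (ug.map (GamL.conj T.1).toMonoidHom)] at h2
  exact h2 (h1.conj _)

theorem AN.inv_mul_mem_ind (hf : f.AN p) (hP : Pack p f.EO) {α δ : MulAut (PQ f.EO)} (hu : u ≠ 0)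
    (huQ : f.Q u = 0) {Y Y' : Submodule F V} (h1 : Rel (gr α) (Submodule.span F {u}) Y)
    (h2 : Rel (gr δ) (Submodule.span F {u}) Y') {g : V ≃ₗ[F] V} (hg : g ∈ f.EO)
    (e : Y'.map (g : V →ₗ[F] V) = Y) : δ⁻¹ * α ∈ hf.ind := by
  have := Module.finite_of_finite F (M := V)
  obtain ⟨a, ha⟩ := (corr_gr hP.zs hP.zs δ).ex2 g hg
  have h3 := h2.map ha
  rw [e, map_span_single] at h3
  have hI := EO_le_Isom ((corr_gr hP.zs hP.zs δ).mem1 ha)
  exact hf.mem_ind hP hu huQ (ts_span_single ((Isom_Q hI u).trans huQ))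
    (finrank_span_singleton (by simpa using hu)) (h1.gr_trans hP.zs hP.zs h3.gr_symm)

omit [Finite F] in
theorem TS.exists_map (hf : f.Nondeg) {Y Y' : Submodule F V} (h : f.TS Y) (h' : f.TS Y')
    (e : finrank F Y = finrank F Y') : ∃ g ∈ f.Isom, Y.map (g : V →ₗ[F] V) = Y' := by
  let φ := LinearEquiv.ofFinrankEq Y Y' e
  obtain ⟨g, hg, h1⟩ := h.witt hf h' φ.toLinearMap φ.injective
  refine ⟨g, hg, Submodule.eq_of_le_of_finrank_eq ?_ (by rw [LinearEquiv.finrank_map_eq, e])⟩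
  rintro _ ⟨x, hx, rfl⟩
  exact (h1 ⟨x, hx⟩) ▸ (φ ⟨x, hx⟩).2

theorem exists_EO_map {f : OS F V} (hf : f.Nondeg) (hn : 5 ≤ finrank F V) {θ : f.Isom →* TG F}
    (hθ : f.IsTh θ) {Y : Submodule F V} (hY : f.TS Y) (h0 : Y ≠ ⊥) {g : f.Isom} (hg : (θ g).1 = 1) :
    ∃ k ∈ f.EO, Y.map (k : V →ₗ[F] V) = Y.map (g.1 : V →ₗ[F] V) := by
  obtain ⟨u, huY, hu⟩ := Submodule.exists_mem_ne_zero_of_ne_bot h0
  obtain ⟨v, h⟩ := hf.exists_partner' (hY.1 u huY) hu
  obtain ⟨c, hc, e⟩ := sqc_surj (θ g).2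
  have c1 : f.B v u = 1 := h.B21
  have q1 : f.Q (u - v) = -1 := by simp [orth_Q_sub, h.Q1, h.Q2, h.B12]
  have q2 : f.Q (u - c • v) = -c := by simp [orth_Q_sub, orth_Q_smul, h.Q1, h.Q2, h.B12]
  have e1 : (⟨h.scale c hc, h.scale_mem c hc⟩ : f.Isom) = f.rf (u - v) * f.rf (u - c • v) :=
    Subtype.ext (h.ext' fun a b w => by
      have : (f.rf (u - c • v)).1 (a • u + b • v + w) = (b / c) • u + (c * a) • v + w := by
        simp only [rf_apply, q2, map_add, map_sub, map_smul, LinearMap.sub_apply, B_smul_left,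
          h.B11, h.B12, h.B22, c1, (mem_hperp.1 w.2).1, (mem_hperp.1 w.2).2, smul_eq_mul, FP.orth_σ]
        match_scalars <;> field_simp <;> ring
      rw [Subgroup.coe_mul, LinearEquiv.mul_apply, this, h.rf_swap _ _ w.2,
        h.scale_decomp _ _ _ _ w.2, div_eq_inv_mul]
      rfl)
  have e2 : θ (g * ⟨h.scale c hc, h.scale_mem c hc⟩) = 1 := by
    rw [map_mul, e1, map_mul, hθ _ (by simp [q1]), hθ _ (by simp [q2, hc]), q1, q2]
    refine Prod.ext (by simpa [hg] using by decide) ?_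
    simp only [Prod.snd_mul, ← e]
    rw [← sqc_mul (by simp) (by simp [hc])]
    simp [SqC.mul_self]
  rw [← MonoidHom.mem_ker, hθ.ker_eq hf (rc_of_five hn), ← EOs_eq hf (rc_of_five hn) (by omega)] at e2
  refine ⟨_, e2, ?_⟩
  have e3 : Y.map (h.scale c hc : V →ₗ[F] V) = Y := by
    refine Submodule.eq_of_le_of_finrank_eq ?_ (LinearEquiv.finrank_map_eq _ _)
    rintro _ ⟨x, hx, rfl⟩
    simp only [LinearEquiv.coe_coe, h.scale_apply, hY.2 u huY x hx, mul_zero, zero_smul, add_zero]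
    exact add_mem hx (Y.smul_mem _ huY)
  conv_rhs => rw [← e3, ← Submodule.map_comp]
  rfl

theorem two_orbits {f : OS F V} (hf : f.Nondeg) (hn : 5 ≤ finrank F V) {Y₁ Y₂ Y : Submodule F V}
    (h1 : f.TS Y₁) (h2 : f.TS Y₂) (h : f.TS Y) (h0 : Y₁ ≠ ⊥) (h0' : Y₂ ≠ ⊥)
    (e1 : finrank F Y₁ = finrank F Y₂) (e2 : finrank F Y₁ = finrank F Y)
    (hne : ¬ ∃ k ∈ f.EO, Y₁.map (k : V →ₗ[F] V) = Y₂) :
    (∃ k ∈ f.EO, Y₁.map (k : V →ₗ[F] V) = Y) ∨ ∃ k ∈ f.EO, Y₂.map (k : V →ₗ[F] V) = Y := by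
  obtain ⟨θ, hθ⟩ := exists_isTh hf (rc_of_five hn)
  obtain ⟨a, ha, rfl⟩ := h1.exists_map hf h2 e1
  obtain ⟨b, hb, rfl⟩ := h1.exists_map hf h e2
  by_cases hb1 : (θ ⟨b, hb⟩).1 = 1
  · exact Or.inl (exists_EO_map hf hn hθ h1 h0 hb1)
  have ha1 : (θ ⟨a, ha⟩).1 ≠ 1 := fun e => hne (exists_EO_map hf hn hθ h1 h0 e)
  obtain ⟨k, hk, e⟩ := exists_EO_map hf hn hθ h2 h0' (g := ⟨b, hb⟩ * ⟨a, ha⟩⁻¹) (by
    rw [map_mul, map_inv]
    exact (by decide : ∀ x y : Multiplicative (ZMod 2), x ≠ 1 → y ≠ 1 → x * y⁻¹ = 1) _ _ hb1 ha1)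
  refine Or.inr ⟨k, hk, e.trans ?_⟩
  rw [← Submodule.map_comp]
  congr 1
  ext x
  simp

end FS

open FS

variable {p : ℕ} [Fact p.Prime] [CharP F p] [Finite F]

theorem card_mulAut_S4 (h2 : (2 : F) = 0) (hF : 2 < Nat.card F) :
    Nat.card (MulAut (PQ (spFS 2 F).EO)) =
      2 * Nat.card (sp_AN (p := p) (spFS_nondeg 2 F) (by simp)).ind := by
  have hf := spFS_nondeg 2 F
  have hA := sp_AN (p := p) hf (by simp)
  have hP := sp_pack (p := p) hf
  obtain ⟨a, h0, h1⟩ : ∃ a : F, a ≠ 0 ∧ a ≠ 1 := by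
    by_contra! H
    have := Set.ncard_le_ncard (show (Set.univ : Set F) ⊆ {0, 1} from fun j _ => by
      simpa [or_iff_not_imp_left] using H j)
    rw [Set.ncard_univ, Set.ncard_pair zero_ne_one] at this
    omega
  obtain ⟨α, hα⟩ := exists_S4_equiv h0 h1
  obtain ⟨δ, hδ⟩ := S1098.aux (F := F) embB2_ok (@embB2_fits _ _
    (CharTwo.of_one_ne_zero_of_two_eq_zero one_ne_zero h2)) (fun r t => by
    rcases (show ∀ r, embB2.lam r = 1 ∨ embB2.lam r = 2 by decide +kernel) r with h | h <;> rw [h]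
    exacts [⟨t, pow_one t⟩, (exists_sq_char_two h2 t).imp fun _ h => (sq _).trans h]) embB2_pos embB2_sim
  have un : ∀ r t, Unip p (sy F r t).1 := fun r t =>
    (X_isPGroup (sp_Q _ _)).unip4 (eich_mem_X (sp_Q _ _) (tS4_orth _ _) (sp_Q _ _).symm)
  have hn : MulAut.congr α δ ∉ hA.ind := by
    refine hA.not_mem_ind hP (g := sy F ⟨4, by decide⟩ 1) (g' := sy F ⟨5, by decide⟩ 1) ?_ (un _ _) (un _ _)
      (n := 1) ⟨Submodule.span F {Pi.single (.inl 1) 1}, (finrank_span_singleton (by simp)).le,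
        fun x => ?_⟩ (not_rkLe ![.inr 1, .inl 0] (by decide) fun k => ?_)
    · have := (hδ ⟨1, by decide⟩ 1).1
      rw [one_pow] at this
      rw [← hα, ← hα, MulAut.congr_apply, MulEquiv.trans_apply, MulEquiv.trans_apply,
        α.symm_apply_apply]
      exact congrArg α this
    · rw [sy_apply]
      simp [sd, tS4, Submodule.smul_mem, Submodule.mem_span_singleton_self]
    · fin_cases k
      · exact ⟨Pi.single (.inr 0) (-1), by rw [sy_apply]; simp [sd, tS4, sgS]⟩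
      · exact ⟨Pi.single (.inl 1) 1, by rw [sy_apply]; simp [sd, tS4, sgS]⟩
  obtain ⟨u, v, h⟩ := hA.hyp
  have key : ∀ β : MulAut (PQ (spFS 2 F).EO), β ∉ hA.ind → ∃ Y, (spFS 2 F).TS Y ∧ finrank F Y = 2 ∧
      Rel (gr β) (Submodule.span F {u}) Y := fun β hβ => by
    have hc := corr_gr hP.zs hP.zs β
    obtain ⟨Y, hY, hY0, hR⟩ := hA.toAG.thmA hA.toAG hc h
    exact ⟨Y, hY, ((sp_dim hf (by simp) h2 hc h hY hY0 hR).resolve_left fun h1 =>
      hβ (hA.mem_ind hP h.ne1 h.Q1 hY h1 hR)).1, hR⟩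
  refine card_eq_two_mul hn fun β => or_iff_not_imp_left.2 fun hβ => ?_
  obtain ⟨Y, hY, e, hR⟩ := key β hβ
  obtain ⟨Y', hY', e', hR'⟩ := key _ hn
  obtain ⟨g, hg, e1⟩ := hY'.exists_map hf hY (e'.trans e.symm)
  exact hA.inv_mul_mem_ind hP h.ne1 h.Q1 hR hR' (sp_EO hf ▸ hg) e1

theorem card_mulAut_O8 : Nat.card (MulAut (PQ (plusOS F 4).EO)) =
    3 * Nat.card (orth_AN (p := p) (plusOS_nondeg F 4) (by simp)).ind := by
  have hf := plusOS_nondeg F 4
  have hA := orth_AN (p := p) hf (by simp)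
  have hP := orth_pack (p := p) hf (by simp)
  obtain ⟨α, hα⟩ := exists_D4_equiv (F := F)
  obtain ⟨δ, hδ⟩ := S1081.aux (F := F) embD4_ok (Emb.fits_one _ rfl fun _ => rfl)
    (fun r t => ⟨t, pow_one t⟩) embD4_pos embD4_sim
  set y : Rt chevD4 → (plusOS F 4).EO := fun r => oy (plusOS F 4) (tD4 r) (1 : F) with hy
  have hR := (plus_oco (F := F) 4).rel tD4_ok tD4_chk
  have ap := fun r => (plus_oco (F := F) 4).oy_apply (tD4_ok r) 1
  have un : ∀ r, Unip p (y r).1 := fun r => by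
    have h1 : (plusOS F 4).Q (Pi.single (tD4 r).1 1) = 0 := by simp [(plus_oco 4).Q]
    have h2 : (plusOS F 4).B (Pi.single (tD4 r).1 1) (Pi.single (tD4 r).2.1 ((tD4 r).2.2 * 1)) = 0 := by
      simp [(plus_oco 4).B, (tD4_ok r).2.2.1]
    exact (X_isPGroup h1).unip4 (ee_coe h1 h2 ▸ eich_mem_X _ _ _ :
      ((plusOS F 4).ee _ _).1 ∈ _)
  have un2 : ∀ r s, s ≠ r → s ≠ ng r → cT r s = [] → Unip p (y s * y r).1 := fun r s h1 h2 h3 =>
    (un s).mul_of_commute (un r) (by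
      have := hR.comm r s h1 h2 1 1
      rw [h3, cwL_nil, mul_one] at this
      exact congrArg Subtype.val this)
  let r1 : Rt chevD4 := ⟨18, by decide⟩
  let r3 : Rt chevD4 := ⟨13, by decide⟩
  let r4 : Rt chevD4 := ⟨12, by decide⟩
  let s := MulAut.congr α δ
  have hs : ∀ i, s (y (sim i)) = y (sim (embD40 i)) := fun i => by
    have := (hδ i 1).1
    rw [one_pow] at this
    rw [← hα, ← hα, ← this]
    exact congrArg (fun x => α (δ x)) (α.symm_apply_apply _)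
  have s1 : s (y r1) = y r3 := hs ⟨0, by decide⟩
  have s3 : s (y r3) = y r4 := hs ⟨2, by decide⟩
  have s4 : s (y r4) = y r1 := hs ⟨3, by decide⟩
  have rk : RkLe 2 (y r3 * y r4).1 := by
    refine ⟨Submodule.span F {Pi.single (.inl 2) 1, Pi.single (.inl 3) 1 + Pi.single (.inr 3) 1},
      finrank_span_pair_le _ _, fun x => Submodule.mem_span_pair.2
        ⟨x (.inl 3) + x (.inr 3) - x (.inr 2), - x (.inr 2), ?_⟩⟩
    rw [Subgroup.coe_mul, LinearEquiv.mul_apply, ap, ap]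
    simp [od, tD4, r3, r4, ix8, Fin.ofNat]
    module
  have hn1 : s ∉ hA.ind := by
    refine hA.not_mem_ind hP (g := y r3 * y r4) (g' := y r4 * y r1) (by simp [s3, s4])
      (un2 _ _ (by decide) (by decide) (by decide +kernel))
      (un2 _ _ (by decide) (by decide) (by decide +kernel)) rk
      (not_rkLe ![.inr 1, .inl 0, .inl 2] (by decide) fun k => ?_)
    simp only [Subgroup.coe_mul, LinearEquiv.mul_apply, hy, ap]
    fin_cases k
    · exact ⟨Pi.single (.inr 0) (-1), by simp [od, tD4, r1, r4, ix8, Fin.ofNat]⟩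
    · exact ⟨Pi.single (.inl 1) 1, by simp [od, tD4, r1, r4, ix8, Fin.ofNat]⟩
    · exact ⟨Pi.single (.inr 3) 1, by simp [od, tD4, r1, r4, ix8, Fin.ofNat]⟩
  have hn2 : s * s ∉ hA.ind := by
    refine hA.not_mem_ind hP (g := y r3 * y r4) (g' := y r1 * y r3) (by simp [s1, s3, s4])
      (un2 _ _ (by decide) (by decide) (by decide +kernel))
      (un2 _ _ (by decide) (by decide) (by decide +kernel)) rk
      (not_rkLe ![.inr 1, .inl 0, .inl 2] (by decide) fun k => ?_)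
    simp only [Subgroup.coe_mul, LinearEquiv.mul_apply, hy, ap]
    fin_cases k
    · exact ⟨Pi.single (.inr 0) (-1), by simp [od, tD4, r1, r3, ix8, Fin.ofNat]⟩
    · exact ⟨Pi.single (.inl 1) 1, by simp [od, tD4, r1, r3, ix8, Fin.ofNat]⟩
    · exact ⟨Pi.single (.inl 3) 1, by simp [od, tD4, r1, r3, ix8, Fin.ofNat]⟩
  obtain ⟨u, v, h⟩ := hA.hyp
  have key : ∀ β : MulAut (PQ (plusOS F 4).EO), β ∉ hA.ind → ∃ Y, (plusOS F 4).TS Y ∧ Y ≠ ⊥ ∧
      finrank F Y = 4 ∧ Rel (gr β) (Submodule.span F {u}) Y := fun β hβ => by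
    have hc := corr_gr hP.zs hP.zs β
    obtain ⟨Y, hY, hY0, hR⟩ := hA.toAG.thmA hA.toAG hc h
    exact ⟨Y, hY, hY0, ((orth_dim hf (by simp) hc h hY hY0 hR).resolve_left fun h1 =>
      hβ (hA.mem_ind hP h.ne1 h.Q1 hY h1 hR)).1, hR⟩
  have hn3 : s⁻¹ * (s * s) ∉ hA.ind := by simpa using hn1
  refine card_eq_three_mul hn1 hn2 hn3 fun β => or_iff_not_imp_left.2 fun hβ => ?_
  obtain ⟨Y, hY, -, e, hR⟩ := key β hβ
  obtain ⟨Y₁, hY₁, n1, e1, hR₁⟩ := key _ hn1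
  obtain ⟨Y₂, hY₂, n2, e2, hR₂⟩ := key _ hn2
  exact (two_orbits hf (by simp) hY₁ hY₂ hY n1 n2 (e1.trans e2.symm) (e1.trans e.symm)
    fun ⟨k, hk, e⟩ => hn3 (hA.inv_mul_mem_ind hP h.ne1 h.Q1 hR₂ hR₁ hk e)).imp
    (fun ⟨k, hk, e⟩ => hA.inv_mul_mem_ind hP h.ne1 h.Q1 hR hR₁ hk e)
    fun ⟨k, hk, e⟩ => hA.inv_mul_mem_ind hP h.ne1 h.Q1 hR hR₂ hk e

end Cfsg.Agent.Class
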