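import Cfsg.Agent.Class.Grp

/-! The counting argument in Dickson's theorem, for an abstract action resembling that of a
finite subgroup of `PGL₂(K)` on the projective line. -/

set_option autoImplicit false

namespace Cfsg.Agent.Class

open MulAction

/-- The stabilizer of `x` looks like a Borel subgroup. -/
def Chi (K : Type*) [Field K] (p : ℕ) (H : Type*) {X : Type*} [Group H] [MulAction H X] (x : X) :
    Prop :=
  ∃ χ : stabilizer H x →* Kˣ, (∀ g, χ g = 1 ↔ (g : H) = 1 ∨ ∀ y : X, (g : H) • y = y → y = x) ∧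
    (∀ g, χ g = 1 → (g : H) ^ p = 1) ∧ ∀ g h, χ g = 1 → χ h = 1 → (g : H) * h = h * g

/-- Actions resembling the action on the projective line. -/
structure DK (K : Type*) [Field K] (p : ℕ) (H X : Type*) [Group H] [MulAction H X] : Prop where
  three : ∀ (g : H) (x y z : X), x ≠ y → x ≠ z → y ≠ z → g • x = x → g • y = y → g • z = z → g = 1
  chi : ∀ x : X, Chi K p H x

/-- The unipotent radical of a point stabilizer. -/
def uni (p : ℕ) (H : Type*) {X : Type*} [Group H] [MulAction H X] (x : X) : Subgroup H :=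
  Subgroup.closure {g | g • x = x ∧ g ^ p = 1}

variable {K : Type*} [Field K] {p : ℕ} {H X : Type*} [Group H] [MulAction H X]

theorem uni_le (x : X) : uni p H x ≤ stabilizer H x := (Subgroup.closure_le _).2 fun _ h => h.1

theorem Chi.smul {x : X} (h : Chi K p H x) (t : H) : Chi K p H (t • x) := by
  obtain ⟨χ, h1, h2, h3⟩ := h
  let e : stabilizer H (t • x) →* stabilizer H x :=
    ((MulAut.conj t⁻¹).toMonoidHom.comp (stabilizer H (t • x)).subtype).codRestrict _ fun g => by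
      have := mem_stabilizer_iff.1 g.2
      simp [mul_smul, this]
  have he : ∀ g, (e g : H) = t⁻¹ * g * t := fun g => by simp [e]
  refine ⟨χ.comp e, fun g => ?_, fun g hg => ?_, fun g g' hg hg' => ?_⟩
  · rw [MonoidHom.comp_apply, h1, he]
    refine or_congr (by rw [mul_assoc, inv_mul_eq_one, eq_comm, mul_eq_right]) ?_
    constructor
    · intro h y hy
      rw [← h (t⁻¹ • y) (by simp [mul_smul, hy])]; simp
    · intro h y hy
      have := h (t • y) (by rw [mul_smul, mul_smul, inv_smul_eq_iff] at hy; exact hy)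
      simpa using this
  · have := h2 _ hg
    rwa [he, ← orderOf_dvd_iff_pow_eq_one, Inv.orderOf_conj'', orderOf_dvd_iff_pow_eq_one] at this
  · have := h3 _ _ hg hg'
    rw [he, he] at this
    simp only [← mul_assoc, mul_inv_cancel_right, mul_left_inj] at this
    simpa [mul_assoc] using this

theorem DK.of_injective (d : DK K p H X) {H' : Type*} [Group H'] [MulAction H' X] (ρ : H' →* H)
    (hρ : Function.Injective ρ) (h : ∀ (g : H') (x : X), g • x = ρ g • x) : DK K p H' X where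
  three g x y z h1 h2 h3 h4 h5 h6 := (map_eq_one_iff ρ hρ).1
    (d.three _ x y z h1 h2 h3 (h g x ▸ h4) (h g y ▸ h5) (h g z ▸ h6))
  chi x := by
    obtain ⟨χ, h1, h2, h3⟩ := d.chi x
    let e : stabilizer H' x →* stabilizer H x :=
      (ρ.comp (stabilizer H' x).subtype).codRestrict _ fun g => by
        have := mem_stabilizer_iff.1 g.2
        rwa [h] at this
    have he : ∀ g, (e g : H) = ρ g := fun g => rfl
    refine ⟨χ.comp e, fun g => ?_, fun g hg => ?_, fun g g' hg hg' => ?_⟩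
    · rw [MonoidHom.comp_apply, h1, he, map_eq_one_iff ρ hρ]
      simp only [h]
    · have := h2 _ hg
      rwa [he, ← map_pow, map_eq_one_iff ρ hρ] at this
    · have := h3 _ _ hg hg'
      rw [he, he, ← map_mul, ← map_mul] at this
      exact hρ this

theorem DK.subgroup (d : DK K p H X) (S : Subgroup H) : DK K p S X :=
  d.of_injective S.subtype S.subtype_injective fun _ _ => rfl

theorem card_orbit_mul (x : X) :
    (orbit H x).ncard * Nat.card (stabilizer H x) = Nat.card H := by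
  rw [← index_stabilizer, Subgroup.index_mul_card]

theorem card_stabilizer_smul (t : H) (x : X) :
    Nat.card (stabilizer H (t • x)) = Nat.card (stabilizer H x) := by
  rw [stabilizer_smul_eq_stabilizer_map_conj, Inv.card_map_conj]

theorem coprime_orderOf_unit [Fact p.Prime] [CharP K p] {u : Kˣ} (hu : orderOf u ≠ 0) :
    (orderOf u).Coprime p := by
  rw [Nat.coprime_comm, Nat.Prime.coprime_iff_not_dvd Fact.out]
  rintro ⟨m, hm⟩
  have h1 : (u : K) ^ (p ^ 1 * m) = 1 := by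
    rw [pow_one, ← hm, ← Units.val_pow_eq_pow_val, pow_orderOf_eq_one, Units.val_one]
  rw [ExpChar.pow_prime_pow_mul_eq_one_iff] at h1
  have h2 : orderOf u ∣ m := orderOf_dvd_of_pow_eq_one (Units.ext (by simpa using h1))
  have hp := (Fact.out : p.Prime).two_le
  have hm0 : m ≠ 0 := by rintro rfl; simp [hm] at hu
  have := Nat.le_of_dvd (Nat.pos_of_ne_zero hm0) h2
  nlinarith [Nat.pos_of_ne_zero hm0]

theorem unit_eq_one_of_pow [Fact p.Prime] [CharP K p] {u : Kˣ} (hu : u ^ p = 1) : u = 1 := by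
  have h1 : (u : K) ^ (p ^ 1 * 1) = 1 := by simpa using congrArg Units.val hu
  rw [ExpChar.pow_prime_pow_mul_eq_one_iff] at h1
  exact Units.ext (by simpa using h1)

theorem arith_three_aux {N n₁ n₂ n₃ e₁ e₂ e₃ : ℕ} (h1 : n₁ * e₁ = N) (h2 : n₂ * e₂ = N)
    (h3 : n₃ * e₃ = N) (h4 : 2 ≤ e₁) (h5 : e₁ ≤ e₂) (h6 : e₂ ≤ e₃) (h : n₁ + n₂ + n₃ = N + 2) :
    n₃ = 2 ∨ ((N = 12 ∨ N = 24 ∨ N = 60) ∧ e₃ ≤ 5) := by
  have a1 : e₁ = 2 := by
    by_contra hc
    have b1 : n₁ * 3 ≤ N := h1 ▸ Nat.mul_le_mul_left _ (by omega)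
    have b2 : n₂ * 3 ≤ N := h2 ▸ Nat.mul_le_mul_left _ (by omega)
    have b3 : n₃ * 3 ≤ N := h3 ▸ Nat.mul_le_mul_left _ (by omega)
    omega
  subst a1
  have a2 : e₂ ≤ 3 := by
    by_contra hc
    have b2 : n₂ * 4 ≤ N := h2 ▸ Nat.mul_le_mul_left _ (by omega)
    have b3 : n₃ * 4 ≤ N := h3 ▸ Nat.mul_le_mul_left _ (by omega)
    omega
  interval_cases e₂
  · omega
  · have a3 : e₃ ≤ 5 := by
      by_contra hc
      have b3 : n₃ * 6 ≤ N := h3 ▸ Nat.mul_le_mul_left _ (by omega)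
      omega
    interval_cases e₃ <;> omega

theorem arith_three {N n₁ n₂ n₃ e₁ e₂ e₃ : ℕ} (h1 : n₁ * e₁ = N) (h2 : n₂ * e₂ = N)
    (h3 : n₃ * e₃ = N) (h4 : 2 ≤ e₁) (h5 : 2 ≤ e₂) (h6 : 2 ≤ e₃) (h : n₁ + n₂ + n₃ = N + 2) :
    (n₁ = 2 ∨ n₂ = 2 ∨ n₃ = 2) ∨
      ((N = 12 ∨ N = 24 ∨ N = 60) ∧ e₁ ≤ 5 ∧ e₂ ≤ 5 ∧ e₃ ≤ 5) := by
  rcases le_total e₁ e₂ with a | a <;> rcases le_total e₂ e₃ with b | b <;>
    rcases le_total e₁ e₃ with c | c
  · have := arith_three_aux h1 h2 h3 h4 a b h; omega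
  · have := arith_three_aux h1 h2 h3 h4 a b h; omega
  · have := arith_three_aux h1 h3 h2 h4 c b (by omega); omega
  · have := arith_three_aux h3 h1 h2 h6 c a (by omega); omega
  · have := arith_three_aux h2 h1 h3 h5 a c (by omega); omega
  · have := arith_three_aux h2 h3 h1 h5 b c (by omega); omega
  · have := arith_three_aux h3 h2 h1 h6 b a (by omega); omega
  · have := arith_three_aux h3 h2 h1 h6 b a (by omega); omega

theorem arith_uni {Q k m e f : ℕ} (hQ : 2 ≤ Q) (hk : k ∣ Q - 1)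
    (hf : (f : ℤ) = 2 + (1 + m * Q) * (Q - 2)) (h : (1 + m * Q) * (Q * k) = f * e) :
    m = 0 ∨ f = 2 ∨ (3 ≤ Q ∧ m = 1 ∧ Q - 1 ≤ 2 * k) ∨ (Q = 3 ∧ k = 2 ∧ m = 3 ∧ e = 5) := by
  obtain ⟨R, rfl⟩ : ∃ R, Q = R + 2 := ⟨Q - 2, by omega⟩
  have hf' : f = (R + 2) * (1 + m * R) := by zify; rw [hf]; push_cast; ring
  subst hf'
  have h1 : k * (1 + m * R) + 2 * k * m = (1 + m * R) * e := by
    apply Nat.eq_of_mul_eq_mul_left (show 0 < R + 2 by omega)
    linear_combination h
  have h2 : 1 + m * R ∣ 2 * k * m :=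
    (Nat.dvd_add_right (dvd_mul_left _ k)).1 ⟨e, h1⟩
  have h3 : 1 + m * R ∣ 2 * k := Nat.Coprime.dvd_of_dvd_mul_right (by simp) h2
  have hk1 : k ≤ R + 1 := Nat.le_of_dvd (by omega) hk
  have hk0 : 0 < k := Nat.pos_of_dvd_of_pos hk (by omega)
  have h4 := Nat.le_of_dvd (by omega) h3
  rcases R with _ | R
  · simp
  rcases m with _ | _ | _ | m
  · simp
  · omega
  · have h5 : 1 + 2 * (R + 1) ∣ k := Nat.Coprime.dvd_of_dvd_mul_left (by simp) h3
    have := Nat.le_of_dvd hk0 h5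
    omega
  · have h5 : R = 0 := by nlinarith
    subst h5
    have : m = 0 := by omega
    subst this
    have : k = 2 := by omega
    subst this
    omega

namespace DK
variable [Fact p.Prime] [CharP K p] (d : DK K p H X)
include d

theorem mem_uni {x : X} {g : H} : g ∈ uni p H x ↔ g • x = x ∧ g ^ p = 1 := by
  refine ⟨fun hg => ⟨uni_le x hg, ?_⟩, fun h => Subgroup.subset_closure h⟩
  obtain ⟨χ, h1, h2, h3⟩ := d.chi x
  have : uni p H x ≤ χ.ker.map (stabilizer H x).subtype := (Subgroup.closure_le _).2 fun g hg =>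
    ⟨⟨g, hg.1⟩, unit_eq_one_of_pow (p := p) (by
      rw [← map_pow, show (⟨g, hg.1⟩ : stabilizer H x) ^ p = 1 from Subtype.ext hg.2, map_one]), rfl⟩
  obtain ⟨g, hg', rfl⟩ := this hg
  exact h2 g hg'

theorem chi' (x : X) : ∃ χ : stabilizer H x →* Kˣ, (∀ g, χ g = 1 ↔ (g : H) ∈ uni p H x) ∧
    (∀ g, χ g = 1 ↔ (g : H) = 1 ∨ ∀ y : X, (g : H) • y = y → y = x) ∧
    ∀ g h, χ g = 1 → χ h = 1 → (g : H) * h = h * g := by
  obtain ⟨χ, h1, h2, h3⟩ := d.chi x
  refine ⟨χ, fun g => ⟨fun h => d.mem_uni.2 ⟨g.2, h2 g h⟩, fun h => ?_⟩, h1, h3⟩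
  exact unit_eq_one_of_pow (p := p) (by
    rw [← map_pow, show g ^ p = 1 from Subtype.ext (d.mem_uni.1 h).2, map_one])

theorem mem_uni' {x : X} {g : H} (hg : g • x = x) :
    g ∈ uni p H x ↔ g = 1 ∨ ∀ y : X, g • y = y → y = x := by
  obtain ⟨χ, h1, h2, -⟩ := d.chi' x
  exact (h1 ⟨g, hg⟩).symm.trans (h2 ⟨g, hg⟩)

theorem uni_comm {x : X} {g h : H} (hg : g ∈ uni p H x) (hh : h ∈ uni p H x) : g * h = h * g := by
  obtain ⟨χ, h1, -, h3⟩ := d.chi' x
  exact h3 ⟨g, uni_le x hg⟩ ⟨h, uni_le x hh⟩ ((h1 _).2 hg) ((h1 _).2 hh)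

theorem uni_free {x y : X} {g : H} (hg : g ∈ uni p H x) (hy : y ≠ x) (h : g • y = y) : g = 1 :=
  ((d.mem_uni' (uni_le x hg)).1 hg).resolve_right fun h1 => hy (h1 y h)

theorem uni_isPGroup (x : X) : IsPGroup p (uni p H x) := fun g =>
  ⟨1, Subtype.ext (by simpa using (d.mem_uni.1 g.2).2)⟩

theorem conj_mem_uni {x : X} {g : H} (hg : g ∈ uni p H x) (t : H) :
    t * g * t⁻¹ ∈ uni p H (t • x) := by
  rw [d.mem_uni] at hg ⊢
  exact ⟨by simp [mul_smul, hg.1], by rw [conj_pow, hg.2]; simp⟩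

theorem uni_smul (t : H) (x : X) :
    uni p H (t • x) = (uni p H x).map (MulAut.conj t).toMonoidHom := by
  ext g
  constructor
  · intro hg
    exact ⟨t⁻¹ * g * t, by simpa using d.conj_mem_uni hg t⁻¹, by simp [mul_assoc]⟩
  · rintro ⟨g, hg, rfl⟩
    exact d.conj_mem_uni hg t

theorem card_uni_smul (t : H) (x : X) : Nat.card (uni p H (t • x)) = Nat.card (uni p H x) := by
  rw [d.uni_smul, Inv.card_map_conj]

theorem fix_two {x : X} {g : H} (hg : g • x = x) (hu : g ∉ uni p H x) :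
    ∃ y, y ≠ x ∧ g • y = y ∧ ∀ z, g • z = z → z = x ∨ z = y := by
  rw [d.mem_uni' hg] at hu
  push Not at hu
  obtain ⟨h1, y, hy, hyx⟩ := hu
  refine ⟨y, hyx, hy, fun z hz => ?_⟩
  by_contra hc
  push Not at hc
  exact h1 (d.three g x y z hyx.symm hc.1.symm hc.2.symm hg hy hz)

theorem comm_uni {x : X} {s k : H} (hs : s • x = x) (hu : s ∉ uni p H x) (hk : k ∈ uni p H x)
    (h : s * k = k * s) : k = 1 := by
  obtain ⟨y, hy, h1, h2⟩ := d.fix_two hs hu
  rcases h2 (k • y) (by rw [← mul_smul, h, mul_smul, h1]) with h3 | h3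
  · exact absurd (smul_left_cancel k (h3.trans (uni_le x hk).symm)) hy
  · exact d.uni_free hk hy h3

theorem borel [Finite H] (x : X) : ∃ c : H, c • x = x ∧
    Nat.card (stabilizer H x) = Nat.card (uni p H x) * orderOf c ∧ (orderOf c).Coprime p ∧
    (∀ g : H, g • x = x → g ^ p = 1 ∨ orderOf g ∣ orderOf c) ∧
    orderOf c ∣ Nat.card (uni p H x) - 1 ∧
    (uni p H x = ⊥ → stabilizer H x = Subgroup.zpowers c) := by
  obtain ⟨χ, h1, h2, -⟩ := d.chi' x
  have hord : ∀ g : stabilizer H x, χ g ≠ 1 → orderOf (g : H) = orderOf (χ g) := by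
    intro g hg
    obtain ⟨y, hy, h3, -⟩ := d.fix_two g.2 (mt (h1 g).2 hg)
    refine orderOf_eq_orderOf_iff.2 fun n => ⟨fun h => ?_, fun h => ?_⟩
    · rw [← map_pow, show g ^ n = 1 from Subtype.ext h, map_one]
    · rw [← map_pow, h1] at h
      exact d.uni_free h hy (Subgroup.pow_mem (stabilizer H y) h3 n)
  obtain ⟨c, hc1, hc2⟩ : ∃ c : stabilizer H x, orderOf (c : H) = orderOf (χ c) ∧
      orderOf (χ c) = Nat.card χ.range := by
    have : Finite χ.range := Set.finite_range χ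
    obtain ⟨⟨_, c, rfl⟩, hc⟩ := IsCyclic.exists_ofOrder_eq_natCard (α := χ.range)
    replace hc : orderOf (χ c) = Nat.card χ.range := (Subgroup.orderOf_coe _).trans hc
    by_cases h : χ c = 1
    · exact ⟨1, by simp, by rw [← hc, h, map_one]⟩
    · exact ⟨c, hord c h, hc⟩
  have h3 : Nat.card (stabilizer H x) = Nat.card (uni p H x) * orderOf (c : H) := by
    rw [hc1, hc2, ← Subgroup.index_ker, ← χ.ker.card_mul_index,
      ← Subgroup.card_map_of_injective (stabilizer H x).subtype_injective]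
    congr 3
    ext g
    exact ⟨by rintro ⟨g, hg, rfl⟩; exact (h1 g).1 hg, fun hg => ⟨⟨g, uni_le x hg⟩, (h1 _).2 hg, rfl⟩⟩
  have h4 : (orderOf (c : H)).Coprime p := by
    rw [hc1]; exact coprime_orderOf_unit (by rw [← hc1]; exact (orderOf_pos _).ne')
  refine ⟨c, c.2, h3, h4, fun g hg => ?_, ?_, fun h => ?_⟩
  · by_cases h : χ ⟨g, hg⟩ = 1
    · exact Or.inl (d.mem_uni.1 ((h1 _).1 h)).2
    · right
      rw [hord ⟨g, hg⟩ h, hc1, hc2]
      exact Subgroup.orderOf_dvd_natCard _ ⟨_, rfl⟩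
  · rw [← Nat.card_zpowers]
    refine card_dvd_card_sub_one _ _ (fun s hs k hk => ?_) fun s hs k hk hsk => ?_
    · have := d.conj_mem_uni hk s
      rwa [mem_stabilizer_iff.1 (Subgroup.zpowers_le.2 c.2 hs)] at this
    · by_cases hu : s ∈ uni p H x
      · left
        rw [← orderOf_eq_one_iff]
        exact (Nat.coprime_self _).1 ((h4.coprime_dvd_left
          (orderOf_dvd_of_mem_zpowers hs)).coprime_dvd_right
          (orderOf_dvd_of_pow_eq_one (d.mem_uni.1 hu).2))
      · exact Or.inr (d.comm_uni (Subgroup.zpowers_le.2 c.2 hs) hu hk hsk)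
  · symm
    apply Subgroup.eq_of_le_of_card_ge (Subgroup.zpowers_le.2 c.2)
    rw [h3, h, Nat.card_zpowers]; simp

theorem pair_cyclic [Finite H] {x y : X} (hxy : y ≠ x) : ∃ c : H,
    stabilizer H x ⊓ stabilizer H y = Subgroup.zpowers c ∧ (orderOf c).Coprime p := by
  obtain ⟨c, -, -, h1, -, -, h2⟩ := (d.subgroup (stabilizer H y)).borel x
  have h3 := h2 ((Subgroup.eq_bot_iff_forall _).2 fun g hg =>
    (d.subgroup (stabilizer H y)).uni_free hg hxy g.2)
  refine ⟨c, ?_, by rwa [Subgroup.orderOf_coe]⟩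
  rw [← Subgroup.coe_subtype, ← MonoidHom.map_zpowers, ← h3]
  ext g
  exact ⟨fun hg => ⟨⟨g, hg.2⟩, hg.1, rfl⟩, by rintro ⟨g, hg, rfl⟩; exact ⟨hg, g.2⟩⟩

theorem finite_sing [Finite H] : {x : X | stabilizer H x ≠ ⊥}.Finite := by
  refine (Set.finite_iUnion (f := fun g : {g : H // g ≠ 1} => {x : X | g.1 • x = x})
    fun g => ?_).subset fun x hx => ?_
  · by_cases h : ∃ x : X, g.1 • x = x
    · obtain ⟨x, hx⟩ := h
      by_cases hu : g.1 ∈ uni p H x
      · exact (Set.finite_singleton x).subset ((d.mem_uni' hx).1 hu |>.resolve_left g.2)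
      · obtain ⟨y, -, -, h⟩ := d.fix_two hx hu
        exact (Set.toFinite {x, y}).subset h
    · push Not at h
      simp [h]
  · obtain ⟨g, hg, hg1⟩ := (Subgroup.bot_or_exists_ne_one _).resolve_left hx
    exact Set.mem_iUnion.2 ⟨⟨g, hg1⟩, hg⟩

theorem count [Finite H] (ex : ∀ g : H, ∃ x : X, g • x = x) (Y : Finset X)
    (hY : ∀ x, x ∈ Y ↔ stabilizer H x ≠ ⊥) :
    ∑ x ∈ Y, ((Nat.card (stabilizer H x) : ℤ) + Nat.card (uni p H x) - 2) =
      2 * Nat.card H - 2 := by
  classical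
  have := Fintype.ofFinite H
  have h1 : ∀ S : Subgroup H, (Nat.card S : ℤ) - 1 =
      ∑ g ∈ Finset.univ.erase (1 : H), if g ∈ S then 1 else 0 := by
    intro S
    rw [Inv.card_subgroup_eq_filter, Finset.card_filter, ← Finset.add_sum_erase _ _
      (Finset.mem_univ 1)]
    simp [S.one_mem]
  have h2 : ∀ x : X, (Nat.card (stabilizer H x) : ℤ) + Nat.card (uni p H x) - 2 =
      ∑ g ∈ Finset.univ.erase (1 : H),
        ((if g ∈ stabilizer H x then 1 else 0) + if g ∈ uni p H x then 1 else 0) := by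
    intro x
    have a := h1 (stabilizer H x)
    have b := h1 (uni p H x)
    rw [Finset.sum_add_distrib, ← b]
    convert (congrArg (· + ((Nat.card (uni p H x) : ℤ) - 1)) a) using 1
    · ring
    · congr
  simp only [h2]
  rw [Finset.sum_comm, Finset.sum_congr rfl (g := fun _ => 2)]
  · simp only [Finset.sum_const, Finset.card_erase_of_mem (Finset.mem_univ _), Finset.card_univ,
      Nat.card_eq_fintype_card, nsmul_eq_mul]
    rw [Nat.cast_sub Fintype.card_pos]; push_cast; ring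
  intro g hg
  have hg1 : g ≠ 1 := Finset.ne_of_mem_erase hg
  have hmem : ∀ x : X, g • x = x → x ∈ Y := fun x hx => (hY x).2 fun h =>
    hg1 (Subgroup.mem_bot.1 (h ▸ mem_stabilizer_iff.2 hx))
  obtain ⟨x, hx⟩ := ex g
  by_cases hu : g ∈ uni p H x
  · rw [Finset.sum_eq_single_of_mem x (hmem x hx)]
    · simp [hx, hu]
    · intro y _ hy
      have h3 : g ∉ stabilizer H y := fun h => hg1 (d.uni_free hu hy h)
      simp only [h3, if_false, if_neg fun h => h3 (uni_le y h), add_zero]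
  · obtain ⟨y, hyx, hy, h3⟩ := d.fix_two hx hu
    have hu' : g ∉ uni p H y := fun h => hg1 (d.uni_free h hyx.symm hx)
    rw [Finset.sum_eq_add_of_mem x y (hmem x hx) (hmem y hy) hyx.symm]
    · simp [hx, hu, hy, hu']
    · intro z _ hz
      have h4 : g ∉ stabilizer H z := fun h => by
        rcases h3 z h with h | h
        · exact hz.1 h
        · exact hz.2 h
      simp only [h4, if_false, if_neg fun h => h4 (uni_le z h), add_zero]

theorem sum_orbit [Finite H] [DecidableEq X] {A : Finset X} (hA : ∀ (g : H) x, x ∈ A → g • x ∈ A)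
    {x : X} (hx : x ∈ A) : ∃ B : Finset X, (∀ y, y ∈ B ↔ y ∈ A ∧ y ∉ orbit H x) ∧
      (∀ (g : H) x, x ∈ B → g • x ∈ B) ∧
      ∑ x ∈ A, ((Nat.card (stabilizer H x) : ℤ) + Nat.card (uni p H x) - 2) =
        ∑ x ∈ B, ((Nat.card (stabilizer H x) : ℤ) + Nat.card (uni p H x) - 2) +
          (Nat.card H + (orbit H x).ncard * (Nat.card (uni p H x) - 2)) := by
  have hfin : (orbit H x).Finite := Set.finite_range _
  have hsub : hfin.toFinset ⊆ A := by
    intro y hy
    obtain ⟨g, rfl⟩ := hfin.mem_toFinset.1 hy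
    exact hA g x hx
  refine ⟨A \ hfin.toFinset, fun y => by simp, fun g y hy => ?_, ?_⟩
  · rw [Finset.mem_sdiff, Set.Finite.mem_toFinset] at hy ⊢
    exact ⟨hA g y hy.1, fun h => hy.2 (by simpa using mem_orbit_of_mem_orbit g⁻¹ h)⟩
  · rw [← Finset.sum_sdiff hsub, Finset.sum_congr (s₁ := hfin.toFinset) rfl
      (g := fun _ => (Nat.card (stabilizer H x) : ℤ) + Nat.card (uni p H x) - 2)]
    · rw [Finset.sum_const, ← Set.ncard_eq_toFinset_card _ hfin, ← card_orbit_mul (H := H) x]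
      simp only [nsmul_eq_mul]; push_cast; ring
    · intro y hy
      obtain ⟨g, rfl⟩ := hfin.mem_toFinset.1 hy
      simp only [card_stabilizer_smul, d.card_uni_smul]

theorem sum_bound [Finite H] [DecidableEq X] {A : Finset X}
    (hA : ∀ (g : H) x, x ∈ A → g • x ∈ A) (hY : ∀ x ∈ A, stabilizer H x ≠ ⊥) :
    A = ∅ ∨ (Nat.card H : ℤ) ≤
      2 * ∑ x ∈ A, ((Nat.card (stabilizer H x) : ℤ) + Nat.card (uni p H x) - 2) := by
  rcases A.eq_empty_or_nonempty with h | ⟨x, hx⟩
  · exact Or.inl h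
  right
  obtain ⟨B, h1, -, h3⟩ := d.sum_orbit hA hx
  have h4 : 0 ≤ ∑ x ∈ B, ((Nat.card (stabilizer H x) : ℤ) + Nat.card (uni p H x) - 2) :=
    Finset.sum_nonneg fun y _ => by
      have a : 0 < Nat.card (stabilizer H y) := Nat.card_pos
      have b : 0 < Nat.card (uni p H y) := Nat.card_pos
      omega
  have h5 := card_orbit_mul (H := H) x
  have h6 := (Subgroup.one_lt_card_iff_ne_bot _).2 (hY x hx)
  have h7 : 0 < Nat.card (uni p H x) := Nat.card_pos
  rw [h3, ← h5]
  push_cast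
  nlinarith [Int.natCast_nonneg (orbit H x).ncard]

omit d in
theorem fix_of_orbit_one {x : X} (h : (orbit H x).ncard = 1) (g : H) : g • x = x := by
  obtain ⟨a, ha⟩ := Set.ncard_eq_one.1 h
  have h1 : g • x ∈ orbit H x := mem_orbit x g
  have h2 : x ∈ orbit H x := mem_orbit_self x
  rw [ha] at h1 h2
  exact h1.trans h2.symm

/-- The counting part of Dickson's theorem. -/
theorem dickson [Finite H] [Nonempty X] (ex : ∀ g : H, ∃ x : X, g • x = x) :
    (∃ x : X, ∀ g : H, g • x = x) ∨ (∃ x : X, (orbit H x).ncard = 2) ∨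
    (¬ p ∣ Nat.card H ∧ Eppo H ∧ (Nat.card H = 12 ∨ Nat.card H = 24 ∨ Nat.card H = 60)) ∨
    (p = 3 ∧ Eppo H ∧ Nat.card H = 60 ∧ ∀ g : H, g ^ 2 = 1 ∨ g ^ 3 = 1 ∨ g ^ 5 = 1) ∨
    ∃ x : X, 3 ≤ Nat.card (uni p H x) ∧ (orbit H x).ncard = Nat.card (uni p H x) + 1 ∧
      Nat.card (uni p H x) * (Nat.card (uni p H x) - 1) ≤ 2 * Nat.card (stabilizer H x) := by
  classical
  set Y := d.finite_sing.toFinset
  have hY : ∀ x, x ∈ Y ↔ stabilizer H x ≠ ⊥ := fun x => by simp [Y]
  have hYi : ∀ (g : H) x, x ∈ Y → g • x ∈ Y := fun g x hx => by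
    rw [hY, ← Subgroup.one_lt_card_iff_ne_bot] at hx ⊢
    rwa [card_stabilizer_smul]
  have hc := d.count ex Y hY
  have hN : 0 < Nat.card H := Nat.card_pos
  have hn : ∀ x : X, 0 < (orbit H x).ncard := fun x =>
    Nat.pos_of_mul_pos_right ((card_orbit_mul (H := H) x).symm ▸ hN)
  have hfix : ∀ g : H, g ≠ 1 → ∃ x ∈ Y, g • x = x := fun g hg => by
    obtain ⟨x, hx⟩ := ex g
    exact ⟨x, (hY x).2 fun h => hg (Subgroup.mem_bot.1 (h ▸ mem_stabilizer_iff.2 hx)), hx⟩
  by_cases hu : ∃ x : X, uni p H x ≠ ⊥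
  · obtain ⟨x, hx⟩ := hu
    have hxY : x ∈ Y := (hY x).2 fun h => hx (le_bot_iff.1 (h ▸ uni_le x))
    have hQ := (Subgroup.one_lt_card_iff_ne_bot _).2 hx
    obtain ⟨B, hB, hBi, h1⟩ := d.sum_orbit hYi hxY
    obtain ⟨c, -, hc1, -, hc2, hc3, -⟩ := d.borel x
    have hxN := card_orbit_mul (H := H) x
    obtain ⟨m, hm⟩ : ∃ m, (orbit H x).ncard = 1 + m * Nat.card (uni p H x) := by
      have := card_dvd_ncard_of_free (uni p H x) (orbit H x \ {x})
        (fun g hg a ha => ⟨mem_orbit_of_mem_orbit g ha.1, fun h =>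
          ha.2 (smul_left_cancel g (h.trans (uni_le x hg).symm))⟩)
        (fun g hg a ha h => d.uni_free hg ha.2 h)
      rw [Set.ncard_diff_singleton_of_mem (mem_orbit_self x)] at this
      obtain ⟨m, hm⟩ := this
      have := hn x
      exact ⟨m, by rw [mul_comm]; omega⟩
    have hk : 0 < orderOf c := orderOf_pos c
    rcases B.eq_empty_or_nonempty with rfl | ⟨y, hy⟩
    · left
      refine ⟨x, fix_of_orbit_one ?_⟩
      rw [hc, Finset.sum_empty, ← hxN, hc1] at h1
      push_cast at h1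
      have h2 : (1 : ℤ) < Nat.card (uni p H x) := by exact_mod_cast hQ
      have h3 : (1 : ℤ) ≤ orderOf c := by exact_mod_cast hk
      have h4 : (1 : ℤ) ≤ (orbit H x).ncard := by exact_mod_cast hn x
      have h5 : ((orbit H x).ncard : ℤ) * (Nat.card (uni p H x) * (orderOf c - 1) + 2) = 2 := by
        linear_combination h1
      have h6 : (0 : ℤ) ≤ Nat.card (uni p H x) * (orderOf c - 1) := by positivity
      have : ((orbit H x).ncard : ℤ) = 1 := by nlinarith
      exact_mod_cast this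
    obtain ⟨C, hC, hCi, h2⟩ := d.sum_orbit hBi hy
    have hyY := ((hB y).1 hy).1
    have hyN := card_orbit_mul (H := H) y
    have he := (Subgroup.one_lt_card_iff_ne_bot _).2 ((hY y).1 hyY)
    have h3 : (0 : ℤ) ≤ (orbit H x).ncard * (Nat.card (uni p H x) - 2) :=
      mul_nonneg (by positivity) (by omega)
    have h4 : (orbit H y).ncard * 2 ≤ Nat.card H := hyN ▸ Nat.mul_le_mul_left _ he
    have h5 : Nat.card (uni p H y) = 1 ∧ C = ∅ := by
      have a : 0 < Nat.card (uni p H y) := Nat.card_pos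
      have b : (0 : ℤ) ≤ (orbit H y).ncard * (Nat.card (uni p H y) - 1) :=
        mul_nonneg (by positivity) (by omega)
      rcases d.sum_bound hCi fun z hz => (hY z).1 ((hB z).1 ((hC z).1 hz).1).1 with h | h
      · refine ⟨?_, h⟩
        by_contra h6
        have b : (0 : ℤ) ≤ (orbit H y).ncard * (Nat.card (uni p H y) - 2) :=
          mul_nonneg (by positivity) (by omega)
        rw [h, Finset.sum_empty] at h2
        omega
      · exfalso
        have : ((orbit H y).ncard : ℤ) * (Nat.card (uni p H y) - 2) =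
          (orbit H y).ncard * (Nat.card (uni p H y) - 1) - (orbit H y).ncard := by ring
        omega
    rw [h5.2, h5.1, Finset.sum_empty] at h2
    have h6 := arith_uni (m := m) (e := Nat.card (stabilizer H y)) (f := (orbit H y).ncard) hQ hc3
      (by rw [hc, h2, hm] at h1; push_cast at h1 ⊢; linear_combination h1)
      (by rw [hyN, ← hxN, hm, hc1])
    rcases h6 with h6 | h6 | ⟨h6, h7, h8⟩ | ⟨h6, h7, h8, h9⟩
    · exact Or.inl ⟨x, fix_of_orbit_one (by simp [hm, h6])⟩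
    · exact Or.inr (Or.inl ⟨y, h6⟩)
    · refine Or.inr (Or.inr (Or.inr (Or.inr ⟨x, h6, by rw [hm, h7]; ring, ?_⟩)))
      rw [hc1, mul_left_comm]
      exact Nat.mul_le_mul_left _ h8
    · have hp : p = 3 := by
        obtain ⟨n, hn⟩ := (d.uni_isPGroup x).exists_card_eq
        rw [h6] at hn
        exact ((Nat.Prime.eq_one_or_self_of_dvd Nat.prime_three p (hn ▸ dvd_pow_self p (by
          rintro rfl; simp at hn))).resolve_left (Fact.out : p.Prime).ne_one)
      have hord : ∀ g : H, g ^ 2 = 1 ∨ g ^ 3 = 1 ∨ g ^ 5 = 1 := by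
        intro g
        by_cases hg : g = 1
        · simp [hg]
        obtain ⟨z, hz, hgz⟩ := hfix g hg
        by_cases hzx : z ∈ orbit H x
        · obtain ⟨t, rfl⟩ := hzx
          rcases hc2 (t⁻¹ * g * t) (by simp only [mul_smul] at hgz ⊢; rw [hgz]; simp) with h | h
          · rw [hp, ← orderOf_dvd_iff_pow_eq_one, Inv.orderOf_conj'',
              orderOf_dvd_iff_pow_eq_one] at h
            exact Or.inr (Or.inl h)
          · rw [h7, Inv.orderOf_conj'', orderOf_dvd_iff_pow_eq_one] at h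
            exact Or.inl h
        · have hzy : z ∈ orbit H y := by
            by_contra h
            have := (hC z).2 ⟨(hB z).2 ⟨hz, hzx⟩, h⟩
            simp [h5.2] at this
          obtain ⟨t, rfl⟩ := hzy
          have := (stabilizer H (t • y)).orderOf_dvd_natCard hgz
          rw [card_stabilizer_smul, h9, orderOf_dvd_iff_pow_eq_one] at this
          exact Or.inr (Or.inr this)
      refine Or.inr (Or.inr (Or.inr (Or.inl ⟨hp, eppo_of_dvd fun g => ?_, by
        rw [← hxN, hm, hc1, h6, h7, h8], hord⟩)))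
      rcases hord g with h | h | h
      · exact ⟨2, 1, Nat.prime_two, orderOf_dvd_of_pow_eq_one h⟩
      · exact ⟨3, 1, Nat.prime_three, orderOf_dvd_of_pow_eq_one h⟩
      · exact ⟨5, 1, Nat.prime_five, orderOf_dvd_of_pow_eq_one h⟩
  push Not at hu
  simp only [hu, Subgroup.card_bot] at hc
  rcases Y.eq_empty_or_nonempty with h0 | ⟨x, hx⟩
  · left
    refine ⟨Classical.arbitrary X, fun g => ?_⟩
    by_cases hg : g = 1
    · simp [hg]
    · obtain ⟨x, hx, -⟩ := hfix g hg
      simp [h0] at hx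
  have hle : ∀ x ∈ Y, 2 ≤ Nat.card (stabilizer H x) ∧ (orbit H x).ncard * 2 ≤ Nat.card H :=
    fun x hx => by
      have he := (Subgroup.one_lt_card_iff_ne_bot _).2 ((hY x).1 hx)
      exact ⟨he, card_orbit_mul (H := H) x ▸ Nat.mul_le_mul_left _ he⟩
  obtain ⟨B, hB, hBi, h1⟩ := d.sum_orbit hYi hx
  simp only [hu, Subgroup.card_bot] at h1
  have hx' := hle x hx
  have hx0 := hn x
  rcases B.eq_empty_or_nonempty with rfl | ⟨y, hy⟩
  · rw [hc, Finset.sum_empty] at h1
    omega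
  obtain ⟨C, hC, hCi, h2⟩ := d.sum_orbit hBi hy
  simp only [hu, Subgroup.card_bot] at h2
  have hy' := hle y ((hB y).1 hy).1
  have hy0 := hn y
  rcases C.eq_empty_or_nonempty with rfl | ⟨z, hz⟩
  · rw [hc, h2, Finset.sum_empty] at h1
    exact Or.inl ⟨x, fix_of_orbit_one (by omega)⟩
  obtain ⟨D, hD, hDi, h3⟩ := d.sum_orbit hCi hz
  have h4 := d.sum_bound hDi fun z hz => (hY z).1 ((hB z).1 ((hC z).1 ((hD z).1 hz).1).1).1
  simp only [hu, Subgroup.card_bot] at h3 h4
  have hz' := hle z ((hB z).1 ((hC z).1 hz).1).1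
  rcases h4 with rfl | h4
  swap
  · omega
  rw [hc, h2, h3, Finset.sum_empty] at h1
  rcases arith_three (card_orbit_mul (H := H) x) (card_orbit_mul (H := H) y)
    (card_orbit_mul (H := H) z) hx'.1 hy'.1 hz'.1 (by omega) with (h | h | h) | ⟨h5, h6, h7, h8⟩
  · exact Or.inr (Or.inl ⟨x, h⟩)
  · exact Or.inr (Or.inl ⟨y, h⟩)
  · exact Or.inr (Or.inl ⟨z, h⟩)
  refine Or.inr (Or.inr (Or.inl ⟨fun hp => ?_, eppo_of_dvd fun g => ?_, h5⟩))
  · obtain ⟨g, hg⟩ := exists_prime_orderOf_dvd_card' p hp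
    obtain ⟨w, hw⟩ := ex g
    have := d.mem_uni.2 ⟨hw, hg ▸ pow_orderOf_eq_one g⟩
    rw [hu, Subgroup.mem_bot] at this
    rw [this, orderOf_one] at hg
    exact (Fact.out : p.Prime).ne_one hg.symm
  · by_cases hg : g = 1
    · exact ⟨2, 0, Nat.prime_two, by simp [hg]⟩
    obtain ⟨w, hw, hgw⟩ := hfix g hg
    have h9 : Nat.card (stabilizer H w) ≤ 5 := by
      by_cases a : w ∈ orbit H x
      · obtain ⟨t, rfl⟩ := a; rwa [card_stabilizer_smul]
      by_cases b : w ∈ orbit H y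
      · obtain ⟨t, rfl⟩ := b; rwa [card_stabilizer_smul]
      by_cases c : w ∈ orbit H z
      · obtain ⟨t, rfl⟩ := c; rwa [card_stabilizer_smul]
      simpa using (hD w).2 ⟨(hC w).2 ⟨(hB w).2 ⟨hw, a⟩, b⟩, c⟩
    have h10 := (stabilizer H w).orderOf_dvd_natCard hgw
    have h11 := (hle w hw).1
    interval_cases Nat.card (stabilizer H w)
    · exact ⟨2, 1, Nat.prime_two, h10⟩
    · exact ⟨3, 1, Nat.prime_three, h10⟩
    · exact ⟨2, 2, Nat.prime_two, h10⟩
    · exact ⟨5, 1, Nat.prime_five, h10⟩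

/-- An orbit of length two gives a dihedral group. -/
theorem dihedral [Finite H] (ex : ∀ g : H, ∃ x : X, g • x = x) {x : X}
    (h : (orbit H x).ncard = 2) : ∃ c : H, (orderOf c).Coprime p ∧
      (Subgroup.zpowers c).index = 2 ∧ (∀ s, s ∉ Subgroup.zpowers c → s * s = 1) ∧
      Nonempty (H ≃* DihedralGroup (orderOf c)) := by
  obtain ⟨y, hy, ho⟩ : ∃ y, y ≠ x ∧ orbit H x = {x, y} := by
    obtain ⟨a, b, hab, h1⟩ := Set.ncard_eq_two.1 h
    have h2 : x ∈ orbit H x := mem_orbit_self x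
    rw [h1] at h2
    rcases h2 with rfl | rfl
    · exact ⟨b, hab.symm, h1⟩
    · exact ⟨a, hab, h1.trans (Set.pair_comm _ _)⟩
  have h1 : ∀ g : H, g • x = x ∨ g • x = y := fun g => by
    have := mem_orbit x g; rwa [ho] at this
  have h2 : ∀ g : H, g • y = x ∨ g • y = y := fun g => by
    have := mem_orbit_of_mem_orbit g (show y ∈ orbit H x by simp [ho]); rwa [ho] at this
  obtain ⟨c, hc, hcp⟩ := d.pair_cyclic hy
  have h3 : stabilizer H x = Subgroup.zpowers c := by
    rw [← hc, left_eq_inf]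
    intro g hg
    exact (h2 g).resolve_left fun h => hy (smul_left_cancel g (h.trans (mem_stabilizer_iff.1 hg).symm))
  have h4 : (Subgroup.zpowers c).index = 2 := by rw [← h3, index_stabilizer, h]
  have h5 : ∀ s, s ∉ Subgroup.zpowers c → s * s = 1 := by
    intro s hs
    rw [← h3] at hs
    have a := (h1 s).resolve_left hs
    have b := (h2 s).resolve_right fun h => hy (smul_left_cancel s (h.trans a.symm))
    obtain ⟨z, hz⟩ := ex s
    refine d.three _ x y z hy.symm ?_ ?_ (by rw [mul_smul, a, b]) (by rw [mul_smul, b, a])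
      (by rw [mul_smul, hz, hz])
    · rintro rfl; exact hs hz
    · rintro rfl; exact hy (hz.symm.trans b)
  exact ⟨c, hcp, h4, h5, dihedral_of_index_two h4 h5⟩

end DK

end Cfsg.Agent.Class
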