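import Cfsg.Agent.Class.PL

/-! Dickson's theorem on the subgroups of `PGL₂(q)`. -/

set_option autoImplicit false

namespace Cfsg.Agent.Class

open MulAction Matrix Matrix.ProjGenLinGroup
open scoped MatrixGroups LinearAlgebra.Projectivization

section equivariant
variable {H H' X X' : Type*} [Group H] [Group H'] [MulAction H X] [MulAction H' X']
  (e : H' ≃* H) {φ : X' → X} (hφ : Function.Injective φ) (h : ∀ (g : H') w, φ (g • w) = e g • φ w)
include hφ h

theorem stabilizer_equivariant (x : X') :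
    stabilizer H (φ x) = (stabilizer H' x).map e.toMonoidHom := by
  ext g
  obtain ⟨g, rfl⟩ := e.surjective g
  simp [← h, hφ.eq_iff]

theorem uni_equivariant (p : ℕ) (x : X') : uni p H (φ x) = (uni p H' x).map e.toMonoidHom := by
  rw [uni, uni, MonoidHom.map_closure]
  congr 1
  ext g
  obtain ⟨g, rfl⟩ := e.surjective g
  simp [← h, hφ.eq_iff, ← map_pow]

theorem cards_equivariant (p : ℕ) (x : X') :
    Nat.card (uni p H (φ x)) = Nat.card (uni p H' x) ∧
    (orbit H (φ x)).ncard = (orbit H' x).ncard ∧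
    Nat.card (stabilizer H (φ x)) = Nat.card (stabilizer H' x) := by
  refine ⟨by rw [uni_equivariant e hφ h, Subgroup.card_map_of_injective e.injective], ?_,
    by rw [stabilizer_equivariant e hφ h, Subgroup.card_map_of_injective e.injective]⟩
  rw [← Set.ncard_image_of_injective _ hφ]
  congr 1
  ext y
  constructor
  · rintro ⟨g, rfl⟩
    obtain ⟨g, rfl⟩ := e.surjective g
    exact ⟨_, ⟨g, rfl⟩, h g x⟩
  · rintro ⟨_, ⟨g, rfl⟩, rfl⟩
    exact ⟨e g, (h g x).symm⟩

end equivariant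

variable {F : Type*} [Field F]

/-- Upper unitriangular matrices. -/
def slU (a : F) : SL(2, F) := sl2 1 a 0 1 (by simp)

/-- Lower unitriangular matrices. -/
def slL (a : F) : SL(2, F) := sl2 1 0 a 1 (by simp)

@[simp] theorem slU_coe (a : F) : (slU a : Matrix (Fin 2) (Fin 2) F) = !![1, a; 0, 1] := rfl
@[simp] theorem slL_coe (a : F) : (slL a : Matrix (Fin 2) (Fin 2) F) = !![1, 0; a, 1] := rfl

theorem slU_add (a b : F) : slU (a + b) = slU a * slU b := by
  ext i j; fin_cases i <;> fin_cases j <;> simp [add_comm]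

theorem slL_add (a b : F) : slL (a + b) = slL a * slL b := by
  ext i j; fin_cases i <;> fin_cases j <;> simp [add_comm]

@[simp] theorem slU_zero : slU (0 : F) = 1 := by
  ext i j; fin_cases i <;> fin_cases j <;> simp

@[simp] theorem slL_zero : slL (0 : F) = 1 := by
  ext i j; fin_cases i <;> fin_cases j <;> simp

theorem slU_neg (a : F) : slU (-a) = (slU a)⁻¹ :=
  eq_inv_of_mul_eq_one_left (by rw [← slU_add]; simp)

theorem slL_neg (a : F) : slL (-a) = (slL a)⁻¹ :=
  eq_inv_of_mul_eq_one_left (by rw [← slL_add]; simp)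

theorem slU_pow (a : F) (n : ℕ) : slU a ^ n = slU (n * a) := by
  induction n with
  | zero => simp
  | succ n ih => rw [pow_succ, ih, ← slU_add]; congr 1; push_cast; ring

theorem slL_pow (a : F) (n : ℕ) : slL a ^ n = slL (n * a) := by
  induction n with
  | zero => simp
  | succ n ih => rw [pow_succ, ih, ← slL_add]; congr 1; push_cast; ring

theorem slU_injective : Function.Injective (slU : F → _) := fun a b h => by
  simpa using congrArg (fun A : SL(2, F) => A.1 0 1) h

theorem SL2_eq_top (S : Subgroup SL(2, F)) (h1 : ∀ a, slU a ∈ S) (h2 : ∀ a, slL a ∈ S) : S = ⊤ := by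
  refine SL_eq_top_of_transvection_mem S fun i j hij c => ?_
  fin_cases i <;> fin_cases j
  · exact absurd rfl hij
  · convert h1 c
    ext i j; fin_cases i <;> fin_cases j <;> simp [SpecialLinearGroup.transvection_coe]
  · convert h2 c
    ext i j; fin_cases i <;> fin_cases j <;> simp [SpecialLinearGroup.transvection_coe]
  · exact absurd rfl hij

/-- Upper unitriangular matrices in `PGL₂`. -/
def pU (a : F) : PGL(2, F) := mk (slU a : GL (Fin 2) F)

theorem pU_add (a b : F) : pU (a + b) = pU a * pU b := by simp [pU, slU_add]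

@[simp] theorem pU_zero : pU (0 : F) = 1 := by simp [pU]

theorem pU_neg (a : F) : pU (-a) = (pU a)⁻¹ := by simp [pU, slU_neg]

theorem pU_smul_ppt (a b : F) : pU a • ppt b = ppt (b + a) := smul_ppt_ppt.2 (by simp)

theorem pU_smul_pinf (a : F) : pU a • pinf F = pinf F := smul_pinf_pinf.2 (by simp)

theorem pU_injective : Function.Injective (pU : F → _) := fun a b h => by
  have := pU_smul_ppt a 0
  rw [h, pU_smul_ppt] at this
  simpa [ppt_inj, eq_comm] using this

section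
variable (p : ℕ) [Fact p.Prime] [CharP F p]

theorem pU_pow_p (a : F) : pU a ^ p = 1 := by
  rw [pU, ← map_pow, ← map_pow, slU_pow]; simp

theorem mem_uni_pinf {g : PGL(2, F)} : g ∈ uni p PGL(2, F) (pinf F) ↔ ∃ a, g = pU a := by
  constructor
  · intro hg
    cases g with | mk A =>
    have h1 : A 1 0 = 0 := smul_pinf_pinf.1 (uni_le _ hg :)
    have h3 : A 1 1 ≠ 0 := fun h => det_ne A (by simp [h, h1])
    have h2 : A 0 0 = A 1 1 := by
      rcases ((dk_pgl p).mem_uni' (uni_le _ hg)).1 hg with h | h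
      · exact (pgl_eq_one_iff.1 h).2.2
      · by_contra h2
        refine ppt_ne_pinf (A.1 0 1 / (A.1 1 1 - A.1 0 0)) (h _ ?_)
        have := sub_ne_zero.2 (Ne.symm h2)
        rw [pgl_smul, smul_ppt_ppt, h1]; field_simp; ring
    refine ⟨A 0 1 / A 1 1, (pgl_eq_iff.2 ⟨A 1 1, h3, ?_⟩).symm⟩
    ext i j; fin_cases i <;> fin_cases j <;> simp [h1, h2]
    field_simp
  · rintro ⟨a, rfl⟩
    exact Subgroup.subset_closure ⟨pU_smul_pinf a, pU_pow_p p a⟩

theorem mem_uni_subgroup {X : Type*} {K G : Type*} [Field K] [CharP K p] [Group G] [MulAction G X]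
    (d : DK K p G X) (H : Subgroup G) {x : X} {g : H} : g ∈ uni p H x ↔ (g : G) ∈ uni p G x := by
  rw [d.mem_uni, (d.subgroup H).mem_uni, Subtype.ext_iff]; rfl

theorem rational_of_uni [Finite F] {x : PL F} {g : PGL(2, F)} (hg : g ∈ uni p PGL(2, F) x)
    (hg1 : g ≠ 1) : ∃ y, toPL y = x := by
  have h := ((dk_PL p).mem_uni' (uni_le _ hg)).1 hg |>.resolve_left hg1
  suffices ∃ y : P1 F, g • y = y by
    obtain ⟨y, hy⟩ := this
    exact ⟨y, h _ (by rw [← toPL_smul, hy])⟩
  cases g with | mk A =>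
  by_cases hc : A 1 0 = 0
  · exact ⟨pinf F, smul_pinf_pinf.2 hc⟩
  set j := algebraMap F (AlgebraicClosure F)
  have hx : GeneralLinearGroup.map j A • (id x : P1 (AlgebraicClosure F)) = x := (uni_le _ hg :)
  have hc' : j (A 1 0) ≠ 0 := by simpa using hc
  rcases p1_cases (F := AlgebraicClosure F) x with rfl | ⟨t, rfl⟩
  · exact absurd (smul_pinf_pinf.1 hx) hc'
  replace hx := smul_ppt_ppt.1 hx
  simp only [GeneralLinearGroup.map_apply] at hx
  have h1 : (j (A 0 0) - j (A 1 1)) / j (A 1 0) - t = t := ppt_inj.1 (h _ (smul_ppt_ppt.2 (by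
    change j (A 0 0) * _ + j (A 0 1) = (j (A 1 0) * _ + j (A 1 1)) * _
    field_simp
    linear_combination (j (A 1 0)) * hx)))
  have : Fintype F := Fintype.ofFinite F
  suffices ∃ s : F, j s = t by
    obtain ⟨s, rfl⟩ := this
    refine ⟨ppt s, smul_ppt_ppt.2 (j.injective ?_)⟩
    simpa using hx
  by_cases h2 : (2 : F) = 0
  · have h3 : (2 : AlgebraicClosure F) = 0 := by rw [← map_ofNat j, h2, map_zero]
    have : CharP F 2 := CharTwo.of_one_ne_zero_of_two_eq_zero one_ne_zero h2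
    obtain ⟨s, hs⟩ := FiniteField.isSquare_of_char_two (ringChar.eq F 2) (A 0 1 / A 1 0)
    have h4 := congrArg j hs
    rw [map_div₀, map_mul] at h4
    refine ⟨s, ?_⟩
    field_simp at h1 h4
    have : (j s - t) ^ 2 = 0 := by
      apply mul_left_cancel₀ hc'
      linear_combination -h4 - hx + t * h1 + (j (A 1 0) * (t ^ 2 - t * j s) + j (A 0 1)) * h3
    exact sub_eq_zero.1 (pow_eq_zero_iff two_ne_zero |>.1 this)
  · have h3 : (2 : AlgebraicClosure F) ≠ 0 := by rw [← map_ofNat j]; simpa using h2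
    refine ⟨(A 0 0 - A 1 1) / A 1 0 / 2, ?_⟩
    simp only [map_div₀, map_sub, map_ofNat]
    rw [div_eq_iff h3]
    linear_combination h1

theorem exists_fixed_of_pow_p [Finite F] {g : PGL(2, F)} (hg : g ^ p = 1) :
    ∃ x : P1 F, g • x = x := by
  by_cases h1 : g = 1
  · exact ⟨pinf F, by simp [h1]⟩
  obtain ⟨x, hx⟩ := PL_ex g
  obtain ⟨y, rfl⟩ := rational_of_uni p ((dk_PL p).mem_uni.2 ⟨hx, hg⟩) h1
  exact ⟨y, toPL_injective (by rw [toPL_smul, hx])⟩

theorem dickson_D_aux (H : Subgroup PGL(2, F)) [Finite H]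
    (hQ : (orbit H (pinf F)).ncard = Nat.card (uni p H (pinf F)) + 1)
    (hk : Nat.card (uni p H (pinf F)) * (Nat.card (uni p H (pinf F)) - 1) ≤
      2 * Nat.card (stabilizer H (pinf F)))
    (h0 : ppt 0 ∈ orbit H (pinf F)) (h1 : pU 1 ∈ H) :
    ∃ R : Subfield F, Nat.card R = Nat.card (uni p H (pinf F)) ∧
      (∀ B : SL(2, R), mk (SpecialLinearGroup.map R.subtype B : GL (Fin 2) F) ∈ H) ∧
      ∀ g ∈ H, ∃ B : GL (Fin 2) R, g = mk (GeneralLinearGroup.map R.subtype B) := by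
  let A : AddSubgroup F :=
    { carrier := {a | pU a ∈ H}
      add_mem' := fun ha hb => by simpa [pU_add] using H.mul_mem ha hb
      zero_mem' := by simp [H.one_mem]
      neg_mem' := fun ha => by simpa [pU_neg] using ha }
  have hA : ∀ a, a ∈ A ↔ pU a ∈ H := fun a => Iff.rfl
  have hAQ : Nat.card A = Nat.card (uni p H (pinf F)) := by
    refine Nat.card_congr (Equiv.ofBijective (fun a => ⟨⟨pU a.1, a.2⟩,
      (mem_uni_subgroup p (dk_pgl p) H).2 ((mem_uni_pinf p).2 ⟨a, rfl⟩)⟩) ⟨fun a b h => ?_, ?_⟩)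
    · exact Subtype.ext (pU_injective (congrArg (fun x => x.1.1) h))
    · rintro ⟨⟨g, hg⟩, hu⟩
      obtain ⟨a, rfl⟩ := (mem_uni_pinf p).1 ((mem_uni_subgroup p (dk_pgl p) H).1 hu)
      exact ⟨⟨a, hg⟩, rfl⟩
  have hQ0 : 0 < Nat.card (uni p H (pinf F)) := Nat.card_pos
  have hAf : Finite A := Nat.finite_of_card_ne_zero (by omega)
  have hO : orbit H (pinf F) = insert (pinf F) (ppt '' (A : Set F)) := by
    symm
    refine Set.eq_of_subset_of_ncard_le ?_ ?_ (Set.finite_range _ : (orbit H (pinf F)).Finite)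
    · rintro _ (rfl | ⟨a, ha, rfl⟩)
      · exact mem_orbit_self _
      · have := mem_orbit_of_mem_orbit (⟨pU a, ha⟩ : H) h0
        rwa [Subgroup.mk_smul, pU_smul_ppt, zero_add] at this
    · rw [Set.ncard_insert_of_notMem (by simp [ppt_ne_pinf]) ((Set.toFinite _).image _),
        Set.ncard_image_of_injective _ ppt_injective, hQ, ← hAQ]
      rfl
  let dg : Fˣ →* PGL(2, F) := mk.comp
    { toFun c := gl2 (c : F) 0 0 1 (by simp)
      map_one' := by ext i j; fin_cases i <;> fin_cases j <;> simp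
      map_mul' a b := by ext i j; fin_cases i <;> fin_cases j <;> simp }
  have hdg : ∀ c, dg c = mk (gl2 (c : F) 0 0 1 (by simp)) := fun c => rfl
  let C := H.comap dg
  have hCf : Finite C := by
    refine Finite.of_injective (fun c : C => (⟨dg c, c.2⟩ : H)) fun a b h => ?_
    obtain ⟨u, -, hu⟩ := pgl_eq_iff.1 (congrArg Subtype.val h : dg a = dg b)
    have h3 : 1 = u := by simpa using congrFun (congrFun hu 1) 1
    have h4 := congrFun (congrFun hu 0) 0
    ext; simpa [← h3] using h4.symm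
  have hC : Nat.card (stabilizer H (pinf F)) ≤ Nat.card A * Nat.card C := by
    rw [← Nat.card_prod]
    refine Nat.card_le_card_of_surjective (fun x : A × C => 
      ⟨⟨pU (x.1 : F) * dg x.2, H.mul_mem x.1.2 x.2.2⟩, ?_⟩) ?_
    · rw [mem_stabilizer_iff, Subgroup.mk_smul, mul_smul, hdg, pgl_smul,
        smul_pinf_pinf.2 (by simp), pU_smul_pinf]
    · rintro ⟨⟨g, hg⟩, hs⟩
      cases g with | mk M =>
      have h2 : M 1 0 = 0 := smul_pinf_pinf.1 hs
      have h3 : M 1 1 ≠ 0 := fun h => det_ne M (by simp [h, h2])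
      have h4 : M 0 0 ≠ 0 := fun h => det_ne M (by simp [h, h2])
      have h5 : M 0 1 / M 1 1 ∈ A := by
        have := mem_orbit_of_mem_orbit (⟨_, hg⟩ : H) h0
        rw [Subgroup.mk_smul, pgl_smul, (smul_ppt_ppt (b := M 0 1 / M 1 1)).2 (by field_simp; simp),
          hO] at this
        simpa [ppt_ne_pinf, ppt_inj] using this
      have h6 : mk M = pU (M 0 1 / M 1 1) * dg (Units.mk0 (M 0 0 / M 1 1) (div_ne_zero h4 h3)) := by
        rw [pU, hdg, ← map_mul, eq_comm, pgl_eq_iff]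
        refine ⟨M 1 1, h3, ?_⟩
        ext i j; fin_cases i <;> fin_cases j <;> simp [h2] <;> field_simp
      refine ⟨(⟨_, h5⟩, ⟨Units.mk0 (M 0 0 / M 1 1) (div_ne_zero h4 h3), ?_⟩),
        Subtype.ext (Subtype.ext h6.symm)⟩
      exact (H.mul_mem_cancel_left h5).1 (h6 ▸ hg)
  let R : Subfield F :=
    { carrier := {r | ∀ a ∈ A, r * a ∈ A}
      mul_mem' := fun hr hs a ha => by rw [mul_assoc]; exact hr _ (hs a ha)
      one_mem' := by simp
      add_mem' := fun hr hs a ha => by rw [add_mul]; exact A.add_mem (hr a ha) (hs a ha)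
      zero_mem' := by simp
      neg_mem' := fun hr a ha => by rw [neg_mul]; exact A.neg_mem (hr a ha)
      inv_mem' := fun r hr a ha => by
        by_cases hr0 : r = 0
        · simp [hr0]
        obtain ⟨b, hb⟩ := Finite.surjective_of_injective (f := fun b : A => (⟨r * b, hr b b.2⟩ : A))
          (fun b c h => Subtype.ext (mul_left_cancel₀ hr0 (congrArg Subtype.val h))) ⟨a, ha⟩
        have : r * b = a := congrArg Subtype.val hb
        rw [← this, inv_mul_cancel_left₀ hr0]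
        exact b.2 }
  have hRA : ∀ r ∈ R, r ∈ A := fun r hr => by simpa using hr 1 h1
  have hRf : Finite R := Finite.of_injective (fun r : R => (⟨r, hRA r r.2⟩ : A))
    fun a b h => Subtype.ext (congrArg Subtype.val h :)
  have hCR : Nat.card C ≤ Nat.card R - 1 := by
    rw [← Nat.card_units]
    have hm : ∀ c : C, (c.1 : F) ∈ R := fun c a ha => by
      have h2 : pU (c.1 * a) = dg c.1 * pU a * (dg c.1)⁻¹ := by
        rw [eq_mul_inv_iff_mul_eq, pU, pU, hdg, ← map_mul, ← map_mul]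
        congr 1
        ext i j; fin_cases i <;> fin_cases j <;> simp
      rw [hA, h2]
      exact H.mul_mem (H.mul_mem c.2 ha) (H.inv_mem c.2)
    refine Nat.card_le_card_of_injective (fun c => Units.mk0 ⟨c.1, hm c⟩ fun h =>
      c.1.ne_zero (congrArg Subtype.val h)) fun a b h => ?_
    ext; exact congrArg (fun u : Rˣ => (u.1 : F)) h
  have hAR : ∀ a ∈ A, a ∈ R := by
    intro a ha
    by_contra haR
    have h2 : Nat.card R * Nat.card R ≤ Nat.card A := by
      rw [← Nat.card_prod]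
      refine Nat.card_le_card_of_injective (fun x : R × R =>
        ⟨x.1 + x.2 * a, A.add_mem (hRA _ x.1.2) (x.2.2 a ha)⟩) fun x y h => ?_
      have h3 : (x.1 : F) + x.2 * a = y.1 + y.2 * a := congrArg Subtype.val h
      have h4 : (x.2 : F) = y.2 := by
        by_contra h4
        have : a = (y.1 - x.1) / (x.2 - y.2) := by
          rw [eq_div_iff (sub_ne_zero.2 h4)]; linear_combination h3
        exact haR (this ▸ R.div_mem (R.sub_mem y.1.2 x.1.2) (R.sub_mem x.2.2 y.2.2))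
      rw [h4, add_left_inj] at h3
      exact Prod.ext (Subtype.ext h3) (Subtype.ext h4)
    rw [← hAQ] at hk hQ0
    have h3 : Nat.card A - 1 ≤ 2 * Nat.card C :=
      Nat.le_of_mul_le_mul_left (hk.trans (by nlinarith)) hQ0
    have h4 : 1 < Nat.card R := Finite.one_lt_card
    obtain ⟨r, hr⟩ : ∃ r, Nat.card R = r + 2 := ⟨Nat.card R - 2, by omega⟩
    rw [hr] at h2 hCR
    have : Nat.card A ≤ 2 * r + 3 := by omega
    nlinarith
  have hO' : ∀ y ∈ orbit H (pinf F), ∃ y', pmap R.subtype y' = y := by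
    rw [hO]
    rintro _ (rfl | ⟨a, ha, rfl⟩)
    · exact ⟨_, pmap_pinf _⟩
    · exact ⟨ppt ⟨a, hAR a ha⟩, pmap_ppt _ _⟩
  have h2 : ∀ g ∈ H, ∃ B : GL (Fin 2) R, g = mk (GeneralLinearGroup.map R.subtype B) := by
    intro g hg
    have h1' : ppt 1 ∈ orbit H (pinf F) := by rw [hO]; exact Or.inr ⟨1, h1, rfl⟩
    obtain ⟨x, hx⟩ := hO' _ (mem_orbit _ (⟨g, hg⟩ : H))
    obtain ⟨y, hy⟩ := hO' _ (mem_orbit_of_mem_orbit (⟨g, hg⟩ : H) h0)
    obtain ⟨z, hz⟩ := hO' _ (mem_orbit_of_mem_orbit (⟨g, hg⟩ : H) h1')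
    rw [Subgroup.mk_smul] at hx hy hz
    have h01 : ppt (0 : F) ≠ ppt 1 := by simp [ppt_inj]
    obtain ⟨B, e1, e2, e3⟩ := gl_three_trans x y z
      (fun h => (ppt_ne_pinf (0 : F)).symm (smul_left_cancel g (by rw [← hx, ← hy, h])))
      (fun h => (ppt_ne_pinf (1 : F)).symm (smul_left_cancel g (by rw [← hx, ← hz, h])))
      (fun h => h01 (smul_left_cancel g (by rw [← hy, ← hz, h])))
    refine ⟨B, inv_mul_eq_one.1 (pgl_three _ _ _ _ (ppt_ne_pinf 0).symm (ppt_ne_pinf 1).symm h01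
      ?_ ?_ ?_)⟩
    · rw [mul_smul, inv_smul_eq_iff, ← hx, ← e1, pmap_smul, pmap_pinf, pgl_smul]
    · rw [mul_smul, inv_smul_eq_iff, ← hy, ← e2, pmap_smul, pmap_ppt, map_zero, pgl_smul]
    · rw [mul_smul, inv_smul_eq_iff, ← hz, ← e3, pmap_smul, pmap_ppt, map_one, pgl_smul]
  refine ⟨R, ?_, fun B => ?_, h2⟩
  · rw [← hAQ]
    exact Nat.card_congr (Equiv.subtypeEquivRight fun a => ⟨hRA a, hAR a⟩)
  have h3 : ∀ r : R, mk (SpecialLinearGroup.map R.subtype (slU r) : GL (Fin 2) F) = pU (r : F) := by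
    intro r
    rw [pU]
    congr 2
    ext i j; fin_cases i <;> fin_cases j <;> simp
  have := SL2_eq_top (H.comap (mk.comp (SpecialLinearGroup.toGL.comp
    (SpecialLinearGroup.map R.subtype)))) (fun r => by
      change mk (SpecialLinearGroup.map R.subtype (slU r) : GL (Fin 2) F) ∈ H
      exact h3 r ▸ hRA r r.2) (fun r => by
      obtain ⟨⟨s, hs⟩, hs0⟩ := h0
      obtain ⟨M, rfl⟩ := h2 s hs
      have h4 : M 0 0 = 0 := by simpa using smul_pinf_ppt.1 hs0
      have h5 : M 1 0 ≠ 0 := fun h => det_ne M (by simp [h, h4])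
      have h5' : (M 1 0 : F) ≠ 0 := by simpa using h5
      have h6 := H.mul_mem (H.mul_mem hs (hRA _ (r * M 0 1 / M 1 0).2)) (H.inv_mem hs)
      change mk (SpecialLinearGroup.map R.subtype (slL r) : GL (Fin 2) F) ∈ H
      convert h6 using 1
      rw [eq_mul_inv_iff_mul_eq, pU, ← map_mul, ← map_mul]
      congr 1
      ext i j; fin_cases i <;> fin_cases j <;>
        simp [mul_apply, GeneralLinearGroup.map_apply, h4]
      field_simp)
  exact (this ▸ Subgroup.mem_top B : B ∈ H.comap _)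

theorem dickson_D (H : Subgroup PGL(2, F)) [Finite H] (x : P1 F) (h2 : 2 ≤ Nat.card (uni p H x))
    (hQ : (orbit H x).ncard = Nat.card (uni p H x) + 1)
    (hk : Nat.card (uni p H x) * (Nat.card (uni p H x) - 1) ≤ 2 * Nat.card (stabilizer H x)) :
    ∃ (R : Subfield F) (t : GL (Fin 2) F), Nat.card R = Nat.card (uni p H x) ∧
      (∀ B : SL(2, R), mk (t * (SpecialLinearGroup.map R.subtype B : GL (Fin 2) F) * t⁻¹) ∈ H) ∧
      ∀ g ∈ H, ∃ B : GL (Fin 2) R, g = mk (t * GeneralLinearGroup.map R.subtype B * t⁻¹) := by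
  obtain ⟨y, hy, hyx⟩ := Set.exists_ne_of_one_lt_ncard (s := orbit H x) (by omega) x
  obtain ⟨u, hu, hu1⟩ := (Subgroup.bot_or_exists_ne_one _).resolve_left
    ((Subgroup.one_lt_card_iff_ne_bot (uni p H x)).1 h2)
  obtain ⟨t, e1, e2, e3⟩ := gl_three_trans x y (u • y) hyx.symm
    (fun h => hyx (smul_left_cancel u (h.symm.trans (uni_le x hu).symm)))
    fun h => hu1 (((dk_pgl p).subgroup H).uni_free hu hyx h.symm)
  let H' := H.comap (MulAut.conj (mk t)).toMonoidHom
  let e : H' ≃* H := (MulAut.conj (mk t)).subgroupMap H' |>.trans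
    (MulEquiv.subgroupCongr (Subgroup.map_comap_eq_self_of_surjective (MulAut.conj _).surjective H))
  have he : ∀ g : H', (e g : PGL(2, F)) = mk t * g * (mk t)⁻¹ := fun g => rfl
  have : Finite H' := Finite.of_equiv _ e.symm.toEquiv
  have hφ : ∀ (g : H') (w : P1 F), mk t • (g • w) = e g • mk t • w := fun g w => by
    rw [Subgroup.smul_def, Subgroup.smul_def, he]; simp [mul_smul]
  obtain ⟨c1, c2, c3⟩ := cards_equivariant e (MulAction.injective (mk t)) hφ p (pinf F)
  rw [pgl_smul, e1] at c1 c2 c3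
  obtain ⟨R, h3, h4, h5⟩ := dickson_D_aux p H' (by rw [← c1, ← c2, hQ]) (by rw [← c1, ← c3]; exact hk)
    (by
      obtain ⟨s, rfl⟩ := hy
      refine ⟨e.symm s, smul_left_cancel (mk t) ?_⟩
      simp only [hφ, MulEquiv.apply_symm_apply, pgl_smul, e1, e2])
    (by
      have h6 : e.symm u ∈ uni p H' (pinf F) := by
        have := uni_equivariant e (MulAction.injective (mk t)) hφ p (pinf F)
        rw [pgl_smul, e1] at this
        obtain ⟨v, hv, rfl⟩ := this.le hu
        simpa using hv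
      obtain ⟨a, ha⟩ := (mem_uni_pinf p).1 ((mem_uni_subgroup p (dk_pgl p) H').1 h6)
      have h7 := hφ (e.symm u) (ppt 0)
      rw [MulEquiv.apply_symm_apply, pgl_smul t (ppt 0), e2, ← e3, Subgroup.smul_def, ha,
        pU_smul_ppt, zero_add] at h7
      have h8 : a = 1 := ppt_inj.1 (smul_left_cancel t h7)
      rw [← h8, ← ha]
      exact (e.symm u).2)
  refine ⟨R, t, h3.trans c1.symm, fun B => by rw [map_mul, map_mul, map_inv]; exact h4 B, fun g hg => ?_⟩
  obtain ⟨B, hB⟩ := h5 _ (e.symm ⟨g, hg⟩).2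
  refine ⟨B, ?_⟩
  rw [map_mul, map_mul, map_inv, ← hB, ← he, MulEquiv.apply_symm_apply]

/-- Dickson's theorem. -/
theorem dickson_pgl [Finite F] (H : Subgroup PGL(2, F)) :
    (∃ x : P1 F, ∀ g ∈ H, g • x = x) ∨
    (∃ c : H, (orderOf c).Coprime p ∧ Subgroup.zpowers c = ⊤) ∨
    (∃ c : H, (orderOf c).Coprime p ∧ (Subgroup.zpowers c).index = 2 ∧
      (∀ s, s ∉ Subgroup.zpowers c → s * s = 1) ∧ Nonempty (H ≃* DihedralGroup (orderOf c))) ∨
    (¬ p ∣ Nat.card H ∧ (Nonempty (H ≃* alternatingGroup (Fin 4)) ∨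
      Nonempty (H ≃* Equiv.Perm (Fin 4)) ∨ Nonempty (H ≃* alternatingGroup (Fin 5)))) ∨
    (p = 3 ∧ Nonempty (H ≃* alternatingGroup (Fin 5)) ∧
      ∀ g : H, g ^ 2 = 1 ∨ g ^ 3 = 1 ∨ g ^ 5 = 1) ∨
    ∃ (R : Subfield F) (t : GL (Fin 2) F), 3 ≤ Nat.card R ∧
      (∀ B : SL(2, R), mk (t * (SpecialLinearGroup.map R.subtype B : GL (Fin 2) F) * t⁻¹) ∈ H) ∧
      ∀ g ∈ H, ∃ B : GL (Fin 2) R, g = mk (t * GeneralLinearGroup.map R.subtype B * t⁻¹) := by
  have : Finite PGL(2, F) := Finite.of_surjective _ mk_surjective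
  have d := (dk_PL (F := F) p).subgroup H
  have ex : ∀ g : H, ∃ x : PL F, g • x = x := fun g => PL_ex g.1
  have hrat : ∀ x : PL F, uni p H x ≠ ⊥ → ∃ y, toPL y = x := fun x hx => by
    obtain ⟨u, hu, hu1⟩ := (Subgroup.bot_or_exists_ne_one _).resolve_left hx
    exact rational_of_uni p ((mem_uni_subgroup p (dk_PL p) H).1 hu) fun h => hu1 (Subtype.ext h)
  rcases d.dickson ex with ⟨x, hx⟩ | ⟨x, hx⟩ | ⟨h1, h2, h3⟩ | ⟨h1, h2, h3, h4⟩ | ⟨x, h1, h2, h3⟩
  · by_cases hu : uni p H x = ⊥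
    · obtain ⟨c, -, -, h1, -, -, h2⟩ := d.borel x
      exact Or.inr (Or.inl ⟨c, h1, by rw [← h2 hu, Subgroup.eq_top_iff']; exact hx⟩)
    · obtain ⟨y, rfl⟩ := hrat x hu
      exact Or.inl ⟨y, fun g hg => toPL_injective (by rw [toPL_smul]; exact hx ⟨g, hg⟩)⟩
  · exact Or.inr (Or.inr (Or.inl (d.dihedral ex hx)))
  · refine Or.inr (Or.inr (Or.inr (Or.inl ⟨h1, ?_⟩)))
    rcases h3 with h | h | h
    · exact Or.inl (h2.equiv_A4 h)
    · exact Or.inr (Or.inl (h2.equiv_S4 h))
    · exact Or.inr (Or.inr (h2.equiv_A5 h))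
  · exact Or.inr (Or.inr (Or.inr (Or.inr (Or.inl ⟨h1, h2.equiv_A5 h3, h4⟩))))
  · obtain ⟨y, rfl⟩ := hrat x ((Subgroup.one_lt_card_iff_ne_bot _).1 (by omega))
    obtain ⟨c1, c2, c3⟩ := cards_equivariant (MulEquiv.refl H) toPL_injective
      (fun g w => toPL_smul g.1 w) p y
    rw [c1] at h1
    obtain ⟨R, t, h4, h5⟩ := dickson_D p H y (by omega) (by rw [← c2, h2, c1])
      (by rw [← c1, ← c3]; exact h3)
    exact Or.inr (Or.inr (Or.inr (Or.inr (Or.inr ⟨R, t, h4 ▸ h1, h5⟩))))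

end

end Cfsg.Agent.Class
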