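import Cfsg.Agent.Class.Tab

/-! Elements of order four and quaternion pairs in `SL₂(q)`, `q` odd. -/

set_option autoImplicit false

namespace Cfsg.Agent.Class

open Matrix
open scoped MatrixGroups

variable {F : Type*} [Field F]

theorem card_eq_mul_of_fibers {α β : Type*} [Finite β] (f : α → β) {k : ℕ}
    (h : ∀ b, Nat.card {a // f a = b} = k) : Nat.card α = k * Nat.card β := by
  have := Fintype.ofFinite β
  rcases k with _ | k
  · rw [zero_mul, ← Nat.card_congr (Equiv.sigmaFiberEquiv f)]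
    by_cases h1 : ∀ b, IsEmpty {a // f a = b}
    · have : IsEmpty ((b : β) × {a // f a = b}) := ⟨fun x => (h1 x.1).false x.2⟩
      simp
    · push Not at h1
      obtain ⟨b, hb⟩ := h1
      have : Infinite {a // f a = b} := (Nat.card_eq_zero.1 (h b)).resolve_left (by simpa using hb)
      have : Infinite ((b : β) × {a // f a = b}) := 
        Infinite.of_injective _ (sigma_mk_injective (i := b))
      simp
  have : ∀ b, Finite {a // f a = b} := fun b => Nat.finite_of_card_ne_zero (by simp [h])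
  rw [← Nat.card_congr (Equiv.sigmaFiberEquiv f), Nat.card_sigma]
  simp [h, mul_comm]

theorem slJ_sq : slJ F * slJ F = -1 := sl2_sq_of_trace (by simp [trace_fin_two])

theorem exists_conj_slJ [Finite F] (h2 : (2 : F) ≠ 0) {a : SL(2, F)} (ha : a * a = -1) :
    ∃ t : SL(2, F), a = t * slJ F * t⁻¹ := by
  have h1 := trace_of_sq_eq_neg_one ha
  have h3 := a.2
  rw [trace_fin_two] at h1
  rw [det_fin_two] at h3
  obtain ⟨x, y, h⟩ := binary_form_surj h2 (a := a.1 1 0) (b := a.1 1 1 - a.1 0 0) (c := -a.1 0 1)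
    (fun h => mul_ne_zero h2 h2 (by
      linear_combination -h - 4 * h3 + (a.1 0 0 + a.1 1 1) * h1)) 1
  refine ⟨sl2 x (a.1 0 0 * x + a.1 0 1 * y) y (a.1 1 0 * x + a.1 1 1 * y)
    (by linear_combination h), ?_⟩
  rw [eq_mul_inv_iff_mul_eq]
  ext i j; fin_cases i <;> fin_cases j <;> simp [mul_apply]
  · linear_combination x * (a.1 0 0) * h1 - x * h3 + y * a.1 0 1 * h1
  · linear_combination x * (a.1 1 0) * h1 - y * h3 + y * a.1 1 1 * h1

theorem isConj_of_sq_eq_neg_one [Finite F] (h2 : (2 : F) ≠ 0) {a b : SL(2, F)} (ha : a * a = -1)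
    (hb : b * b = -1) : IsConj a b := by
  obtain ⟨s, rfl⟩ := exists_conj_slJ h2 ha
  obtain ⟨t, rfl⟩ := exists_conj_slJ h2 hb
  exact (isConj_iff.2 ⟨s, rfl⟩).symm.trans (isConj_iff.2 ⟨t, rfl⟩)

theorem card_circle [Finite F] (h2 : (2 : F) ≠ 0) :
    Nat.card {v : F × F // v.1 ^ 2 + v.2 ^ 2 = 1} + Nat.card {t : F // t ^ 2 = -1} =
      Nat.card F + 1 := by
  classical
  have h1 := card_and_ne_add_one (p := fun v : F × F => v.1 ^ 2 + v.2 ^ 2 = 1) (a := (-1, 0))
    (by simp)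
  have h3 : ∀ v : F × F, v ≠ (-1, 0) ∧ v.1 ^ 2 + v.2 ^ 2 = 1 → 1 + v.1 ≠ 0 := fun v hv h => by
    have h4 : v.1 = -1 := by linear_combination h
    exact hv.1 (Prod.ext h4 (pow_eq_zero_iff two_ne_zero |>.1 (by
      linear_combination hv.2 - (v.1 - 1) * h)))
  have h4 : ∀ t : F, ¬ t ^ 2 = -1 → 1 + t ^ 2 ≠ 0 := fun t ht h => ht (by linear_combination h)
  have e : {v : F × F // v ≠ (-1, 0) ∧ v.1 ^ 2 + v.2 ^ 2 = 1} ≃ {t : F // ¬ t ^ 2 = -1} :=
    { toFun v := ⟨v.1.2 / (1 + v.1.1), fun h => by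
        have := h3 _ v.2
        field_simp at h
        exact mul_ne_zero h2 this (by linear_combination h - v.2.2)⟩
      invFun t := ⟨((1 - t.1 ^ 2) / (1 + t.1 ^ 2), 2 * t.1 / (1 + t.1 ^ 2)), fun h => by
        have := h4 _ t.2
        have h5 := congrArg Prod.fst h
        field_simp at h5
        exact h2 (by linear_combination h5), by
        have := h4 _ t.2
        field_simp; ring⟩
      left_inv v := by
        have h5 := h3 _ v.2
        have h6 : 1 + (v.1.2 / (1 + v.1.1)) ^ 2 = 2 / (1 + v.1.1) := by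
          field_simp; linear_combination v.2.2
        ext <;> simp only [h6] <;> field_simp
        linear_combination -v.2.2
      right_inv t := by
        have := h4 _ t.2
        have h6 : 1 + (1 - t.1 ^ 2) / (1 + t.1 ^ 2) = 2 / (1 + t.1 ^ 2) := by field_simp; ring
        ext; simp only [h6]; field_simp }
  rw [← h1, Nat.card_congr e, ← Nat.card_congr (Equiv.sumCompl fun t : F => t ^ 2 = -1),
    Nat.card_sum]
  omega

theorem card_centralizer_slJ :
    Nat.card (Subgroup.centralizer {slJ F}) = Nat.card {v : F × F // v.1 ^ 2 + v.2 ^ 2 = 1} := by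
  have h0 : ∀ v : {v : F × F // v.1 ^ 2 + v.2 ^ 2 = 1},
      sl2 v.1.1 (-v.1.2) v.1.2 v.1.1 (by linear_combination v.2) ∈ Subgroup.centralizer {slJ F} :=
    fun v => by
      rw [Subgroup.mem_centralizer_singleton_iff]
      ext i j; fin_cases i <;> fin_cases j <;> simp
  refine Nat.card_congr (Equiv.ofBijective (fun v => ⟨_, h0 v⟩)
    ⟨fun v w h => ?_, fun ⟨g, hg⟩ => ?_⟩).symm
  · have h2 := congrArg (fun g => g.1.1) h
    exact Subtype.ext (Prod.ext (by simpa using congrFun (congrFun h2 0) 0)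
      (by simpa using congrFun (congrFun h2 1) 0))
  · rw [Subgroup.mem_centralizer_singleton_iff] at hg
    have h2 : g.1 * (slJ F).1 = (slJ F).1 * g.1 := congrArg Subtype.val hg
    have h3 := congrFun (congrFun h2 0) 0
    have h4 := congrFun (congrFun h2 1) 0
    have h5 := g.2
    simp [mul_apply] at h3 h4
    rw [det_fin_two, h3, h4] at h5
    refine ⟨⟨(g.1 0 0, g.1 1 0), by linear_combination h5⟩, Subtype.ext ?_⟩
    ext i j; fin_cases i <;> fin_cases j <;> simp [h3, h4]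

theorem card_centralizer_of_sq [Fintype F] (h2 : (2 : F) ≠ 0) {a : SL(2, F)} (ha : a * a = -1) :
    (Fintype.card F % 4 = 1 → Nat.card (Subgroup.centralizer {a}) = Fintype.card F - 1) ∧
    (Fintype.card F % 4 = 3 → Nat.card (Subgroup.centralizer {a}) = Fintype.card F + 1) := by
  obtain ⟨t, rfl⟩ := exists_conj_slJ h2 ha
  have h1 := card_circle h2
  rw [Inv.centralizer_conj, Inv.card_map_conj, card_centralizer_slJ]
  rw [Nat.card_eq_fintype_card (α := F)] at h1
  constructor <;> intro h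
  · obtain ⟨i, hi⟩ := (FiniteField.isSquare_neg_one_iff (F := F)).2 (by omega)
    have : Nat.card {t : F // t ^ 2 = -1} = 2 := by
      rw [Nat.card_eq_two_iff]
      refine ⟨⟨i, by rw [hi, sq]⟩, ⟨-i, by rw [hi]; ring⟩, fun h => ?_, ?_⟩
      · have h3 : i = -i := congrArg Subtype.val h
        have h4 : i = 0 := (mul_eq_zero.1 (by linear_combination h3)).resolve_left h2
        simp [h4] at hi
      · rw [Set.eq_univ_iff_forall]
        rintro ⟨t, ht⟩
        simpa [Subtype.ext_iff] using sq_eq_sq_iff_eq_or_eq_neg.1 (by rw [ht, hi, sq])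
    omega
  · have : IsEmpty {t : F // t ^ 2 = -1} := ⟨fun t =>
      (FiniteField.isSquare_neg_one_iff (F := F)).1 ⟨t.1, t.2.symm.trans (sq _)⟩ h⟩
    simpa using h1

theorem psl_neg (a : SL(2, F)) : ((-a : SL(2, F)) : PSL(2, F)) = a :=
  psl_eq_iff.2 (Or.inr (neg_neg _).symm)

theorem orderOf_psl_eq_two (h2 : (2 : F) ≠ 0) {a : SL(2, F)} :
    orderOf (a : PSL(2, F)) = 2 ↔ a * a = -1 := by
  rw [orderOf_eq_prime_iff, sq, ← QuotientGroup.mk_mul, psl_eq_one_iff, Ne, psl_eq_one_iff]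
  constructor
  · rintro ⟨h | h, h'⟩
    · exact absurd (sl2_sq_eq_one h2 h) h'
    · exact h
  · refine fun h => ⟨Or.inr h, ?_⟩
    rintro (rfl | rfl) <;> exact sl2_neg_one_ne h2 (by simpa using h.symm)

/-- A pair of elements generating a quaternion group of order eight. -/
structure QP (a b : SL(2, F)) : Prop where
  ha : a * a = -1
  hb : b * b = -1
  hab : b * a = -(a * b)

theorem qp_of_anti (h2 : (2 : F) ≠ 0) {a b : SL(2, F)} (ha : a * a = -1)
    (hab : b * a = -(a * b)) : QP a b := by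
  refine ⟨ha, sl2_sq_of_trace ?_, hab⟩
  have h1 : b = a * b * a := by rw [mul_assoc, hab, mul_neg, ← mul_assoc, ha]; simp
  have h3 : b.1.trace = (a.1 * b.1 * a.1).trace := congrArg (fun x : SL(2, F) => x.1.trace) h1
  rw [trace_mul_cycle, show a.1 * a.1 = -1 from congrArg Subtype.val ha] at h3
  simp only [neg_mul, one_mul, trace_neg] at h3
  exact (mul_eq_zero.1 (by linear_combination h3)).resolve_left h2

theorem qp_iff (h2 : (2 : F) ≠ 0) {a b : SL(2, F)} : QP a b ↔ orderOf (a : PSL(2, F)) = 2 ∧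
    orderOf (b : PSL(2, F)) = 2 ∧ (a : PSL(2, F)) ≠ b ∧ (a : PSL(2, F)) * b = b * a := by
  rw [orderOf_psl_eq_two h2, orderOf_psl_eq_two h2, ← QuotientGroup.mk_mul, ← QuotientGroup.mk_mul,
    Ne, psl_eq_iff, psl_eq_iff]
  constructor
  · rintro ⟨h1, h3, h4⟩
    refine ⟨h1, h3, ?_, Or.inr h4⟩
    rintro (rfl | rfl)
    · exact sl2_neg_one_ne h2 (by simpa [h1] using h4)
    · exact sl2_neg_one_ne h2 (by simpa [h1] using h4.symm)
  · rintro ⟨h1, h3, h4, h5 | h5⟩
    · have : a * b * (a * b) = 1 := by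
        rw [mul_assoc, ← mul_assoc b, h5, mul_assoc, h3, mul_neg, mul_neg, mul_one, h1, neg_neg]
      refine absurd ?_ h4
      rcases sl2_sq_eq_one h2 this with h | h
      · exact Or.inr (mul_left_cancel (a := a) (by simp [h, h1]))
      · exact Or.inl (mul_left_cancel (a := a) (by simp [h, h1]))
    · exact ⟨h1, h3, h5⟩

theorem card_qp [Finite F] (h2 : (2 : F) ≠ 0) :
    Nat.card {p : SL(2, F) × SL(2, F) // QP p.1 p.2} = Nat.card SL(2, F) := by
  rw [← Inv.card_centralizer_mul_card_class (slJ F)]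
  refine card_eq_mul_of_fibers (fun p => ⟨p.1.1, isConj_of_sq_eq_neg_one h2 slJ_sq p.2.ha⟩) ?_
  rintro ⟨_, h⟩
  obtain ⟨t, rfl⟩ := isConj_iff.1 h
  have ha : t * slJ F * t⁻¹ * (t * slJ F * t⁻¹) = -1 := by simp [mul_assoc, ← mul_assoc (slJ F), slJ_sq]
  rw [← Inv.card_map_conj _ t, ← Inv.centralizer_conj]
  generalize t * slJ F * t⁻¹ = a at *
  rw [← Inv.card_conjugators (isConj_of_sq_eq_neg_one h2 ha (b := -a) (by simpa using ha))]
  exact Nat.card_congr
    { toFun p := ⟨p.1.1.2, by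
        obtain ⟨⟨⟨x, y⟩, h1⟩, h3⟩ := p
        obtain rfl : x = a := congrArg Subtype.val h3
        simp [h1.hab]⟩
      invFun g := ⟨⟨(a, g.1), qp_of_anti h2 ha (by simpa using mul_inv_eq_iff_eq_mul.1 g.2)⟩, rfl⟩
      left_inv := by
        rintro ⟨⟨⟨x, y⟩, h1⟩, h3⟩
        obtain rfl : x = a := congrArg Subtype.val h3
        rfl
      right_inv g := rfl }

theorem card_psl_fiber (h2 : (2 : F) ≠ 0) (s : PSL(2, F)) :
    Nat.card {a : SL(2, F) // (a : PSL(2, F)) = s} = 2 := by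
  induction s using QuotientGroup.induction_on with | H b =>
  rw [Nat.card_eq_two_iff]
  refine ⟨⟨b, rfl⟩, ⟨-b, psl_neg b⟩, fun h => ?_, ?_⟩
  · have h3 : b = -b := congrArg Subtype.val h
    exact sl2_neg_one_ne h2 (mul_left_cancel (a := b) (by simpa using h3.symm))
  · rw [Set.eq_univ_iff_forall]
    rintro ⟨t, ht⟩
    simpa [Subtype.ext_iff] using psl_eq_iff.1 ht.symm

theorem card_commuting_pairs {G : Type*} [Group G] [Finite G] :
    Nat.card {p : G × G // orderOf p.1 = 2 ∧ orderOf p.2 = 2 ∧ p.1 ≠ p.2 ∧ p.1 * p.2 = p.2 * p.1} =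
      6 * Nat.card {V : Subgroup G // IsKleinFour V} := by
  refine card_eq_mul_of_fibers (fun p => ⟨_, Inv.kf_sup p.2.1 p.2.2.1 p.2.2.2.1 p.2.2.2.2⟩) ?_
  rintro ⟨V, hV⟩
  have h1 : ∀ x : G, orderOf x = 2 → x ≠ 1 := by rintro x hx rfl; simp at hx
  obtain ⟨e⟩ : Nonempty (V ≃* DihedralGroup 2) := IsKleinFour.nonempty_mulEquiv
  have h2 : Nat.card {p : DihedralGroup 2 × DihedralGroup 2 // p.1 ≠ 1 ∧ p.2 ≠ 1 ∧ p.1 ≠ p.2} = 6 := by
    rw [Nat.card_eq_fintype_card]; decide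
  rw [← h2, ← Nat.card_congr ((e.toEquiv.prodCongr e.toEquiv).subtypeEquiv
    (p := fun p => p.1 ≠ 1 ∧ p.2 ≠ 1 ∧ p.1 ≠ p.2) (by simp))]
  exact Nat.card_congr
    { toFun p := ⟨(⟨p.1.1.1, (congrArg Subtype.val p.2).le
          (Subgroup.mem_sup_left (Subgroup.mem_zpowers _))⟩,
        ⟨p.1.1.2, (congrArg Subtype.val p.2).le (Subgroup.mem_sup_right (Subgroup.mem_zpowers _))⟩),
        fun h => h1 _ p.1.2.1 (congrArg Subtype.val h),
        fun h => h1 _ p.1.2.2.1 (congrArg Subtype.val h),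
        fun h => p.1.2.2.2.1 (congrArg Subtype.val h)⟩
      invFun p := ⟨⟨(p.1.1, p.1.2), Inv.kf_ord hV p.1.1.2 (by simpa using p.2.1),
        Inv.kf_ord hV p.1.2.2 (by simpa using p.2.2.1), by simpa using p.2.2.2,
        Inv.kf_comm hV p.1.1.2 p.1.2.2⟩, Subtype.ext (Inv.kf_eq_sup hV p.1.1.2 p.1.2.2
          (by simpa using p.2.1) (by simpa using p.2.2.1) (by simpa using p.2.2.2)).symm⟩
      left_inv p := rfl
      right_inv p := rfl }

theorem card_kleinFour_psl [Fintype F] (h2 : (2 : F) ≠ 0) :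
    12 * Nat.card {V : Subgroup PSL(2, F) // IsKleinFour V} = Nat.card PSL(2, F) := by
  have h1 := card_PSL2 (F := F)
  have h3 := card_commuting_pairs (G := PSL(2, F))
  rw [Nat.gcd_eq_left (by obtain ⟨k, hk⟩ := odd_of_two_ne_zero h2; omega), ← card_SL2,
    ← card_qp h2, card_eq_mul_of_fibers (k := 2 * 2) (β := {p : PSL(2, F) × PSL(2, F) //
      orderOf p.1 = 2 ∧ orderOf p.2 = 2 ∧ p.1 ≠ p.2 ∧ p.1 * p.2 = p.2 * p.1})
      (fun p : {p : SL(2, F) × SL(2, F) // QP p.1 p.2} => ⟨(p.1.1, p.1.2), (qp_iff h2).1 p.2⟩),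
      h3] at h1
  · omega
  rintro ⟨⟨s, t⟩, h⟩
  refine Eq.trans ?_ (congrArg₂ _ (card_psl_fiber h2 s) (card_psl_fiber h2 t))
  rw [← Nat.card_prod]
  exact Nat.card_congr
    { toFun p := (⟨p.1.1.1, congrArg (fun z => z.1.1) p.2⟩, ⟨p.1.1.2, congrArg (fun z => z.1.2) p.2⟩)
      invFun p := ⟨⟨(p.1.1, p.2.1), (qp_iff h2).2 (by rw [p.1.2, p.2.2]; exact h)⟩,
        Subtype.ext (Prod.ext p.1.2 p.2.2)⟩
      left_inv p := rfl
      right_inv p := rfl }

theorem conjSL_eq_iff {t : GL (Fin 2) F} {A B : SL(2, F)} :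
    conjSL t A = B ↔ t.1 * A.1 = B.1 * t.1 := by
  rw [← Units.mul_inv_eq_iff_eq_mul]
  exact Subtype.ext_iff

theorem conjSL_mul (s t : GL (Fin 2) F) (A : SL(2, F)) :
    conjSL (s * t) A = conjSL s (conjSL t A) :=
  SpecialLinearGroup.toGL_injective (by simp [toGL_conjSL, mul_assoc])

theorem conjSL_neg (t : GL (Fin 2) F) (A : SL(2, F)) : conjSL t (-A) = -conjSL t A :=
  Subtype.ext (by
    change t.1 * (-A.1) * (t⁻¹).1 = -(t.1 * A.1 * (t⁻¹).1)
    simp)

theorem QP.conj {a b : SL(2, F)} (h : QP a b) (t : GL (Fin 2) F) :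
    QP (conjSL t a) (conjSL t b) :=
  ⟨by rw [← map_mul, h.ha, conjSL_neg, map_one], by rw [← map_mul, h.hb, conjSL_neg, map_one],
    by rw [← map_mul, h.hab, conjSL_neg, map_mul]⟩

theorem qp_conj_aux (h2 : (2 : F) ≠ 0) {b c : SL(2, F)} (hb : QP (slJ F) b) (hc : QP (slJ F) c) :
    ∃ t, conjSL t (slJ F) = slJ F ∧ conjSL t b = c := by
  have key : ∀ b : SL(2, F), QP (slJ F) b →
      ∃ x y, x ^ 2 + y ^ 2 = -1 ∧ b.1 = !![x, y; y, -x] := fun b hb => by
    have h1 : b.1 * (slJ F).1 = -((slJ F).1 * b.1) := congrArg Subtype.val hb.hab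
    have h3 := congrFun (congrFun h1 0) 0
    have h4 := congrFun (congrFun h1 1) 0
    have h5 := b.2
    simp [mul_apply, vecMul, dotProduct] at h3 h4
    rw [det_fin_two, h3, h4] at h5
    refine ⟨b.1 0 0, b.1 1 0, by linear_combination -h5, ?_⟩
    ext i j; fin_cases i <;> fin_cases j <;> simp [h3, h4]
  obtain ⟨x, y, h3, h4⟩ := key b hb
  obtain ⟨u, v, h5, h6⟩ := key c hc
  simp only [conjSL_eq_iff, h4, h6]
  by_cases h : x * u + y * v = 1
  · have h7 : u = -x := eq_neg_of_add_eq_zero_left (pow_eq_zero_iff two_ne_zero |>.1 (by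
      linear_combination (x + u) ^ 2 * h3 - y ^ 2 * (h3 + h5 + 2 * h) -
        (x * (x + u) - y * (y + v)) * (h3 + h)))
    have h8 : v = -y := eq_neg_of_add_eq_zero_left (pow_eq_zero_iff two_ne_zero |>.1 (by
      linear_combination h3 + h5 + 2 * h - (x + u) * h7))
    refine ⟨slJ F, rfl, ?_⟩
    ext i j; fin_cases i <;> fin_cases j <;> simp [h7, h8]
  · refine ⟨gl2 (x * u + y * v - 1) (u * y - v * x) (v * x - u * y) (x * u + y * v - 1)
      fun h7 => h (mul_left_cancel₀ h2 ?_), ?_, ?_⟩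
    · linear_combination -h7 + (u ^ 2 + v ^ 2) * h3 - h5
    · ext i j; fin_cases i <;> fin_cases j <;> simp
    · ext i j; fin_cases i <;> fin_cases j <;> simp
      · linear_combination u * h3 - x * h5
      · linear_combination v * h3 - y * h5
      · linear_combination v * h3 - y * h5
      · linear_combination -u * h3 + x * h5

theorem qp_conj [Finite F] (h2 : (2 : F) ≠ 0) {a b c d : SL(2, F)} (hb : QP a b) (hc : QP c d) :
    ∃ t, conjSL t a = c ∧ conjSL t b = d := by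
  obtain ⟨s, hs⟩ := exists_conj_slJ h2 hb.ha
  obtain ⟨t, ht⟩ := exists_conj_slJ h2 hc.ha
  have h3 := hb.conj (s⁻¹ : SL(2, F))
  have h4 := hc.conj (t⁻¹ : SL(2, F))
  have h5 : conjSL ((s⁻¹ : SL(2, F)) : GL (Fin 2) F) a = slJ F := by
    rw [conjSL_toGL, hs]; simp [mul_assoc]
  have h6 : conjSL ((t⁻¹ : SL(2, F)) : GL (Fin 2) F) c = slJ F := by
    rw [conjSL_toGL, ht]; simp [mul_assoc]
  rw [h5] at h3
  rw [h6] at h4
  obtain ⟨u, h7, h8⟩ := qp_conj_aux h2 h3 h4
  refine ⟨t * (u * (s⁻¹ : SL(2, F))), ?_, ?_⟩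
  · rw [conjSL_mul, conjSL_mul, h5, h7, conjSL_toGL, ht]
  · rw [conjSL_mul, conjSL_mul, h8, conjSL_toGL, conjSL_toGL]; simp [mul_assoc]

theorem QP.exists_rot (h2 : (2 : F) ≠ 0) {a b : SL(2, F)} (h : QP a b) : ∃ t : GL (Fin 2) F,
    t.1.det = 2 ∧ t.1 * t.1 = (2 : F) • a.1 ∧ conjSL t a = a ∧ conjSL t b = a * b := by
  have h1 : (1 + a.1).det = 2 := by
    have h3 := trace_of_sq_eq_neg_one h.ha
    have h4 := a.2
    rw [det_fin_two] at h4 ⊢
    rw [trace_fin_two] at h3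
    simp; linear_combination h3 + h4
  have h3 : a.1 * a.1 = -1 := congrArg Subtype.val h.ha
  have h4 : b.1 * a.1 = -(a.1 * b.1) := congrArg Subtype.val h.hab
  refine ⟨GeneralLinearGroup.mkOfDetNeZero (1 + a.1) (h1 ▸ h2), h1, ?_, conjSL_eq_iff.2 ?_,
    conjSL_eq_iff.2 ?_⟩
  · change (1 + a.1) * (1 + a.1) = _
    simp only [mul_add, add_mul, h3, one_mul, mul_one]; module
  · change (1 + a.1) * a.1 = a.1 * (1 + a.1)
    simp [mul_add, add_mul]
  · change (1 + a.1) * b.1 = a.1 * b.1 * (1 + a.1)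
    simp [mul_add, add_mul, mul_assoc, h4, ← mul_assoc a.1 a.1, h3, add_comm]

theorem exists_sl_of_sq {t : GL (Fin 2) F} {u : F} (h : t.1.det = u * u) :
    ∃ g : SL(2, F), t.1 = u • g.1 ∧ ∀ A, conjSL t A = g * A * g⁻¹ := by
  have hu : u ≠ 0 := by rintro rfl; exact t.det_ne_zero (by simpa using h)
  let g : SL(2, F) := ⟨u⁻¹ • t.1, by simp [h]; field_simp⟩
  have h1 : t.1 = u • g.1 := by simp [g, smul_smul, hu]
  refine ⟨g, h1, fun A => conjSL_eq_iff.2 ?_⟩
  rw [h1, mul_smul_comm, smul_mul_assoc]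
  congr 1
  exact congrArg Subtype.val (inv_mul_cancel_right (g * A) g).symm

/-- The four-group of `PSL₂` attached to a quaternion pair. -/
def fourOf (a b : SL(2, F)) : Subgroup PSL(2, F) :=
  Subgroup.zpowers (a : PSL(2, F)) ⊔ Subgroup.zpowers (b : PSL(2, F))

theorem QP.isKleinFour [Finite F] (h2 : (2 : F) ≠ 0) {a b : SL(2, F)} (h : QP a b) :
    IsKleinFour (fourOf a b) :=
  have h1 := (qp_iff h2).1 h
  Inv.kf_sup h1.1 h1.2.1 h1.2.2.1 h1.2.2.2

theorem exists_qp_of_isKleinFour (h2 : (2 : F) ≠ 0) {V : Subgroup PSL(2, F)} (hV : IsKleinFour V) :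
    ∃ a b, QP a b ∧ V = fourOf a b := by
  obtain ⟨s, h1, h3, -⟩ := Inv.kf_exists_ne hV 1
  obtain ⟨t, h4, h5, h6⟩ := Inv.kf_exists_ne hV s
  induction s using QuotientGroup.induction_on with | H a =>
  induction t using QuotientGroup.induction_on with | H b =>
  exact ⟨a, b, (qp_iff h2).2 ⟨Inv.kf_ord hV h1 h3, Inv.kf_ord hV h4 h5, h6.symm,
    Inv.kf_comm hV h1 h4⟩, Inv.kf_eq_sup hV h1 h4 h3 h5 h6.symm⟩

theorem fourOf_mul (a b : SL(2, F)) : fourOf a (a * b) = fourOf a b := by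
  have h1 : ∀ x y : SL(2, F), (x : PSL(2, F)) ∈ fourOf x y := fun x y =>
    Subgroup.mem_sup_left (Subgroup.mem_zpowers _)
  have h2 : ∀ x y : SL(2, F), (y : PSL(2, F)) ∈ fourOf x y := fun x y =>
    Subgroup.mem_sup_right (Subgroup.mem_zpowers _)
  refine le_antisymm (sup_le (Subgroup.zpowers_le.2 (h1 _ _)) (Subgroup.zpowers_le.2 ?_))
    (sup_le (Subgroup.zpowers_le.2 (h1 _ _)) (Subgroup.zpowers_le.2 ?_))
  · exact mul_mem (h1 a b) (h2 a b)
  · exact (Subgroup.mul_mem_cancel_left _ (h1 _ _)).1 (h2 a (a * b))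

theorem fourOf_conj (g a b : SL(2, F)) : fourOf (g * a * g⁻¹) (g * b * g⁻¹) =
    (fourOf a b).map (MulAut.conj (g : PSL(2, F))).toMonoidHom := by
  simp [fourOf, Subgroup.map_sup]

theorem fourOf_conjSL {t : GL (Fin 2) F} (h : IsSquare t.1.det) (a b : SL(2, F)) :
    ∃ g : PSL(2, F), fourOf (conjSL t a) (conjSL t b) =
      (fourOf a b).map (MulAut.conj g).toMonoidHom := by
  obtain ⟨u, hu⟩ := h
  obtain ⟨g, -, hg⟩ := exists_sl_of_sq hu
  exact ⟨g, by rw [hg, hg, fourOf_conj]⟩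

theorem isSquare_mul_of_not [Finite F] {a b : F} (ha : ¬ IsSquare a) (hb : ¬ IsSquare b) :
    IsSquare (a * b) := by
  classical
  have := Fintype.ofFinite F
  have ha0 : a ≠ 0 := by rintro rfl; simp at ha
  have hb0 : b ≠ 0 := by rintro rfl; simp at hb
  rw [← quadraticChar_neg_one_iff_not_isSquare] at ha hb
  rw [← quadraticChar_one_iff_isSquare (mul_ne_zero ha0 hb0), map_mul, ha, hb]; simp

end Cfsg.Agent.Class
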