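import Cfsg.Agent.Class.Dick4

/-! Homomorphisms from tables; the subgroups `A₄`, `S₄`, `A₅` of `PSL₂(q)`. -/

set_option autoImplicit false

namespace Cfsg.Agent.Class

open Matrix Equiv
open scoped MatrixGroups

theorem exists_hom_of_rel {G H : Type*} [Group G] [Group H] (S : Subgroup G) (Γ : Subgroup (G × H))
    (h1 : ∀ h, (1, h) ∈ Γ → h = 1) (h2 : ∀ g ∈ S, ∃ h, (g, h) ∈ Γ) :
    ∃ φ : S →* H, ∀ (g : S) (h : H), (g.1, h) ∈ Γ ↔ φ g = h := by
  have h3 : ∀ g h h', (g, h) ∈ Γ → (g, h') ∈ Γ → h = h' := fun g h h' a b =>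
    mul_inv_eq_one.1 (h1 _ (by simpa using Γ.mul_mem a (Γ.inv_mem b)))
  choose f hf using h2
  exact ⟨MonoidHom.mk' (fun g => f g.1 g.2) fun a b =>
    h3 _ _ _ (hf _ _) (Γ.mul_mem (hf a.1 a.2) (hf b.1 b.2)),
    fun g h => ⟨h3 _ _ _ (hf _ _), fun h' => h' ▸ hf _ _⟩⟩

theorem mem_or_swap_mul_mem {α : Type*} [Finite α] [DecidableEq α] (a b : α) (S : Subgroup (Perm α))
    (h : ∀ k, swap a k * swap a b ∈ S ∨ k = a) (g : Perm α) : g ∈ S ∨ swap a b * g ∈ S := by
  have key : ∀ k g, k ≠ a → g ∈ S ∨ swap a b * g ∈ S →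
      swap a k * g ∈ S ∨ swap a b * (swap a k * g) ∈ S := by
    intro k g hk hg
    have h1 := (h k).resolve_right hk
    rcases hg with hg | hg
    · right
      simpa [mul_assoc] using S.mul_mem (S.inv_mem h1) hg
    · left
      simpa [mul_assoc] using S.mul_mem h1 hg
  induction g using Perm.swap_induction_on with
  | one => exact Or.inl S.one_mem
  | swap_mul f x y hxy ih =>
    by_cases hx : x = a
    · subst hx; exact key _ _ hxy.symm ih
    by_cases hy : y = a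
    · subst hy; rw [Equiv.swap_comm]; exact key _ _ hxy ih
    rw [← swap_mul_swap_mul_swap (x := y) (y := a) hy hxy.symm, Equiv.swap_comm y, mul_assoc, mul_assoc]
    exact key _ _ hx (key _ _ hy (key _ _ hx ih))

theorem eq_alternating_of_star {α : Type*} [Fintype α] [DecidableEq α] {a b : α} (hab : a ≠ b)
    {S : Subgroup (Perm α)} (hS : S ≤ alternatingGroup α)
    (h : ∀ k, swap a k * swap a b ∈ S ∨ k = a) : S = alternatingGroup α := by
  refine le_antisymm hS fun g hg => (mem_or_swap_mul_mem a b S h g).resolve_right fun h1 => ?_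
  have := Perm.mem_alternatingGroup.1 (hS h1)
  rw [Perm.sign_mul, Perm.mem_alternatingGroup.1 hg, Perm.sign_swap hab] at this
  simp at this

/-- Coordinates with respect to `1, a, b, ab` over `ℤ[t]`. -/
abbrev V8 := (ℤ × ℤ) × (ℤ × ℤ) × (ℤ × ℤ) × (ℤ × ℤ)

/-- Left multiplication by `a`. -/
def vA (v : V8) : V8 := (-v.2.1, v.1, -v.2.2.2, v.2.2.1)

/-- Left multiplication by `b`. -/
def vB (m : ℤ × ℤ → ℤ × ℤ) (v : V8) : V8 :=
  (m v.2.1 - v.2.2.1, v.2.1 + v.2.2.2, v.1 + v.2.2.1 + m v.2.2.2, -v.2.1)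

variable {F : Type*} [Field F]

theorem exists_hom_of_table {G : Type*} [Group G] (x y : G) (v : G → V8) (m : ℤ × ℤ → ℤ × ℤ)
    (hv : v 1 = ((1, 0), 0, 0, 0))
    (hx : ∀ g, vA (v g) = v (x * g) ∨ vA (v g) = -v (x * g))
    (hy : ∀ g, vB m (v g) = v (y * g) ∨ vB m (v g) = -v (y * g))
    {t : F} (ht : ∀ z, ((m z).1 + (m z).2 * t : F) = t * (z.1 + z.2 * t)) {a b : SL(2, F)}
    (ha : a.1.trace = 0) (hb : b.1.trace = 1) (hab : (a.1 * b.1).trace = t) :
    ∃ φ : Subgroup.closure {x, y} →* PSL(2, F),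
      φ ⟨x, Subgroup.subset_closure (by simp)⟩ = a ∧ φ ⟨y, Subgroup.subset_closure (by simp)⟩ = b := by
  let ev : ℤ × ℤ → F := fun z => z.1 + z.2 * t
  let ρ : V8 → Matrix (Fin 2) (Fin 2) F := fun v =>
    ev v.1 • 1 + ev v.2.1 • a.1 + ev v.2.2.1 • b.1 + ev v.2.2.2 • (a.1 * b.1)
  have hneg : ∀ v, ρ (-v) = -ρ v := fun v => by simp only [ρ, ev]; simp; module
  have ha2 : a.1 * a.1 = -1 := by rw [sl2_sq, ha]; simp
  have hb2 : b.1 * b.1 = b.1 - 1 := by rw [sl2_sq, hb]; simp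
  have hba : b.1 * a.1 = -(a.1 * b.1) + a.1 + t • 1 := by
    have h1 := mat2_sq (a.1 + b.1)
    have h2 : (a.1 + b.1).det = 2 - t := by
      have e1 := a.2
      have e2 := b.2
      rw [det_fin_two] at e1 e2 ⊢
      rw [trace_fin_two] at ha hb hab
      simp only [mul_apply, Fin.sum_univ_two, Matrix.add_apply] at hab ⊢
      linear_combination e1 + e2 - hab + (b.1 0 0 + b.1 1 1) * ha
    rw [trace_add, ha, hb, h2, add_mul, mul_add, mul_add, ha2, hb2] at h1
    linear_combination (norm := module) h1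
  have hA : ∀ v, a.1 * ρ v = ρ (vA v) := fun v => by
    simp only [ρ, vA, ev, mul_add, mul_smul_comm, ← mul_assoc, ha2, neg_mul, one_mul, mul_one]
    simp; module
  have hB : ∀ v, b.1 * ρ v = ρ (vB m v) := fun v => by
    have e1 := ht v.2.1
    have e2 := ht v.2.2.2
    simp only [ρ, vB, ev, mul_add, mul_smul_comm, ← mul_assoc, hba, hb2, neg_mul, one_mul, mul_one,
      add_mul, smul_mul_assoc, mul_assoc a.1 b.1 b.1, mul_sub]
    simp only [Prod.fst_add, Prod.snd_add, Prod.fst_sub, Prod.snd_sub, Prod.fst_neg, Prod.snd_neg]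
    push_cast
    linear_combination (norm := module) -e1 • (1 : Matrix (Fin 2) (Fin 2) F) - e2 • b.1
  have key : ∀ (s : G) (c : SL(2, F)) (f : V8 → V8), (∀ v, c.1 * ρ v = ρ (f v)) →
      (∀ g, f (v g) = v (s * g) ∨ f (v g) = -v (s * g)) → ∀ (g : G) (h : PSL(2, F)),
      ((∃ A : SL(2, F), A = h ∧ A.1 = ρ (v g)) ↔
        ∃ A : SL(2, F), A = c * h ∧ A.1 = ρ (v (s * g))) := by
    intro s c f h1 h2 g h
    constructor
    · rintro ⟨A, rfl, h3⟩
      rcases h2 g with h4 | h4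
      · exact ⟨c * A, rfl, by rw [← h4, ← h1, ← h3]; rfl⟩
      · refine ⟨-(c * A), psl_eq_iff.2 (Or.inr (neg_neg _).symm), ?_⟩
        rw [← neg_neg (ρ _), ← hneg, ← h4, ← h1, ← h3]; rfl
    · rintro ⟨A, h3, h4⟩
      have h5 : ∀ M, (c⁻¹).1 * (c.1 * M) = M := fun M => by
        rw [← mul_assoc, show (c⁻¹).1 * c.1 = 1 from congrArg Subtype.val (inv_mul_cancel c), one_mul]
      rcases h2 g with h6 | h6
      · refine ⟨c⁻¹ * A, by simp [h3], ?_⟩
        rw [← h5 (ρ _), h1, h6, ← h4]; rfl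
      · refine ⟨-(c⁻¹ * A), (psl_eq_iff.2 (Or.inr (neg_neg _).symm)).trans (by simp [h3]), ?_⟩
        rw [← h5 (ρ _), h1, h6, hneg, ← h4, mul_neg]; rfl
  let Γ : Subgroup (G × PSL(2, F)) := Subgroup.closure {(x, (a : PSL(2, F))), (y, (b : PSL(2, F)))}
  have hΓ : ∀ z ∈ Γ, ∃ A : SL(2, F), A = z.2 ∧ A.1 = ρ (v z.1) := by
    intro z hz
    induction hz using Subgroup.closure_induction_left with
    | one => exact ⟨1, rfl, by simp [hv, ρ, ev]⟩
    | mul_left s hs z _ ih =>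
      rcases hs with rfl | rfl
      · exact (key x a _ hA hx _ _).1 ih
      · exact (key y b _ hB hy _ _).1 ih
    | inv_mul_cancel s hs z _ ih =>
      rcases hs with rfl | rfl
      · exact (key x a _ hA hx _ _).2 (by simpa using ih)
      · exact (key y b _ hB hy _ _).2 (by simpa using ih)
  obtain ⟨φ, hφ⟩ := exists_hom_of_rel (Subgroup.closure {x, y}) Γ (fun h hh => by
    obtain ⟨A, h1, h2⟩ := hΓ _ hh
    have : A = 1 := Subtype.ext (by simpa [hv, ρ, ev] using h2)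
    rw [this] at h1
    exact h1.symm) (fun g hg => by
      have : Subgroup.closure {x, y} = Γ.map (MonoidHom.fst _ _) := by
        simp [Γ, MonoidHom.map_closure, Set.image_pair]
      obtain ⟨z, hz, rfl⟩ := this.le hg
      exact ⟨z.2, hz⟩)
  exact ⟨φ, (hφ _ _).1 (Subgroup.subset_closure (by simp)),
    (hφ _ _).1 (Subgroup.subset_closure (by simp))⟩

theorem binary_form_surj [Finite F] (h2 : (2 : F) ≠ 0) {a b c : F} (h : b ^ 2 - 4 * a * c ≠ 0)
    (e : F) : ∃ x y : F, a * x ^ 2 + b * x * y + c * y ^ 2 = e := by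
  by_cases ha : a = 0
  · have hb : b ≠ 0 := by rintro rfl; simp [ha] at h
    exact ⟨(e - c) / b, 1, by rw [ha]; field_simp; ring⟩
  have := Fintype.ofFinite F
  obtain ⟨u, y, h1⟩ := FiniteField.exists_root_sum_quadratic (f := Polynomial.X ^ 2)
    (g := Polynomial.C (-(b ^ 2 - 4 * a * c)) * Polynomial.X ^ 2 + Polynomial.C (-(4 * a * e)))
    (by simp) (by
      rw [Polynomial.degree_add_eq_left_of_degree_lt] <;>
        rw [Polynomial.degree_C_mul_X_pow _ (neg_ne_zero.2 h)]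
      · rfl
      · exact Polynomial.degree_C_le.trans_lt (by norm_num))
    (Nat.odd_iff.1 (odd_of_two_ne_zero h2))
  simp only [Polynomial.eval_pow, Polynomial.eval_X, Polynomial.eval_add, Polynomial.eval_mul,
    Polynomial.eval_C] at h1
  refine ⟨(u - b * y) / (2 * a), y, ?_⟩
  field_simp
  linear_combination h1

/-- The standard element of order four. -/
def slJ (F : Type*) [Field F] : SL(2, F) := sl2 0 (-1) 1 0 (by simp)

@[simp] theorem slJ_coe : (slJ F : Matrix (Fin 2) (Fin 2) F) = !![0, -1; 1, 0] := rfl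

theorem slJ_ne_one : (slJ F : PSL(2, F)) ≠ 1 := by
  rw [Ne, psl_eq_one_iff]
  rintro (h | h) <;> simpa using congrArg (fun A : SL(2, F) => A.1 1 0) h

theorem exists_trace_pair {t x y : F} (h : x ^ 2 - x + 1 + y ^ 2 - t * y = 0) :
    ∃ b : SL(2, F), b.1.trace = 1 ∧ ((slJ F).1 * b.1).trace = t :=
  ⟨sl2 x y (y - t) (1 - x) (by linear_combination -h), by simp [trace_fin_two],
    by simp [trace_fin_two]⟩

theorem exists_trace_pair_odd [Finite F] (h2 : (2 : F) ≠ 0) (t : F) :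
    ∃ b : SL(2, F), b.1.trace = 1 ∧ ((slJ F).1 * b.1).trace = t := by
  have h4 : (4 : F) ≠ 0 := by rw [show (4 : F) = 2 * 2 by norm_num]; exact mul_ne_zero h2 h2
  obtain ⟨u, w, h⟩ := binary_form_surj h2 (a := 1) (b := 0) (c := 1) (by simpa using h4) (t ^ 2 - 3)
  exact exists_trace_pair (x := (u + 1) / 2) (y := (w + t) / 2) (by field_simp; linear_combination h)

/-- The table attached to a list of coded permutations. -/
def tabOf {n : ℕ} (l : List (ℕ × V8)) (g : Perm (Fin (n + 4))) : V8 :=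
  (l.lookup ((g 0).val + 5 * (g 1).val + 25 * (g 2).val + 125 * (g 3).val)).getD 0

/-- The binary tetrahedral group. -/
def tabA4 : List (ℕ × V8) := [
  (38, (-1, 0), (0, 0), (1, 0), (1, 0)), (66, (0, 0), (1, 0), (1, 0), (0, 0)),
  (82, (1, 0), (1, 0), (0, 0), (-1, 0)), (142, (0, 0), (1, 0), (1, 0), (-1, 0)),
  (178, (-1, 0), (1, 0), (1, 0), (0, 0)), (210, (1, 0), (0, 0), (0, 0), (-1, 0)),
  (258, (0, 0), (-1, 0), (0, 0), (1, 0)), (290, (0, 0), (0, 0), (0, 0), (1, 0)),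
  (326, (0, 0), (1, 0), (0, 0), (0, 0)), (386, (0, 0), (0, 0), (1, 0), (0, 0)),
  (402, (-1, 0), (0, 0), (1, 0), (0, 0)), (430, (1, 0), (0, 0), (0, 0), (0, 0))]

/-- The binary octahedral group. -/
def tabS4 : List (ℕ × V8) := [
  (38, (-1, 0), (0, 0), (0, 0), (0, 1)), (42, (0, 0), (1, 0), (0, 1), (0, 0)),
  (58, (0, -1), (0, 0), (0, 1), (1, 0)), (66, (-1, 0), (0, 1), (1, 0), (0, 0)),
  (82, (0, 0), (0, -1), (-1, 0), (0, 1)), (86, (0, 1), (1, 0), (0, 0), (-1, 0)),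
  (138, (0, -1), (1, 0), (0, 1), (0, 0)), (142, (1, 0), (0, 1), (0, 0), (0, -1)),
  (178, (0, 0), (0, 1), (1, 0), (0, 0)), (190, (0, 0), (1, 0), (0, 1), (-1, 0)),
  (202, (0, 1), (0, 0), (0, 0), (-1, 0)), (210, (-1, 0), (0, 0), (1, 0), (0, 1)),
  (258, (1, 0), (0, 1), (1, 0), (0, -1)), (266, (0, 0), (0, 0), (0, 0), (1, 0)),
  (278, (0, 0), (-1, 0), (0, 0), (1, 0)), (290, (2, 0), (0, 0), (-1, 0), (0, -1)),
  (326, (-1, 0), (0, 1), (2, 0), (0, 0)), (330, (0, 0), (1, 0), (0, 0), (0, 0)),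
  (382, (0, -1), (1, 0), (0, 1), (1, 0)), (386, (0, 0), (0, 0), (1, 0), (0, 0)),
  (402, (-1, 0), (0, 0), (1, 0), (0, 0)), (410, (0, 0), (2, 0), (0, 1), (-1, 0)),
  (426, (0, 1), (1, 0), (0, 0), (-2, 0)), (430, (1, 0), (0, 0), (0, 0), (0, 0))]

/-- The binary icosahedral group. -/
def tabA5 : List (ℕ × V8) := [
  (38, (-1, -1), (1, 0), (1, 1), (0, 1)), (44, (0, -1), (1, 1), (1, 1), (0, 0)),
  (47, (1, 0), (0, 1), (0, 0), (0, -1)), (59, (0, 0), (0, 1), (1, 0), (0, 0)),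
  (66, (0, 0), (1, 1), (1, 1), (-1, 0)), (73, (0, 0), (1, 0), (0, 1), (-1, 0)),
  (82, (1, 1), (0, 1), (0, 0), (-1, -1)), (89, (0, -1), (1, 0), (0, 1), (0, 0)),
  (96, (-1, 0), (-1, -1), (0, -1), (1, 1)), (108, (-1, -1), (0, 0), (1, 0), (1, 1)),
  (111, (-1, 0), (0, 0), (1, 0), (0, 1)), (117, (0, 1), (0, 0), (0, 0), (-1, 0)),
  (139, (0, 1), (0, 1), (1, 0), (0, -1)), (142, (0, 1), (0, 1), (1, 0), (-1, -1)),
  (148, (0, 0), (0, 0), (0, 0), (1, 0)), (178, (-1, 0), (1, 1), (1, 1), (-1, 0)),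
  (194, (0, 1), (1, 1), (1, 0), (-1, -1)), (195, (1, 1), (0, 0), (0, -1), (0, -1)),
  (204, (0, 0), (-1, 0), (0, 0), (1, 0)), (210, (1, 1), (-1, 0), (0, -1), (0, -1)),
  (222, (-1, -1), (0, 0), (0, 1), (1, 1)), (227, (-1, 0), (0, 1), (1, 1), (0, 0)),
  (238, (-1, 0), (1, 1), (1, 1), (0, 0)), (240, (0, 0), (1, 0), (0, 0), (0, 0)),
  (258, (0, -1), (0, -1), (0, 0), (1, 1)), (269, (0, 2), (0, 0), (0, -1), (-1, -1)),
  (271, (0, -1), (0, 1), (0, 1), (0, 0)), (279, (0, 1), (0, 0), (0, 0), (0, -1)),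
  (290, (0, -1), (1, 0), (0, 1), (0, 1)), (298, (0, 0), (1, 0), (0, 1), (0, 0)),
  (326, (0, 0), (1, 1), (0, 1), (-1, 0)), (334, (0, -1), (0, 0), (0, 1), (1, 0)),
  (345, (0, -1), (1, 1), (0, 2), (0, 0)), (353, (0, 1), (1, 1), (0, 1), (-1, -1)),
  (355, (0, 0), (0, 1), (0, 1), (0, -1)), (366, (0, 1), (1, 0), (0, 0), (-1, 0)),
  (384, (0, -1), (0, 1), (1, 1), (1, 0)), (386, (0, 0), (0, 0), (1, 0), (0, 0)),
  (397, (0, -1), (0, 1), (0, 1), (1, 0)), (402, (-1, 0), (0, 0), (1, 0), (0, 0)),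
  (414, (0, 0), (1, 1), (1, 1), (0, -1)), (420, (1, 0), (1, 1), (0, 1), (0, -1)),
  (429, (0, -1), (-1, 0), (0, 0), (1, 1)), (430, (1, 0), (0, 0), (0, 0), (0, 0)),
  (446, (1, 1), (1, 0), (0, 0), (-1, -1)), (476, (1, 1), (1, 0), (-1, 0), (-1, -1)),
  (482, (1, 1), (0, -1), (-1, -1), (-1, 0)), (485, (0, 0), (1, 1), (0, 1), (0, -1)),
  (507, (0, 0), (0, 2), (1, 1), (0, -1)), (513, (0, 1), (0, 1), (0, 0), (0, -1)),
  (516, (0, -1), (0, 1), (1, 1), (0, 0)), (528, (1, 1), (0, 0), (-1, 0), (0, -1)),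
  (535, (1, 1), (0, 1), (0, 0), (0, -2)), (542, (0, 0), (0, -1), (-1, 0), (0, 1)),
  (551, (-1, -1), (0, 1), (1, 1), (0, 1)), (558, (-1, 0), (0, 1), (1, 0), (0, 0)),
  (565, (0, -1), (0, 0), (0, 1), (0, 1)), (577, (0, 0), (0, 1), (0, 1), (0, 0)),
  (580, (1, 0), (0, 1), (0, 1), (0, -1)), (586, (-1, 0), (0, 0), (0, 0), (0, 1))]

theorem exists_A4 {b : SL(2, F)} (hb : b.1.trace = 1) (hab : ((slJ F).1 * b.1).trace = 1) :
    ∃ H : Subgroup PSL(2, F), Nonempty (H ≃* alternatingGroup (Fin 4)) := by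
  let x : Perm (Fin 4) := swap 0 1 * swap 2 3
  let y : Perm (Fin 4) := swap 0 2 * swap 0 1
  obtain ⟨φ, h1, -⟩ := exists_hom_of_table x y (tabOf (n := 0) tabA4) id (by decide +kernel)
    (by decide +kernel) (by decide +kernel) (t := (1 : F)) (by simp) (a := slJ F)
    (by simp [trace_fin_two]) hb hab
  have hx : x ∈ Subgroup.closure {x, y} := Subgroup.subset_closure (by simp)
  have hy : y ∈ Subgroup.closure {x, y} := Subgroup.subset_closure (by simp)
  have h2 : Subgroup.closure {x, y} = alternatingGroup (Fin 4) := by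
    refine eq_alternating_of_star (a := 0) (b := 1) (by decide) ((Subgroup.closure_le _).2 ?_) ?_
    · rintro _ (rfl | rfl) <;> exact Perm.mem_alternatingGroup.2 (by decide)
    · intro k
      fin_cases k
      · simp
      · simp
      · exact Or.inl hy
      · have : y * x * y = Equiv.swap 0 3 * Equiv.swap 0 1 := by decide
        exact Or.inl (Set.mem_of_eq_of_mem this.symm (mul_mem (mul_mem hy hx) hy))
  have h3 : Function.Injective φ := by
    rw [injective_iff_map_eq_one]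
    intro g hg
    by_contra hg1
    have : ∀ g : Perm (Fin 4), g ≠ 1 → ∃ a u : Perm (Fin 4), Perm.sign a = 1 ∧ Perm.sign u = 1 ∧
        (x = a * g * a⁻¹ ∨ x = a * (g * u * g⁻¹ * u⁻¹) * a⁻¹) := by decide +kernel
    obtain ⟨a, u, ha, hu, h⟩ := this g.1 fun h => hg1 (Subtype.ext h)
    have ha' : a ∈ Subgroup.closure {x, y} := h2.ge ha
    have hu' : u ∈ Subgroup.closure {x, y} := h2.ge hu
    apply slJ_ne_one (F := F)
    rw [← h1]
    rcases h with h | h
    · rw [show (⟨x, hx⟩ : Subgroup.closure {x, y}) = ⟨a, ha'⟩ * g * ⟨a, ha'⟩⁻¹ from Subtype.ext h]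
      simp [hg]
    · rw [show (⟨x, hx⟩ : Subgroup.closure {x, y}) =
        ⟨a, ha'⟩ * (g * ⟨u, hu'⟩ * g⁻¹ * ⟨u, hu'⟩⁻¹) * ⟨a, ha'⟩⁻¹ from Subtype.ext h]
      simp [hg]
  exact ⟨φ.range, ⟨(MonoidHom.ofInjective h3).symm.trans (MulEquiv.subgroupCongr h2)⟩⟩

theorem exists_S4 (h0 : (2 : F) ≠ 0) {t : F} (ht : t ^ 2 = 2) {b : SL(2, F)} (hb : b.1.trace = 1)
    (hab : ((slJ F).1 * b.1).trace = t) :
    ∃ H : Subgroup PSL(2, F), Nonempty (H ≃* Perm (Fin 4)) := by
  let x : Perm (Fin 4) := swap 2 3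
  let y : Perm (Fin 4) := swap 0 2 * swap 0 1
  obtain ⟨φ, h1, h1'⟩ := exists_hom_of_table x y (tabOf (n := 0) tabS4) (fun z => (2 * z.2, z.1))
    (by decide +kernel) (by decide +kernel) (by decide +kernel) (t := t)
    (fun z => by push_cast; linear_combination -(z.2 : F) * ht) (a := slJ F)
    (by simp [trace_fin_two]) hb hab
  have hx : x ∈ Subgroup.closure {x, y} := Subgroup.subset_closure (by simp)
  have hy : y ∈ Subgroup.closure {x, y} := Subgroup.subset_closure (by simp)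
  have h2 : Subgroup.closure {x, y} = ⊤ := by
    have h3 : Equiv.swap 0 1 ∈ Subgroup.closure {x, y} := by
      rw [← (by decide : x * y * x * y * y * x * y = Equiv.swap 0 1)]
      exact (mul_mem (mul_mem (mul_mem (mul_mem (mul_mem (mul_mem hx hy) hx) hy) hy) hx) hy)
    rw [eq_top_iff]
    intro g _
    refine (mem_or_swap_mul_mem 0 1 _ (fun k => ?_) g).elim id (Subgroup.mul_mem_cancel_left _ h3).1
    fin_cases k
    · simp
    · simp
    · exact Or.inl hy
    · have : x * y * x = Equiv.swap 0 3 * Equiv.swap 0 1 := by decide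
      exact Or.inl (Set.mem_of_eq_of_mem this.symm (mul_mem (mul_mem hx hy) hx))
  have h3 : Function.Injective φ := by
    rw [injective_iff_map_eq_one]
    intro g hg
    by_contra hg1
    have : ∀ g : Perm (Fin 4), g ≠ 1 → ∃ a u : Perm (Fin 4),
        (x * y * (x * y) = a * g * a⁻¹ ∨ x * y * (x * y) = a * (g * u * g⁻¹ * u⁻¹) * a⁻¹) := by
      decide +kernel
    obtain ⟨a, u, h⟩ := this g.1 fun h => hg1 (Subtype.ext h)
    have ha' : a ∈ Subgroup.closure {x, y} := h2.ge trivial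
    have hu' : u ∈ Subgroup.closure {x, y} := h2.ge trivial
    have h4 : φ (⟨x, hx⟩ * ⟨y, hy⟩ * (⟨x, hx⟩ * ⟨y, hy⟩)) = 1 := by
      rcases h with h | h
      · rw [show (⟨x, hx⟩ * ⟨y, hy⟩ * (⟨x, hx⟩ * ⟨y, hy⟩) : Subgroup.closure {x, y}) =
          ⟨a, ha'⟩ * g * ⟨a, ha'⟩⁻¹ from Subtype.ext h]
        simp [hg]
      · rw [show (⟨x, hx⟩ * ⟨y, hy⟩ * (⟨x, hx⟩ * ⟨y, hy⟩) : Subgroup.closure {x, y}) =
          ⟨a, ha'⟩ * (g * ⟨u, hu'⟩ * g⁻¹ * ⟨u, hu'⟩⁻¹) * ⟨a, ha'⟩⁻¹ from Subtype.ext h]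
        simp [hg]
    simp only [map_mul, h1, h1', ← QuotientGroup.mk_mul, psl_eq_one_iff] at h4
    rcases h4 with h4 | h4
    · have h5 : ((slJ F).1 * b.1).trace = 2 ∨ ((slJ F).1 * b.1).trace = -2 := by
        rcases sl2_sq_eq_one h0 h4 with h5 | h5
        · left
          rw [show (slJ F).1 * b.1 = 1 from congrArg Subtype.val h5]; simp
        · right
          rw [show (slJ F).1 * b.1 = -1 from congrArg Subtype.val h5]; simp
      rw [hab] at h5
      rcases h5 with rfl | rfl <;> exact h0 (by linear_combination ht)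
    · have h5 : ((slJ F).1 * b.1).trace = 0 := trace_of_sq_eq_neg_one h4
      rw [hab] at h5
      exact h0 (by rw [← ht, h5]; simp)
  exact ⟨φ.range, ⟨(MonoidHom.ofInjective h3).symm.trans
    ((MulEquiv.subgroupCongr h2).trans Subgroup.topEquiv)⟩⟩

theorem exists_A5 {t : F} (ht : t ^ 2 = t + 1) {b : SL(2, F)} (hb : b.1.trace = 1)
    (hab : ((slJ F).1 * b.1).trace = t) :
    ∃ H : Subgroup PSL(2, F), Nonempty (H ≃* alternatingGroup (Fin 5)) := by
  let x : Perm (Fin 5) := swap 1 3 * swap 2 4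
  let y : Perm (Fin 5) := swap 0 2 * swap 0 1
  obtain ⟨φ, h1, -⟩ := exists_hom_of_table x y (tabOf (n := 1) tabA5) (fun z => (z.2, z.1 + z.2))
    (by decide +kernel) (by decide +kernel) (by decide +kernel) (t := t)
    (fun z => by push_cast; linear_combination -(z.2 : F) * ht) (a := slJ F)
    (by simp [trace_fin_two]) hb hab
  have hx : x ∈ Subgroup.closure {x, y} := Subgroup.subset_closure (by simp)
  have hy : y ∈ Subgroup.closure {x, y} := Subgroup.subset_closure (by simp)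
  have h2 : Subgroup.closure {x, y} = alternatingGroup (Fin 5) := by
    refine eq_alternating_of_star (a := 0) (b := 1) (by decide) ((Subgroup.closure_le _).2 ?_) ?_
    · rintro _ (rfl | rfl) <;> exact Perm.mem_alternatingGroup.2 (by decide)
    · intro k
      fin_cases k
      · simp
      · simp
      · exact Or.inl hy
      · have : y * x * y * y * x * y * x * y = Equiv.swap 0 3 * Equiv.swap 0 1 := by decide +kernel
        exact Or.inl (Set.mem_of_eq_of_mem this.symm 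
          (mul_mem (mul_mem (mul_mem (mul_mem (mul_mem (mul_mem (mul_mem hy hx) hy) hy) hx) hy) hx) hy))
      · have : y * y * x * y * x * y * y * x = Equiv.swap 0 4 * Equiv.swap 0 1 := by decide +kernel
        exact Or.inl (Set.mem_of_eq_of_mem this.symm 
          (mul_mem (mul_mem (mul_mem (mul_mem (mul_mem (mul_mem (mul_mem hy hy) hx) hy) hx) hy) hy) hx))
  have : IsSimpleGroup (Subgroup.closure {x, y}) := h2 ▸ inferInstance
  have h3 : Function.Injective φ := by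
    rw [← MonoidHom.ker_eq_bot_iff]
    refine (φ.normal_ker.eq_bot_or_eq_top).resolve_right fun h => slJ_ne_one (F := F) ?_
    rw [← h1]
    exact h.ge trivial
  exact ⟨φ.range, ⟨(MonoidHom.ofInjective h3).symm.trans (MulEquiv.subgroupCongr h2)⟩⟩

end Cfsg.Agent.Class
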