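import Cfsg.Agent.Class.Sp2
import Cfsg.Agent.Class.Tab

/-! Tools for the exceptional isomorphisms: building homomorphisms into isometry groups and
comparing central quotients. -/

set_option autoImplicit false

namespace Cfsg.Agent.Class

open Module Matrix
open scoped commutatorElement MatrixGroups

section grp
variable {G I : Type*} [Group G] [Group I]

theorem map_mem_commutator (ρ : G →* I) (hp : commutator G = ⊤) (g : G) : ρ g ∈ commutator I := by
  have h : (commutator G).map ρ ≤ commutator I := by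
    rw [commutator_def, Subgroup.map_commutator]
    exact Subgroup.commutator_mono le_top le_top
  exact h ⟨g, hp ▸ trivial, rfl⟩

theorem quot_equiv_of_simple [Finite I] (ρ : G →* I) (hp : commutator G = ⊤)
    (hs : IsSimpleGroup (G ⧸ Subgroup.center G)) (hz : ∀ z ∈ Subgroup.center G, ρ z ∈ Subgroup.center I)
    (hne : ∃ g, ρ g ≠ 1)
    (hc : Nat.card (G ⧸ Subgroup.center G) =
      Nat.card (commutator I ⧸ Subgroup.center (commutator I))) :
    Nonempty (commutator I ⧸ Subgroup.center (commutator I) ≃* G ⧸ Subgroup.center G) := by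
  let ρ' : G →* commutator I := ρ.codRestrict _ (map_mem_commutator ρ hp)
  let ψ := QuotientGroup.map (Subgroup.center G) (Subgroup.center (commutator I)) ρ' fun z hz' =>
    Subgroup.mem_center_iff.2 fun g => Subtype.ext (Subgroup.mem_center_iff.1 (hz z hz') g)
  have hψ : Function.Injective ψ := by
    rw [← MonoidHom.ker_eq_bot_iff]
    refine (Subgroup.Normal.eq_bot_or_eq_top inferInstance).resolve_right fun h => ?_
    obtain ⟨g, hg⟩ := hne
    have h1 : ∀ g, ρ' g ∈ Subgroup.center (commutator I) := fun g =>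
      (QuotientGroup.eq_one_iff _).1 (show (g : G ⧸ Subgroup.center G) ∈ ψ.ker from h ▸ trivial)
    have h2 : commutator G ≤ ρ'.ker := Subgroup.commutator_le.2 fun a _ b _ => by
      rw [MonoidHom.mem_ker, map_commutatorElement, commutatorElement_eq_one_iff_mul_comm]
      exact Subgroup.mem_center_iff.1 (h1 b) _
    exact hg (congrArg Subtype.val (h2 (hp ▸ trivial : g ∈ commutator G)))
  exact ⟨(MulEquiv.ofBijective ψ ((Nat.bijective_iff_injective_and_card ψ).2 ⟨hψ, hc⟩)).symm⟩

theorem quot_equiv_of_surj (ρ : G →* I) (hρ : Function.Surjective ρ) (hk : ρ.ker ≤ Subgroup.center G)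
    (hz : Subgroup.center (G ⧸ Subgroup.center G) = ⊥) :
    Nonempty (I ⧸ Subgroup.center I ≃* G ⧸ Subgroup.center G) := by
  have h : ((QuotientGroup.mk' (Subgroup.center I)).comp ρ).ker = Subgroup.center G := by
    ext g
    rw [MonoidHom.mem_ker, MonoidHom.comp_apply, QuotientGroup.mk'_apply, QuotientGroup.eq_one_iff]
    constructor
    · intro hg
      rw [← QuotientGroup.eq_one_iff, ← Subgroup.mem_bot, ← hz, Subgroup.mem_center_iff]
      rintro ⟨x⟩
      change ((x * g : G) : G ⧸ Subgroup.center G) = (g * x : G)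
      rw [QuotientGroup.eq]
      refine hk ?_
      rw [MonoidHom.mem_ker, map_mul, map_inv, map_mul, map_mul, Subgroup.mem_center_iff.1 hg,
        inv_mul_cancel]
    · intro hg
      refine Subgroup.mem_center_iff.2 fun y => ?_
      obtain ⟨x, rfl⟩ := hρ y
      rw [← map_mul, ← map_mul, Subgroup.mem_center_iff.1 hg]
  exact ⟨((QuotientGroup.quotientMulEquivOfEq h.symm).trans
    (QuotientGroup.quotientKerEquivOfSurjective _ ((QuotientGroup.mk'_surjective _).comp hρ))).symm⟩

theorem surj_of_card [Finite G] (ρ : G →* I) {K : Subgroup I} (hle : ∀ g, ρ g ∈ K) {d : ℕ}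
    (hkc : Nat.card ρ.ker ≤ d) (hc : Nat.card G = d * Nat.card K) :
    Function.Surjective (ρ.codRestrict K hle) := by
  have hK : Finite K := Nat.finite_of_card_ne_zero fun h => by
    rw [h, mul_zero] at hc; exact Nat.card_pos.ne' hc
  rw [← MonoidHom.range_eq_top, ← Subgroup.card_eq_iff_eq_top]
  have h1 := (ρ.codRestrict K hle).ker.card_mul_index
  rw [Subgroup.index_ker, MonoidHom.ker_codRestrict, hc] at h1
  refine le_antisymm (Subgroup.card_le_card_group _) (le_of_mul_le_mul_left (a := d) ?_ ?_)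
  · rw [← h1]; exact Nat.mul_le_mul_right _ hkc
  · exact Nat.card_pos.trans_le hkc

theorem quot_equiv_of_central [Finite G] (ρ : G →* I) (hle : ∀ g, ρ g ∈ commutator I)
    (hk : ρ.ker ≤ Subgroup.center G) {d : ℕ} (hkc : Nat.card ρ.ker ≤ d)
    (hc : Nat.card G = d * Nat.card (commutator I))
    (hz : Subgroup.center (G ⧸ Subgroup.center G) = ⊥) :
    Nonempty (commutator I ⧸ Subgroup.center (commutator I) ≃* G ⧸ Subgroup.center G) :=
  quot_equiv_of_surj _ (surj_of_card ρ hle hkc hc) (by rwa [MonoidHom.ker_codRestrict]) hz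

theorem equiv_of_inj_card [Finite I] (ρ : G →* I) (hρ : Function.Injective ρ)
    (hc : Nat.card G = Nat.card I) : Nonempty (G ≃* I) :=
  ⟨MulEquiv.ofBijective ρ ((Nat.bijective_iff_injective_and_card ρ).2 ⟨hρ, hc⟩)⟩

/-- The central quotient of a product. -/
noncomputable def quotCenterProd (G I : Type*) [Group G] [Group I] :
    (G × I) ⧸ Subgroup.center (G × I) ≃* (G ⧸ Subgroup.center G) × (I ⧸ Subgroup.center I) :=
  (QuotientGroup.quotientMulEquivOfEq (by
    ext g
    simp [MonoidHom.mem_ker, Prod.ext_iff, Subgroup.mem_center_iff, forall_and])).trans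
  (QuotientGroup.quotientKerEquivOfSurjective
    ((QuotientGroup.mk' (Subgroup.center G)).prodMap (QuotientGroup.mk' (Subgroup.center I)))
    ((QuotientGroup.mk'_surjective _).prodMap (QuotientGroup.mk'_surjective _)))

theorem center_eq_bot_congr (e : G ≃* I) (h : Subgroup.center I = ⊥) : Subgroup.center G = ⊥ := by
  rw [eq_bot_iff]
  intro g hg
  rw [← mem_center_congr e, h, Subgroup.mem_bot] at hg
  exact e.map_eq_one_iff.1 hg

theorem center_prod_eq_bot (h : Subgroup.center G = ⊥) (h' : Subgroup.center I = ⊥) :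
    Subgroup.center (G × I) = ⊥ := by
  rw [eq_bot_iff]
  intro g hg
  rw [Subgroup.mem_center_iff] at hg
  refine Prod.ext (Subgroup.mem_bot.1 (h ▸ Subgroup.mem_center_iff.2 fun x => ?_))
    (Subgroup.mem_bot.1 (h' ▸ Subgroup.mem_center_iff.2 fun x => ?_))
  · exact congrArg Prod.fst (hg (x, 1))
  · exact congrArg Prod.snd (hg (1, x))

/-- A group with trivial centre is its own central quotient. -/
noncomputable def quotCenterBot (h : Subgroup.center G = ⊥) : G ⧸ Subgroup.center G ≃* G :=
  (QuotientGroup.quotientMulEquivOfEq h).trans QuotientGroup.quotientBot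

end grp

variable {F : Type*} [Field F] {V : Type*} [AddCommGroup V] [Module F V]

theorem card_le_gcd [Fintype F] {G : Type*} [Group G] {S : Subgroup G} {z : G}
    (h : ∀ g ∈ S, g = 1 ∨ g = z) (h2 : (2 : F) = 0 → z = 1) :
    Nat.card S ≤ Nat.gcd 2 (Fintype.card F - 1) := by
  rw [← Nat.card_eq_fintype_card, ← card_SqC]
  by_cases h0 : (2 : F) = 0
  · rw [card_SqC_even h0, show S = ⊥ from eq_bot_iff.2 fun g hg => by simpa [h2 h0] using h g hg]
    simp
  · rw [card_SqC_odd h0]
    exact (Set.ncard_le_ncard (s := (S : Set G)) (t := {1, z}) h (Set.toFinite _)).trans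
      ((Set.ncard_insert_le _ _).trans (by simp))

theorem center_PSL2 : Subgroup.center PSL(2, F) = ⊥ := by
  rw [eq_bot_iff]
  rintro ⟨A⟩ hA
  have h : ∀ g : SL(2, F), A * g = g * A ∨ A * g = -(g * A) := fun g =>
    psl_eq_iff.1 (Subgroup.mem_center_iff.1 hA (g : PSL(2, F)))
  have hd : A 0 0 * A 1 1 - A 0 1 * A 1 0 = 1 := (Matrix.det_fin_two _).symm.trans A.2
  have key : ∀ g : SL(2, F), g.1.trace = 2 → A * g = g * A := fun g hg => by
    rcases h g with h | h
    · exact h
    · by_cases h2 : (2 : F) = 0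
      · rwa [sl2_neg_eq h2] at h
      · have h3 : g = -(A⁻¹ * g * A) := by
          rw [mul_assoc, ← mul_neg, ← h, inv_mul_cancel_left]
        have h4 : g.1.trace = (-((A⁻¹).1 * g.1 * A.1)).trace :=
          congrArg (fun x : SL(2, F) => x.1.trace) h3
        rw [trace_neg, trace_mul_cycle, sl_mul_inv, one_mul, hg] at h4
        exact absurd (mul_self_eq_zero.1 (by linear_combination h4)) h2
  have h1 := congrArg Subtype.val (key (sl2 1 1 0 1 (by simp)) (by simp [one_add_one_eq_two]))
  have h2 := congrArg Subtype.val (key (sl2 1 0 1 1 (by simp)) (by simp [one_add_one_eq_two]))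
  have e1 := congrFun₂ h1 0 0
  have e2 := congrFun₂ h1 0 1
  have e3 := congrFun₂ h2 0 0
  simp [Matrix.mul_apply, Fin.sum_univ_two] at e1 e2 e3
  refine psl_eq_one_iff.2 (sl2_scalar (u := A 0 0) ?_)
  ext i j
  fin_cases i <;> fin_cases j <;> simp [e1, e3]
  linear_combination -e2

theorem SL2_perfect [Fintype F] (h : 4 ≤ Fintype.card F) : commutator SL(2, F) = ⊤ := by
  obtain ⟨a, h0, h1⟩ := exists_sq_ne_one (F := F) (by rwa [Nat.card_eq_fintype_card])
  exact Matrix.SL2.commutator_eq_top h0 (by rwa [sq])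

theorem SL2_hom_trivial [Fintype F] (h : 3 ≤ Fintype.card F) {A : Type*} [Group A]
    (hA : ∀ a : A, a * a = 1) (φ : SL(2, F) →* A) (g : SL(2, F)) : φ g = 1 := by
  by_cases h2 : (2 : F) = 0
  · have h4 : 4 ≤ Fintype.card F := by
      refine lt_of_le_of_ne h fun h3 => two_ne_zero_of_odd (F := F) (by rw [← h3]; decide) h2
    have : commutator SL(2, F) ≤ φ.ker := Subgroup.commutator_le.2 fun a _ b _ => by
      rw [MonoidHom.mem_ker, map_commutatorElement, commutatorElement_def,
        inv_eq_of_mul_eq_one_right (hA _), inv_eq_of_mul_eq_one_right (hA _), mul_assoc, hA]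
    exact this (SL2_perfect h4 ▸ trivial)
  · refine SL_transvection_induction (fun g => φ g = 1) (map_one _) (fun i j hij c => ?_)
      (fun a b ha hb => by rw [map_mul, ha, hb, mul_one]) g
    have : SpecialLinearGroup.transvection hij c = SpecialLinearGroup.transvection hij (c / 2) *
        SpecialLinearGroup.transvection hij (c / 2) := Subtype.ext (by
      change _ = transvection i j _ * transvection i j _
      rw [transvection_mul_transvection_same _ _ hij, ← add_div, ← two_mul, mul_div_cancel_left₀ _ h2]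
      rfl)
    rw [this, map_mul, hA]

namespace FS

theorem SL2_mem_commutator [Finite F] [FiniteDimensional F V] {f : OS F V} (hf : f.Nondeg) (hR : f.RC)
    {K : Type*} [Field K] [Fintype K] (h : 3 ≤ Fintype.card K) (ρ : SL(2, K) →* f.Isom)
    (g : SL(2, K)) : ρ g ∈ commutator f.Isom := by
  obtain ⟨θ, hθ⟩ := exists_isTh hf hR
  rw [← hθ.ker_eq hf hR]
  exact SL2_hom_trivial h TG.mul_self (θ.comp ρ) g

theorem exists_hom_of_emb' {P : FP F} (f : FS P V) {G W : Type*} [Group G] (ι : V → W)
    (hι : Function.Injective ι) (a : G → W → W) (a1 : ∀ w, a 1 w = w)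
    (amul : ∀ g h w, a (g * h) w = a g (a h w))
    (hex : ∀ g, ∃ L : V →ₗ[F] V, (∀ x, ι (L x) = a g (ι x)) ∧
      (∀ x y, f.B (L x) (L y) = f.B x y) ∧ ∀ x, f.Q (L x) = f.Q x) :
    ∃ ρ : G →* f.Isom, ∀ g x, ι ((ρ g).1 x) = a g (ι x) := by
  choose L h1 h2 h3 using hex
  have hm : ∀ g h x, L (g * h) x = L g (L h x) := fun g h x => hι (by rw [h1, h1, h1, amul])
  have h0 : ∀ x, L 1 x = x := fun x => hι (by rw [h1, a1])
  exact ⟨MonoidHom.mk' (fun g => ⟨LinearEquiv.ofLinear (L g) (L g⁻¹)
    (LinearMap.ext fun x => by simp [← hm, h0]) (LinearMap.ext fun x => by simp [← hm, h0]),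
    h2 g, h3 g⟩) fun g h => Subtype.ext (LinearEquiv.ext (hm g h)), h1⟩

theorem exists_hom_of_emb (f : OS F V) {G W : Type*} [Group G] [AddCommGroup W] [Module F W]
    (ι : V →ₗ[F] W) (hι : Function.Injective ι) (a : G → W →ₗ[F] W) (a1 : ∀ w, a 1 w = w)
    (amul : ∀ g h w, a (g * h) w = a g (a h w))
    (h : ∀ g x, ∃ y, ι y = a g (ι x) ∧ f.Q y = f.Q x) :
    ∃ ρ : G →* f.Isom, ∀ g x, ι ((ρ g).1 x) = a g (ι x) := by
  refine exists_hom_of_emb' f ι hι (fun g => a g) a1 amul fun g => ?_
  choose L h1 h2 using h g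
  have hadd : ∀ x y, L (x + y) = L x + L y := fun x y => hι (by simp [h1])
  refine ⟨⟨⟨L, hadd⟩, fun c x => hι (by simp [h1])⟩, h1, fun x y => ?_, h2⟩
  have := h2 (x + y)
  rw [hadd, orth_Q_add, orth_Q_add, h2, h2] at this
  exact add_left_cancel this

/-- A group permuting a spanning configuration of vectors and preserving its Gram data acts by
isometries. -/
theorem exists_hom_of_conf {P : FP F} {f : FS P V} [FiniteDimensional F V] (hf : f.Nondeg)
    {G X : Type*} [Group G] (a : G → X → X) (a1 : ∀ x, a 1 x = x)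
    (amul : ∀ g h x, a (g * h) x = a g (a h x)) (φ : X → V)
    (hs : Submodule.span F (Set.range φ) = ⊤)
    (hB : ∀ g x y, f.B (φ (a g x)) (φ (a g y)) = f.B (φ x) (φ y))
    (hQ : ∀ g x, f.Q (φ (a g x)) = f.Q (φ x)) :
    ∃ ρ : G →* f.Isom, ∀ g x, (ρ g).1 (φ x) = φ (a g x) := by
  have hex : ∀ g, ∃ k : f.Isom, ∀ x, k.1 (φ x) = φ (a g x) := fun g => by
    obtain ⟨κ, c, -, hsp, hli⟩ := exists_linearIndependent' F φ
    have := hli.finite
    have := Fintype.ofFinite κ
    have hz : ∀ z, (∀ i, f.B (φ (c i)) z = 0) → z = 0 := fun z hz => hf.eq_zero' fun y => by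
      have hy : y ∈ Submodule.span F (Set.range (φ ∘ c)) := by rw [hsp, hs]; trivial
      exact B_comm_zero (mem_perp'.1 (mem_perp_span.2 (Set.forall_mem_range.2 hz)) y hy)
    have hli' : LinearIndependent F fun i => φ (a g (c i)) := by
      rw [Fintype.linearIndependent_iff] at hli ⊢
      refine fun t ht => hli t (hz _ fun j => ?_)
      have := congrArg (f.B (φ (a g (c j)))) ht
      simpa [hB] using this
    obtain ⟨k, hk, hk'⟩ := witt_family hf (φ ∘ c) _ hli hli' (fun i j => (hB _ _ _).symm)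
      fun i => (hQ _ _).symm
    refine ⟨⟨k, hk⟩, fun x => ?_⟩
    rw [← LinearEquiv.eq_symm_apply, ← sub_eq_zero]
    refine hz _ fun i => ?_
    rw [map_sub, Isom_B_symm hk, show k (φ (c i)) = _ from hk' i, hB, sub_self]
  choose ρ hρ using hex
  refine ⟨MonoidHom.mk' ρ fun g h => Subtype.ext (LinearEquiv.toLinearMap_injective
    (LinearMap.ext_on_range hs fun x => ?_)), hρ⟩
  change (ρ (g * h)).1 (φ x) = (ρ g).1 ((ρ h).1 (φ x))
  rw [hρ, hρ, hρ, amul]

theorem card_Isom_plus [Fintype F] [FiniteDimensional F V] {f : OS F V} (hf : f.Nondeg) {m : ℕ}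
    (hn : finrank F V = 2 * (m + 1)) (hw : f.wi (m + 1)) :
    (Nat.card f.Isom : ℤ) = 2 * Fintype.card F ^ ((m + 1) * m) * (Fintype.card F ^ (m + 1) - 1) *
      ∏ i ∈ Finset.range m, ((Fintype.card F : ℤ) ^ (2 * (i + 1)) - 1) := by
  rw [card_Isom_even m hf hn, sg, if_pos hw, Nat.card_eq_fintype_card, Nat.cast_prod]
  congr 1
  exact Finset.prod_congr rfl fun i _ => by
    rw [Nat.cast_sub (Nat.one_le_pow _ _ Fintype.card_pos)]; simp

theorem card_Isom_minus [Fintype F] [FiniteDimensional F V] {f : OS F V} (hf : f.Nondeg) {m : ℕ}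
    (hn : finrank F V = 2 * (m + 1)) (hw : ¬ f.wi (m + 1)) :
    (Nat.card f.Isom : ℤ) = 2 * Fintype.card F ^ ((m + 1) * m) * (Fintype.card F ^ (m + 1) + 1) *
      ∏ i ∈ Finset.range m, ((Fintype.card F : ℤ) ^ (2 * (i + 1)) - 1) := by
  rw [card_Isom_even m hf hn, sg, if_neg hw, Nat.card_eq_fintype_card, Nat.cast_prod, sub_neg_eq_add]
  congr 1
  exact Finset.prod_congr rfl fun i _ => by
    rw [Nat.cast_sub (Nat.one_le_pow _ _ Fintype.card_pos)]; simp

theorem card_commutator [Fintype F] [FiniteDimensional F V] {f : OS F V} (hf : f.Nondeg) (hR : f.RC)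
    (hn : 2 ≤ finrank F V) :
    2 * (Nat.gcd 2 (Fintype.card F - 1) * Nat.card (commutator f.Isom)) = Nat.card f.Isom := by
  rw [← (commutator f.Isom).index_mul_card, index_commutator hf hR hn,
    Nat.card_eq_fintype_card (α := F), mul_assoc]

theorem neg1_mem_center {f : OS F V} : f.neg1 ∈ Subgroup.center f.Isom :=
  Subgroup.mem_center_iff.2 neg1_comm

theorem mem_center_of_smul {P : FP F} {f : FS P V} {g : f.Isom} {c : F} (h : ∀ x, g.1 x = c • x) :
    g ∈ Subgroup.center f.Isom :=
  Subgroup.mem_center_iff.2 fun k => Subtype.ext (LinearEquiv.ext fun x => by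
    change k.1 (g.1 x) = g.1 (k.1 x)
    rw [h, h, map_smul])

end FS

end Cfsg.Agent.Class
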