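import Cfsg.Agent.Class.Exc1

/-! Orthogonal groups in dimensions 3 and 4. -/

set_option autoImplicit false

namespace Cfsg.Agent.Class

open Module Matrix
open scoped MatrixGroups

variable {F : Type*} [Field F]

theorem sl2_eq_of_sq {A : SL(2, F)} (h1 : A 0 1 = 0) (h2 : A 1 0 = 0) (h3 : A 0 0 = A 1 1) :
    A = 1 ∨ A = -1 := by
  refine sl2_scalar (u := A 0 0) ?_
  ext i j
  fin_cases i <;> fin_cases j <;> simp [h1, h2, h3]

theorem sl2_neg_one_center : (-1 : SL(2, F)) ∈ Subgroup.center SL(2, F) :=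
  Subgroup.mem_center_iff.2 fun g => by simp

theorem sl2_det (A : SL(2, F)) : A 0 0 * A 1 1 - A 0 1 * A 1 0 = 1 :=
  (Matrix.det_fin_two _).symm.trans A.2

theorem card_SL2_int [Fintype F] :
    (Nat.card SL(2, F) : ℤ) = Fintype.card F * (Fintype.card F ^ 2 - 1) := by
  rw [card_SL2, Nat.cast_mul, Nat.cast_sub (Nat.one_le_pow _ _ Fintype.card_pos)]; simp

/-- Symmetric matrices. -/
def symm3 (F : Type*) [Field F] : (Unit ⊕ (Fin 1 ⊕ Fin 1) → F) →ₗ[F] Matrix (Fin 2) (Fin 2) F where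
  toFun v := !![v (.inr (.inl 0)), v (.inl ()); v (.inl ()), -v (.inr (.inr 0))]
  map_add' _ _ := by ext i j; fin_cases i <;> fin_cases j <;> simp [add_comm]
  map_smul' _ _ := by ext i j; fin_cases i <;> fin_cases j <;> simp

theorem exists_rho3 : ∃ ρ : SL(2, F) →* (oddOS F 1).Isom,
    ∀ g, ρ g = 1 → g = 1 ∨ g = -1 := by
  have hi : Function.Injective (symm3 F) := fun x y h => by
    have h1 := congrFun₂ h 0 0
    have h2 := congrFun₂ h 0 1
    have h3 := congrFun₂ h 1 1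
    simp [symm3] at h1 h2 h3
    ext (⟨⟨⟩⟩ | i | i)
    · exact h2
    all_goals simp [Subsingleton.elim i 0, *]
  have hq : ∀ x, (oddOS F 1).Q x = -(symm3 F x).det := fun x => by
    simp [oddOS_Q, symm3, det_fin_two]; ring
  have hr : ∀ M : Matrix (Fin 2) (Fin 2) F, Mᵀ = M → ∃ y, symm3 F y = M := fun M h =>
    ⟨Sum.elim (fun _ => M 0 1) (Sum.elim (fun _ => M 0 0) fun _ => -M 1 1), by
      have := congrFun₂ h 1 0
      ext i j; fin_cases i <;> fin_cases j <;> simp_all [symm3]⟩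
  have hs : ∀ x, (symm3 F x)ᵀ = symm3 F x := fun x => by
    ext i j; fin_cases i <;> fin_cases j <;> simp [symm3]
  obtain ⟨ρ, hρ⟩ := (oddOS F 1).exists_hom_of_emb (G := SL(2, F)) _ hi
    (fun g => LinearMap.mulLeftRight F (g.1, g.1ᵀ)) (by simp) (by simp [mul_assoc]) fun g x => by
      obtain ⟨y, hy⟩ := hr (g.1 * symm3 F x * g.1ᵀ) (by simp [transpose_mul, hs, mul_assoc])
      exact ⟨y, hy, by simp [hq, hy]⟩
  refine ⟨ρ, fun g hg => ?_⟩
  have h1 := hρ g (Pi.single (.inr (.inl 0)) 1)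
  have h2 := hρ g (Pi.single (.inr (.inr 0)) 1)
  rw [hg] at h1 h2
  have e1 := congrFun₂ h1 0 0
  have e2 := congrFun₂ h1 1 1
  have e3 := congrFun₂ h2 0 0
  simp [symm3, Matrix.mul_apply, Fin.sum_univ_two] at e1 e2 e3
  refine sl2_eq_of_sq e3 e2 ?_
  have := sl2_det g
  rw [e2] at this
  linear_combination -g 1 1 * e1 - g 0 0 * this

theorem omega3_equiv [Fintype F] (h2 : (2 : F) ≠ 0) : Nonempty (commutator (oddOS F 1).Isom ⧸
    Subgroup.center (commutator (oddOS F 1).Isom) ≃* PSL(2, F)) := by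
  obtain ⟨ρ, hρ⟩ := exists_rho3 (F := F)
  have hf := oddOS_nondeg 1 h2
  have h3 : 3 ≤ Fintype.card F := by
    have := odd_of_two_ne_zero h2
    have := Fintype.one_lt_card (α := F)
    grind
  refine quot_equiv_of_central ρ (FS.SL2_mem_commutator hf (FS.rc_of_two h2) h3 ρ)
    (fun g hg => ?_) (card_le_gcd (F := F) hρ fun h => absurd h h2) ?_ center_PSL2
  · rcases hρ g hg with rfl | rfl
    exacts [one_mem _, sl2_neg_one_center]
  · have := FS.card_commutator hf (FS.rc_of_two h2) (by rw [oddOS_finrank]; omega)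
    rw [FS.card_Isom_odd 1 hf (oddOS_finrank F 1), mul_assoc] at this
    rw [Nat.eq_of_mul_eq_mul_left two_pos this, card_SL2]
    simp

/-- All matrices. -/
def full4 (F : Type*) [Field F] : (Fin 2 ⊕ Fin 2 → F) →ₗ[F] Matrix (Fin 2) (Fin 2) F where
  toFun v := !![v (.inl 0), v (.inl 1); -v (.inr 1), v (.inr 0)]
  map_add' _ _ := by ext i j; fin_cases i <;> fin_cases j <;> simp [add_comm]
  map_smul' _ _ := by ext i j; fin_cases i <;> fin_cases j <;> simp

theorem exists_rho4p : ∃ ρ : SL(2, F) × SL(2, F) →* (plusOS F 2).Isom,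
    ∀ g, ρ g = 1 → g = 1 ∨ g = (-1, -1) := by
  have hi : Function.Injective (full4 F) := fun x y h => by
    have h1 := congrFun₂ h 0 0
    have h2 := congrFun₂ h 0 1
    have h3 := congrFun₂ h 1 1
    have h4 := congrFun₂ h 1 0
    simp [full4] at h1 h2 h3 h4
    ext (i | i) <;> fin_cases i <;> simp [*]
  have hq : ∀ x, (plusOS F 2).Q x = (full4 F x).det := fun x => by
    simp [plusOS_Q, full4, det_fin_two]
  have hr : ∀ M : Matrix (Fin 2) (Fin 2) F, ∃ y, full4 F y = M := fun M =>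
    ⟨Sum.elim ![M 0 0, M 0 1] ![M 1 1, -M 1 0], by
      ext i j; fin_cases i <;> fin_cases j <;> simp [full4]⟩
  obtain ⟨ρ, hρ⟩ := (plusOS F 2).exists_hom_of_emb (G := SL(2, F) × SL(2, F)) _ hi
    (fun g => LinearMap.mulLeftRight F (g.1.1, (g.2⁻¹).1)) (by simp) (by simp [mul_assoc])
    fun g x => by
      obtain ⟨y, hy⟩ := hr (g.1.1 * full4 F x * (g.2⁻¹).1)
      exact ⟨y, hy, by rw [hq, hq, hy, det_mul, det_mul, g.1.2, (g.2⁻¹).2, one_mul, mul_one]⟩
  refine ⟨ρ, fun g hg => ?_⟩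
  have h : ∀ M, M * g.2.1 = g.1.1 * M := fun M => by
    obtain ⟨y, rfl⟩ := hr M
    have h1 := hρ g y
    rw [hg] at h1
    refine (congrArg (· * g.2.1) h1).trans ?_
    rw [LinearMap.mulLeftRight_apply, mul_assoc, sl_inv_mul, mul_one]
  have h1 : g.2 = g.1 := Subtype.ext (by simpa using h 1)
  have e1 := congrFun₂ (h !![1, 0; 0, 0]) 0 1
  have e2 := congrFun₂ (h !![1, 0; 0, 0]) 1 0
  have e3 := congrFun₂ (h !![0, 1; 0, 0]) 0 1
  simp [h1, Matrix.mul_apply, Fin.sum_univ_two] at e1 e2 e3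
  exact (sl2_eq_of_sq e1 e2.symm e3.symm).imp (fun h => Prod.ext h (h1.trans h))
    fun h => Prod.ext h (h1.trans h)

theorem omega4p_equiv [Fintype F] (h3 : 3 ≤ Fintype.card F) :
    Nonempty (commutator (plusOS F 2).Isom ⧸ Subgroup.center (commutator (plusOS F 2).Isom) ≃*
      PSL(2, F) × PSL(2, F)) := by
  obtain ⟨ρ, hρ⟩ := exists_rho4p (F := F)
  have hf := plusOS_nondeg F 2
  have hR : (plusOS F 2).RC := FS.rc_of_card (.inl (by omega))
  refine (quot_equiv_of_central ρ (fun g => ?_) (fun g hg => ?_)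
    (card_le_gcd (F := F) hρ fun h => by rw [sl2_neg_eq h]; rfl) ?_
    (center_eq_bot_congr (quotCenterProd _ _) (center_prod_eq_bot center_PSL2 center_PSL2))).map
    (·.trans (quotCenterProd _ _))
  · rw [← Prod.fst_mul_snd g, map_mul]
    exact mul_mem (FS.SL2_mem_commutator hf hR h3 (ρ.comp (MonoidHom.inl _ _)) _)
      (FS.SL2_mem_commutator hf hR h3 (ρ.comp (MonoidHom.inr _ _)) _)
  · rcases hρ g hg with rfl | rfl
    exacts [one_mem _, Subgroup.mem_center_iff.2 fun g => by ext <;> simp]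
  · have := FS.card_commutator hf hR (by rw [plusOS_finrank]; omega)
    zify at this ⊢
    rw [FS.card_Isom_plus hf (plusOS_finrank F 2) (plusOS_wi F 2)] at this
    rw [Nat.card_prod, Nat.cast_mul, card_SL2_int]
    simp at this
    linarith

open QuadraticAlgebra in
/-- Hermitian matrices. -/
def herm4 (a b : F) : ((Fin 1 ⊕ Fin 1) ⊕ Fin 2 → F) →ₗ[F]
    Matrix (Fin 2) (Fin 2) (QuadraticAlgebra F (-b) a) where
  toFun v := !![⟨v (.inl (.inl 0)), 0⟩, ⟨v (.inr 0), v (.inr 1)⟩;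
    star ⟨v (.inr 0), v (.inr 1)⟩, ⟨-v (.inl (.inr 0)), 0⟩]
  map_add' _ _ := by ext i j <;> fin_cases i <;> fin_cases j <;> simp [add_comm] <;> ring
  map_smul' _ _ := by ext i j <;> fin_cases i <;> fin_cases j <;> simp <;> ring

theorem qa_im_eq_zero {a b : F} (h : b ^ 2 + 4 * a ≠ 0) {z : QuadraticAlgebra F a b}
    (hz : star z = z) : z.im = 0 := by
  have h1 := congrArg QuadraticAlgebra.re hz
  have h2 := congrArg QuadraticAlgebra.im hz
  simp only [QuadraticAlgebra.re_star, QuadraticAlgebra.im_star] at h1 h2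
  refine (mul_eq_zero.1 ?_).resolve_left h
  linear_combination b * h1 - 2 * a * h2

theorem exists_rho4m [Finite F] {a b : F} [hab : Fact (∀ r : F, r ^ 2 ≠ -b + a * r)] :
    ∃ ρ : SL(2, QuadraticAlgebra F (-b) a) →* (minusOS 1 a b).Isom,
      ∀ g, ρ g = 1 → g = 1 ∨ g = -1 := by
  have hi : Function.Injective (herm4 a b) := fun x y h => by
    have h1 := congrFun₂ h 0 0
    have h2 := congrFun₂ h 0 1
    have h3 := congrFun₂ h 1 1
    simp [herm4] at h1 h2 h3
    ext ((i | i) | i) <;> fin_cases i <;> simp [*]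
  have hq : ∀ x, (minusOS 1 a b).Q x = -(herm4 a b x).det.re := fun x => by
    simp [minusOS_Q, herm4, det_fin_two]; ring
  have hr : ∀ M : Matrix (Fin 2) (Fin 2) (QuadraticAlgebra F (-b) a), Mᴴ = M →
      ∃ y, herm4 a b y = M := fun M h =>
    ⟨Sum.elim (Sum.elim (fun _ => (M 0 0).re) fun _ => -(M 1 1).re) ![(M 0 1).re, (M 0 1).im], by
      have h1 := congrFun₂ h 1 0
      have h2 : (M 0 0).im = 0 := qa_im_eq_zero (qa_disc_ne hab.out) (congrFun₂ h 0 0)
      have h3 : (M 1 1).im = 0 := qa_im_eq_zero (qa_disc_ne hab.out) (congrFun₂ h 1 1)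
      rw [conjTranspose_apply] at h1
      ext i j <;> fin_cases i <;> fin_cases j <;> simp [herm4, ← h1, h2, h3]⟩
  have hs : ∀ x, (herm4 a b x)ᴴ = herm4 a b x := fun x => by
    ext i j <;> fin_cases i <;> fin_cases j <;> simp [herm4]
  obtain ⟨ρ, hρ⟩ := (minusOS 1 a b).exists_hom_of_emb (G := SL(2, QuadraticAlgebra F (-b) a)) _ hi
    (fun g => LinearMap.mulLeftRight F (g.1, g.1ᴴ)) (by simp) (by simp [mul_assoc]) fun g x => by
      obtain ⟨y, hy⟩ := hr (g.1 * herm4 a b x * g.1ᴴ) (by simp [conjTranspose_mul, hs, mul_assoc])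
      exact ⟨y, hy, by simp [hq, hy]⟩
  refine ⟨ρ, fun g hg => ?_⟩
  have h : ∀ M : Matrix (Fin 2) (Fin 2) (QuadraticAlgebra F (-b) a), Mᴴ = M →
      M = g.1 * M * g.1ᴴ := fun M hM => by
    obtain ⟨y, rfl⟩ := hr M hM
    have h1 := hρ g y
    rwa [hg] at h1
  have e1 := congrFun₂ (h !![1, 0; 0, 0] (by ext i j : 1; fin_cases i <;> fin_cases j <;> simp)) 1 1
  have e2 := congrFun₂ (h !![0, 0; 0, 1] (by ext i j : 1; fin_cases i <;> fin_cases j <;> simp)) 0 0
  have e3 := congrFun₂ (h !![0, 0; 0, 1] (by ext i j : 1; fin_cases i <;> fin_cases j <;> simp)) 1 1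
  have e4 := congrFun₂ (h !![0, 1; 1, 0] (by ext i j : 1; fin_cases i <;> fin_cases j <;> simp)) 0 1
  simp only [Matrix.mul_apply, Fin.sum_univ_two, conjTranspose_apply] at e1 e2 e3 e4
  simp at e1 e2 e3 e4
  refine sl2_eq_of_sq e2 e1 ?_
  have h5 : star (g 1 1) ≠ 0 := fun h => by simp [h] at e3
  refine mul_right_cancel₀ h5 ?_
  simp [e2] at e4
  rw [← e3, ← e4]

theorem omega4m_equiv [Fintype F] {a b : F}
    (hab : ∀ z₁ z₂ : F, z₁ ^ 2 + a * z₁ * z₂ + b * z₂ ^ 2 = 0 → z₁ = 0 ∧ z₂ = 0)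
    {K : Type*} [Field K] [Fintype K] (hK : Fintype.card K = Fintype.card F ^ 2) :
    Nonempty (commutator (minusOS 1 a b).Isom ⧸ Subgroup.center (commutator (minusOS 1 a b).Isom) ≃*
      PSL(2, K)) := by
  have := Fact.mk (aniso_fact hab)
  have := Fintype.ofFinite (QuadraticAlgebra F (-b) a)
  obtain ⟨ρ, hρ⟩ := exists_rho4m (a := a) (b := b)
  have hf := minusOS_nondeg 1 hab
  have hR : (minusOS 1 a b).RC := .inr (.inr (minusOS_not_wi 1 hab))
  have hc : Fintype.card (QuadraticAlgebra F (-b) a) = Fintype.card F ^ 2 := by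
    rw [← Nat.card_eq_fintype_card, qa_card, Nat.card_eq_fintype_card]
  have h1 := Fintype.one_lt_card (α := F)
  refine (quot_equiv_of_central ρ (FS.SL2_mem_commutator hf hR (by nlinarith) ρ) (fun g hg => ?_)
    (card_le_gcd (F := F) hρ fun h => sl2_neg_eq (by
      rw [← map_ofNat (algebraMap F _), h, map_zero]) _) ?_ center_PSL2).map
    (·.trans (pslCongr (FiniteField.ringEquivOfCardEq (hc.trans hK.symm))))
  · rcases hρ g hg with rfl | rfl
    exacts [one_mem _, sl2_neg_one_center]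
  · have := FS.card_commutator hf hR (by rw [minusOS_finrank]; omega)
    zify at this ⊢
    rw [FS.card_Isom_minus hf (minusOS_finrank 1) (minusOS_not_wi 1 hab)] at this
    rw [card_SL2_int, hc]
    simp at this ⊢
    linarith

end Cfsg.Agent.Class
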