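import Cfsg.Agent.Class.Exc2
import Cfsg.Agent.S0246

/-! Orthogonal groups in dimensions 5 and 6: the Klein correspondence. -/

set_option autoImplicit false

namespace Cfsg.Agent.Class

open Module Matrix
open scoped MatrixGroups commutatorElement

theorem quot_equiv_of_simple' {G I : Type*} [Group G] [Group I] [Finite G] [Finite I] (ρ : G →* I)
    (hp : commutator G = ⊤) (hs : IsSimpleGroup (G ⧸ Subgroup.center G)) (hne : ∃ g, ρ g ≠ 1)
    (hc : Nat.card (G ⧸ Subgroup.center G) =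
      Nat.card (commutator I ⧸ Subgroup.center (commutator I))) :
    Nonempty (commutator I ⧸ Subgroup.center (commutator I) ≃* G ⧸ Subgroup.center G) := by
  let ρ' : G →* commutator I := ρ.codRestrict _ (map_mem_commutator ρ hp)
  let ψ := (QuotientGroup.mk' (Subgroup.center (commutator I))).comp ρ'
  have h1 : ψ.ker ≤ Subgroup.center G := by
    have hn : (ψ.ker.map (QuotientGroup.mk' (Subgroup.center G))).Normal :=
      Subgroup.Normal.map inferInstance _ (QuotientGroup.mk'_surjective _)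
    rcases hn.eq_bot_or_eq_top with h | h
    · rwa [Subgroup.map_eq_bot_iff, QuotientGroup.ker_mk'] at h
    obtain ⟨g, hg⟩ := hne
    have h2 : commutator G ≤ ψ.ker := Subgroup.commutator_le.2 fun a _ b _ => by
      obtain ⟨x, hx, hx'⟩ : (a : G ⧸ Subgroup.center G) ∈ ψ.ker.map (QuotientGroup.mk' _) :=
        h ▸ trivial
      obtain ⟨z, hz, rfl⟩ : ∃ z ∈ Subgroup.center G, a = x * z :=
        ⟨_, QuotientGroup.eq.1 hx', by simp⟩
      rw [MonoidHom.mem_ker, map_commutatorElement, commutatorElement_eq_one_iff_mul_comm, map_mul,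
        show ψ x = 1 from hx, one_mul, ← map_mul, ← map_mul, Subgroup.mem_center_iff.1 hz]
    have h3 : commutator G ≤ ρ'.ker := Subgroup.commutator_le.2 fun a _ b _ => by
      rw [MonoidHom.mem_ker, map_commutatorElement, commutatorElement_eq_one_iff_mul_comm]
      exact Subgroup.mem_center_iff.1 ((QuotientGroup.eq_one_iff _).1
        (h2 (hp ▸ trivial : b ∈ commutator G))) _
    exact absurd (congrArg Subtype.val (h3 (hp ▸ trivial : g ∈ commutator G))) hg
  have h4 : Nat.card ψ.range = Nat.card (commutator I ⧸ Subgroup.center (commutator I)) := by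
    refine le_antisymm (Subgroup.card_le_card_group _) ?_
    rw [← hc, ← Subgroup.index_ker]
    exact Subgroup.index_antitone h1
  have h5 : ψ.ker = Subgroup.center G := by
    refine Subgroup.eq_of_le_of_card_ge h1 (le_of_eq (Nat.eq_of_mul_eq_mul_right
      (Nat.pos_of_ne_zero (Subgroup.center G).index_ne_zero_of_finite) ?_))
    rw [Subgroup.card_mul_index, Subgroup.index, hc, ← h4, ← Subgroup.index_ker,
      Subgroup.card_mul_index]
  exact ⟨((QuotientGroup.quotientMulEquivOfEq h5.symm).trans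
    (QuotientGroup.quotientKerEquivOfSurjective _
      (MonoidHom.range_eq_top.1 ((Subgroup.card_eq_iff_eq_top _).1 h4)))).symm⟩

variable {F : Type*} [Field F]

/-- Alternating matrices. -/
def alt6 (x : Fin 3 ⊕ Fin 3 → F) : Matrix (Fin 4) (Fin 4) F :=
  !![0, x (.inl 0), x (.inl 1), x (.inl 2); -x (.inl 0), 0, x (.inr 2), -x (.inr 1);
    -x (.inl 1), -x (.inr 2), 0, x (.inr 0); -x (.inl 2), x (.inr 1), -x (.inr 0), 0]

/-- The index pairs. -/
def wi1 : Fin 3 ⊕ Fin 3 → Fin 4 := Sum.elim ![0, 0, 0] ![2, 3, 1]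
/-- The index pairs. -/
def wi2 : Fin 3 ⊕ Fin 3 → Fin 4 := Sum.elim ![1, 2, 3] ![3, 1, 2]

theorem alt6_wi (x : Fin 3 ⊕ Fin 3 → F) (a : Fin 3 ⊕ Fin 3) : alt6 x (wi1 a) (wi2 a) = x a := by
  rcases a with a | a <;> fin_cases a <;> rfl

theorem alt6_injective : Function.Injective (alt6 : _ → Matrix (Fin 4) (Fin 4) F) := fun x y h =>
  funext fun a => by rw [← alt6_wi x, h, alt6_wi]

/-- The second compound matrix. -/
def wedge (A : Matrix (Fin 4) (Fin 4) F) : Matrix (Fin 3 ⊕ Fin 3) (Fin 3 ⊕ Fin 3) F :=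
  .of fun a b => A (wi1 a) (wi1 b) * A (wi2 a) (wi2 b) - A (wi1 a) (wi2 b) * A (wi2 a) (wi1 b)

theorem alt6_wedge (A : Matrix (Fin 4) (Fin 4) F) (x : Fin 3 ⊕ Fin 3 → F) :
    alt6 (wedge A *ᵥ x) = A * alt6 x * Aᵀ := by
  ext i j
  fin_cases i <;> fin_cases j <;>
    simp [alt6, wedge, wi1, wi2, mulVec, dotProduct, Matrix.mul_apply, Fin.sum_univ_succ] <;> ring

theorem wedge_mul (A B : Matrix (Fin 4) (Fin 4) F) : wedge (A * B) = wedge A * wedge B :=
  matrix_ext_mulVec fun x => alt6_injective (by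
    simp only [← mulVec_mulVec, alt6_wedge, transpose_mul, mul_assoc])

theorem wedge_one : wedge (1 : Matrix (Fin 4) (Fin 4) F) = 1 :=
  matrix_ext_mulVec fun x => alt6_injective (by simp [alt6_wedge])

theorem wedge_transpose (A : Matrix (Fin 4) (Fin 4) F) : wedge Aᵀ = (wedge A)ᵀ := by
  ext a b; simp [wedge, mul_comm]

theorem wedge_map {K : Type*} [Field K] (σ : F →+* K) (A : Matrix (Fin 4) (Fin 4) F) :
    wedge (A.map σ) = (wedge A).map σ := by
  ext a b; simp [wedge]

theorem Q_wedge (A : Matrix (Fin 4) (Fin 4) F) (x : Fin 3 ⊕ Fin 3 → F) :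
    (plusOS F 3).Q (wedge A *ᵥ x) = A.det * (plusOS F 3).Q x := by
  simp [plusOS_Q, wedge, wi1, wi2, mulVec, dotProduct, Fin.sum_univ_succ, det_succ_row_zero,
    Fin.succAbove]
  ring

theorem B_wedge (A : SL(4, F)) (x y : Fin 3 ⊕ Fin 3 → F) :
    (plusOS F 3).B (wedge A.1 *ᵥ x) (wedge A.1 *ᵥ y) = (plusOS F 3).B x y := by
  have := Q_wedge A.1 (x + y)
  rw [mulVec_add, FS.orth_Q_add, FS.orth_Q_add, Q_wedge, Q_wedge, A.2, one_mul, one_mul,
    one_mul] at this
  exact add_left_cancel this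

theorem exists_rho6p : ∃ ρ : SL(4, F) →* (plusOS F 3).Isom, ∀ g x, (ρ g).1 x = wedge g.1 *ᵥ x :=
  (plusOS F 3).exists_hom_of_emb (G := SL(4, F)) LinearMap.id Function.injective_id
    (fun g => toLin' (wedge g.1))
    (by simp [wedge_one]) (by simp [wedge_mul]) fun g x => ⟨_, rfl, by simp [Q_wedge]⟩

theorem gcd_four_cube [Fintype F] :
    Nat.gcd 4 (Fintype.card F ^ 3 - 1) = Nat.gcd 4 (Fintype.card F - 1) ∧
    Nat.gcd 4 (Fintype.card F ^ 3 + 1) = Nat.gcd 4 (Fintype.card F + 1) := by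
  have h1 := gcd_four_pow (F := F) 1 le_rfl
  have h3 := gcd_four_pow (F := F) 3 (by omega)
  rw [pow_one] at h1
  rw [h1.1, h1.2, h3.1, h3.2, Nat.pow_mod]
  have : Fintype.card F % 4 < 4 := Nat.mod_lt _ (by omega)
  generalize Fintype.card F % 4 = r at *
  interval_cases r <;> simp

theorem omega6p_equiv [Fintype F] :
    Nonempty (commutator (plusOS F 3).Isom ⧸ Subgroup.center (commutator (plusOS F 3).Isom) ≃*
      PSL(4, F)) := by
  obtain ⟨ρ, hρ⟩ := exists_rho6p (F := F)
  have := finite_linearEquiv (F := F) (V := Fin 3 ⊕ Fin 3 → F)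
  refine quot_equiv_of_simple' ρ (commutator_SL_eq_top (by simp)) (PSL_isSimpleGroup (by simp))
    ⟨SpecialLinearGroup.transvection (show (0 : Fin 4) ≠ 2 by decide) 1, fun h => ?_⟩ ?_
  · have := congrFun (h ▸ hρ _ (Pi.single (.inr 0) 1)) (.inl 2)
    simp [wedge, show wi1 (.inl 2) = 0 from rfl, show wi2 (.inl 2) = 3 from rfl,
      show wi1 (.inr 0) = 2 from rfl, show wi2 (.inr 0) = 3 from rfl,
      SpecialLinearGroup.transvection, transvection] at this
    exact zero_ne_one (this.trans (one_apply_eq (3 : Fin 4)))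
  · have h1 := FS.card_pomega_plus (plusOS_nondeg F 3) (plusOS_finrank F 3) le_rfl (plusOS_wi F 3)
    have h2 := card_SL (F := F) 4 (by omega)
    have h3 := Fintype.one_lt_card (α := F)
    rw [← card_center_mul_card_PSL, Fintype.card_fin] at h2
    rw [gcd_four_cube.1] at h1
    refine Nat.eq_of_mul_eq_mul_left (Nat.gcd_pos_of_pos_left (Fintype.card F - 1) four_pos)
      (Nat.eq_of_mul_eq_mul_left (Nat.sub_pos_of_lt h3) ?_)
    rw [h1]
    refine h2.trans ?_
    simp only [Fin.prod_univ_four, Finset.prod_range_succ, Finset.prod_range_zero]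
    zify [Nat.pow_le_pow_right h3.le, Nat.one_le_pow _ _ (zero_lt_one.trans h3), h3.le, Fin.is_le']
    simp
    ring

/-- `Sp₄` inside `SL₄`. -/
def sp4SL : symplecticGroup (Fin 2) F →* SL(4, F) where
  toFun A := ⟨reindex finSumFinEquiv finSumFinEquiv A.1, by
    rw [det_reindex_self, SymplecticGroup.det_eq_one A.2]⟩
  map_one' := Subtype.ext (by simp)
  map_mul' _ _ := Subtype.ext (submatrix_mul_equiv _ _ _ finSumFinEquiv.symm _).symm

theorem sp4SL_coe (A : symplecticGroup (Fin 2) F) :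
    (sp4SL A).1 = reindex finSumFinEquiv finSumFinEquiv A.1 := rfl

theorem wedge_sp4 (A : symplecticGroup (Fin 2) F) :
    wedge (sp4SL A).1 *ᵥ Sum.elim ![0, -1, 0] ![0, 1, 0] = Sum.elim ![0, -1, 0] ![0, 1, 0] := by
  have h : alt6 (Sum.elim ![0, -1, 0] ![0, 1, 0]) =
      reindex finSumFinEquiv finSumFinEquiv (J (Fin 2) F) := by
    rw [← Equiv.symm_apply_eq]
    ext (i | i) (j | j) <;> fin_cases i <;> fin_cases j <;>
      simp [alt6, J, finSumFinEquiv, Fin.natAdd, Fin.castAdd, Fin.castLE]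
  apply alt6_injective
  rw [alt6_wedge, h]
  have := congrArg (reindex finSumFinEquiv finSumFinEquiv) (SymplecticGroup.mem_iff.1 A.2)
  simpa [sp4SL_coe] using this

theorem omega5_equiv [Fintype F] (h2 : (2 : F) ≠ 0) :
    Nonempty (commutator (oddOS F 2).Isom ⧸ Subgroup.center (commutator (oddOS F 2).Isom) ≃*
      Cfsg.PSp 2 F) := by
  set j : Fin 3 ⊕ Fin 3 → F := Sum.elim ![0, -1, 0] ![0, 1, 0] with hj
  have hj0 : (plusOS F 3).B j j ≠ 0 := by
    simpa [plusOS_B, j, Fin.sum_univ_succ, ← two_mul, ← neg_add, one_add_one_eq_two] using h2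
  let f : OS F _ := (plusOS F 3).res ((plusOS F 3).perp (Submodule.span F {j}))
  have hf : f.Nondeg := (plusOS_nondeg F 3).nondeg_perp (FS.disjoint_perp_singleton hj0)
  have hn : finrank F ((plusOS F 3).perp (Submodule.span F {j})) = 2 * 2 + 1 := by
    have := (plusOS_nondeg F 3).finrank_perp_singleton (v := j) (by rintro h; simp [h] at hj0)
    simp at this; omega
  obtain ⟨ρ, hρ⟩ := f.exists_hom_of_emb (G := symplecticGroup (Fin 2) F) (Submodule.subtype _)
    Subtype.val_injective (fun g => toLin' (wedge (sp4SL g).1)) (by simp [wedge_one])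
    (by simp [wedge_mul]) fun g x => ⟨⟨wedge (sp4SL g).1 *ᵥ x.1, FS.mem_perp_singleton.2 (by
      rw [← FS.mem_perp_singleton.1 x.2, ← B_wedge (sp4SL g) j x.1, wedge_sp4])⟩, rfl,
      (Q_wedge _ _).trans (by simp [f])⟩
  obtain ⟨e⟩ := FS.nonempty_isom_of_odd h2 hf (oddOS_nondeg 2 h2) (by rw [hn, oddOS_finrank])
    (by rw [oddOS_finrank]; decide)
  have h3 : 3 ≤ Fintype.card F := by
    have := odd_of_two_ne_zero h2
    have := Fintype.one_lt_card (α := F)
    grind
  have hp := Sp_perfect (m := 2) (F := F) (.inr (.inl ⟨rfl, h3⟩))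
  have := finite_linearEquiv (F := F) (V := (plusOS F 3).perp (Submodule.span F {j}))
  refine (quot_equiv_of_simple' ρ hp (PSp_simple (by omega) hp)
    ⟨⟨fromBlocks 1 !![1, 0; 0, 0] 0 1, ?_⟩, fun h => ?_⟩ ?_).map
    (quotCenterCongr (commCongr e)).trans
  · rw [SymplecticGroup.mem_iff]
    ext (i | i) (j | j) <;> fin_cases i <;> fin_cases j <;>
      simp [J, fromBlocks_transpose, fromBlocks_multiply]
  · have := congrFun (h ▸ hρ _ ⟨Pi.single (.inr 0) 1, FS.mem_perp_singleton.2 (by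
      simp [plusOS_B, j, Fin.sum_univ_succ])⟩) (.inl 2)
    simp [wedge, show wi1 (.inl 2) = 0 from rfl, show wi2 (.inl 2) = 3 from rfl,
      show wi1 (.inr 0) = 2 from rfl, show wi2 (.inr 0) = 3 from rfl, sp4SL_coe,
      show (finSumFinEquiv (m := 2) (n := 2)).symm 0 = .inl 0 from rfl,
      show (finSumFinEquiv (m := 2) (n := 2)).symm 2 = .inr 0 from rfl,
      show (finSumFinEquiv (m := 2) (n := 2)).symm 3 = .inr 1 from rfl] at this
  · have h1 := FS.card_pomega_odd hf h2 hn le_rfl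
    have h4 := card_center_mul_card_quot (symplecticGroup (Fin 2) F)
    rw [S0246.result rfl 2 (by omega), card_Sp, ← Nat.card_eq_fintype_card, ← card_SqC,
      card_SqC_odd h2, Nat.card_eq_fintype_card (α := F), ← h1] at h4
    omega

section minus
open QuadraticAlgebra

/-- Sum of norm forms. -/
def nsOS (a b : F) (n : ℕ) : OS F (Fin n → QuadraticAlgebra F a b) :=
  FS.mkOrth (fun z => ∑ i, norm (z i)) (LinearMap.mk₂ F (fun z w => ∑ i, (nOS a b).B (z i) (w i))
    (fun _ _ _ => by simp [Finset.sum_add_distrib]) (fun _ _ _ => by simp [Finset.mul_sum])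
    (fun _ _ _ => by simp [Finset.sum_add_distrib]) (fun _ _ _ => by simp [Finset.mul_sum]))
    (fun _ _ => by
      simp only [LinearMap.mk₂_apply, ← Finset.sum_add_distrib]
      exact Finset.sum_congr rfl fun i _ => (nOS a b).orth_Q_add _ _)
    (fun _ _ => by
      simp only [Finset.mul_sum]
      exact Finset.sum_congr rfl fun i _ => (nOS a b).orth_Q_smul _ _)

variable {a b : F} {n : ℕ}

theorem nsOS_Q (z : Fin n → QuadraticAlgebra F a b) : (nsOS a b n).Q z = ∑ i, norm (z i) := rfl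

theorem nsOS_B (z w : Fin n → QuadraticAlgebra F a b) :
    (nsOS a b n).B z w = ∑ i, (nOS a b).B (z i) (w i) := rfl

theorem nsOS_B' (z w : Fin n → QuadraticAlgebra F a b) :
    (nsOS a b n).B z w = (nOS a b).B (∑ i, z i * star (w i)) 1 := by
  simp [nsOS_B, nOS_B]

theorem nsOS_nondeg (h : b ^ 2 + 4 * a ≠ 0) : (nsOS a b n).Nondeg :=
  FS.nondeg_of_sep fun z hz => funext fun i => (nOS_nondeg h).eq_zero fun w => by
    have := hz (Pi.single i w)
    rwa [nsOS_B, Finset.sum_eq_single i (fun j _ hj => by simp [hj]) (by simp),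
      Pi.single_eq_same] at this

theorem nsOS_finrank : finrank F (Fin n → QuadraticAlgebra F a b) = 2 * n := by
  simp [finrank_pi_fintype, finrank_eq_two, mul_comm]

variable [Finite F] [hab : Fact (∀ r : F, r ^ 2 ≠ a + b * r)]

theorem nsOS_not_wi : ¬ (nsOS a b 3).wi 3 := by
  rintro ⟨W, hW, hW3⟩
  obtain ⟨c, hc⟩ := (qa_UF (a := a) (b := b)).exists_norm (μ := -1) (by simp)
  have hc' : norm c = -1 := qa_norm_iff.1 (by simpa using hc)
  let L : QuadraticAlgebra F a b →ₗ[F] (Fin 3 → QuadraticAlgebra F a b) :=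
    { toFun := fun z => ![z, z * c, 0]
      map_add' := fun _ _ => by ext1 i; fin_cases i <;> simp [add_mul]
      map_smul' := fun _ _ => by ext1 i; fin_cases i <;> simp }
  have h1 : (nsOS a b 3).TS (LinearMap.range L) := FS.orth_ts.2 (by
    rintro _ ⟨z, rfl⟩
    simp [nsOS_Q, Fin.sum_univ_succ, L, hc'])
  have h2 := h1.finrank_le_of_max (nsOS_nondeg (qa_disc_ne hab.out)) hW fun x hx hQ => by
    have h3 : star (x 0) + c * star (x 1) = 0 := by
      refine (nOS_nondeg (qa_disc_ne hab.out)).eq_zero fun w => ?_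
      have := hx _ ⟨star w, rfl⟩
      rw [nsOS_B', nOS_B] at this
      rw [nOS_B, ← this]
      congr 1
      simp [Fin.sum_univ_succ, L]
      ring
    have h4 : x 1 = x 0 * c := by
      have h5 := congrArg star h3
      simp only [star_add, star_star, star_mul', star_zero] at h5
      have h6 : star c * c = -1 := hc
      linear_combination -c * h5 + x 1 * h6
    have h5 : x 2 = 0 := by
      simpa [nsOS_Q, Fin.sum_univ_succ, h4, hc', norm_eq_zero_iff_eq_zero] using hQ
    exact ⟨x 0, by ext1 i; fin_cases i <;> simp [L, h4, h5]⟩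
  have := LinearMap.finrank_range_le L
  rw [finrank_eq_two] at this
  omega

theorem exists_rho6m {G : Type*} [Group G] (φ : G →* SL(4, QuadraticAlgebra F a b))
    (hφ : ∀ g, (φ g).1ᴴ * (φ g).1 = 1) : ∃ ρ : G →* (nsOS a b 3).Isom,
      ∀ g x, Sum.elim ((ρ g).1 x) (star ((ρ g).1 x)) = wedge (φ g).1 *ᵥ Sum.elim x (star x) := by
  let L : (Fin 3 → QuadraticAlgebra F a b) →ₗ[F] (Fin 3 ⊕ Fin 3 → QuadraticAlgebra F a b) :=
    { toFun := fun z => Sum.elim z (star z)
      map_add' := fun _ _ => by ext1 (i | i) <;> simp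
      map_smul' := fun _ _ => by ext (i | i) <;> simp <;> ring }
  have hQ : ∀ z, algebraMap F _ ((nsOS a b 3).Q z) = (plusOS _ 3).Q (L z) := fun z => by
    simp [nsOS_Q, plusOS_Q, L, algebraMap_norm_eq_mul_star]
  have hJ : ∀ x y : Fin 3 ⊕ Fin 3 → QuadraticAlgebra F a b,
      (plusOS (QuadraticAlgebra F a b) 3).B (star x ∘ Sum.swap) y = star x ⬝ᵥ y := fun x y => by
    simp [plusOS_B, dotProduct, Finset.sum_add_distrib, add_comm]
  have hw : ∀ g x, star (wedge (φ g).1 *ᵥ x) ∘ Sum.swap = wedge (φ g).1 *ᵥ (star x ∘ Sum.swap) := by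
    intro g x
    rw [← sub_eq_zero]
    refine (plusOS_nondeg _ 3).eq_zero fun y => ?_
    obtain ⟨y, rfl⟩ : ∃ z, wedge (φ g).1 *ᵥ z = y := ⟨wedge ((φ g)⁻¹).1 *ᵥ y, by
      rw [mulVec_mulVec, ← wedge_mul, sl_mul_inv, wedge_one, one_mulVec]⟩
    rw [map_sub, LinearMap.sub_apply, B_wedge, hJ, hJ, star_mulVec, dotProduct_mulVec, vecMul_vecMul,
      show (wedge (φ g).1)ᴴ = wedge (φ g).1ᴴ by
        rw [conjTranspose, ← wedge_transpose]; exact (wedge_map (starRingEnd _) _).symm,
      ← wedge_mul, hφ, wedge_one, vecMul_one, sub_self]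
  refine (nsOS a b 3).exists_hom_of_emb L (fun x y h => funext fun i => congrFun h (.inl i))
    (fun g => (toLin' (wedge (φ g).1)).restrictScalars F) (by simp [wedge_one]) (by simp [wedge_mul])
    fun g x => ?_
  have h1 : L ((wedge (φ g).1 *ᵥ L x) ∘ Sum.inl) = wedge (φ g).1 *ᵥ L x := by
    have := hw g (L x)
    rw [show star (L x) ∘ Sum.swap = L x by ext1 (i | i) <;> simp [L]] at this
    ext1 (i | i)
    · rfl
    · exact congrFun this (.inr i)
  exact ⟨_, h1, (algebraMap F (QuadraticAlgebra F a b)).injective (by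
    rw [hQ, hQ, h1, Q_wedge, (φ g).2, one_mul])⟩

end minus

theorem SU_perfect {σ : F →+* F} {q : ℕ} (h : UF σ q) {n : ℕ} (hn : 3 ≤ n) (hq : 3 ≤ q ∨ 4 ≤ n) :
    commutator (Cfsg.SU n F q) = ⊤ := by
  have : Nonempty (Fin n) := ⟨⟨0, by omega⟩⟩
  refine commutator_eq_top_of_equiv (suEquiv h n) ?_
  rw [← FS.herm_EO h (uFS_nondeg h) (by simpa)]
  exact FS.herm_perfect h (uFS_nondeg h) (by simpa) (by simpa)

theorem mem_SU_iff {σ : F →+* F} {q : ℕ} (h : UF σ q) {n : ℕ} {A : SL(n, F)} :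
    A ∈ Cfsg.SU n F q ↔ (A.1.map σ)ᵀ * A.1 = 1 := by
  have h1 : ∀ u v, Cfsg.hermForm n F q (A.1 *ᵥ u) (A.1 *ᵥ v) =
      (σ ∘ v) ⬝ᵥ ((A.1.map σ)ᵀ * A.1) *ᵥ u := fun u v => by
    rw [← uFS_B h, uFS_B', ← mulVec_mulVec, dotProduct_mulVec _ (A.1.map σ)ᵀ, vecMul_transpose]
    exact Finset.sum_congr rfl fun i _ => by rw [RingHom.map_mulVec]
  constructor
  · intro hA
    ext i j
    have := (h1 (Pi.single j 1) (Pi.single i 1)).symm.trans (hA _ _)
    rw [← uFS_B h, uFS_B', show σ ∘ Pi.single i 1 = Pi.single i 1 by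
      ext k; by_cases hk : k = i <;> simp [hk]] at this
    simpa [Pi.single_apply, one_apply, apply_ite σ, eq_comm] using this
  · intro hA u v
    refine (h1 u v).trans ?_
    rw [hA, one_mulVec, ← uFS_B h, uFS_B']; rfl

theorem omega6m_equiv [Fintype F] {a b : F}
    (hab : ∀ z₁ z₂ : F, z₁ ^ 2 + a * z₁ * z₂ + b * z₂ ^ 2 = 0 → z₁ = 0 ∧ z₂ = 0)
    {K : Type*} [Field K] [Fintype K] (hK : Fintype.card K = Fintype.card F ^ 2) :
    Nonempty (commutator (minusOS 2 a b).Isom ⧸ Subgroup.center (commutator (minusOS 2 a b).Isom) ≃*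
      Cfsg.PSU 4 K (Fintype.card F)) := by
  have hF := Fact.mk (aniso_fact hab)
  have := Fintype.ofFinite (QuadraticAlgebra F (-b) a)
  have hc : Fintype.card (QuadraticAlgebra F (-b) a) = Fintype.card F ^ 2 := by
    rw [← Nat.card_eq_fintype_card, qa_card, Nat.card_eq_fintype_card]
  obtain ⟨σ, hσ⟩ := exists_UF hK
  let e := FiniteField.ringEquivOfCardEq (hK.trans hc.symm)
  have he : ∀ z, e (σ z) = star (e z) := fun z => by
    rw [hσ.eq, map_pow, ← Nat.card_eq_fintype_card]; exact (qa_UF.eq _).symm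
  obtain ⟨ρ, hρ⟩ := exists_rho6m ((SpecialLinearGroup.map e.toRingHom).comp
    (Cfsg.SU 4 K (Fintype.card F)).subtype) fun g => by
      have := congrArg (·.map e) ((mem_SU_iff hσ).1 g.2)
      simp only [Matrix.map_mul, Matrix.map_one e (map_zero e) (map_one e)] at this
      rw [← this]
      congr 1
      ext i j : 1
      exact (he _).symm
  have hf : (nsOS (-b) a 3).Nondeg := nsOS_nondeg (qa_disc_ne hF.out)
  obtain ⟨e', he'⟩ := FS.isIso_of_even 3 hf (minusOS_nondeg 2 hab) nsOS_finrank (minusOS_finrank 2)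
    (iff_of_false nsOS_not_wi (minusOS_not_wi 2 hab))
  have := finite_linearEquiv (F := F) (V := Fin 3 → QuadraticAlgebra F (-b) a)
  refine (quot_equiv_of_simple' ρ (SU_perfect hσ (by omega) (.inr le_rfl))
    (PSU_simple hσ (by omega) (.inr le_rfl))
    ⟨⟨⟨!![0, 1, 0, 0; 0, 0, 1, 0; 1, 0, 0, 0; 0, 0, 0, 1], ?_⟩, ?_⟩, fun h => ?_⟩ ?_).map
    (quotCenterCongr (commCongr he'.isomEquiv)).trans
  · simp [det_succ_row_zero, Fin.sum_univ_succ, Fin.succAbove]
  · refine (mem_SU_iff hσ).2 ?_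
    ext i j
    fin_cases i <;> fin_cases j <;> simp [Matrix.mul_apply, Fin.sum_univ_succ]
  · have := congrFun (h ▸ hρ _ (Pi.single 0 1)) (.inl 0)
    change _ = (wedge (Matrix.map !![0, 1, 0, 0; 0, 0, 1, 0; 1, 0, 0, 0; 0, 0, 0, 1] e) *ᵥ _) _ at this
    simp [wedge, wi1, wi2, mulVec, dotProduct, Fin.sum_univ_succ] at this
  · have h1 := FS.card_pomega_minus hf nsOS_finrank le_rfl nsOS_not_wi
    have h2 := card_PSU hσ (n := 4) (by omega)
    have h3 := Fintype.one_lt_card (α := F)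
    rw [gcd_four_cube.2] at h1
    refine Nat.eq_of_mul_eq_mul_left (Nat.gcd_pos_of_pos_left (Fintype.card F + 1) four_pos)
      (Nat.eq_of_mul_eq_mul_left (Nat.succ_pos (Fintype.card F)) ?_)
    rw [h1, mul_left_comm]
    refine h2.trans ?_
    simp only [guCard, Finset.prod_range_succ, Finset.prod_range_zero]
    zify [Nat.one_le_pow _ _ (zero_lt_one.trans h3)]
    simp [uFac_cast h3.le]
    ring

end Cfsg.Agent.Class
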