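import Mathlib

/-! A uniform setting for symplectic, unitary and orthogonal spaces: generalized reflections,
Eichler transformations and Witt's lemma. -/

set_option autoImplicit false

namespace Cfsg.Agent.Class

open Module

/-- Scalar data ("form parameter"). -/
structure FP (F : Type*) [Field F] where
  σ : F →+* F
  ε : F
  τ : F →+ F
  σσ : ∀ a, σ (σ a) = a
  εε : ε * ε = 1
  σε : σ ε = ε
  τ_conj : ∀ c a, τ (σ c * a * c) = σ c * c * τ a
  τ_symm : ∀ a, τ (ε * σ a) = τ a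

/-- A formed space. -/
structure FS {F : Type*} [Field F] (P : FP F) (V : Type*) [AddCommGroup V] [Module F V] where
  B : V →ₛₗ[P.σ] V →ₗ[F] F
  Q : V → F
  symm : ∀ x y, B y x = P.ε * P.σ (B x y)
  Q_add : ∀ x y, Q (x + y) = Q x + Q y + P.τ (B x y)
  Q_smul : ∀ c x, Q (c • x) = P.σ c * c * Q x
  ex : ∀ x, ∃ a, P.τ a = Q x
  B_self : ∀ x a, P.τ a = Q x → B x x = a + P.ε * P.σ a

variable {F : Type*} [Field F] {P : FP F} {V : Type*} [AddCommGroup V] [Module F V]

namespace FP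
variable (P)
theorem ε_ne : P.ε ≠ 0 := fun h => by have := P.εε; rw [h, mul_zero] at this; exact zero_ne_one this
theorem σ_eq_zero {a : F} : P.σ a = 0 ↔ a = 0 := map_eq_zero_iff P.σ P.σ.injective
theorem σ_surj (a : F) : ∃ b, P.σ b = a := ⟨P.σ a, P.σσ a⟩
end FP

namespace FS
variable (f : FS P V)

@[simp] theorem B_smul_left (c : F) (x y : V) : f.B (c • x) y = P.σ c * f.B x y := by
  rw [map_smulₛₗ]; rfl

theorem B_smul_right (c : F) (x y : V) : f.B x (c • y) = c * f.B x y := by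
  rw [map_smul]; rfl

@[simp] theorem Q_zero : f.Q 0 = 0 := by
  have := f.Q_smul 0 0
  simpa using this

theorem Q_neg (x : V) : f.Q (-x) = f.Q x := by
  have := f.Q_smul (-1) x
  simpa using this

theorem Q_sub (x y : V) : f.Q (x - y) = f.Q x + f.Q y - P.τ (f.B x y) := by
  rw [sub_eq_add_neg, f.Q_add, f.Q_neg, map_neg, map_neg]; ring

variable {f}
theorem B_comm_zero {x y : V} (h : f.B x y = 0) : f.B y x = 0 := by
  rw [f.symm, h, map_zero, mul_zero]

theorem B_eq_zero_comm {x y : V} : f.B x y = 0 ↔ f.B y x = 0 := ⟨B_comm_zero, B_comm_zero⟩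

theorem B_ne_zero_comm {x y : V} (h : f.B x y ≠ 0) : f.B y x ≠ 0 := fun h' => h (B_comm_zero h')

theorem B_self_of_Q {x : V} (h : f.Q x = 0) : f.B x x = 0 := by
  simpa using f.B_self x 0 (by simp [h])

theorem Q_add_of_orth {x y : V} (h : f.B x y = 0) : f.Q (x + y) = f.Q x + f.Q y := by
  rw [f.Q_add, h, map_zero, add_zero]

variable (f)
theorem τ_B_comm (x y : V) : P.τ (f.B y x) = P.τ (f.B x y) := by
  rw [f.symm, P.τ_symm]

theorem isRefl : f.B.IsRefl := fun _ _ h => B_comm_zero h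

/-- The isometry group. -/
def Isom : Subgroup (V ≃ₗ[F] V) where
  carrier := {g | (∀ x y, f.B (g x) (g y) = f.B x y) ∧ ∀ x, f.Q (g x) = f.Q x}
  mul_mem' {a b} ha hb := ⟨fun x y => by simp [ha.1, hb.1], fun x => by simp [ha.2, hb.2]⟩
  one_mem' := ⟨fun _ _ => rfl, fun _ => rfl⟩
  inv_mem' {a} ha := ⟨fun x y => by rw [← ha.1]; simp, fun x => by rw [← ha.2]; simp⟩

variable {f}
theorem mem_Isom {g : V ≃ₗ[F] V} :
    g ∈ f.Isom ↔ (∀ x y, f.B (g x) (g y) = f.B x y) ∧ ∀ x, f.Q (g x) = f.Q x := Iff.rfl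

theorem Isom_B {g : V ≃ₗ[F] V} (hg : g ∈ f.Isom) (x y : V) : f.B (g x) (g y) = f.B x y := hg.1 x y
theorem Isom_Q {g : V ≃ₗ[F] V} (hg : g ∈ f.Isom) (x : V) : f.Q (g x) = f.Q x := hg.2 x
theorem Isom_B_symm {g : V ≃ₗ[F] V} (hg : g ∈ f.Isom) (x y : V) :
    f.B x (g.symm y) = f.B (g x) y := by rw [← hg.1]; simp
theorem Isom_B_symm' {g : V ≃ₗ[F] V} (hg : g ∈ f.Isom) (x y : V) :
    f.B (g.symm x) y = f.B x (g y) := by rw [← hg.1]; simp

variable (f)

/-! ### Generalized reflections -/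

/-- The linear map `x ↦ x - a⁻¹ B(p, x) p`. -/
def rMap (p : V) (a : F) : V →ₗ[F] V := LinearMap.id - (a⁻¹ • f.B p).smulRight p

theorem rMap_apply (p : V) (a : F) (x : V) : f.rMap p a x = x - (a⁻¹ * f.B p x) • p := rfl

theorem rMap_rMap {p : V} {a a' : F} (ha : a ≠ 0) (ha' : a' ≠ 0) (h : f.B p p = a + a') (x : V) :
    f.rMap p a' (f.rMap p a x) = x := by
  simp only [rMap_apply, map_sub, map_smul, h, smul_eq_mul]
  match_scalars
  · rfl
  · field_simp; ring

/-- Generalized reflection: a transvection, quasi-reflection or reflection. -/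
def refl (p : V) (a : F) (ha : a ≠ 0) (h : P.τ a = f.Q p) : V ≃ₗ[F] V :=
  LinearEquiv.ofLinear (f.rMap p a) (f.rMap p (P.ε * P.σ a))
    (LinearMap.ext fun x => f.rMap_rMap (mul_ne_zero P.ε_ne (by simpa using ha)) ha
      (by rw [f.B_self p a h, add_comm]) x)
    (LinearMap.ext fun x => f.rMap_rMap ha (mul_ne_zero P.ε_ne (by simpa using ha))
      (f.B_self p a h) x)

theorem refl_apply (p : V) (a : F) (ha : a ≠ 0) (h : P.τ a = f.Q p) (x : V) :
    f.refl p a ha h x = x - (a⁻¹ * f.B p x) • p := rfl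

theorem refl_mem (p : V) (a : F) (ha : a ≠ 0) (h : P.τ a = f.Q p) : f.refl p a ha h ∈ f.Isom := by
  have hσ : P.σ a ≠ 0 := by simpa using ha
  constructor
  · intro x y
    simp only [refl_apply, map_sub, LinearMap.sub_apply, B_smul_left, map_smul, smul_eq_mul,
      f.B_self p a h, f.symm p x, map_mul, map_inv₀]
    field_simp
    ring
  · intro x
    rw [refl_apply, Q_sub, Q_smul, ← h, ← P.τ_conj, f.τ_B_comm, B_smul_left]
    have : P.σ (a⁻¹ * f.B p x) * a * (a⁻¹ * f.B p x) = P.σ (a⁻¹ * f.B p x) * f.B p x := by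
      field_simp
    rw [this]; ring

/-- The set of generalized reflections. -/
def Refls : Set (V ≃ₗ[F] V) := {g | ∃ p a ha h, g = f.refl p a ha h}

theorem conj_refl {g : V ≃ₗ[F] V} (hg : g ∈ f.Isom) (p : V) (a : F) (ha : a ≠ 0)
    (h : P.τ a = f.Q p) :
    g * f.refl p a ha h * g⁻¹ = f.refl (g p) a ha (by rw [Isom_Q hg, h]) := by
  ext x
  simp [refl_apply, Isom_B_symm hg]

theorem det_refl [FiniteDimensional F V] (p : V) (a : F) (ha : a ≠ 0) (h : P.τ a = f.Q p) :
    ((f.refl p a ha h).det : F) = - (P.ε * P.σ a) * a⁻¹ := by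
  rw [LinearEquiv.coe_det]
  have : (f.refl p a ha h : V →ₗ[F] V) = LinearMap.transvection (-(a⁻¹ • f.B p)) p := by
    ext x
    simp [refl_apply, LinearMap.transvection.apply, sub_eq_add_neg]
  rw [this, LinearMap.transvection.det]
  simp [f.B_self p a h]
  field_simp
  ring

/-! ### Eichler transformations -/

/-- The linear map underlying an Eichler transformation. -/
def eMap (u v : V) (a : F) : V →ₗ[F] V :=
  LinearMap.id + (f.B u).smulRight v - (P.ε • f.B v).smulRight u - (P.σ a • f.B u).smulRight u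

theorem eMap_apply (u v : V) (a : F) (x : V) :
    f.eMap u v a x = x + f.B u x • v - (P.ε * f.B v x) • u - (P.σ a * f.B u x) • u := rfl

theorem eMap_eMap {u v w : V} (hu : f.Q u = 0) (hv : f.B u v = 0) (hw : f.B u w = 0) (a b : F)
    (x : V) : f.eMap u v a (f.eMap u w b x) = f.eMap u (v + w) (a + b + f.B w v) x := by
  simp only [eMap_apply, map_sub, map_add, map_smul, smul_eq_mul, B_self_of_Q hu, hw,
    B_comm_zero hv, LinearMap.add_apply, f.symm v w, map_mul, P.σε, P.σσ]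
  match_scalars <;> ring

theorem eMap_zero (u x : V) : f.eMap u 0 0 x = x := by simp [eMap_apply]

/-- Eichler (Siegel) transformation. -/
def eich (u v : V) (a : F) (hu : f.Q u = 0) (hv : f.B u v = 0) (h : P.τ a = f.Q v) : V ≃ₗ[F] V :=
  LinearEquiv.ofLinear (f.eMap u v a) (f.eMap u (-v) (P.ε * P.σ a))
    (LinearMap.ext fun x => by
      rw [LinearMap.comp_apply, f.eMap_eMap hu hv (by simp [hv])]
      simp [f.B_self v a h, eMap_zero])
    (LinearMap.ext fun x => by
      rw [LinearMap.comp_apply, f.eMap_eMap hu (by simp [hv]) hv]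
      have : P.ε * P.σ a + a + f.B v (-v) = 0 := by rw [map_neg, f.B_self v a h]; ring
      rw [this, neg_add_cancel, eMap_zero]; rfl)

theorem eich_apply (u v : V) (a : F) (hu : f.Q u = 0) (hv : f.B u v = 0) (h : P.τ a = f.Q v)
    (x : V) : f.eich u v a hu hv h x
      = x + f.B u x • v - (P.ε * f.B v x) • u - (P.σ a * f.B u x) • u := rfl

theorem eich_mem (u v : V) (a : F) (hu : f.Q u = 0) (hv : f.B u v = 0) (h : P.τ a = f.Q v) :
    f.eich u v a hu hv h ∈ f.Isom := by
  constructor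
  · intro x y
    simp only [eich_apply, map_sub, map_add, LinearMap.sub_apply, LinearMap.add_apply, B_smul_left,
      map_smul, smul_eq_mul, f.B_self v a h, f.symm u x, f.symm v x, map_mul, B_self_of_Q hu, hv,
      B_comm_zero hv, P.σε, P.σσ]
    linear_combination (-(P.σ (f.B u x) * f.B v y)) * P.εε
  · intro x
    rw [eich_apply, sub_sub, ← add_smul, Q_sub, Q_add, Q_smul, Q_smul, hu, ← h, ← P.τ_conj,
      f.τ_B_comm (_ • u), f.τ_B_comm (_ • v)]
    simp only [B_smul_left, map_add, map_smul, map_mul, smul_eq_mul, hv, P.σε, P.σσ, mul_zero,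
      add_zero, add_mul]
    have h1 : P.τ (P.ε * P.σ (f.B v x) * f.B u x) = P.τ (P.σ (f.B u x) * f.B v x) := by
      rw [← P.τ_symm (P.σ _ * _)]
      simp [P.σσ, mul_comm, mul_left_comm]
    rw [h1, mul_comm a]
    ring

theorem eich_mul {u v w : V} {a b : F} (hu : f.Q u = 0) (hv : f.B u v = 0) (hw : f.B u w = 0)
    (ha : P.τ a = f.Q v) (hb : P.τ b = f.Q w) :
    f.eich u v a hu hv ha * f.eich u w b hu hw hb =
      f.eich u (v + w) (a + b + f.B w v) hu (by simp [hv, hw])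
        (by rw [Q_add, map_add, map_add, ha, hb, f.τ_B_comm]) :=
  LinearEquiv.ext fun x => f.eMap_eMap hu hv hw a b x

theorem eich_zero {u : V} (hu : f.Q u = 0) :
    f.eich u 0 0 hu (by simp) (by simp) = 1 := LinearEquiv.ext fun x => f.eMap_zero u x

theorem eich_inv {u v : V} {a : F} (hu : f.Q u = 0) (hv : f.B u v = 0) (ha : P.τ a = f.Q v) :
    (f.eich u v a hu hv ha)⁻¹ =
      f.eich u (-v) (P.ε * P.σ a) hu (by simp [hv]) (by rw [P.τ_symm, Q_neg, ha]) :=
  LinearEquiv.ext fun _ => rfl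

theorem conj_eich {g : V ≃ₗ[F] V} (hg : g ∈ f.Isom) {u v : V} {a : F} (hu : f.Q u = 0)
    (hv : f.B u v = 0) (ha : P.τ a = f.Q v) :
    g * f.eich u v a hu hv ha * g⁻¹ = f.eich (g u) (g v) a (by rw [Isom_Q hg, hu])
      (by rw [Isom_B hg, hv]) (by rw [Isom_Q hg, ha]) := by
  ext x
  simp [eich_apply, Isom_B_symm hg]

theorem eich_smul {u v : V} {a : F} (c : F) (hu : f.Q u = 0) (hv : f.B (c • u) v = 0)
    (hv' : f.B u (P.σ c • v) = 0) (ha : P.τ a = f.Q v) :
    f.eich (c • u) v a (by rw [Q_smul, hu, mul_zero]) hv ha =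
      f.eich u (P.σ c • v) (c * a * P.σ c) hu hv'
        (by rw [Q_smul, ← ha, ← P.τ_conj, P.σσ]) := by
  ext x
  simp only [eich_apply, B_smul_left, map_mul, P.σσ, smul_smul]
  match_scalars <;> ring

theorem eich_apply_of_orth {u v : V} {a : F} (hu : f.Q u = 0) (hv : f.B u v = 0)
    (ha : P.τ a = f.Q v) {x : V} (h1 : f.B u x = 0) (h2 : f.B v x = 0) :
    f.eich u v a hu hv ha x = x := by
  simp [eich_apply, h1, h2]

theorem eich_apply_self {u v : V} {a : F} (hu : f.Q u = 0) (hv : f.B u v = 0)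
    (ha : P.τ a = f.Q v) : f.eich u v a hu hv ha u = u :=
  f.eich_apply_of_orth hu hv ha (B_self_of_Q hu) (B_comm_zero hv)

theorem det_eich [FiniteDimensional F V] {u v : V} {a : F} (hu : f.Q u = 0) (hv : f.B u v = 0)
    (ha : P.τ a = f.Q v) : (f.eich u v a hu hv ha).det = 1 := by
  apply Units.ext
  rw [LinearEquiv.coe_det]
  have : (f.eich u v a hu hv ha : V →ₗ[F] V) =
      LinearMap.transvection (f.B u) v ∘ₗ
        LinearMap.transvection (-(P.ε • f.B v) - P.σ a • f.B u) u := by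
    ext x
    simp only [LinearEquiv.coe_coe, eich_apply, LinearMap.comp_apply, LinearMap.transvection.apply,
      map_add, map_smul, B_self_of_Q hu, smul_eq_mul, LinearMap.sub_apply, LinearMap.neg_apply,
      LinearMap.smul_apply]
    match_scalars <;> ring
  rw [this, LinearMap.det_comp, LinearMap.transvection.det, LinearMap.transvection.det]
  simp [hv, B_comm_zero hv, B_self_of_Q hu]

/-! ### Nondegeneracy -/

/-- Nondegeneracy in the form used throughout: every functional is represented. -/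
def Nondeg : Prop := (∀ x, (∀ y, f.B x y = 0) → x = 0) ∧ ∀ φ : Dual F V, ∃ z, f.B z = φ

variable {f}

theorem nondeg_of_sep [FiniteDimensional F V] (h : ∀ x, (∀ y, f.B x y = 0) → x = 0) :
    f.Nondeg := by
  refine ⟨h, ?_⟩
  let b := Module.finBasis F V
  let c : V → V := fun x => ∑ i, P.σ (b.repr x i) • b i
  have hc : ∀ x, c (c x) = x := by
    intro x
    have : ∀ i, b.repr (c x) i = P.σ (b.repr x i) := by
      intro i
      simp [c, Finsupp.single_apply]
    simp only [c] at this ⊢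
    simp only [this, P.σσ, b.sum_repr]
  let L : V →ₗ[F] Dual F V :=
    { toFun := fun x => f.B (c x)
      map_add' := fun x y => by
        rw [← map_add]; congr 1; simp [c, add_smul, Finset.sum_add_distrib]
      map_smul' := fun a x => by
        have : c (a • x) = P.σ a • c x := by simp [c, Finset.smul_sum, mul_smul]
        rw [this, map_smulₛₗ, P.σσ]; rfl }
  have hL : Function.Injective L := by
    rw [injective_iff_map_eq_zero]
    intro x hx
    have : c x = 0 := h _ fun y => LinearMap.congr_fun hx y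
    rw [← hc x, this]; simp [c]
  have hs := (LinearMap.injective_iff_surjective_of_finrank_eq_finrank
    (Subspace.dual_finrank_eq).symm).1 hL
  intro φ
  obtain ⟨x, hx⟩ := hs φ
  exact ⟨c x, hx⟩

theorem Nondeg.eq_zero (hf : f.Nondeg) {x : V} (h : ∀ y, f.B x y = 0) : x = 0 := hf.1 x h

theorem Nondeg.eq_zero' (hf : f.Nondeg) {x : V} (h : ∀ y, f.B y x = 0) : x = 0 :=
  hf.1 x fun y => B_comm_zero (h y)

theorem Nondeg.exists_dual (hf : f.Nondeg) {H : Submodule F V} {u : V} (hu : u ∉ H) (c : F) :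
    ∃ z, (∀ h ∈ H, f.B z h = 0) ∧ f.B z u = c := by
  obtain ⟨φ, h1, h2⟩ := Submodule.exists_dual_map_eq_bot_of_notMem hu inferInstance
  obtain ⟨z, hz⟩ := hf.2 ((c * (φ u)⁻¹) • φ)
  refine ⟨z, fun h hh => ?_, ?_⟩
  · have : φ h = 0 := by
      have : φ h ∈ H.map φ := Submodule.mem_map_of_mem hh
      rwa [h2, Submodule.mem_bot] at this
    simp [hz, this]
  · simp [hz, h1]

theorem Nondeg.exists_dual₂ (hf : f.Nondeg) {H : Submodule F V} {u v : V} (hu : u ∉ H)
    (hv : v ∉ H) : ∃ z, (∀ h ∈ H, f.B z h = 0) ∧ f.B z u ≠ 0 ∧ f.B z v ≠ 0 := by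
  obtain ⟨z1, h1, h1u⟩ := hf.exists_dual hu 1
  obtain ⟨z2, h2, h2v⟩ := hf.exists_dual hv 1
  by_cases h1v : f.B z1 v = 0
  · by_cases h2u : f.B z2 u = 0
    · refine ⟨z1 + z2, fun h hh => by simp [h1 h hh, h2 h hh], by simp [h1u, h2u], by simp [h1v, h2v]⟩
    · exact ⟨z2, h2, h2u, by simp [h2v]⟩
  · exact ⟨z1, h1, by simp [h1u], h1v⟩

/-! ### Witt's lemma -/

/-- A vector is good if a generalized reflection is attached to it. -/
def Good (f : FS P V) (z : V) : Prop := ∃ a, a ≠ 0 ∧ P.τ a = f.Q z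

theorem good_of_Q_ne {z : V} (h : f.Q z ≠ 0) : f.Good z := by
  obtain ⟨a, ha⟩ := f.ex z
  exact ⟨a, fun h0 => h (by rw [← ha, h0, map_zero]), ha⟩

theorem good_of_ker {c : F} (hc : c ≠ 0) (hτ : P.τ c = 0) (z : V) : f.Good z := by
  by_cases h : f.Q z = 0
  · exact ⟨c, hc, by rw [hτ, h]⟩
  · exact good_of_Q_ne h

theorem witt_caseA {G : Subgroup (V ≃ₗ[F] V)} (hG : ∀ p a ha h, f.refl p a ha h ∈ G)
    {H : Submodule F V} {u v : V} (hB : ∀ h ∈ H, f.B u h = f.B v h) (hQ : f.Q u = f.Q v)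
    (hne : f.B (v - u) u ≠ 0) : ∃ g ∈ G, (∀ h ∈ H, g h = h) ∧ g u = v := by
  have hτ : P.τ (-f.B (v - u) u) = f.Q (v - u) := by
    have := f.Q_add (v - u) u
    rw [sub_add_cancel, hQ] at this
    rw [map_neg]; linear_combination this
  refine ⟨f.refl (v - u) _ (neg_ne_zero.2 hne) hτ, hG _ _ _ _, fun h hh => ?_, ?_⟩
  · simp [refl_apply, hB h hh]
  · rw [refl_apply, inv_neg, neg_mul, inv_mul_cancel₀ hne]; simp

theorem witt_step (hf : f.Nondeg) {G : Subgroup (V ≃ₗ[F] V)}
    (hG : ∀ p a ha h, f.refl p a ha h ∈ G)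
    (hE : ∀ u v hu hv h, f.Q v = 0 → ¬ f.Good u → f.eich u v 0 hu hv h ∈ G)
    {H : Submodule F V} {u v : V} (hu : u ∉ H) (hv : v ∉ H)
    (hB : ∀ h ∈ H, f.B u h = f.B v h) (hQ : f.Q u = f.Q v) :
    ∃ g ∈ G, (∀ h ∈ H, g h = h) ∧ g u = v := by
  by_cases hne : f.B (v - u) u ≠ 0
  · exact witt_caseA hG hB hQ hne
  push Not at hne
  set p := v - u with hp
  have hQp : f.Q p = 0 := by
    have := f.Q_add p u
    rw [hp, sub_add_cancel, hQ, ← hp, hne, map_zero] at this
    linear_combination -this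
  have hpv : f.B p v = 0 := by
    have : v = p + u := by simp [hp]
    rw [this, map_add, hne, B_self_of_Q hQp, add_zero]
  have hpH : ∀ h ∈ H, f.B p h = 0 := fun h hh => by simp [hp, hB h hh]
  -- two steps through a good vector
  have two : ∀ z, (∀ h ∈ H, f.B z h = 0) → f.B z u ≠ 0 → f.B z v ≠ 0 → f.Good z →
      ∃ g ∈ G, (∀ h ∈ H, g h = h) ∧ g u = v := by
    rintro z hzH hzu hzv ⟨a, ha, hτ⟩
    set t := -(a⁻¹ * f.B z u) with ht
    have ht0 : t ≠ 0 := neg_ne_zero.2 (mul_ne_zero (inv_ne_zero ha) hzu)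
    have hw : f.refl z a ha hτ u = u + t • z := by simp [refl_apply, ht, sub_eq_add_neg]
    have hQw : f.Q (u + t • z) = f.Q u := by rw [← hw, Isom_Q (f.refl_mem _ _ _ _)]
    obtain ⟨g, hg, hgH, hgv⟩ := witt_caseA (H := H) (u := v) (v := u + t • z) hG
      (fun h hh => by simp [hzH h hh, hB h hh]) (by rw [hQw, hQ]) (by
        have : u + t • z - v = t • z - p := by rw [hp]; abel
        rw [this, map_sub, LinearMap.sub_apply, hpv, sub_zero, B_smul_left]
        exact mul_ne_zero (by simpa using ht0) hzv)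
    refine ⟨g⁻¹ * f.refl z a ha hτ, G.mul_mem (G.inv_mem hg) (hG _ _ _ _), fun h hh => ?_, ?_⟩
    · have : f.refl z a ha hτ h = h := by simp [refl_apply, hzH h hh]
      rw [LinearEquiv.mul_apply, this, LinearEquiv.coe_inv, LinearEquiv.symm_apply_eq, hgH h hh]
    · rw [LinearEquiv.mul_apply, hw, LinearEquiv.coe_inv, LinearEquiv.symm_apply_eq, hgv]
  obtain ⟨z, hzH, hzu, hzv⟩ := hf.exists_dual₂ hu hv
  by_cases hgood : f.Good z
  · exact two z hzH hzu hzv hgood
  have hQz : f.Q z = 0 := by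
    by_contra h
    exact hgood (good_of_Q_ne h)
  by_cases hzp : f.B z p = 0
  · set z' := P.σ (f.B z u)⁻¹ • z with hz'
    have hQz' : f.Q z' = 0 := by rw [hz', Q_smul, hQz, mul_zero]
    have hz'p : f.B z' p = 0 := by rw [hz', B_smul_left, hzp, mul_zero]
    have hz'u : f.B z' u = 1 := by rw [hz', B_smul_left, P.σσ, inv_mul_cancel₀ hzu]
    refine ⟨f.eich z' p 0 hQz' hz'p (by simp [hQp]), hE _ _ _ _ _ hQp ?_, fun h hh => ?_, ?_⟩
    · rintro ⟨a, ha, hτ⟩
      exact hgood ⟨a, ha, by rw [hτ, hQz, hQz']⟩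
    · apply eich_apply_of_orth
      · rw [hz', B_smul_left, hzH h hh, mul_zero]
      · exact hpH h hh
    · rw [eich_apply, hz'u, hne, map_zero]; simp [hp]
  · refine two (z + p) (fun h hh => by simp [hzH h hh, hpH h hh]) (by simp [hne, hzu])
      (by simp [hpv, hzv]) ⟨f.B z p, hzp, by rw [Q_add, hQz, hQp]; simp⟩

/-- Witt's lemma, with control of the group that contains the extension. -/
theorem witt_gen (hf : f.Nondeg) {G : Subgroup (V ≃ₗ[F] V)} (hGI : G ≤ f.Isom)
    (hG : ∀ p a ha h, f.refl p a ha h ∈ G)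
    (hE : ∀ u v hu hv h, f.Q v = 0 → ¬ f.Good u → f.eich u v 0 hu hv h ∈ G)
    {U : Type*} [AddCommGroup U] [Module F U] [FiniteDimensional F U] (φ ψ : U →ₗ[F] V)
    (hφ : Function.Injective φ) (hψ : Function.Injective ψ)
    (hB : ∀ x y, f.B (φ x) (φ y) = f.B (ψ x) (ψ y)) (hQ : ∀ x, f.Q (φ x) = f.Q (ψ x)) :
    ∃ g ∈ G, ∀ x, g (φ x) = ψ x := by
  classical
  have key : ∀ s : Finset U, ∃ g ∈ G, ∀ x ∈ Submodule.span F (s : Set U), g (φ x) = ψ x := by
    intro s
    induction s using Finset.induction_on with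
    | empty => exact ⟨1, G.one_mem, fun x hx => by
        have : x = 0 := by simpa using hx
        simp [this]⟩
    | insert a s ha ih =>
      obtain ⟨g, hg, hgs⟩ := ih
      by_cases hmem : a ∈ Submodule.span F (s : Set U)
      · refine ⟨g, hg, fun x hx => hgs x ?_⟩
        rwa [Finset.coe_insert, Submodule.span_insert_eq_span hmem] at hx
      obtain ⟨g', hg', hH, hu⟩ := witt_step hf hG hE
        (H := (Submodule.span F (s : Set U)).map ψ) (u := g (φ a)) (v := ψ a)
        (by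
          rintro ⟨x, hx, hxa⟩
          rw [← hgs x hx] at hxa
          exact hmem (hφ (g.injective hxa) ▸ hx))
        (by
          rintro ⟨x, hx, hxa⟩
          exact hmem (hψ hxa ▸ hx))
        (by
          rintro _ ⟨x, hx, rfl⟩
          rw [← hB, ← hgs x hx, Isom_B (hGI hg)])
        (by rw [Isom_Q (hGI hg), hQ])
      refine ⟨g' * g, G.mul_mem hg' hg, fun x hx => ?_⟩
      rw [Finset.coe_insert, Submodule.mem_span_insert] at hx
      obtain ⟨c, y, hy, rfl⟩ := hx
      rw [LinearEquiv.mul_apply]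
      simp only [map_add, map_smul, hu, hgs y hy]
      rw [hH _ (Submodule.mem_map_of_mem hy)]
  obtain ⟨s, hs⟩ := Module.Finite.fg_top (R := F) (M := U)
  obtain ⟨g, hg, h⟩ := key s
  exact ⟨g, hg, fun x => h x (hs ▸ Submodule.mem_top)⟩

/-- Witt's lemma. -/
theorem witt (hf : f.Nondeg)
    {U : Type*} [AddCommGroup U] [Module F U] [FiniteDimensional F U] (φ ψ : U →ₗ[F] V)
    (hφ : Function.Injective φ) (hψ : Function.Injective ψ)
    (hB : ∀ x y, f.B (φ x) (φ y) = f.B (ψ x) (ψ y)) (hQ : ∀ x, f.Q (φ x) = f.Q (ψ x)) :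
    ∃ g ∈ f.Isom, ∀ x, g (φ x) = ψ x :=
  witt_gen hf le_rfl f.refl_mem (fun _ _ _ _ _ _ _ => f.eich_mem _ _ _ _ _ _) φ ψ hφ hψ hB hQ

/-- The isometry group is generated by generalized reflections and Siegel transformations. -/
theorem Isom_le_of_gen [FiniteDimensional F V] (hf : f.Nondeg) {G : Subgroup (V ≃ₗ[F] V)}
    (hG : ∀ p a ha h, f.refl p a ha h ∈ G)
    (hE : ∀ u v hu hv h, f.Q v = 0 → ¬ f.Good u → f.eich u v 0 hu hv h ∈ G) : f.Isom ≤ G := by
  intro g hg
  obtain ⟨g', hg', h⟩ := witt_gen hf (G := G ⊓ f.Isom) inf_le_right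
    (fun p a ha h => ⟨hG _ _ _ _, f.refl_mem _ _ _ _⟩)
    (fun u v hu hv h h1 h2 => ⟨hE _ _ _ _ _ h1 h2, f.eich_mem _ _ _ _ _ _⟩)
    LinearMap.id (g : V →ₗ[F] V) Function.injective_id g.injective
    (fun x y => (Isom_B hg x y).symm) (fun x => (Isom_Q hg x).symm)
  have : g' = g := LinearEquiv.ext h
  exact this ▸ hg'.1

theorem Q_sum {ι : Type*} (s : Finset ι) (v w : ι → V) (hB : ∀ i j, f.B (v i) (v j) = f.B (w i) (w j))
    (hQ : ∀ i, f.Q (v i) = f.Q (w i)) : f.Q (∑ i ∈ s, v i) = f.Q (∑ i ∈ s, w i) := by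
  classical
  induction s using Finset.induction_on with
  | empty => simp
  | insert a s ha ih =>
    rw [Finset.sum_insert ha, Finset.sum_insert ha, Q_add, Q_add, ih, hQ, map_sum, map_sum]
    simp [hB]

/-- Witt's lemma for linearly independent families. -/
theorem witt_family_gen (hf : f.Nondeg) {G : Subgroup (V ≃ₗ[F] V)} (hGI : G ≤ f.Isom)
    (hG : ∀ p a ha h, f.refl p a ha h ∈ G)
    (hE : ∀ u v hu hv h, f.Q v = 0 → ¬ f.Good u → f.eich u v 0 hu hv h ∈ G)
    {ι : Type*} [Finite ι] (v w : ι → V)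
    (hv : LinearIndependent F v) (hw : LinearIndependent F w)
    (hB : ∀ i j, f.B (v i) (v j) = f.B (w i) (w j)) (hQ : ∀ i, f.Q (v i) = f.Q (w i)) :
    ∃ g ∈ G, ∀ i, g (v i) = w i := by
  classical
  have := Fintype.ofFinite ι
  obtain ⟨g, hg, h⟩ := witt_gen hf hGI hG hE (Fintype.linearCombination F v)
    (Fintype.linearCombination F w)
    hv.fintypeLinearCombination_injective hw.fintypeLinearCombination_injective
    (fun x y => by simp [Fintype.linearCombination_apply, map_sum, LinearMap.sum_apply, hB])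
    (fun x => by
      simp only [Fintype.linearCombination_apply]
      exact Q_sum _ _ _ (fun i j => by simp [hB]) (fun i => by simp [f.Q_smul, hQ]))
  refine ⟨g, hg, fun i => ?_⟩
  simpa [Fintype.linearCombination_apply_single] using h (Pi.single i 1)

theorem witt_family (hf : f.Nondeg) {ι : Type*} [Finite ι] (v w : ι → V)
    (hv : LinearIndependent F v) (hw : LinearIndependent F w)
    (hB : ∀ i j, f.B (v i) (v j) = f.B (w i) (w j)) (hQ : ∀ i, f.Q (v i) = f.Q (w i)) :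
    ∃ g ∈ f.Isom, ∀ i, g (v i) = w i :=
  witt_family_gen hf le_rfl f.refl_mem (fun _ _ _ _ _ _ _ => f.eich_mem _ _ _ _ _ _) v w hv hw hB hQ

theorem witt_one (hf : f.Nondeg) {u v : V} (hu : u ≠ 0) (hv : v ≠ 0) (hQ : f.Q u = f.Q v) :
    ∃ g ∈ f.Isom, g u = v := by
  obtain ⟨g, hg, -, h⟩ := witt_step hf (H := ⊥) f.refl_mem
    (fun _ _ _ _ _ _ _ => f.eich_mem _ _ _ _ _ _) (by simpa) (by simpa)
    (fun h hh => by rw [Submodule.mem_bot] at hh; simp [hh]) hQ
  exact ⟨g, hg, h⟩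

end FS

end Cfsg.Agent.Class
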