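import Cfsg.Agent.Class.FS

/-! Orthogonal complements, restriction, transport of isometry groups, hyperbolic pairs. -/

set_option autoImplicit false

namespace Cfsg.Agent.Class

open Module

variable {F : Type*} [Field F] {P : FP F} {V : Type*} [AddCommGroup V] [Module F V]
  {U : Type*} [AddCommGroup U] [Module F U]

/-- Transport of automorphisms along a linear equivalence. -/
def autCongr (e : U ≃ₗ[F] V) : (U ≃ₗ[F] U) ≃* (V ≃ₗ[F] V) where
  toFun g := e.symm.trans (g.trans e)
  invFun g := e.trans (g.trans e.symm)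
  left_inv g := by ext x; simp
  right_inv g := by ext x; simp
  map_mul' g h := by ext x; simp

@[simp] theorem autCongr_apply (e : U ≃ₗ[F] V) (g : U ≃ₗ[F] U) (x : V) :
    autCongr e g x = e (g (e.symm x)) := rfl

@[simp] theorem autCongr_symm_apply (e : U ≃ₗ[F] V) (g : V ≃ₗ[F] V) (x : U) :
    (autCongr e).symm g x = e.symm (g (e x)) := rfl

theorem det_autCongr (e : U ≃ₗ[F] V) (g : U ≃ₗ[F] U) : (autCongr e g).det = g.det := by
  apply Units.ext
  rw [LinearEquiv.coe_det, LinearEquiv.coe_det, ← LinearMap.det_conj (g : U →ₗ[F] U) e]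
  rfl

/-- Automorphisms preserving a direct sum decomposition. -/
noncomputable def sumAut {W W' : Submodule F V} (h : IsCompl W W') :
    (W ≃ₗ[F] W) × (W' ≃ₗ[F] W') →* (V ≃ₗ[F] V) where
  toFun g := autCongr (W.prodEquivOfIsCompl W' h) (g.1.prodCongr g.2)
  map_one' := by rw [← map_one (autCongr (W.prodEquivOfIsCompl W' h))]; rfl
  map_mul' a b := by rw [← map_mul]; rfl

theorem sumAut_apply {W W' : Submodule F V} (h : IsCompl W W') (g : (W ≃ₗ[F] W) × (W' ≃ₗ[F] W'))
    (w : W) (w' : W') : sumAut h g (w + w') = g.1 w + g.2 w' := by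
  have : (w + w' : V) = W.prodEquivOfIsCompl W' h (w, w') := rfl
  rw [this]
  change autCongr _ _ _ = _
  rw [autCongr_apply, LinearEquiv.symm_apply_apply]
  rfl

theorem sumAut_apply_left {W W' : Submodule F V} (h : IsCompl W W')
    (g : (W ≃ₗ[F] W) × (W' ≃ₗ[F] W')) (w : W) : sumAut h g w = g.1 w := by
  simpa using sumAut_apply h g w 0

theorem sumAut_apply_right {W W' : Submodule F V} (h : IsCompl W W')
    (g : (W ≃ₗ[F] W) × (W' ≃ₗ[F] W')) (w : W') : sumAut h g w = g.2 w := by
  simpa using sumAut_apply h g 0 w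

theorem sumAut_injective {W W' : Submodule F V} (h : IsCompl W W') :
    Function.Injective (sumAut h) := by
  rw [injective_iff_map_eq_one]
  intro g hg
  ext x
  · have := sumAut_apply_left h g x
    rw [hg] at this; exact this.symm
  · have := sumAut_apply_right h g x
    rw [hg] at this; exact this.symm

theorem exists_add_of_isCompl {W W' : Submodule F V} (h : IsCompl W W') (x : V) :
    ∃ (w : W) (w' : W'), x = w + w' := by
  obtain ⟨a, b, hab, -⟩ := Submodule.existsUnique_add_of_isCompl h x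
  exact ⟨a, b, hab.symm⟩

/-- Restriction of an automorphism to an invariant subspace. -/
def resAut (W : Submodule F V) (g : V ≃ₗ[F] V) (h : ∀ x, x ∈ W ↔ g x ∈ W) : W ≃ₗ[F] W where
  toFun x := ⟨g x, (h x).1 x.2⟩
  invFun x := ⟨g.symm x, (h _).2 (by simp)⟩
  map_add' x y := by ext; simp
  map_smul' c x := by ext; simp
  left_inv x := by ext; simp
  right_inv x := by ext; simp

@[simp] theorem resAut_apply (W : Submodule F V) (g : V ≃ₗ[F] V) (h : ∀ x, x ∈ W ↔ g x ∈ W)
    (x : W) : (resAut W g h x : V) = g x := rfl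

theorem sumAut_resAut {W W' : Submodule F V} (h : IsCompl W W') (g : V ≃ₗ[F] V)
    (h1 : ∀ x, x ∈ W ↔ g x ∈ W) (h2 : ∀ x, x ∈ W' ↔ g x ∈ W') :
    sumAut h (resAut W g h1, resAut W' g h2) = g := by
  ext x
  obtain ⟨w, w', rfl⟩ := exists_add_of_isCompl h x
  rw [sumAut_apply]; simp

theorem det_sumAut [FiniteDimensional F V] {W W' : Submodule F V} (h : IsCompl W W')
    (g : (W ≃ₗ[F] W) × (W' ≃ₗ[F] W')) : (sumAut h g).det = g.1.det * g.2.det := by
  change (autCongr _ _).det = _
  rw [det_autCongr]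
  apply Units.ext
  rw [Units.val_mul, LinearEquiv.coe_det, LinearEquiv.coe_det, LinearEquiv.coe_det,
    ← LinearMap.det_prodMap]
  rfl

/-- The setwise stabilizer of a subspace. -/
def stab (W : Submodule F V) : Subgroup (V ≃ₗ[F] V) where
  carrier := {g | ∀ x, x ∈ W ↔ g x ∈ W}
  mul_mem' {a b} ha hb x := (hb x).trans (ha _)
  one_mem' _ := Iff.rfl
  inv_mem' {a} ha x := by
    have := ha (a⁻¹ x)
    simpa using this.symm

theorem mem_stab {W : Submodule F V} {g : V ≃ₗ[F] V} : g ∈ stab W ↔ ∀ x, x ∈ W ↔ g x ∈ W := Iff.rfl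

theorem mem_stab_of_le [FiniteDimensional F V] {W : Submodule F V} {g : V ≃ₗ[F] V}
    (h : ∀ x ∈ W, g x ∈ W) : g ∈ stab W := by
  have h1 : W.map (g : V →ₗ[F] V) = W := by
    apply Submodule.eq_of_le_of_finrank_eq
    · rintro _ ⟨x, hx, rfl⟩; exact h x hx
    · exact LinearEquiv.finrank_map_eq g W
  intro x
  refine ⟨h x, fun hx => ?_⟩
  rw [← h1] at hx
  obtain ⟨y, hy, hxy⟩ := hx
  exact g.injective hxy ▸ hy

/-- Restriction homomorphism. -/
def resHom (W : Submodule F V) : stab W →* (W ≃ₗ[F] W) where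
  toFun g := resAut W g.1 g.2
  map_one' := by ext; rfl
  map_mul' _ _ := by ext; rfl

@[simp] theorem resHom_apply (W : Submodule F V) (g : stab W) (x : W) :
    (resHom W g x : V) = g.1 x := rfl

/-- The pointwise stabilizer of a set of vectors. -/
def fix (S : Set V) : Subgroup (V ≃ₗ[F] V) where
  carrier := {g | ∀ x ∈ S, g x = x}
  mul_mem' {a b} ha hb x hx := by rw [LinearEquiv.mul_apply, hb x hx, ha x hx]
  one_mem' _ _ := rfl
  inv_mem' {a} ha x hx := by rw [LinearEquiv.coe_inv, LinearEquiv.symm_apply_eq, ha x hx]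

theorem mem_fix {S : Set V} {g : V ≃ₗ[F] V} : g ∈ fix S ↔ ∀ x ∈ S, g x = x := Iff.rfl

theorem fix_span (S : Set V) : (fix (Submodule.span F S : Set V) : Subgroup (V ≃ₗ[F] V)) = fix S := by
  ext g
  refine ⟨fun h x hx => h x (Submodule.subset_span hx), fun h x hx => ?_⟩
  induction hx using Submodule.span_induction with
  | mem x hx => exact h x hx
  | zero => simp
  | add x y _ _ h1 h2 => simp [h1, h2]
  | smul c x _ h1 => simp [h1]

/-- Orbit-stabilizer for a group of linear automorphisms. -/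
theorem card_eq_orbit_mul (G : Subgroup (V ≃ₗ[F] V)) (x : V) (S : Set V)
    (hS : ∀ y, y ∈ S ↔ ∃ g ∈ G, g x = y) :
    Nat.card G = Nat.card S * Nat.card (G ⊓ fix {x} : Subgroup (V ≃ₗ[F] V)) := by
  have h1 := (MulAction.stabilizer G x).index_mul_card
  rw [MulAction.index_stabilizer] at h1
  have h2 : MulAction.orbit G x = S := by
    ext y
    rw [hS]
    constructor
    · rintro ⟨g, rfl⟩; exact ⟨g, g.2, rfl⟩
    · rintro ⟨g, hg, rfl⟩; exact ⟨⟨g, hg⟩, rfl⟩
  have h3 : MulAction.stabilizer G x = (G ⊓ fix {x} : Subgroup (V ≃ₗ[F] V)).subgroupOf G := by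
    ext g
    simp [Subgroup.mem_subgroupOf, mem_fix, Subgroup.smul_def]
  rw [← h1, h2, h3, Nat.card_congr (Subgroup.subgroupOfEquivOfLe inf_le_left).toEquiv]
  rfl

namespace FS

/-- Pull back of a formed space along a linear map. -/
def comap (f : FS P V) (L : U →ₗ[F] V) : FS P U where
  B := (f.B.comp L).compl₂ L
  Q x := f.Q (L x)
  symm x y := f.symm _ _
  Q_add x y := by rw [map_add, f.Q_add]; rfl
  Q_smul c x := by rw [map_smul, f.Q_smul]
  ex x := f.ex _
  B_self x a h := f.B_self _ a h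

@[simp] theorem comap_B (f : FS P V) (L : U →ₗ[F] V) (x y : U) :
    (f.comap L).B x y = f.B (L x) (L y) := rfl

@[simp] theorem comap_Q (f : FS P V) (L : U →ₗ[F] V) (x : U) : (f.comap L).Q x = f.Q (L x) := rfl

/-- Restriction to a subspace. -/
abbrev res (f : FS P V) (W : Submodule F V) : FS P W := f.comap W.subtype

/-- `e` is an isometry from `f'` to `f`. -/
def IsIso (f' : FS P U) (f : FS P V) (e : U ≃ₗ[F] V) : Prop :=
  (∀ x y, f.B (e x) (e y) = f'.B x y) ∧ ∀ x, f.Q (e x) = f'.Q x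

variable {f : FS P V} {f' : FS P U}

theorem IsIso.symm {e : U ≃ₗ[F] V} (h : f'.IsIso f e) : f.IsIso f' e.symm :=
  ⟨fun x y => by rw [← h.1]; simp, fun x => by rw [← h.2]; simp⟩

theorem IsIso.autCongr_mem {e : U ≃ₗ[F] V} (h : f'.IsIso f e) {g : U ≃ₗ[F] U} :
    autCongr e g ∈ f.Isom ↔ g ∈ f'.Isom := by
  constructor
  · intro hg
    exact ⟨fun x y => by simpa [h.1] using hg.1 (e x) (e y), fun x => by simpa [h.2] using hg.2 (e x)⟩
  · intro hg
    exact ⟨fun x y => by simp [h.1, hg.1, h.symm.1], fun x => by simp [h.2, hg.2, h.symm.2]⟩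

theorem IsIso.map_Isom {e : U ≃ₗ[F] V} (h : f'.IsIso f e) :
    f'.Isom.map (autCongr e).toMonoidHom = f.Isom := by
  ext g
  rw [Subgroup.mem_map_equiv, ← h.autCongr_mem, MulEquiv.apply_symm_apply]

/-- Isometric spaces have isomorphic isometry groups. -/
noncomputable def IsIso.isomEquiv {e : U ≃ₗ[F] V} (h : f'.IsIso f e) : f'.Isom ≃* f.Isom :=
  ((autCongr e).subgroupMap f'.Isom).trans (MulEquiv.subgroupCongr h.map_Isom)

theorem IsIso.card_Isom {e : U ≃ₗ[F] V} (h : f'.IsIso f e) : Nat.card f'.Isom = Nat.card f.Isom :=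
  Nat.card_congr h.isomEquiv.toEquiv

theorem IsIso.nondeg [FiniteDimensional F U] {e : U ≃ₗ[F] V} (h : f'.IsIso f e) (hf : f.Nondeg) :
    f'.Nondeg :=
  nondeg_of_sep fun x hx => by
    have : e x = 0 := hf.eq_zero fun y => by rw [← e.apply_symm_apply y, h.1, hx]
    simpa using this

/-- An isometry determined on bases. -/
theorem isIso_of_basis {ι : Type*} [Finite ι] (b' : Basis ι F U) (b : Basis ι F V)
    (hB : ∀ i j, f.B (b i) (b j) = f'.B (b' i) (b' j)) (hQ : ∀ i, f.Q (b i) = f'.Q (b' i)) :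
    f'.IsIso f (b'.equiv b (Equiv.refl ι)) := by
  classical
  have := Fintype.ofFinite ι
  have hBB : ∀ x y, f.B (b'.equiv b (Equiv.refl ι) x) (b'.equiv b (Equiv.refl ι) y) = f'.B x y := by
    intro x y
    rw [← b'.sum_repr x, ← b'.sum_repr y]
    simp only [map_sum, LinearMap.sum_apply, map_smul, B_smul_left, Basis.equiv_apply,
      Equiv.refl_apply, hB]
  refine ⟨hBB, fun x => ?_⟩
  rw [← b'.sum_repr x]
  induction (Finset.univ : Finset ι) using Finset.induction_on with
  | empty => simp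
  | insert a s ha ih =>
    rw [Finset.sum_insert ha, map_add, Q_add, Q_add, ih, hBB]
    simp [f.Q_smul, f'.Q_smul, hQ]

/-! ### Orthogonal complements -/

/-- Orthogonal complement. -/
def perp (f : FS P V) (W : Submodule F V) : Submodule F V := W.orthogonalBilin f.B

theorem mem_perp {W : Submodule F V} {x : V} : x ∈ f.perp W ↔ ∀ w ∈ W, f.B w x = 0 := Iff.rfl

theorem mem_perp' {W : Submodule F V} {x : V} : x ∈ f.perp W ↔ ∀ w ∈ W, f.B x w = 0 :=
  ⟨fun h w hw => B_comm_zero (h w hw), fun h w hw => B_comm_zero (h w hw)⟩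

theorem mem_perp_span {S : Set V} {x : V} :
    x ∈ f.perp (Submodule.span F S) ↔ ∀ w ∈ S, f.B w x = 0 := by
  refine ⟨fun h w hw => h w (Submodule.subset_span hw), fun h w hw => ?_⟩
  induction hw using Submodule.span_induction with
  | mem x hx => exact h x hx
  | zero => simp
  | add x y _ _ h1 h2 => simp [h1, h2]
  | smul c x _ h1 => simp [h1]

theorem perp_anti {W W' : Submodule F V} (h : W ≤ W') : f.perp W' ≤ f.perp W :=
  fun _ hx w hw => hx w (h hw)

theorem le_perp_perp (W : Submodule F V) : W ≤ f.perp (f.perp W) :=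
  fun _ hx _ hw => B_comm_zero (hw _ hx)

theorem perp_sup (W W' : Submodule F V) : f.perp (W ⊔ W') = f.perp W ⊓ f.perp W' := by
  refine le_antisymm (le_inf (perp_anti le_sup_left) (perp_anti le_sup_right)) ?_
  rintro x ⟨h1, h2⟩ w hw
  obtain ⟨a, ha, b, hb, rfl⟩ := Submodule.mem_sup.1 hw
  simp [h1 a ha, h2 b hb]

theorem Nondeg.perp_perp (hf : f.Nondeg) (W : Submodule F V) : f.perp (f.perp W) = W := by
  refine le_antisymm (fun x hx => ?_) (le_perp_perp W)
  by_contra h
  obtain ⟨z, hz, hzx⟩ := hf.exists_dual h 1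
  rw [hx z (mem_perp'.2 hz)] at hzx
  exact zero_ne_one hzx

theorem Nondeg.exists_dual_family (hf : f.Nondeg) {ι : Type*} {v : ι → V}
    (hv : LinearIndependent F v) (c : ι → F) : ∃ z, ∀ i, f.B (v i) z = c i := by
  obtain ⟨φ, hφ⟩ := LinearMap.exists_extend
    ((Basis.span hv).constr F (fun i => P.ε * P.σ (c i)))
  obtain ⟨z, hz⟩ := hf.2 φ
  refine ⟨z, fun i => ?_⟩
  have := LinearMap.congr_fun hφ (Basis.span hv i)
  rw [Basis.constr_basis, LinearMap.comp_apply, Submodule.subtype_apply, Basis.span_apply] at this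
  rw [f.symm, hz, this, map_mul, P.σε, P.σσ, ← mul_assoc, P.εε, one_mul]

theorem Nondeg.finrank_perp [FiniteDimensional F V] (hf : f.Nondeg) (W : Submodule F V) :
    finrank F W + finrank F (f.perp W) = finrank F V := by
  let b := Module.finBasis F W
  let L : V →ₗ[F] (Fin (finrank F W) → F) := LinearMap.pi fun i => f.B (b i)
  have hL : LinearMap.range L = ⊤ := by
    rw [LinearMap.range_eq_top]
    intro c
    obtain ⟨z, hz⟩ := hf.exists_dual_family
      (b.linearIndependent.map' W.subtype (Submodule.ker_subtype W)) c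
    exact ⟨z, funext hz⟩
  have hk : LinearMap.ker L = f.perp W := by
    ext x
    have hW : W = Submodule.span F (Set.range fun i => (b i : V)) := by
      have := congrArg (Submodule.map W.subtype) b.span_eq
      rw [Submodule.map_span, Submodule.map_top, Submodule.range_subtype, ← Set.range_comp] at this
      exact this.symm
    conv_rhs => rw [hW]
    rw [mem_perp_span]
    simp [L, funext_iff]
  have := L.finrank_range_add_finrank_ker
  rw [hL, hk] at this
  simpa using this

theorem Nondeg.perp_inf [FiniteDimensional F V] (hf : f.Nondeg) (W W' : Submodule F V) :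
    f.perp (W ⊓ W') = f.perp W ⊔ f.perp W' := by
  rw [← hf.perp_perp (f.perp W ⊔ f.perp W'), perp_sup, hf.perp_perp, hf.perp_perp]

theorem Nondeg.isCompl_perp [FiniteDimensional F V] (hf : f.Nondeg) {W : Submodule F V}
    (h : Disjoint W (f.perp W)) : IsCompl W (f.perp W) := by
  refine ⟨h, codisjoint_iff.2 ?_⟩
  apply Submodule.eq_top_of_finrank_eq
  have h1 := Submodule.finrank_sup_add_finrank_inf_eq W (f.perp W)
  rw [h.eq_bot, finrank_bot, hf.finrank_perp] at h1
  simpa using h1

theorem nondeg_res [FiniteDimensional F V] {W : Submodule F V} (h : Disjoint W (f.perp W)) :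
    (f.res W).Nondeg :=
  nondeg_of_sep fun x hx => by
    have : (x : V) ∈ W ⊓ f.perp W := ⟨x.2, mem_perp'.2 fun w hw => hx ⟨w, hw⟩⟩
    rw [h.eq_bot] at this
    exact Subtype.ext this

theorem Nondeg.disjoint_of_res {W : Submodule F V} (h : (f.res W).Nondeg) :
    Disjoint W (f.perp W) := by
  rw [Submodule.disjoint_def]
  intro x hx hx'
  have : (⟨x, hx⟩ : W) = 0 := h.eq_zero fun y => mem_perp'.1 hx' y y.2
  exact congrArg Subtype.val this

theorem Nondeg.nondeg_perp [FiniteDimensional F V] (hf : f.Nondeg) {W : Submodule F V}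
    (h : Disjoint W (f.perp W)) : (f.res (f.perp W)).Nondeg :=
  nondeg_res (by rw [hf.perp_perp]; exact h.symm)

theorem mem_stab_perp {W : Submodule F V} {g : V ≃ₗ[F] V} (hg : g ∈ f.Isom) (hW : g ∈ stab W) :
    g ∈ stab (f.perp W) := by
  intro x
  constructor
  · intro hx w hw
    rw [← Isom_B_symm' hg]
    exact hx _ ((hW _).2 (by simpa using hw))
  · intro hx w hw
    rw [← Isom_B hg]
    exact hx _ ((hW _).1 hw)

theorem fix_le_stab (W : Submodule F V) : (fix (W : Set V) : Subgroup (V ≃ₗ[F] V)) ≤ stab W := by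
  intro g hg x
  refine ⟨fun hx => by rwa [hg x hx], fun hx => ?_⟩
  have := hg _ hx
  rwa [← g.injective this]

theorem sumAut_mem_Isom {W : Submodule F V} (h : IsCompl W (f.perp W))
    {g : (W ≃ₗ[F] W) × (f.perp W ≃ₗ[F] f.perp W)} :
    sumAut h g ∈ f.Isom ↔ g.1 ∈ (f.res W).Isom ∧ g.2 ∈ (f.res (f.perp W)).Isom := by
  constructor
  · intro hg
    refine ⟨⟨fun x y => ?_, fun x => ?_⟩, ⟨fun x y => ?_, fun x => ?_⟩⟩
    · simpa [sumAut_apply_left] using hg.1 x y
    · simpa [sumAut_apply_left] using hg.2 x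
    · simpa [sumAut_apply_right] using hg.1 x y
    · simpa [sumAut_apply_right] using hg.2 x
  · rintro ⟨h1, h2⟩
    have o1 : ∀ (w : W) (w' : f.perp W), f.B w w' = 0 := fun w w' => w'.2 w w.2
    have o2 : ∀ (w : W) (w' : f.perp W), f.B w' w = 0 := fun w w' => B_comm_zero (o1 w w')
    constructor
    · intro x y
      obtain ⟨a, a', rfl⟩ := exists_add_of_isCompl h x
      obtain ⟨b, b', rfl⟩ := exists_add_of_isCompl h y
      have e1 := h1.1 a b
      have e2 := h2.1 a' b'
      simp only [comap_B, Submodule.subtype_apply] at e1 e2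
      simp [sumAut_apply_left, sumAut_apply_right, o1, o2, e1, e2]
    · intro x
      obtain ⟨a, a', rfl⟩ := exists_add_of_isCompl h x
      have e1 := h1.2 a
      have e2 := h2.2 a'
      simp only [comap_Q, Submodule.subtype_apply] at e1 e2
      rw [sumAut_apply, Q_add_of_orth (o1 _ _), Q_add_of_orth (o1 _ _), e1, e2]

theorem map_sumAut_prod {W : Submodule F V} (h : IsCompl W (f.perp W)) :
    ((f.res W).Isom.prod (f.res (f.perp W)).Isom).map (sumAut h) = f.Isom ⊓ stab W := by
  ext g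
  constructor
  · rintro ⟨a, ha, rfl⟩
    refine ⟨(sumAut_mem_Isom h).2 ha, fun x => ⟨fun hx => ?_, fun hx => ?_⟩⟩
    · rw [sumAut_apply_left h a ⟨x, hx⟩]; exact (a.1 _).2
    · obtain ⟨w, w', rfl⟩ := exists_add_of_isCompl h x
      rw [sumAut_apply, add_mem_cancel_left (a.1 w).2] at hx
      have : (a.2 w' : V) = 0 := (Submodule.disjoint_def.1 h.disjoint) _ hx (a.2 w').2
      have : w' = 0 := by simpa using this
      simp [this]
  · rintro ⟨hg, hW⟩
    have := sumAut_resAut h g hW (mem_stab_perp hg hW)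
    exact ⟨_, (sumAut_mem_Isom h).1 (this.symm ▸ hg), this⟩

/-- The stabilizer of a nondegenerate subspace. -/
noncomputable def stabEquivProd {W : Submodule F V} (h : IsCompl W (f.perp W)) :
    (f.Isom ⊓ stab W : Subgroup (V ≃ₗ[F] V)) ≃* (f.res W).Isom × (f.res (f.perp W)).Isom :=
  ((MulEquiv.subgroupCongr (map_sumAut_prod h).symm).trans
    (Subgroup.equivMapOfInjective _ _ (sumAut_injective h)).symm).trans (Subgroup.prodEquiv _ _)

theorem card_fix_eq {W : Submodule F V} (h : IsCompl W (f.perp W)) (S : Set (f.perp W)) :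
    Nat.card (f.Isom ⊓ fix ((W : Set V) ∪ Subtype.val '' S) : Subgroup (V ≃ₗ[F] V)) =
      Nat.card ((f.res (f.perp W)).Isom ⊓ fix S : Subgroup (f.perp W ≃ₗ[F] f.perp W)) := by
  have hinj : Function.Injective ((sumAut h).comp (MonoidHom.inr _ _)) :=
    (sumAut_injective h).comp fun a b hab => congrArg Prod.snd hab
  rw [← Subgroup.card_map_of_injective hinj]
  congr 2
  ext g
  constructor
  · rintro ⟨hg, hfix⟩
    have hW : g ∈ stab W := fix_le_stab W fun x hx => hfix x (Or.inl hx)
    have h0 := sumAut_resAut h g hW (mem_stab_perp hg hW)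
    have h1 : resAut W g hW = 1 := by
      ext x; exact hfix x (Or.inl x.2)
    have h2 : sumAut h (resAut W g hW, resAut (f.perp W) g (mem_stab_perp hg hW)) ∈ f.Isom := by
      rw [h0]; exact hg
    have h3 := ((sumAut_mem_Isom h).1 h2).2
    rw [h1] at h0
    refine ⟨resAut (f.perp W) g (mem_stab_perp hg hW), ⟨h3, fun x hx => ?_⟩, h0⟩
    exact Subtype.ext (hfix x (Or.inr ⟨x, hx, rfl⟩))
  · rintro ⟨a, ⟨ha, hfix⟩, rfl⟩
    refine ⟨(sumAut_mem_Isom h).2 ⟨Subgroup.one_mem _, ha⟩, ?_⟩
    rintro x (hx | ⟨y, hy, rfl⟩)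
    · exact sumAut_apply_left h _ ⟨x, hx⟩
    · exact (sumAut_apply_right h _ y).trans (congrArg Subtype.val (hfix y hy))

theorem card_fix_eq' {W : Submodule F V} (h : IsCompl W (f.perp W)) :
    Nat.card (f.Isom ⊓ fix (W : Set V) : Subgroup (V ≃ₗ[F] V)) =
      Nat.card (f.res (f.perp W)).Isom := by
  have := card_fix_eq h ∅
  have h2 : (fix ∅ : Subgroup (f.perp W ≃ₗ[F] f.perp W)) = ⊤ := by
    ext g; simp [mem_fix]
  rwa [Set.image_empty, Set.union_empty, h2, inf_top_eq] at this

end FS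

end Cfsg.Agent.Class
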