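import Cfsg.Agent.Class.FS2

/-! The three kinds of formed spaces; hyperbolic pairs; counting. -/

set_option autoImplicit false

namespace Cfsg.Agent.Class

open Module

section inst
variable (F : Type*) [Field F]

/-- Symplectic form parameter. -/
def FP.sp : FP F where
  σ := RingHom.id F
  ε := -1
  τ := 0
  σσ _ := rfl
  εε := by ring
  σε := rfl
  τ_conj _ _ := by simp
  τ_symm _ := rfl

/-- Orthogonal form parameter. -/
def FP.orth : FP F where
  σ := RingHom.id F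
  ε := 1
  τ := AddMonoidHom.id F
  σσ _ := rfl
  εε := by ring
  σε := rfl
  τ_conj _ _ := by simp; ring
  τ_symm _ := by simp

variable {F}

/-- Unitary form parameter. -/
def FP.herm (σ : F →+* F) (hσ : ∀ a, σ (σ a) = a) : FP F where
  σ := σ
  ε := 1
  τ := AddMonoidHom.id F + σ.toAddMonoidHom
  σσ := hσ
  εε := by ring
  σε := map_one σ
  τ_conj _ _ := by simp [hσ]; ring
  τ_symm _ := by simp [hσ]; ring

@[simp] theorem FP.herm_τ (σ : F →+* F) (hσ : ∀ a, σ (σ a) = a) (a : F) :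
    (FP.herm σ hσ).τ a = a + σ a := rfl
@[simp] theorem FP.herm_σ (σ : F →+* F) (hσ : ∀ a, σ (σ a) = a) (a : F) :
    (FP.herm σ hσ).σ a = σ a := rfl
@[simp] theorem FP.herm_ε (σ : F →+* F) (hσ : ∀ a, σ (σ a) = a) : (FP.herm σ hσ).ε = 1 := rfl
@[simp] theorem FP.sp_τ (a : F) : (FP.sp F).τ a = 0 := rfl
@[simp] theorem FP.sp_σ (a : F) : (FP.sp F).σ a = a := rfl
@[simp] theorem FP.sp_ε : (FP.sp F).ε = -1 := rfl
@[simp] theorem FP.orth_τ (a : F) : (FP.orth F).τ a = a := rfl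
@[simp] theorem FP.orth_σ (a : F) : (FP.orth F).σ a = a := rfl
@[simp] theorem FP.orth_ε : (FP.orth F).ε = 1 := rfl

theorem exists_trace_eq {σ : F →+* F} (hσ : ∀ a, σ (σ a) = a) (hσ1 : σ ≠ RingHom.id F) {b : F}
    (hb : σ b = b) : ∃ a, a + σ a = b := by
  have : ∃ d, d + σ d ≠ 0 := by
    by_contra h
    push Not at h
    apply hσ1
    have h2 : (2 : F) = 0 := by have := h 1; rw [map_one] at this; linear_combination this
    ext a
    simp only [RingHom.id_apply]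
    linear_combination h a - a * h2
  obtain ⟨d, hd⟩ := this
  have h1 : σ (d + σ d) = d + σ d := by rw [map_add, hσ, add_comm]
  refine ⟨b * d / (d + σ d), ?_⟩
  rw [map_div₀, h1, map_mul, hb]
  field_simp

theorem exists_trace_zero {σ : F →+* F} (hσ : ∀ a, σ (σ a) = a) (hσ1 : σ ≠ RingHom.id F) :
    ∃ a, a ≠ 0 ∧ a + σ a = 0 := by
  have : ∃ d, σ d ≠ d := by
    by_contra h
    push Not at h
    exact hσ1 (RingHom.ext h)
  obtain ⟨d, hd⟩ := this
  exact ⟨σ d - d, sub_ne_zero.2 hd, by rw [map_sub, hσ]; ring⟩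

variable {V : Type*} [AddCommGroup V] [Module F V]

/-- A symplectic space. -/
def FS.ofAlt (B : LinearMap.BilinForm F V) (hA : ∀ x, B x x = 0) : FS (FP.sp F) V where
  B := B
  Q _ := 0
  symm x y := by
    have := hA (x + y)
    simp only [map_add, LinearMap.add_apply, hA] at this
    change B y x = -1 * B x y
    linear_combination this
  Q_add _ _ := by simp
  Q_smul _ _ := by simp
  ex _ := ⟨0, rfl⟩
  B_self x a _ := by
    change B x x = a + -1 * a
    simp [hA]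

/-- An orthogonal space. -/
def FS.ofQuad (Q : QuadraticForm F V) : FS (FP.orth F) V where
  B := QuadraticMap.polarBilin Q
  Q := Q
  symm x y := by
    change QuadraticMap.polar Q y x = 1 * QuadraticMap.polar Q x y
    simp [QuadraticMap.polar_comm]
  Q_add x y := by
    change Q (x + y) = Q x + Q y + QuadraticMap.polar Q x y
    simp [QuadraticMap.polar]
  Q_smul c x := by simp [QuadraticMap.map_smul]
  ex x := ⟨Q x, rfl⟩
  B_self x a h := by
    change QuadraticMap.polar Q x x = a + 1 * a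
    simp only [FP.orth_τ] at h
    simp [h, two_mul]

/-- A unitary space. -/
def FS.ofHerm {σ : F →+* F} (hσ : ∀ a, σ (σ a) = a) (hσ1 : σ ≠ RingHom.id F)
    (B : V →ₛₗ[σ] V →ₗ[F] F) (hS : ∀ x y, σ (B x y) = B y x) : FS (FP.herm σ hσ) V where
  B := B
  Q x := B x x
  symm x y := by
    change B y x = 1 * σ (B x y)
    simp [hS]
  Q_add x y := by
    change B (x + y) (x + y) = B x x + B y y + (B x y + σ (B x y))
    simp [hS]; ring
  Q_smul c x := by simp; ring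
  ex x := exists_trace_eq hσ hσ1 (hS x x)
  B_self x a h := by
    change B x x = a + 1 * σ a
    rw [← h]; simp

@[simp] theorem FS.ofAlt_B (B : LinearMap.BilinForm F V) (hA : ∀ x, B x x = 0) (x y : V) :
    (FS.ofAlt B hA).B x y = B x y := rfl
@[simp] theorem FS.ofAlt_Q (B : LinearMap.BilinForm F V) (hA : ∀ x, B x x = 0) (x : V) :
    (FS.ofAlt B hA).Q x = 0 := rfl
@[simp] theorem FS.ofQuad_B (Q : QuadraticForm F V) (x y : V) :
    (FS.ofQuad Q).B x y = QuadraticMap.polar Q x y := rfl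
@[simp] theorem FS.ofQuad_Q (Q : QuadraticForm F V) (x : V) : (FS.ofQuad Q).Q x = Q x := rfl
@[simp] theorem FS.ofHerm_B {σ : F →+* F} (hσ : ∀ a, σ (σ a) = a) (hσ1 : σ ≠ RingHom.id F)
    (B : V →ₛₗ[σ] V →ₗ[F] F) (hS : ∀ x y, σ (B x y) = B y x) (x y : V) :
    (FS.ofHerm hσ hσ1 B hS).B x y = B x y := rfl
@[simp] theorem FS.ofHerm_Q {σ : F →+* F} (hσ : ∀ a, σ (σ a) = a) (hσ1 : σ ≠ RingHom.id F)
    (B : V →ₛₗ[σ] V →ₗ[F] F) (hS : ∀ x y, σ (B x y) = B y x) (x : V) :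
    (FS.ofHerm hσ hσ1 B hS).Q x = B x x := rfl

theorem FS.sp_Q (f : FS (FP.sp F) V) (x : V) : f.Q x = 0 := by
  obtain ⟨a, ha⟩ := f.ex x
  exact ha.symm

theorem FS.sp_symm (f : FS (FP.sp F) V) (x y : V) : f.B y x = - f.B x y := by
  rw [f.symm]; simp

theorem FS.sp_self (f : FS (FP.sp F) V) (x : V) : f.B x x = 0 := FS.B_self_of_Q (f.sp_Q x)

theorem FS.sp_mem_Isom {f : FS (FP.sp F) V} {g : V ≃ₗ[F] V} :
    g ∈ f.Isom ↔ ∀ x y, f.B (g x) (g y) = f.B x y :=
  ⟨fun h => h.1, fun h => ⟨h, fun x => by rw [f.sp_Q, f.sp_Q]⟩⟩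

theorem FS.orth_symm (f : FS (FP.orth F) V) (x y : V) : f.B y x = f.B x y := by
  rw [f.symm]; simp

theorem FS.orth_Q_add (f : FS (FP.orth F) V) (x y : V) :
    f.Q (x + y) = f.Q x + f.Q y + f.B x y := f.Q_add x y

theorem FS.orth_Q_smul (f : FS (FP.orth F) V) (c : F) (x : V) :
    f.Q (c • x) = c * c * f.Q x := f.Q_smul c x

theorem FS.orth_self (f : FS (FP.orth F) V) (x : V) : f.B x x = 2 * f.Q x := by
  rw [f.B_self x (f.Q x) rfl]; simp [two_mul]

theorem FS.orth_mem_Isom {f : FS (FP.orth F) V} {g : V ≃ₗ[F] V} :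
    g ∈ f.Isom ↔ ∀ x, f.Q (g x) = f.Q x :=
  ⟨fun h => h.2, fun h => ⟨fun x y => by
    have h1 := f.orth_Q_add (g x) (g y)
    rw [← map_add, h, h, h, f.orth_Q_add] at h1
    linear_combination -h1, h⟩⟩

theorem FS.orth_good {f : FS (FP.orth F) V} {z : V} : f.Good z ↔ f.Q z ≠ 0 :=
  ⟨fun ⟨a, ha, h⟩ => h ▸ ha, FS.good_of_Q_ne⟩

theorem FS.herm_Q {σ : F →+* F} {hσ : ∀ a, σ (σ a) = a} (f : FS (FP.herm σ hσ) V) (x : V) :
    f.Q x = f.B x x := by
  obtain ⟨a, ha⟩ := f.ex x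
  rw [f.B_self x a ha, ← ha]; simp

theorem FS.herm_symm {σ : F →+* F} {hσ : ∀ a, σ (σ a) = a} (f : FS (FP.herm σ hσ) V) (x y : V) :
    f.B y x = σ (f.B x y) := by
  rw [f.symm]; simp

theorem FS.herm_mem_Isom {σ : F →+* F} {hσ : ∀ a, σ (σ a) = a} {f : FS (FP.herm σ hσ) V}
    {g : V ≃ₗ[F] V} : g ∈ f.Isom ↔ ∀ x y, f.B (g x) (g y) = f.B x y :=
  ⟨fun h => h.1, fun h => ⟨h, fun x => by rw [f.herm_Q, f.herm_Q, h]⟩⟩

end inst

variable {F : Type*} [Field F] {P : FP F} {V : Type*} [AddCommGroup V] [Module F V]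

namespace FS

/-- Hyperbolic pairs. -/
structure IsHyp (f : FS P V) (u v : V) : Prop where
  Q1 : f.Q u = 0
  Q2 : f.Q v = 0
  B12 : f.B u v = 1

variable {f : FS P V} {u v : V}

theorem IsHyp.B21 (h : f.IsHyp u v) : f.B v u = P.ε := by rw [f.symm, h.B12, map_one, mul_one]
theorem IsHyp.B11 (h : f.IsHyp u v) : f.B u u = 0 := B_self_of_Q h.Q1
theorem IsHyp.B22 (h : f.IsHyp u v) : f.B v v = 0 := B_self_of_Q h.Q2
theorem IsHyp.ne1 (h : f.IsHyp u v) : u ≠ 0 := fun h0 => by simpa [h0] using h.B12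
theorem IsHyp.ne2 (h : f.IsHyp u v) : v ≠ 0 := fun h0 => by simpa [h0] using h.B12
theorem IsHyp.swap (h : f.IsHyp u v) : f.IsHyp v (P.ε • u) :=
  ⟨h.Q2, by rw [Q_smul, h.Q1, mul_zero], by rw [map_smul, h.B21, smul_eq_mul, P.εε]⟩

theorem isHyp_of_ne (hu : f.Q u = 0) (hv : f.Q v = 0) (h : f.B u v ≠ 0) :
    f.IsHyp u ((f.B u v)⁻¹ • v) :=
  ⟨hu, by rw [Q_smul, hv, mul_zero], by rw [map_smul, smul_eq_mul, inv_mul_cancel₀ h]⟩

theorem IsHyp.map (h : f.IsHyp u v) {g : V ≃ₗ[F] V} (hg : g ∈ f.Isom) : f.IsHyp (g u) (g v) :=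
  ⟨by rw [Isom_Q hg, h.Q1], by rw [Isom_Q hg, h.Q2], by rw [Isom_B hg, h.B12]⟩

theorem exists_singular_add (hu : f.Q u = 0) {w : V} (hw : f.B u w = 1) :
    ∃ c : F, f.Q (w + c • u) = 0 := by
  obtain ⟨a, ha⟩ := f.ex w
  refine ⟨-(P.σ a), ?_⟩
  rw [Q_add, Q_smul, hu, f.τ_B_comm, B_smul_left, hw, ← ha]
  simp [P.σσ]

theorem Nondeg.exists_partner (hf : f.Nondeg) (hu : f.Q u = 0) {Z : Submodule F V} (huZ : u ∉ Z)
    (hZ : ∀ z ∈ Z, f.B z u = 0) : ∃ v, f.IsHyp u v ∧ ∀ z ∈ Z, f.B z v = 0 := by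
  obtain ⟨w, hwZ, hwu⟩ := hf.exists_dual huZ P.ε
  have huw : f.B u w = 1 := by rw [f.symm, hwu, P.σε, P.εε]
  obtain ⟨c, hc⟩ := exists_singular_add hu huw
  refine ⟨w + c • u, ⟨hu, hc, by simp [huw, B_self_of_Q hu]⟩, fun z hz => ?_⟩
  simp [hZ z hz, B_comm_zero (hwZ z hz)]

theorem Nondeg.exists_partner' (hf : f.Nondeg) (hu : f.Q u = 0) (hu0 : u ≠ 0) :
    ∃ v, f.IsHyp u v := by
  obtain ⟨v, hv, -⟩ := hf.exists_partner (Z := ⊥) hu (by simpa) (fun z hz => by
    rw [Submodule.mem_bot] at hz; simp [hz])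
  exact ⟨v, hv⟩

theorem IsHyp.linearIndependent (h : f.IsHyp u v) : LinearIndependent F ![u, v] := by
  rw [LinearIndependent.pair_iff]
  intro s t hst
  have h1 := congrArg (f.B u) hst
  have h2 := congrArg (f.B v) hst
  simp [h.B11, h.B12, h.B21, h.B22, P.ε_ne] at h1 h2
  exact ⟨h2, h1⟩

/-- The orthogonal complement of a hyperbolic pair. -/
abbrev hperp (f : FS P V) (u v : V) : Submodule F V := f.perp (Submodule.span F {u, v})

theorem mem_hperp {x : V} : x ∈ f.hperp u v ↔ f.B u x = 0 ∧ f.B v x = 0 := by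
  rw [mem_perp_span]; simp

theorem IsHyp.disjoint (h : f.IsHyp u v) :
    Disjoint (Submodule.span F {u, v}) (f.hperp u v) := by
  rw [Submodule.disjoint_def]
  intro x hx hx'
  obtain ⟨a, b, rfl⟩ := Submodule.mem_span_pair.1 hx
  rw [mem_hperp] at hx'
  simp [h.B11, h.B12, h.B21, h.B22, P.ε_ne] at hx'
  simp [hx'.1, hx'.2]

theorem IsHyp.proj_mem (h : f.IsHyp u v) (x : V) :
    x - (P.ε * f.B v x) • u - f.B u x • v ∈ f.hperp u v := by
  rw [mem_hperp]
  simp only [map_sub, map_smul, smul_eq_mul, h.B11, h.B12, h.B21, h.B22]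
  constructor
  · ring
  · linear_combination (-f.B v x) * P.εε

theorem IsHyp.decomp (h : f.IsHyp u v) (x : V) :
    ∃ (a b : F) (w : V), w ∈ f.hperp u v ∧ x = a • u + b • v + w :=
  ⟨P.ε * f.B v x, f.B u x, _, h.proj_mem x, by abel⟩

theorem IsHyp.isCompl (h : f.IsHyp u v) :
    IsCompl (Submodule.span F {u, v}) (f.hperp u v) := by
  refine ⟨h.disjoint, codisjoint_iff.2 (eq_top_iff.2 fun x _ => ?_)⟩
  obtain ⟨a, b, w, hw, rfl⟩ := h.decomp x
  exact Submodule.add_mem_sup (Submodule.mem_span_pair.2 ⟨a, b, rfl⟩) hw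

theorem IsHyp.finrank_span (h : f.IsHyp u v) : finrank F (Submodule.span F {u, v}) = 2 := by
  have := finrank_span_eq_card h.linearIndependent
  rw [Matrix.range_cons_cons_empty] at this
  simpa using this

theorem IsHyp.finrank_hperp [FiniteDimensional F V] (h : f.IsHyp u v) :
    finrank F (f.hperp u v) + 2 = finrank F V := by
  rw [← Submodule.finrank_add_eq_of_isCompl h.isCompl, h.finrank_span, add_comm]

theorem IsHyp.nondeg_hperp [FiniteDimensional F V] (hf : f.Nondeg) (h : f.IsHyp u v) :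
    (f.res (f.hperp u v)).Nondeg := hf.nondeg_perp h.disjoint

theorem IsHyp.Q_decomp (h : f.IsHyp u v) (a b : F) {w : V} (hw : w ∈ f.hperp u v) :
    f.Q (a • u + b • v + w) = P.τ (P.σ a * b) + f.Q w := by
  rw [mem_hperp] at hw
  rw [Q_add_of_orth (by simp [hw.1, hw.2]), Q_add, Q_smul, Q_smul, h.Q1, h.Q2]
  simp [h.B12, mul_comm]

theorem IsHyp.Q_eq (h : f.IsHyp u v) (x : V) :
    f.Q x = P.τ (P.σ (P.ε * f.B v x) * f.B u x) + f.Q (x - (P.ε * f.B v x) • u - f.B u x • v) := by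
  rw [← h.Q_decomp _ _ (h.proj_mem x)]
  congr 1; abel

/-- Coordinates with respect to a hyperbolic pair. -/
def IsHyp.equiv (h : f.IsHyp u v) : V ≃ F × F × f.hperp u v where
  toFun x := (P.ε * f.B v x, f.B u x, ⟨_, h.proj_mem x⟩)
  invFun y := y.1 • u + y.2.1 • v + y.2.2
  left_inv x := by simp only; abel
  right_inv := by
    rintro ⟨a, b, w, hw⟩
    have hw' := mem_hperp.1 hw
    have e1 : P.ε * f.B v (a • u + b • v + w) = a := by
      simp only [map_add, map_smul, smul_eq_mul, h.B21, h.B22, hw'.2]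
      linear_combination a * P.εε
    have e2 : f.B u (a • u + b • v + w) = b := by
      simp [h.B11, h.B12, hw'.1]
    simp only [e1, e2, Prod.mk.injEq, Subtype.mk.injEq, true_and]
    abel

theorem IsHyp.witt (hf : f.Nondeg) (h : f.IsHyp u v) {u' v' : V} (h' : f.IsHyp u' v') :
    ∃ g ∈ f.Isom, g u = u' ∧ g v = v' := by
  obtain ⟨g, hg, hh⟩ := witt_family hf ![u, v] ![u', v'] h.linearIndependent h'.linearIndependent
    (fun i j => by
      fin_cases i <;> fin_cases j <;>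
        simp [h.B11, h.B12, h.B21, h.B22, h'.B11, h'.B12, h'.B21, h'.B22])
    (fun i => by fin_cases i <;> simp [h.Q1, h.Q2, h'.Q1, h'.Q2])
  exact ⟨g, hg, hh 0, hh 1⟩

/-! ### Counting -/

theorem card_fiber_τ {c : F} (hc : ∃ a, P.τ a = c) :
    Nat.card {a // P.τ a = c} = Nat.card P.τ.ker := by
  obtain ⟨a, ha⟩ := hc
  refine Nat.card_congr ⟨fun x => ⟨x.1 - a, by simp [x.2, ha]⟩,
    fun x => ⟨x.1 + a, by rw [map_add, ha, x.2, zero_add]⟩, fun x => by simp, fun x => by simp⟩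

theorem card_fiber_τ' {c b : F} (hb : b ≠ 0) (hc : ∃ a, P.τ a = c) :
    Nat.card {a // P.τ (P.σ a * b) = c} = Nat.card P.τ.ker := by
  rw [← card_fiber_τ hc]
  refine Nat.card_congr ⟨fun x => ⟨P.σ x.1 * b, x.2⟩,
    fun x => ⟨P.σ (x.1 * b⁻¹), by rw [P.σσ, inv_mul_cancel_right₀ hb, x.2]⟩,
    fun x => by simp [hb, P.σσ], fun x => by simp [hb, P.σσ]⟩

theorem IsHyp.card_partners [Finite F] [FiniteDimensional F V] (h : f.IsHyp u v)
    (Y : Submodule F V) (huY : u ∈ Y) (hvY : v ∈ Y) {b c : F} (hb : b ≠ 0) (hc : ∃ a, P.τ a = c) :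
    Nat.card {x // x ∈ Y ∧ f.B u x = b ∧ f.Q x = c} =
      Nat.card F ^ finrank F (f.hperp u v ⊓ Y : Submodule F V) * Nat.card P.τ.ker := by
  have : Finite V := Module.finite_of_finite F
  have e : {x // x ∈ Y ∧ f.B u x = b ∧ f.Q x = c} ≃
      Σ w : (f.hperp u v ⊓ Y : Submodule F V), {a // P.τ (P.σ a * b) = c - f.Q w} :=
    { toFun := fun x => ⟨⟨x.1 - (P.ε * f.B v x) • u - f.B u x • v, h.proj_mem _,
          Y.sub_mem (Y.sub_mem x.2.1 (Y.smul_mem _ huY)) (Y.smul_mem _ hvY)⟩,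
          ⟨P.ε * f.B v x, by
            have := h.Q_eq x.1
            rw [x.2.2.2] at this
            have e : P.σ (P.ε * f.B v x) * f.B u x = P.σ (P.ε * f.B v x) * b := by rw [x.2.2.1]
            rw [e] at this
            exact eq_sub_of_add_eq this.symm⟩⟩
      invFun := fun y => ⟨y.2.1 • u + b • v + y.1,
        Y.add_mem (Y.add_mem (Y.smul_mem _ huY) (Y.smul_mem _ hvY)) y.1.2.2,
        by simp [h.B11, h.B12, (mem_hperp.1 y.1.2.1).1],
        by rw [h.Q_decomp _ _ y.1.2.1, y.2.2]; ring⟩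
      left_inv := fun x => by
        apply Subtype.ext
        simp only [x.2.2.1]; abel
      right_inv := by
        rintro ⟨⟨w, hw, hwY⟩, a, ha⟩
        have := h.equiv.right_inv (a, b, ⟨w, hw⟩)
        simp only [IsHyp.equiv, Prod.mk.injEq, Subtype.mk.injEq] at this
        obtain ⟨e1, e2, e3⟩ := this
        refine Sigma.ext (Subtype.ext e3) ?_
        refine (Subtype.heq_iff_coe_eq ?_).2 e1
        intro x
        simp only [e3] }
  have := Fintype.ofFinite (f.hperp u v ⊓ Y : Submodule F V)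
  rw [Nat.card_congr e, Nat.card_sigma, Finset.sum_congr rfl
    (g := fun _ => Nat.card P.τ.ker), Finset.sum_const, Finset.card_univ, ← Nat.card_eq_fintype_card,
    Module.natCard_eq_pow_finrank (K := F), smul_eq_mul]
  intro w _
  obtain ⟨a, ha⟩ := hc
  obtain ⟨a', ha'⟩ := f.ex w
  exact card_fiber_τ' hb ⟨a - a', by rw [map_sub, ha, ha']⟩

theorem IsHyp.card_perp_Q [Finite F] (h : f.IsHyp u v) (c : F) :
    Nat.card {x // f.B u x = 0 ∧ f.Q x = c} =
      Nat.card F * Nat.card {w : f.hperp u v // f.Q w = c} := by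
  rw [← Nat.card_prod]
  refine Nat.card_congr
    { toFun := fun x => ((h.equiv x).1, ⟨(h.equiv x).2.2, ?_⟩)
      invFun := fun y => ⟨y.1 • u + y.2.1, ?_, ?_⟩
      left_inv := fun x => ?_
      right_inv := ?_ }
  · have := h.Q_eq x.1
    have e : P.σ (P.ε * f.B v x) * f.B u x = 0 := by rw [x.2.1, mul_zero]
    rw [e, x.2.2, map_zero, zero_add] at this
    exact this.symm
  · simp [h.B11, (mem_hperp.1 y.2.1.2).1]
  · have := h.Q_decomp y.1 0 y.2.1.2
    simpa [y.2.2] using this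
  · apply Subtype.ext
    simp only [IsHyp.equiv, Equiv.coe_fn_mk, x.2.1]
    simp
  · rintro ⟨a, ⟨w, hw⟩, hc⟩
    have := h.equiv.right_inv (a, 0, ⟨w, hw⟩)
    simp only [IsHyp.equiv, zero_smul, add_zero] at this ⊢
    simp only [Equiv.coe_fn_mk, Prod.mk.injEq, Subtype.mk.injEq] at this ⊢
    exact ⟨this.1, this.2.2⟩

theorem IsHyp.card_Q [Finite F] [FiniteDimensional F V] (h : f.IsHyp u v) {c : F}
    (hc : ∃ a, P.τ a = c) :
    Nat.card {x // f.Q x = c} = Nat.card F * Nat.card {w : f.hperp u v // f.Q w = c} +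
      (Nat.card F - 1) * (Nat.card F ^ finrank F (f.hperp u v) * Nat.card P.τ.ker) := by
  classical
  have : Finite V := Module.finite_of_finite F
  have := Fintype.ofFinite F
  have e : {x // f.Q x = c} ≃ Σ b : F, {x // f.B u x = b ∧ f.Q x = c} :=
    { toFun := fun x => ⟨f.B u x, x.1, rfl, x.2⟩
      invFun := fun y => ⟨y.2.1, y.2.2.2⟩
      left_inv := fun x => rfl
      right_inv := by rintro ⟨b, x, rfl, hx⟩; rfl }
  rw [Nat.card_congr e, Nat.card_sigma, ← Finset.add_sum_erase _ _ (Finset.mem_univ 0),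
    h.card_perp_Q, Finset.sum_congr rfl
    (g := fun _ => Nat.card F ^ finrank F (f.hperp u v) * Nat.card P.τ.ker), Finset.sum_const,
    Finset.card_erase_of_mem (Finset.mem_univ _), Finset.card_univ, Nat.card_eq_fintype_card (α := F),
    smul_eq_mul]
  intro b hb
  have := h.card_partners ⊤ trivial trivial (Finset.ne_of_mem_erase hb) hc
  rw [inf_top_eq] at this
  simpa using this

theorem IsHyp.card_Isom [Finite F] [FiniteDimensional F V] (hf : f.Nondeg) (h : f.IsHyp u v) :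
    Nat.card f.Isom = Nat.card {x // x ≠ 0 ∧ f.Q x = 0} *
      (Nat.card F ^ finrank F (f.hperp u v) * Nat.card P.τ.ker) *
        Nat.card (f.res (f.hperp u v)).Isom := by
  rw [card_eq_orbit_mul f.Isom u {x | x ≠ 0 ∧ f.Q x = 0},
    card_eq_orbit_mul (f.Isom ⊓ fix {u}) v {x | x ∈ (⊤ : Submodule F V) ∧ f.B u x = 1 ∧ f.Q x = 0},
    ← card_fix_eq' h.isCompl, fix_span, mul_assoc]
  · have := h.card_partners ⊤ trivial trivial one_ne_zero ⟨0, map_zero _⟩
    rw [inf_top_eq] at this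
    rw [← this]
    congr 4
    ext g
    simp [mem_fix, and_assoc]
  · intro y
    constructor
    · rintro ⟨-, h1, h2⟩
      obtain ⟨g, hg, h3, h4⟩ := h.witt hf ⟨h.Q1, h2, h1⟩
      exact ⟨g, ⟨hg, by simpa [mem_fix] using h3⟩, h4⟩
    · rintro ⟨g, ⟨hg, h1⟩, rfl⟩
      have h2 := h.map hg
      rw [h1 u rfl] at h2
      exact ⟨trivial, h2.B12, h2.Q2⟩
  · intro y
    constructor
    · rintro ⟨h1, h2⟩
      exact witt_one hf h.ne1 h1 (by rw [h.Q1, h2])
    · rintro ⟨g, hg, rfl⟩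
      exact ⟨by simpa using h.ne1, by rw [Isom_Q hg, h.Q1]⟩

end FS

end Cfsg.Agent.Class
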