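import Cfsg.Agent.Class.Sp

/-! More on formed spaces: orthogonal bases, determinants, centralizers, totally singular
subspaces and their stabilizers, Witt decomposition. -/

set_option autoImplicit false

namespace Cfsg.Agent.Class

open Module

variable {F : Type*} [Field F] {P : FP F} {V : Type*} [AddCommGroup V] [Module F V]

theorem mem_sup_of_conj {Γ : Type*} [Group Γ] {T R : Subgroup Γ}
    (h : ∀ r ∈ R, ∀ t ∈ T, r * t * r⁻¹ ∈ T) {g : Γ} (hg : g ∈ T ⊔ R) :
    ∃ t ∈ T, ∃ r ∈ R, g = t * r := by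
  have hle : R ≤ Subgroup.normalizer (T : Set Γ) := by
    intro r hr
    rw [Subgroup.mem_normalizer_iff]
    intro t
    refine ⟨h r hr t, fun ht => ?_⟩
    simpa [mul_assoc] using h r⁻¹ (R.inv_mem hr) _ ht
  have := Subgroup.coe_mul_of_right_le_normalizer_left T R hle
  have hg' : g ∈ ((T ⊔ R : Subgroup Γ) : Set Γ) := hg
  rw [this] at hg'
  obtain ⟨t, ht, r, hr, rfl⟩ := hg'
  exact ⟨t, ht, r, hr, rfl⟩

theorem card_subspaces_mul [Finite F] [FiniteDimensional F V] (k : ℕ) (p : Submodule F V → Prop) :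
    Nat.card {W : Submodule F V // finrank F W = k ∧ p W} *
      ∏ i : Fin k, (Nat.card F ^ k - Nat.card F ^ (i : ℕ)) =
    Nat.card {s : Fin k → V // LinearIndependent F s ∧ p (Submodule.span F (Set.range s))} := by
  classical
  have : Finite V := Module.finite_of_finite F
  have := Fintype.ofFinite F
  have := Fintype.ofFinite {W : Submodule F V // finrank F W = k ∧ p W}
  have e : {s : Fin k → V // LinearIndependent F s ∧ p (Submodule.span F (Set.range s))} ≃
      Σ W : {W : Submodule F V // finrank F W = k ∧ p W}, {s : Fin k → W.1 // LinearIndependent F s} := by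
    symm
    have hspan : ∀ (W : {W : Submodule F V // finrank F W = k ∧ p W})
        (s : {s : Fin k → W.1 // LinearIndependent F s}),
        Submodule.span F (Set.range fun i => (s.1 i : V)) = W.1 := by
      intro W s
      apply Submodule.eq_of_le_of_finrank_eq
      · rw [Submodule.span_le]; rintro _ ⟨i, rfl⟩; exact (s.1 i).2
      · rw [W.2.1]
        exact (finrank_span_eq_card (s.2.map' W.1.subtype (Submodule.ker_subtype _))).trans
          (Fintype.card_fin k)
    refine Equiv.ofBijective (fun x => ⟨fun i => (x.2.1 i : V),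
      x.2.2.map' x.1.1.subtype (Submodule.ker_subtype _), by rw [hspan]; exact x.1.2.2⟩) ⟨?_, ?_⟩
    · rintro ⟨W, s⟩ ⟨W', s'⟩ h
      have h1 : (fun i => (s.1 i : V)) = fun i => (s'.1 i : V) := congrArg Subtype.val h
      have h2 : W = W' := Subtype.ext (by rw [← hspan W s, ← hspan W' s', h1])
      subst h2
      congr 1
      exact Subtype.ext (funext fun i => Subtype.ext (congrFun h1 i))
    · rintro ⟨s, hs, hp⟩
      refine ⟨⟨⟨Submodule.span F (Set.range s), by simpa using finrank_span_eq_card hs, hp⟩,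
        ⟨fun i => ⟨s i, Submodule.subset_span ⟨i, rfl⟩⟩, ?_⟩⟩, rfl⟩
      exact LinearIndependent.of_comp (Submodule.subtype _) hs
  rw [Nat.card_congr e, Nat.card_sigma, Finset.sum_congr rfl
    (g := fun _ => ∏ i : Fin k, (Nat.card F ^ k - Nat.card F ^ (i : ℕ))), Finset.sum_const,
    Finset.card_univ, Nat.card_eq_fintype_card, smul_eq_mul]
  intro W _
  rw [card_linearIndependent W.2.1.ge, W.2.1, Nat.card_eq_fintype_card]

theorem card_linearEquiv [Finite F] [FiniteDimensional F V] :
    Nat.card (V ≃ₗ[F] V) =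
      ∏ i : Fin (finrank F V), (Nat.card F ^ finrank F V - Nat.card F ^ (i : ℕ)) := by
  have := Fintype.ofFinite F
  rw [Nat.card_eq_fintype_card (α := F), ← Matrix.card_GL_field, Nat.card_congr glEquiv.toEquiv]
  exact Nat.card_congr (autCongr (Module.finBasis F V).equivFun).toEquiv

namespace FS
variable {f : FS P V}

theorem disjoint_perp_singleton {v : V} (hv : f.B v v ≠ 0) :
    Disjoint (Submodule.span F {v}) (f.perp (Submodule.span F {v})) := by
  rw [Submodule.disjoint_def]
  intro x hx hx'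
  obtain ⟨a, rfl⟩ := Submodule.mem_span_singleton.1 hx
  have := mem_perp_span.1 hx' v rfl
  simp [hv] at this
  simp [this]

theorem mem_perp_singleton {v x : V} : x ∈ f.perp (Submodule.span F {v}) ↔ f.B v x = 0 := by
  rw [mem_perp_span]; simp

theorem Nondeg.finrank_perp_singleton [FiniteDimensional F V] (hf : f.Nondeg) {v : V} (hv : v ≠ 0) :
    finrank F (f.perp (Submodule.span F {v})) + 1 = finrank F V := by
  rw [← hf.finrank_perp (Submodule.span F {v}), finrank_span_singleton hv, add_comm]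

theorem exists_B_self_ne (hP : ∃ c, c + P.ε * P.σ c ≠ 0) {W : Submodule F V} {x y : V}
    (hx : x ∈ W) (hy : y ∈ W) (h : f.B x y ≠ 0) : ∃ z ∈ W, f.B z z ≠ 0 := by
  by_cases h1 : f.B x x = 0
  swap; · exact ⟨x, hx, h1⟩
  by_cases h2 : f.B y y = 0
  swap; · exact ⟨y, hy, h2⟩
  obtain ⟨c, hc⟩ := hP
  refine ⟨x + (c * (f.B x y)⁻¹) • y, W.add_mem hx (W.smul_mem _ hy), ?_⟩
  have hσ : P.σ (f.B x y) ≠ 0 := by simpa using h
  simp only [map_add, LinearMap.add_apply, map_smul, B_smul_left, h1, h2, smul_eq_mul,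
    f.symm x y, map_mul, map_inv₀]
  convert hc using 1
  field_simp
  ring

theorem Nondeg.exists_B_self_ne [Nontrivial V] (hf : f.Nondeg) (hP : ∃ c, c + P.ε * P.σ c ≠ 0) :
    ∃ z, f.B z z ≠ 0 := by
  obtain ⟨x, hx⟩ := exists_ne (0 : V)
  obtain ⟨y, hy⟩ : ∃ y, f.B x y ≠ 0 := by
    by_contra h; push Not at h; exact hx (hf.eq_zero h)
  obtain ⟨z, -, hz⟩ := FS.exists_B_self_ne (W := ⊤) hP trivial trivial hy
  exact ⟨z, hz⟩

theorem linearIndependent_of_orth {ι : Type*} {e : ι → V} (h1 : ∀ i j, i ≠ j → f.B (e i) (e j) = 0)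
    (h2 : ∀ i, f.B (e i) (e i) ≠ 0) : LinearIndependent F e := by
  rw [linearIndependent_iff']
  intro s g hg i hi
  have := congrArg (f.B (e i)) hg
  rw [map_sum, map_zero, Finset.sum_eq_single i (fun j _ hj => by simp [h1 i j hj.symm])
    (fun h => (h hi).elim)] at this
  simpa [h2 i] using this

theorem exists_orth_family (hP : ∃ c, c + P.ε * P.σ c ≠ 0) (n : ℕ) :
    ∀ {V : Type*} [AddCommGroup V] [Module F V] [FiniteDimensional F V] {f : FS P V}, f.Nondeg →
      finrank F V = n → ∃ e : Fin n → V, (∀ i j, i ≠ j → f.B (e i) (e j) = 0) ∧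
        ∀ i, f.B (e i) (e i) ≠ 0 := by
  induction n with
  | zero => intro V _ _ _ f _ _; exact ⟨Fin.elim0, fun i => i.elim0, fun i => i.elim0⟩
  | succ n ih =>
    intro V _ _ _ f hf hV
    have : Nontrivial V := Module.nontrivial_of_finrank_pos (R := F) (by omega)
    obtain ⟨z, hz⟩ := hf.exists_B_self_ne hP
    have hz0 : z ≠ 0 := fun h => by simp [h] at hz
    have h1 := hf.finrank_perp_singleton hz0
    obtain ⟨e, he1, he2⟩ := ih (hf.nondeg_perp (disjoint_perp_singleton hz)) (by omega)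
    refine ⟨Fin.cons z fun i => e i, fun i j hij => ?_, fun i => ?_⟩
    · refine Fin.cases (fun hij => ?_) (fun i hij => ?_) i hij
      · refine Fin.cases (fun hij => (hij rfl).elim) (fun j _ => ?_) j hij
        exact mem_perp_singleton.1 (e j).2
      · refine Fin.cases (fun _ => ?_) (fun j hij => ?_) j hij
        · exact B_comm_zero (mem_perp_singleton.1 (e i).2)
        · exact he1 i j fun h => hij (by rw [h])
    · exact Fin.cases hz (fun i => he2 i) i

theorem Nondeg.exists_orth_basis [FiniteDimensional F V] (hf : f.Nondeg)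
    (hP : ∃ c, c + P.ε * P.σ c ≠ 0) {n : ℕ} (hn : finrank F V = n) :
    ∃ b : Basis (Fin n) F V, (∀ i j, i ≠ j → f.B (b i) (b j) = 0) ∧ ∀ i, f.B (b i) (b i) ≠ 0 := by
  obtain ⟨e, h1, h2⟩ := exists_orth_family hP n hf hn
  refine ⟨basisOfLinearIndependentOfCardEqFinrank' e (linearIndependent_of_orth h1 h2)
    (by simp [hn]), ?_, ?_⟩ <;> simpa

theorem det_norm [FiniteDimensional F V] (hf : f.Nondeg) {g : V ≃ₗ[F] V} (hg : g ∈ f.Isom) :
    P.σ g.det * g.det = 1 := by
  let G : Subgroup (V ≃ₗ[F] V) :=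
    { carrier := {g | P.σ g.det * g.det = 1}
      mul_mem' := fun {a b} ha hb => by
        simp only [Set.mem_setOf_eq, map_mul, Units.val_mul] at *
        linear_combination (P.σ b.det * b.det) * ha + hb
      one_mem' := by simp
      inv_mem' := fun {a} ha => by
        simp only [Set.mem_setOf_eq, map_inv, Units.val_inv_eq_inv_val, map_inv₀] at *
        rw [← mul_inv, ha, inv_one] }
  refine Isom_le_of_gen hf (G := G) (fun p a ha h => ?_) (fun u v hu hv h _ _ => ?_) hg
  · change P.σ _ * _ = 1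
    have hσ : P.σ a ≠ 0 := by simpa using ha
    rw [det_refl]
    simp only [map_mul, map_neg, map_inv₀, P.σσ, P.σε]
    field_simp
    linear_combination P.εε
  · change P.σ _ * _ = 1
    rw [det_eich]; simp

theorem mem_span_of_fix_X (hf : f.Nondeg) (hG : f.GoodC) {u x : V} (hu : u ≠ 0) (huQ : f.Q u = 0)
    (h : ∀ g ∈ f.X u huQ, g x = x) : ∃ c : F, c • u = x := by
  obtain ⟨r, hr⟩ := hf.exists_partner' huQ hu
  have key : ∀ v a hv ha, f.eich u v a huQ hv ha x = x := fun v a hv ha => h _ (eich_mem_X _ _ _)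
  have h0 : f.B u x = 0 := by
    obtain ⟨v, a, ha, hτ, -, h1, h2⟩ := hG 0 _ _ hr (by simp) (by simp)
    by_contra hne
    have e1 := key v a h1 hτ
    have e2 := congrArg (f.B r) e1
    simp only [eich_apply, map_add, map_sub, map_smul, h2, hr.B21, smul_eq_mul] at e2
    have e3 : P.ε * f.B v x + P.σ a * f.B u x = 0 := by
      apply mul_right_cancel₀ P.ε_ne; linear_combination -e2
    rw [eich_apply, sub_sub, ← add_smul, e3] at e1
    have : v = 0 := by simpa [hne] using e1
    simp [this, ha, hne] at e3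
  rw [← Submodule.mem_span_singleton, ← hf.perp_perp (Submodule.span F {u})]
  intro v hv
  obtain ⟨a, ha⟩ := f.ex v
  have e1 := key v a (mem_perp_singleton.1 hv) ha
  simpa [eich_apply, h0, hu, P.ε_ne] using e1

theorem scalar_of_comm_EO (hf : f.Nondeg) (hG : f.GoodC) {u : V} (hu : u ≠ 0) (huQ : f.Q u = 0)
    {g : V ≃ₗ[F] V} (hg : g ∈ f.Isom) (h : ∀ x ∈ f.EO, x * g = g * x) : ∃ c : F, ∀ x, g x = c • x := by
  refine scalar_of_fix_points hf hG hu huQ hg fun v hv hvQ =>
    mem_span_of_fix_X hf hG hv hvQ fun x hx => ?_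
  have := LinearEquiv.congr_fun (h x (X_le_EO hvQ hx)) v
  rwa [LinearEquiv.mul_apply, LinearEquiv.mul_apply, X_fix hvQ hx] at this

/-- Totally singular subspaces. -/
def TS (f : FS P V) (W : Submodule F V) : Prop :=
  (∀ x ∈ W, f.Q x = 0) ∧ ∀ x ∈ W, ∀ y ∈ W, f.B x y = 0

theorem ts_span {S : Set V} (h1 : ∀ x ∈ S, f.Q x = 0) (h2 : ∀ x ∈ S, ∀ y ∈ S, f.B x y = 0) :
    f.TS (Submodule.span F S) := by
  have hB : ∀ x ∈ Submodule.span F S, ∀ y ∈ Submodule.span F S, f.B x y = 0 := by
    intro x hx y hy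
    have : Submodule.span F S ≤ f.perp (Submodule.span F S) :=
      Submodule.span_le.2 fun y hy => mem_perp_span.2 fun x hx => h2 x hx y hy
    exact this hy x hx
  refine ⟨fun x hx => ?_, hB⟩
  induction hx using Submodule.span_induction with
  | mem x hx => exact h1 x hx
  | zero => simp
  | add x y hx hy a b => rw [Q_add_of_orth (hB x hx y hy), a, b, add_zero]
  | smul c x _ a => rw [Q_smul, a, mul_zero]

theorem orth_ts {f : FS (FP.orth F) V} {W : Submodule F V} : f.TS W ↔ ∀ x ∈ W, f.Q x = 0 :=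
  ⟨fun h => h.1, fun h => ⟨h, fun x hx y hy => by
    have := f.orth_Q_add x y
    rw [h x hx, h y hy, h _ (W.add_mem hx hy)] at this
    linear_combination -this⟩⟩

theorem TS.le_perp {W : Submodule F V} (h : f.TS W) : W ≤ f.perp W := fun x hx w hw => h.2 w hw x hx

theorem TS.two_mul_finrank_le [FiniteDimensional F V] (hf : f.Nondeg) {W : Submodule F V}
    (h : f.TS W) : 2 * finrank F W ≤ finrank F V := by
  have h1 := hf.finrank_perp W
  have := Submodule.finrank_mono h.le_perp
  omega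

theorem TS.witt [FiniteDimensional F V] (hf : f.Nondeg) {W W' : Submodule F V} (h : f.TS W)
    (h' : f.TS W') (φ : W →ₗ[F] W') (hφ : Function.Injective φ) :
    ∃ g ∈ f.Isom, ∀ x : W, g x = φ x :=
  FS.witt hf W.subtype (W'.subtype ∘ₗ φ) W.subtype_injective (W'.subtype_injective.comp hφ)
    (fun x y => (h.2 _ x.2 _ y.2).trans (h'.2 _ (φ x).2 _ (φ y).2).symm)
    (fun x => (h.1 _ x.2).trans (h'.1 _ (φ x).2).symm)

theorem TS.finrank_le_of_max [FiniteDimensional F V] (hf : f.Nondeg) {W W' : Submodule F V}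
    (h : f.TS W) (h' : f.TS W') (hmax : ∀ x ∈ f.perp W, f.Q x = 0 → x ∈ W) :
    finrank F W' ≤ finrank F W := by
  by_contra hlt
  obtain ⟨φ, hφ⟩ := (finrank_le_iff_exists_linearMap (R := F) (M := W) (M' := W')).1 (by omega)
  obtain ⟨g, hg, hh⟩ := h.witt hf h' φ hφ
  have : W'.comap (g : V →ₗ[F] V) ≤ W := by
    intro x hx
    refine hmax x (fun w hw => ?_) (by rw [← Isom_Q hg]; exact h'.1 _ hx)
    rw [← Isom_B hg, hh ⟨w, hw⟩]
    exact h'.2 _ (φ _).2 _ hx
  have h2 := Submodule.finrank_mono this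
  rw [Submodule.comap_equiv_eq_map_symm, LinearEquiv.finrank_map_eq] at h2
  exact hlt h2

theorem card_stab_ts [FiniteDimensional F V] (hf : f.Nondeg) {W : Submodule F V} (h : f.TS W)
    (H : Subgroup (W ≃ₗ[F] W)) :
    Nat.card (f.Isom ⊓ (H.comap (resHom W)).map (stab W).subtype : Subgroup (V ≃ₗ[F] V)) =
      Nat.card H * Nat.card (f.Isom ⊓ fix (W : Set V) : Subgroup (V ≃ₗ[F] V)) := by
  set G : Subgroup (V ≃ₗ[F] V) := f.Isom ⊓ (H.comap (resHom W)).map (stab W).subtype with hG
  have hle : G ≤ stab W := inf_le_right.trans (Subgroup.map_subtype_le _)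
  let ρ : G →* (W ≃ₗ[F] W) := (resHom W).comp (Subgroup.inclusion hle)
  have h1 : ρ.range = H := by
    ext φ
    constructor
    · rintro ⟨⟨g, hg, g', hg', rfl⟩, rfl⟩
      exact hg'
    · intro hφ
      obtain ⟨g, hg, hh⟩ := h.witt hf h (φ : W →ₗ[F] W) φ.injective
      have hs : g ∈ stab W := mem_stab_of_le fun x hx => by rw [hh ⟨x, hx⟩]; exact (φ _).2
      have : resHom W ⟨g, hs⟩ = φ := by ext x; exact hh x
      exact ⟨⟨g, hg, ⟨g, hs⟩, by rwa [SetLike.mem_coe, Subgroup.mem_comap, this], rfl⟩, this⟩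
  have h2 : ρ.ker = (f.Isom ⊓ fix (W : Set V) : Subgroup (V ≃ₗ[F] V)).subgroupOf G := by
    ext g
    rw [MonoidHom.mem_ker, Subgroup.mem_subgroupOf]
    constructor
    · intro hg
      exact ⟨g.2.1, fun x hx => congrArg Subtype.val (LinearEquiv.congr_fun hg ⟨x, hx⟩)⟩
    · intro hg
      ext x; exact hg.2 x x.2
  have h3 : (f.Isom ⊓ fix (W : Set V) : Subgroup (V ≃ₗ[F] V)) ≤ G := by
    rintro g ⟨hg, hf⟩
    refine ⟨hg, ⟨g, fix_le_stab W hf⟩, ?_, rfl⟩
    have : resHom W ⟨g, fix_le_stab W hf⟩ = 1 := by ext x; exact hf x x.2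
    rw [SetLike.mem_coe, Subgroup.mem_comap, this]; exact H.one_mem
  rw [← ρ.ker.index_mul_card, Subgroup.index_ker, h1, h2,
    Nat.card_congr (Subgroup.subgroupOfEquivOfLe h3).toEquiv]

theorem card_stab_ts' [FiniteDimensional F V] (hf : f.Nondeg) {W : Submodule F V} (h : f.TS W) :
    Nat.card (f.Isom ⊓ stab W : Subgroup (V ≃ₗ[F] V)) =
      Nat.card (W ≃ₗ[F] W) * Nat.card (f.Isom ⊓ fix (W : Set V) : Subgroup (V ≃ₗ[F] V)) := by
  have := card_stab_ts hf h ⊤
  rwa [Subgroup.comap_top, ← MonoidHom.range_eq_map, Subgroup.range_subtype, Subgroup.card_top] at this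

/-- Exponent in the order of the pointwise stabilizer of a totally singular subspace. -/
def tsExp : ℕ → ℕ → ℕ
  | 0, _ => 0
  | k + 1, n => (n - k - 2) + tsExp k (n - 2)

theorem tsExp_spec (k : ℕ) : ∀ n, 2 * k ≤ n → 2 * tsExp k n + k * (3 * k + 1) = 2 * k * n := by
  induction k with
  | zero => intro n _; simp [tsExp]
  | succ k ih =>
    intro n hn
    obtain ⟨r, rfl⟩ : ∃ r, n = 2 * k + r + 2 := ⟨n - (2 * k + 2), by omega⟩
    have := ih (2 * k + r) (by omega)
    rw [tsExp, show 2 * k + r + 2 - k - 2 = k + r by omega, show 2 * k + r + 2 - 2 = 2 * k + r by omega]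
    nlinarith

universe u in
theorem card_fix_ts [Finite F] (c : ℕ → ℕ)
    (hc : ∀ {V : Type u} [AddCommGroup V] [Module F V] [FiniteDimensional F V] {f : FS P V},
      f.Nondeg → Nat.card f.Isom = c (finrank F V)) (k : ℕ) :
    ∀ {V : Type u} [AddCommGroup V] [Module F V] [FiniteDimensional F V] {f : FS P V},
      f.Nondeg → ∀ z : Fin k → V, LinearIndependent F z → (∀ i, f.Q (z i) = 0) →
      (∀ i j, f.B (z i) (z j) = 0) →
      Nat.card (f.Isom ⊓ fix (Set.range z) : Subgroup (V ≃ₗ[F] V)) =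
        Nat.card F ^ tsExp k (finrank F V) * Nat.card P.τ.ker ^ k * c (finrank F V - 2 * k) := by
  induction k with
  | zero =>
    intro V _ _ _ f hf z _ _ _
    have : (fix (Set.range z) : Subgroup (V ≃ₗ[F] V)) = ⊤ := by ext g; simp [mem_fix]
    rw [this, inf_top_eq, hc hf]; simp [tsExp]
  | succ k ih =>
    intro V _ _ _ f hf z hz hQ hB
    set Z := Submodule.span F (Set.range (Fin.tail z)) with hZ
    have hz' := hz
    rw [← Fin.cons_self_tail z, linearIndependent_finCons] at hz'
    have hZu : ∀ x ∈ Z, f.B x (z 0) = 0 :=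
      mem_perp_span.2 (by rintro _ ⟨i, rfl⟩; exact hB _ _)
    obtain ⟨v, hv, hZv⟩ := hf.exists_partner (hQ 0) hz'.2 hZu
    have hZle : Z ≤ f.hperp (z 0) v := fun x hx =>
      mem_hperp.2 ⟨B_comm_zero (hZu x hx), B_comm_zero (hZv x hx)⟩
    have hmem : ∀ i, Fin.tail z i ∈ f.hperp (z 0) v := fun i =>
      hZle (Submodule.subset_span ⟨i, rfl⟩)
    have li : ∀ w, f.IsHyp (z 0) w → (∀ x ∈ Z, f.B x w = 0) →
        LinearIndependent F (Fin.cons w z : Fin (k + 2) → V) := by
      intro w hw hw'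
      rw [linearIndependent_finCons]
      refine ⟨hz, fun h => ?_⟩
      have : w ∈ f.perp (Submodule.span F {z 0}) := by
        refine (Submodule.span_le.2 ?_) h
        rintro _ ⟨i, rfl⟩
        exact mem_perp_singleton.2 (hB _ _)
      simpa [hw.B12] using mem_perp_singleton.1 this
    rw [card_eq_orbit_mul _ v {x | x ∈ f.perp Z ∧ f.B (z 0) x = 1 ∧ f.Q x = 0}]
    · have e1 := hv.card_partners (f.perp Z) hZu hZv one_ne_zero ⟨0, map_zero _⟩
      have e2 := card_fix_eq hv.isCompl (Set.range fun i => (⟨_, hmem i⟩ : f.hperp (z 0) v))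
      have e3 := ih (hv.nondeg_hperp hf) (fun i => (⟨_, hmem i⟩ : f.hperp (z 0) v))
        (LinearIndependent.of_comp (Submodule.subtype _) hz'.1) (fun i => hQ _) (fun i j => hB _ _)
      have e4 : (f.Isom ⊓ fix (Set.range z) ⊓ fix {v} : Subgroup (V ≃ₗ[F] V)) =
          f.Isom ⊓ fix ((Submodule.span F {z 0, v} : Set V) ∪
            Subtype.val '' Set.range fun i => (⟨_, hmem i⟩ : f.hperp (z 0) v)) := by
        ext g
        have := SetLike.ext_iff.1 (fix_span (F := F) {z 0, v}) g
        simp only [mem_fix] at this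
        simp only [Subgroup.mem_inf, mem_fix, Set.mem_union, or_imp, forall_and, this,
          Set.forall_mem_range]
        simp [Fin.forall_fin_succ, Fin.tail]
        tauto
      have e5 : finrank F (f.hperp (z 0) v ⊓ f.perp Z : Submodule F V) = finrank F V - k - 2 := by
        rw [← perp_sup]
        have a1 := hf.finrank_perp (Submodule.span F {z 0, v} ⊔ Z)
        have a2 := Submodule.finrank_sup_add_finrank_inf_eq (Submodule.span F {z 0, v}) Z
        rw [(hv.disjoint.mono_right hZle).eq_bot, finrank_bot, hv.finrank_span, hZ,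
          finrank_span_eq_card hz'.1, Fintype.card_fin, ← hZ] at a2
        omega
      have e6 := hv.finrank_hperp
      rw [e4, e2, e3]
      erw [e1]
      rw [e5, tsExp, show finrank F (f.hperp (z 0) v) = finrank F V - 2 by omega,
        show finrank F V - 2 - 2 * k = finrank F V - 2 * (k + 1) by omega]
      ring
    · intro y
      constructor
      · rintro ⟨h1, h2, h3⟩
        have hy : f.IsHyp (z 0) y := ⟨hQ 0, h3, h2⟩
        have a1 : ∀ w, f.IsHyp (z 0) w → (∀ x ∈ Z, f.B x w = 0) → ∀ i, f.B (z i) w =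
            if i = 0 then 1 else 0 := by
          intro w hw hw' i
          refine Fin.cases (by simp [hw.B12]) (fun i => ?_) i
          simpa [Fin.tail] using hw' _ (Submodule.subset_span ⟨i, rfl⟩)
        obtain ⟨g, hg, hh⟩ := witt_family hf _ _ (li v hv hZv) (li y hy h1)
          (fun i j => by
            refine Fin.cases ?_ (fun i => ?_) i <;> refine Fin.cases ?_ (fun j => ?_) j
            · simp [hv.B22, hy.B22]
            · simp only [Fin.cons_zero, Fin.cons_succ]
              rw [f.symm, f.symm (z j), a1 v hv hZv, a1 y hy h1]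
            · simp only [Fin.cons_zero, Fin.cons_succ]
              rw [a1 v hv hZv, a1 y hy h1]
            · simp)
          (fun i => by refine Fin.cases ?_ (fun i => ?_) i <;> simp [hv.Q2, hy.Q2])
        refine ⟨g, ⟨hg, ?_⟩, hh 0⟩
        rintro _ ⟨i, rfl⟩
        exact hh i.succ
      · rintro ⟨g, ⟨hg, h1⟩, rfl⟩
        have h2 := hv.map hg
        rw [h1 _ ⟨0, rfl⟩] at h2
        refine ⟨mem_perp_span.2 ?_, h2.B12, h2.Q2⟩
        rintro _ ⟨i, rfl⟩
        rw [← h1 (Fin.tail z i) ⟨i.succ, rfl⟩, Isom_B hg]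
        exact hZv _ (Submodule.subset_span ⟨i, rfl⟩)

universe u in
theorem card_fix_ts' [Finite F] (c : ℕ → ℕ)
    (hc : ∀ {V : Type u} [AddCommGroup V] [Module F V] [FiniteDimensional F V] {f : FS P V},
      f.Nondeg → Nat.card f.Isom = c (finrank F V))
    {V : Type u} [AddCommGroup V] [Module F V] [FiniteDimensional F V] {f : FS P V}
    (hf : f.Nondeg) {W : Submodule F V} (hW : f.TS W) :
    Nat.card (f.Isom ⊓ fix (W : Set V) : Subgroup (V ≃ₗ[F] V)) =
      Nat.card F ^ tsExp (finrank F W) (finrank F V) * Nat.card P.τ.ker ^ finrank F W *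
        c (finrank F V - 2 * finrank F W) := by
  let b := Module.finBasis F W
  have hWs : W = Submodule.span F (Set.range fun i => (b i : V)) := by
    have := congrArg (Submodule.map W.subtype) b.span_eq
    rw [Submodule.map_span, Submodule.map_top, Submodule.range_subtype, ← Set.range_comp] at this
    exact this.symm
  rw [← card_fix_ts c hc _ hf (fun i => (b i : V))
    (b.linearIndependent.map' W.subtype (Submodule.ker_subtype W)) (fun i => hW.1 _ (b i).2)
    (fun i j => hW.2 _ (b i).2 _ (b j).2), ← fix_span (Set.range _), ← hWs]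

/-- The number of totally singular lines. -/
theorem card_ts_pairs [Finite F] [FiniteDimensional F V] (hf : f.Nondeg) (N : ℕ)
    (hN : ∀ u v, f.IsHyp u v → Nat.card {w : f.hperp u v // f.Q w = 0} = N) :
    Nat.card {s : Fin 2 → V // LinearIndependent F s ∧ f.TS (Submodule.span F (Set.range s))} =
      Nat.card {x : V // x ≠ 0 ∧ f.Q x = 0} * (Nat.card F * (N - 1)) := by
  classical
  have : Finite V := Module.finite_of_finite F
  have := Fintype.ofFinite {x : V // x ≠ 0 ∧ f.Q x = 0}
  have e : {s : Fin 2 → V // LinearIndependent F s ∧ f.TS (Submodule.span F (Set.range s))} ≃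
      Σ u : {x : V // x ≠ 0 ∧ f.Q x = 0},
        {y : {y : V // f.B u y = 0 ∧ f.Q y = 0} // y.1 ∉ Submodule.span F {u.1}} :=
    { toFun := fun s => ⟨⟨s.1 0, s.2.1.ne_zero 0, s.2.2.1 _ (Submodule.subset_span ⟨0, rfl⟩)⟩,
        ⟨⟨s.1 1, s.2.2.2 _ (Submodule.subset_span ⟨0, rfl⟩) _ (Submodule.subset_span ⟨1, rfl⟩),
          s.2.2.1 _ (Submodule.subset_span ⟨1, rfl⟩)⟩, by
            have := s.2.1
            rw [Submodule.mem_span_singleton]
            rintro ⟨a, ha⟩
            rw [show s.1 = ![s.1 0, s.1 1] by ext i; fin_cases i <;> rfl,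
              LinearIndependent.pair_iff' (s.2.1.ne_zero 0)] at this
            exact this a ha⟩⟩
      invFun := fun y => ⟨![y.1.1, y.2.1.1], by
          rw [LinearIndependent.pair_iff' y.1.2.1]
          intro a ha
          exact y.2.2 (Submodule.mem_span_singleton.2 ⟨a, ha⟩), ts_span
          (by rintro _ ⟨i, rfl⟩; fin_cases i <;> simp [y.1.2.2, y.2.1.2.2])
          (by
            rintro _ ⟨i, rfl⟩ _ ⟨j, rfl⟩
            fin_cases i <;> fin_cases j <;>
              simp [B_self_of_Q y.1.2.2, B_self_of_Q y.2.1.2.2, y.2.1.2.1, B_comm_zero y.2.1.2.1])⟩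
      left_inv := fun s => Subtype.ext (by ext i; fin_cases i <;> rfl)
      right_inv := fun y => rfl }
  rw [Nat.card_congr e, Nat.card_sigma, Finset.sum_congr rfl (g := fun _ => Nat.card F * (N - 1)),
    Finset.sum_const, Finset.card_univ, Nat.card_eq_fintype_card (α := {x : V // _}), smul_eq_mul]
  rintro ⟨u, hu, huQ⟩ -
  obtain ⟨v, hv⟩ := hf.exists_partner' huQ hu
  have h1 := hv.card_perp_Q 0
  rw [hN u v hv] at h1
  have := Fintype.ofFinite {y : V // f.B u y = 0 ∧ f.Q y = 0}
  have h2 : Nat.card {y : {y : V // f.B u y = 0 ∧ f.Q y = 0} // y.1 ∈ Submodule.span F {u}} =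
      Nat.card F := by
    symm
    refine Nat.card_congr (Equiv.ofBijective (fun a => ⟨⟨a • u, by simp [hv.B11],
      by rw [Q_smul, huQ, mul_zero]⟩, Submodule.mem_span_singleton.2 ⟨a, rfl⟩⟩) ⟨?_, ?_⟩)
    · intro a b hab
      exact smul_left_injective F hu (congrArg (fun x => x.1.1) hab)
    · rintro ⟨⟨y, hy⟩, hy'⟩
      obtain ⟨a, rfl⟩ := Submodule.mem_span_singleton.1 hy'
      exact ⟨a, rfl⟩
  rw [Nat.card_eq_fintype_card, Fintype.card_subtype_compl, ← Nat.card_eq_fintype_card,
    ← Nat.card_eq_fintype_card, h1, h2, Nat.mul_sub_one]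

end FS

end Cfsg.Agent.Class
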