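import Cfsg.Agent.Class.FS4

/-! Hyperbolic scalings, gluing isometries, special isometry groups, cyclic quotients. -/

set_option autoImplicit false

namespace Cfsg.Agent.Class

open Module

section grp

theorem exists_zmod_quot (C : Type*) [CommGroup C] [IsCyclic C] [Finite C] (n : ℕ) :
    ∃ ψ : C →* Multiplicative (ZMod (Nat.gcd n (Nat.card C))), Function.Surjective ψ ∧
      ψ.ker = (powMonoidHom n : C →* C).range := by
  have h1 : Nat.card (C ⧸ (powMonoidHom n : C →* C).range) = Nat.gcd n (Nat.card C) := by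
    rw [← Subgroup.index_eq_card, IsCyclic.index_powMonoidHom_range, Nat.gcd_comm]
  have hc : IsCyclic (C ⧸ (powMonoidHom n : C →* C).range) :=
    isCyclic_of_surjective _ (QuotientGroup.mk'_surjective _)
  rw [← h1]
  refine ⟨(zmodCyclicMulEquiv hc).symm.toMonoidHom.comp (QuotientGroup.mk' _),
    (zmodCyclicMulEquiv hc).symm.surjective.comp (QuotientGroup.mk'_surjective _), ?_⟩
  ext x
  simp [QuotientGroup.eq_one_iff]

theorem ker_comp_eq_sup {G C D : Type*} [Group G] [Group C] [Group D] (d : G →* C) (ψ : C →* D)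
    (Z : Subgroup G) (h1 : ∀ c ∈ ψ.ker, ∃ z ∈ Z, d z = c) (h2 : ∀ z ∈ Z, d z ∈ ψ.ker) :
    (ψ.comp d).ker = d.ker ⊔ Z := by
  apply le_antisymm
  · intro g hg
    obtain ⟨z, hz, hzg⟩ := h1 (d g) hg
    have : g = (g * z⁻¹) * z := by group
    rw [this]
    exact Subgroup.mul_mem_sup (by simp [hzg]) hz
  · refine sup_le (fun g hg => ?_) fun z hz => h2 z hz
    rw [MonoidHom.mem_ker] at hg
    simp [hg]

/-- Order of a group from the image and kernel of a homomorphism restricted to it. -/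
theorem card_eq_map_mul_inf_ker {G C : Type*} [Group G] [Group C] (d : G →* C) (H : Subgroup G) :
    Nat.card H = Nat.card (H.map d) * Nat.card (H ⊓ d.ker : Subgroup G) := by
  have h1 := (d.domRestrict H).ker.index_mul_card
  rw [Subgroup.index_ker, MonoidHom.domRestrict_range, MonoidHom.ker_domRestrict] at h1
  rw [← h1, ← Subgroup.inf_subgroupOf_left,
    Nat.card_congr (Subgroup.subgroupOfEquivOfLe inf_le_left).toEquiv]

end grp

variable {F : Type*} [Field F] {P : FP F} {V : Type*} [AddCommGroup V] [Module F V]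

/-- Scalar automorphisms. -/
def scal (V : Type*) [AddCommGroup V] [Module F V] : Fˣ →* (V ≃ₗ[F] V) where
  toFun c := LinearEquiv.smulOfUnit c
  map_one' := by ext x; simp [LinearEquiv.smulOfUnit]
  map_mul' a b := by ext x; simp [LinearEquiv.smulOfUnit, mul_smul]

@[simp] theorem scal_apply (c : Fˣ) (x : V) : scal V c x = (c : F) • x := rfl

theorem scal_injective [Nontrivial V] : Function.Injective (scal V : Fˣ →* _) := by
  intro a b h
  obtain ⟨x, hx⟩ := exists_ne (0 : V)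
  have := congrArg (fun g : V ≃ₗ[F] V => g x) h
  exact Units.ext (smul_left_injective F hx this)

theorem scal_comm (c : Fˣ) (g : V ≃ₗ[F] V) : g * scal V c = scal V c * g := by
  ext x; simp

theorem det_scal [FiniteDimensional F V] (c : Fˣ) : (scal V c).det = c ^ finrank F V := by
  apply Units.ext
  rw [LinearEquiv.coe_det]
  have : (scal V c : V →ₗ[F] V) = (c : F) • LinearMap.id := by ext x; simp
  rw [this, LinearMap.det_smul]; simp

theorem exists_scal_eq [Nontrivial V] {g : V ≃ₗ[F] V} {c : F} (h : ∀ x, g x = c • x) :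
    ∃ c' : Fˣ, (c' : F) = c ∧ g = scal V c' := by
  obtain ⟨x, hx⟩ := exists_ne (0 : V)
  have hc : c ≠ 0 := by
    rintro rfl
    exact hx (g.injective (by rw [h]; simp))
  exact ⟨Units.mk0 c hc, rfl, LinearEquiv.ext h⟩

namespace FS
variable {f : FS P V} {u v : V}

theorem scal_mem_Isom {c : Fˣ} (hc : P.σ c * c = 1) : scal V c ∈ f.Isom :=
  ⟨fun x y => by simp; linear_combination (f.B x y) * hc, fun x => by simp [Q_smul, hc]⟩

theorem Nondeg.norm_of_scal_mem [Nontrivial V] (hf : f.Nondeg) {c : Fˣ} (hc : scal V c ∈ f.Isom) :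
    P.σ c * c = 1 := by
  obtain ⟨x, hx⟩ := exists_ne (0 : V)
  obtain ⟨y, hy⟩ : ∃ y, f.B x y ≠ 0 := by
    by_contra h
    push Not at h
    exact hx (hf.eq_zero h)
  have := Isom_B hc x y
  simp only [scal_apply, map_smul, B_smul_left, smul_eq_mul] at this
  apply mul_right_cancel₀ hy
  linear_combination this

/-- The special isometry group. -/
noncomputable def SI (f : FS P V) : Subgroup (V ≃ₗ[F] V) := f.Isom ⊓ (LinearEquiv.det).ker

theorem mem_SI {g : V ≃ₗ[F] V} : g ∈ f.SI ↔ g ∈ f.Isom ∧ g.det = 1 := Iff.rfl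

theorem SI_le : f.SI ≤ f.Isom := inf_le_left

theorem EO_le_SI [FiniteDimensional F V] : f.EO ≤ f.SI :=
  EO_le fun _ _ _ _ _ _ => ⟨f.eich_mem _ _ _ _ _ _, f.det_eich _ _ _⟩

/-- The linear map underlying a hyperbolic scaling. -/
def sMap (f : FS P V) (u v : V) (c : F) : V →ₗ[F] V :=
  LinearMap.id + (((c - 1) * P.ε) • f.B v).smulRight u + (((P.σ c)⁻¹ - 1) • f.B u).smulRight v

theorem sMap_apply (c : F) (x : V) : f.sMap u v c x =
    x + ((c - 1) * P.ε * f.B v x) • u + (((P.σ c)⁻¹ - 1) * f.B u x) • v := rfl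

theorem IsHyp.sMap_decomp (h : f.IsHyp u v) (c a b : F) {w : V} (hw : w ∈ f.hperp u v) :
    f.sMap u v c (a • u + b • v + w) = (c * a) • u + ((P.σ c)⁻¹ * b) • v + w := by
  rw [mem_hperp] at hw
  have := P.εε
  simp only [sMap_apply, map_add, map_smul, h.B11, h.B12, h.B21, h.B22, hw.1, hw.2, smul_eq_mul]
  match_scalars
  · linear_combination (c - 1) * a * this
  · ring
  · ring

theorem IsHyp.sMap_sMap (h : f.IsHyp u v) {c : F} (hc : c ≠ 0) (x : V) :
    f.sMap u v c⁻¹ (f.sMap u v c x) = x := by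
  obtain ⟨a, b, w, hw, rfl⟩ := h.decomp x
  have : P.σ c ≠ 0 := by simpa using hc
  rw [h.sMap_decomp _ _ _ hw, h.sMap_decomp _ _ _ hw, map_inv₀]
  congr 3 <;> field_simp

/-- Hyperbolic scaling `u ↦ c u`, `v ↦ (σ c)⁻¹ v`. -/
def IsHyp.scale (h : f.IsHyp u v) (c : F) (hc : c ≠ 0) : V ≃ₗ[F] V :=
  LinearEquiv.ofLinear (f.sMap u v c) (f.sMap u v c⁻¹)
    (LinearMap.ext fun x => by simpa using h.sMap_sMap (inv_ne_zero hc) x)
    (LinearMap.ext fun x => h.sMap_sMap hc x)

theorem IsHyp.scale_apply (h : f.IsHyp u v) (c : F) (hc : c ≠ 0) (x : V) : h.scale c hc x =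
    x + ((c - 1) * P.ε * f.B v x) • u + (((P.σ c)⁻¹ - 1) * f.B u x) • v := rfl

theorem IsHyp.scale_decomp (h : f.IsHyp u v) (c : F) (hc : c ≠ 0) (a b : F) {w : V}
    (hw : w ∈ f.hperp u v) :
    h.scale c hc (a • u + b • v + w) = (c * a) • u + ((P.σ c)⁻¹ * b) • v + w :=
  h.sMap_decomp c a b hw

theorem IsHyp.scale_left (h : f.IsHyp u v) (c : F) (hc : c ≠ 0) : h.scale c hc u = c • u := by
  simpa using h.scale_decomp c hc 1 0 (Submodule.zero_mem _)

theorem IsHyp.scale_right (h : f.IsHyp u v) (c : F) (hc : c ≠ 0) :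
    h.scale c hc v = (P.σ c)⁻¹ • v := by
  simpa using h.scale_decomp c hc 0 1 (Submodule.zero_mem _)

theorem IsHyp.scale_perp (h : f.IsHyp u v) (c : F) (hc : c ≠ 0) {w : V} (hw : w ∈ f.hperp u v) :
    h.scale c hc w = w := by
  simpa using h.scale_decomp c hc 0 0 hw

theorem IsHyp.B_decomp (h : f.IsHyp u v) (a b a' b' : F) {w w' : V} (hw : w ∈ f.hperp u v)
    (hw' : w' ∈ f.hperp u v) : f.B (a • u + b • v + w) (a' • u + b' • v + w') =
      P.σ a * b' + P.ε * (P.σ b * a') + f.B w w' := by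
  rw [mem_hperp] at hw hw'
  simp only [map_add, LinearMap.add_apply, B_smul_left, map_smul, h.B11, h.B12, h.B21, h.B22,
    hw'.1, hw'.2, B_comm_zero hw.1, B_comm_zero hw.2, smul_eq_mul]
  ring

theorem IsHyp.scale_mem (h : f.IsHyp u v) (c : F) (hc : c ≠ 0) : h.scale c hc ∈ f.Isom := by
  have : P.σ c ≠ 0 := by simpa using hc
  constructor
  · intro x y
    obtain ⟨a, b, w, hw, rfl⟩ := h.decomp x
    obtain ⟨a', b', w', hw', rfl⟩ := h.decomp y
    rw [h.scale_decomp _ _ _ _ hw, h.scale_decomp _ _ _ _ hw', h.B_decomp _ _ _ _ hw hw',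
      h.B_decomp _ _ _ _ hw hw']
    simp only [map_mul, map_inv₀, P.σσ]
    field_simp
  · intro x
    obtain ⟨a, b, w, hw, rfl⟩ := h.decomp x
    rw [h.scale_decomp _ _ _ _ hw, h.Q_decomp _ _ hw, h.Q_decomp _ _ hw]
    congr 2
    simp only [map_mul]
    field_simp

theorem IsHyp.det_scale [FiniteDimensional F V] (h : f.IsHyp u v) (c : F) (hc : c ≠ 0) :
    ((h.scale c hc).det : F) = c * (P.σ c)⁻¹ := by
  rw [LinearEquiv.coe_det]
  have : (h.scale c hc : V →ₗ[F] V) = LinearMap.transvection (((c - 1) * P.ε) • f.B v) u ∘ₗ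
      LinearMap.transvection (((P.σ c)⁻¹ - 1) • f.B u) v := by
    ext x
    simp [scale_apply, LinearMap.transvection.apply, h.B22]
    module
  rw [this, LinearMap.det_comp, LinearMap.transvection.det, LinearMap.transvection.det]
  have := P.εε
  simp only [LinearMap.smul_apply, h.B21, h.B12, smul_eq_mul]
  linear_combination (c - 1) * (P.σ c)⁻¹ * this

theorem IsHyp.scale_mul (h : f.IsHyp u v) (c d : F) (hc : c ≠ 0) (hd : d ≠ 0) :
    h.scale (c * d) (mul_ne_zero hc hd) = h.scale c hc * h.scale d hd := by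
  ext x
  obtain ⟨a, b, w, hw, rfl⟩ := h.decomp x
  rw [LinearEquiv.mul_apply, h.scale_decomp _ _ _ _ hw, h.scale_decomp _ _ _ _ hw,
    h.scale_decomp _ _ _ _ hw, map_mul, mul_inv, mul_assoc, mul_assoc]

/-! ### Gluing -/

variable {U : Type*} [AddCommGroup U] [Module F U] {f' : FS P U}

theorem IsIso.refl : f.IsIso f (LinearEquiv.refl F V) := ⟨fun _ _ => rfl, fun _ => rfl⟩

theorem IsIso.trans {T : Type*} [AddCommGroup T] [Module F T] {f'' : FS P T} {e : U ≃ₗ[F] V}
    {e' : V ≃ₗ[F] T} (h : f'.IsIso f e) (h' : f.IsIso f'' e') : f'.IsIso f'' (e.trans e') :=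
  ⟨fun x y => (h'.1 _ _).trans (h.1 x y), fun x => (h'.2 _).trans (h.2 x)⟩

theorem IsIso.card_Q {e : U ≃ₗ[F] V} (h : f'.IsIso f e) (c : F) :
    Nat.card {x // f'.Q x = c} = Nat.card {x // f.Q x = c} :=
  Nat.card_congr (e.toEquiv.subtypeEquiv fun x => by rw [← h.2 x]; rfl)

theorem IsIso.map_SI {e : U ≃ₗ[F] V} (h : f'.IsIso f e) :
    f'.SI.map (autCongr e).toMonoidHom = f.SI := by
  ext g
  constructor
  · rintro ⟨a, ⟨ha, hd⟩, rfl⟩
    exact ⟨h.autCongr_mem.2 ha, (det_autCongr e a).trans hd⟩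
  · rintro ⟨hg, hd⟩
    refine ⟨(autCongr e).symm g, ⟨h.autCongr_mem.1 (by simpa using hg), ?_⟩, by simp⟩
    have := det_autCongr e ((autCongr e).symm g)
    rw [MulEquiv.apply_symm_apply] at this
    exact this.symm.trans hd

/-- Isometric spaces have isomorphic special isometry groups. -/
noncomputable def IsIso.siEquiv {e : U ≃ₗ[F] V} (h : f'.IsIso f e) : f'.SI ≃* f.SI :=
  ((autCongr e).subgroupMap f'.SI).trans (MulEquiv.subgroupCongr h.map_SI)

theorem IsIso.glue {W' : Submodule F U} {W : Submodule F V} (h' : IsCompl W' (f'.perp W'))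
    (h : IsCompl W (f.perp W)) {e₁ : W' ≃ₗ[F] W} {e₂ : f'.perp W' ≃ₗ[F] f.perp W}
    (h₁ : (f'.res W').IsIso (f.res W) e₁) (h₂ : (f'.res (f'.perp W')).IsIso (f.res (f.perp W)) e₂) :
    ∃ e : U ≃ₗ[F] V, f'.IsIso f e ∧ (∀ x : W', e x = e₁ x) ∧ ∀ x : f'.perp W', e x = e₂ x := by
  let e : U ≃ₗ[F] V := (Submodule.prodEquivOfIsCompl _ _ h').symm ≪≫ₗ e₁.prodCongr e₂ ≪≫ₗ
    Submodule.prodEquivOfIsCompl _ _ h
  have he : ∀ (a : W') (b : f'.perp W'), e (a + b) = e₁ a + e₂ b := by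
    intro a b
    have : (Submodule.prodEquivOfIsCompl _ _ h').symm (a + b : U) = (a, b) := by
      rw [LinearEquiv.symm_apply_eq]; rfl
    simp only [e, LinearEquiv.trans_apply, this]
    rfl
  refine ⟨e, ⟨fun x y => ?_, fun x => ?_⟩, fun x => by simpa using he x 0,
    fun x => by simpa using he 0 x⟩
  · obtain ⟨a, b, rfl⟩ := exists_add_of_isCompl h' x
    obtain ⟨a', b', rfl⟩ := exists_add_of_isCompl h' y
    rw [he, he]
    have h1 := h₁.1 a a'
    have h2 := h₂.1 b b'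
    simp only [comap_B, Submodule.subtype_apply] at h1 h2
    simp only [map_add, LinearMap.add_apply, h1, h2, b'.2 a a.2, (e₂ b').2 _ (e₁ a).2,
      B_comm_zero (b.2 a' a'.2), B_comm_zero ((e₂ b).2 _ (e₁ a').2)]
  · obtain ⟨a, b, rfl⟩ := exists_add_of_isCompl h' x
    rw [he, Q_add_of_orth (b.2 a a.2), Q_add_of_orth ((e₂ b).2 _ (e₁ a).2)]
    have h1 := h₁.2 a
    have h2 := h₂.2 b
    simp only [comap_Q, Submodule.subtype_apply] at h1 h2
    rw [h1, h2]

theorem exists_isIso_span {ι : Type*} [Finite ι] {a : ι → U} {b : ι → V}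
    (ha : LinearIndependent F a) (hb : LinearIndependent F b)
    (hB : ∀ i j, f.B (b i) (b j) = f'.B (a i) (a j)) (hQ : ∀ i, f.Q (b i) = f'.Q (a i))
    {W' : Submodule F U} {W : Submodule F V} (hW' : W' = Submodule.span F (Set.range a))
    (hW : W = Submodule.span F (Set.range b)) :
    ∃ e : W' ≃ₗ[F] W, (f'.res W').IsIso (f.res W) e ∧
      ∀ i (hi : a i ∈ W'), (e ⟨a i, hi⟩ : V) = b i := by
  subst hW hW'
  refine ⟨_, isIso_of_basis (Basis.span ha) (Basis.span hb) (fun i j => by simpa using hB i j)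
    (fun i => by simpa using hQ i), fun i hi => ?_⟩
  have : (⟨a i, hi⟩ : Submodule.span F (Set.range a)) = Basis.span ha i :=
    (Basis.span_apply ha i).symm
  rw [this, Basis.equiv_apply]
  simp

theorem IsHyp.glue {u' v' : U} (h' : f'.IsHyp u' v') (h : f.IsHyp u v)
    {e₂ : f'.hperp u' v' ≃ₗ[F] f.hperp u v}
    (h₂ : (f'.res (f'.hperp u' v')).IsIso (f.res (f.hperp u v)) e₂) :
    ∃ e : U ≃ₗ[F] V, f'.IsIso f e ∧ e u' = u ∧ e v' = v ∧ ∀ x : f'.hperp u' v', e x = e₂ x := by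
  obtain ⟨e₁, h₁, he₁⟩ := exists_isIso_span (f := f) (f' := f') h'.linearIndependent
    h.linearIndependent
    (fun i j => by
      fin_cases i <;> fin_cases j <;>
        simp [h.B11, h.B12, h.B21, h.B22, h'.B11, h'.B12, h'.B21, h'.B22])
    (fun i => by fin_cases i <;> simp [h.Q1, h.Q2, h'.Q1, h'.Q2])
    (W' := Submodule.span F {u', v'}) (W := Submodule.span F {u, v})
    (by rw [Matrix.range_cons_cons_empty]) (by rw [Matrix.range_cons_cons_empty])
  obtain ⟨e, he, h1, h2⟩ := IsIso.glue h'.isCompl h.isCompl h₁ h₂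
  refine ⟨e, he, ?_, ?_, h2⟩
  · exact (h1 ⟨u', Submodule.subset_span (by simp)⟩).trans (he₁ 0 _)
  · exact (h1 ⟨v', Submodule.subset_span (by simp)⟩).trans (he₁ 1 _)

theorem glue_one [FiniteDimensional F U] [FiniteDimensional F V] (hf' : f'.Nondeg) (hf : f.Nondeg)
    {u' : U} (h' : f'.B u' u' ≠ 0) (hB : f.B u u = f'.B u' u') (hQ : f.Q u = f'.Q u')
    {e₂ : f'.perp (Submodule.span F {u'}) ≃ₗ[F] f.perp (Submodule.span F {u})}
    (h₂ : (f'.res _).IsIso (f.res _) e₂) :
    ∃ e : U ≃ₗ[F] V, f'.IsIso f e ∧ e u' = u := by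
  have h : f.B u u ≠ 0 := hB ▸ h'
  have hu' : u' ≠ 0 := by rintro rfl; simp at h'
  have hu : u ≠ 0 := by rintro rfl; simp at h
  obtain ⟨e₁, h₁, he₁⟩ := exists_isIso_span (f := f) (f' := f') (a := fun _ : Unit => u')
    (b := fun _ : Unit => u) (linearIndependent_unique_iff.2 hu')
    (linearIndependent_unique_iff.2 hu) (fun _ _ => hB) (fun _ => hQ)
    (W' := Submodule.span F {u'}) (W := Submodule.span F {u}) (by simp) (by simp)
  obtain ⟨e, he, h1, -⟩ := IsIso.glue (hf'.isCompl_perp (disjoint_perp_singleton h'))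
    (hf.isCompl_perp (disjoint_perp_singleton h)) h₁ h₂
  exact ⟨e, he, (h1 ⟨u', Submodule.subset_span (by simp)⟩).trans (he₁ () _)⟩

theorem isIso_of_subsingleton [Subsingleton U] [Subsingleton V] :
    ∃ e : U ≃ₗ[F] V, f'.IsIso f e :=
  ⟨LinearEquiv.ofSubsingleton U V, fun x y => by
    rw [Subsingleton.elim x 0]; simp, fun x => by rw [Subsingleton.elim x 0]; simp⟩

/-- Orbit-stabilizer for a non-isotropic vector. -/
theorem Nondeg.card_Isom_of_ne [FiniteDimensional F V] (hf : f.Nondeg) (hu : f.B u u ≠ 0) :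
    Nat.card f.Isom = Nat.card {x // f.Q x = f.Q u} *
      Nat.card (f.res (f.perp (Submodule.span F {u}))).Isom := by
  have hQ : f.Q u ≠ 0 := fun h => hu (B_self_of_Q h)
  have hu0 : u ≠ 0 := by rintro rfl; simp at hu
  rw [card_eq_orbit_mul f.Isom u {x | f.Q x = f.Q u}, ← fix_span,
    card_fix_eq' (hf.isCompl_perp (disjoint_perp_singleton hu))]
  · rfl
  · intro y
    constructor
    · intro hy
      exact witt_one hf hu0 (by rintro rfl; exact hQ (by simpa using hy.symm)) hy.symm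
    · rintro ⟨g, hg, rfl⟩
      exact Isom_Q hg u

end FS

end Cfsg.Agent.Class
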