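import Cfsg.Agent.Class.Uni

/-! Miscellaneous facts on formed spaces. -/

set_option autoImplicit false

namespace Cfsg.Agent.Class

open Module

variable {F : Type*} [Field F] {P : FP F} {V : Type*} [AddCommGroup V] [Module F V]

theorem card_and_ne_add_one {α : Type*} [Finite α] {p : α → Prop} {a : α} (ha : p a) :
    Nat.card {x // x ≠ a ∧ p x} + 1 = Nat.card {x // p x} := by
  have h1 : Nat.card {x // x ≠ a ∧ p x} = Nat.card {x : {x // p x} // x ≠ ⟨a, ha⟩} :=
    Nat.card_congr ⟨fun x => ⟨⟨x.1, x.2.2⟩, fun h => x.2.1 (congrArg Subtype.val h)⟩,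
      fun x => ⟨x.1.1, fun h => x.2 (Subtype.ext h), x.1.2⟩, fun _ => rfl, fun _ => rfl⟩
  have : Nonempty {x // p x} := ⟨⟨a, ha⟩⟩
  have h2 : 0 < Nat.card {x // p x} := Nat.card_pos
  rw [h1, card_ne_zero]; omega

namespace FS
variable {f : FS P V}

theorem card_sing_add_one [Finite V] :
    Nat.card {x // x ≠ 0 ∧ f.Q x = 0} + 1 = Nat.card {x // f.Q x = 0} :=
  card_and_ne_add_one f.Q_zero

end FS

end Cfsg.Agent.Class
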