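import Cfsg.Agent.Class.Aut7

/-! Generation of the elementary group and the commutator subgroup over arbitrary fields. -/

set_option autoImplicit false

namespace Cfsg.Agent.Class

open Module
open scoped commutatorElement

variable {F : Type*} [Field F] {P : FP F} {V : Type*} [AddCommGroup V] [Module F V]

theorem comm_mul_left {G : Type*} [Group G] {z x y : G} (h1 : Commute z x) (h2 : Commute z y) :
    ⁅z * x, y⁆ = ⁅x, y⁆ := by
  have := ((h1.mul_right h2).mul_right h1.inv_right).eq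
  rw [commutatorElement_def, commutatorElement_def]
  calc _ = z * (x * y * x⁻¹) * z⁻¹ * y⁻¹ := by group
    _ = _ := by rw [this]; group

theorem comm_mul_right {G : Type*} [Group G] {z x y : G} (h1 : Commute z x) (h2 : Commute z y) :
    ⁅x, z * y⁆ = ⁅x, y⁆ := by
  rw [← commutatorElement_inv, comm_mul_left h2 h1, commutatorElement_inv]

namespace FS
variable {f : FS P V} {u v : V}

/-- There is a singular vector opposite to both members of the pair. -/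
def Opp (f : FS P V) (u v : V) : Prop := ∃ w ∈ f.hperp u v, ∃ a, a ≠ 0 ∧ P.τ a = f.Q w

/-- The radical contains no singular vector. -/
def NRad (f : FS P V) : Prop := ∀ x, x ≠ 0 → f.Q x = 0 → ∃ y, f.B x y ≠ 0

theorem Nondeg.nRad (hf : f.Nondeg) : f.NRad := fun x hx _ => by
  by_contra! h
  exact hx (hf.eq_zero h)

theorem IsHyp.exists_move (h : f.IsHyp u v) (ho : f.Opp u v) {x : V} (hx : f.Q x = 0)
    (hy : ∃ y, f.B x y ≠ 0) : ∃ k ∈ f.X u h.Q1 ⊔ f.X v h.Q2, ∃ c : F, c ≠ 0 ∧ k x = c • u := by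
  have hI : f.X u h.Q1 ⊔ f.X v h.Q2 ≤ f.Isom := sup_le (X_le_Isom _) (X_le_Isom _)
  have s1 : ∀ x, f.Q x = 0 → f.B v x ≠ 0 →
      ∃ k ∈ f.X u h.Q1 ⊔ f.X v h.Q2, ∃ c : F, c ≠ 0 ∧ k x = c • u := fun x hx h1 => by
    obtain ⟨g, hg, e⟩ := X_trans h.Q2 (isHyp_of_ne h.Q2 hx h1).Q2 h.swap.Q2
      (isHyp_of_ne h.Q2 hx h1).B12 h.swap.B12
    refine ⟨g, Subgroup.mem_sup_right hg, f.B v x * P.ε, mul_ne_zero h1 P.ε_ne, ?_⟩
    rw [map_smul, inv_smul_eq_iff₀ h1] at e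
    rw [e, smul_smul]
  have s2 : ∀ x, f.Q x = 0 → f.B u x ≠ 0 →
      ∃ k ∈ f.X u h.Q1 ⊔ f.X v h.Q2, ∃ c : F, c ≠ 0 ∧ k x = c • u := fun x hx h1 => by
    obtain ⟨w, hw, a, ha, hτ⟩ := ho
    have hs := h.E_right ⟨w, hw⟩ a hτ
    have hI := X_le_Isom _ (h.E_mem ⟨w, hw⟩ a hτ)
    obtain ⟨g, hg, e⟩ := X_trans h.Q1 (isHyp_of_ne h.Q1 hx h1).Q2 ((Isom_Q hI v).trans h.Q2)
      (isHyp_of_ne h.Q1 hx h1).B12 (by simp [hs, h.B12, h.B11, (mem_hperp.1 hw).1])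
    rw [map_smul, inv_smul_eq_iff₀ h1] at e
    obtain ⟨k, hk, c, hc, e'⟩ := s1 (g x) (by rw [Isom_Q (X_le_Isom _ hg), hx]) (by
      simp [e, hs, h.B21, h.B22, (mem_hperp.1 hw).2, h1, ha, P.ε_ne])
    exact ⟨k * g, mul_mem hk (Subgroup.mem_sup_left hg), c, hc, e'⟩
  by_cases h1 : f.B v x = 0
  swap; · exact s1 x hx h1
  by_cases h2 : f.B u x = 0
  swap; · exact s2 x hx h2
  obtain ⟨y, hy⟩ := hy
  obtain ⟨a, b, w, hw, rfl⟩ := h.decomp y
  have h3 : f.B w x ≠ 0 := B_ne_zero_comm (by simpa [B_comm_zero h1, B_comm_zero h2] using hy)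
  obtain ⟨a', ha'⟩ := f.ex w
  have hg := eich_mem_X h.Q2 (mem_hperp.1 hw).2 ha'
  obtain ⟨k, hk, c, hc, e'⟩ := s2 (f.eich v w a' h.Q2 (mem_hperp.1 hw).2 ha' x)
    (by rw [Isom_Q (X_le_Isom _ hg), hx]) (by simp [eich_apply, h1, h2, h3, h.B12, P.ε_ne])
  exact ⟨k * _, mul_mem hk (Subgroup.mem_sup_right hg), c, hc, e'⟩

theorem IsHyp.EO_le_sup (h : f.IsHyp u v) (ho : f.Opp u v) (hr : f.NRad) :
    f.EO ≤ f.X u h.Q1 ⊔ f.X v h.Q2 := by
  refine EO_le fun z w a hz hw ha => ?_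
  by_cases h0 : z = 0
  · have : f.eich z w a hz hw ha = 1 := by
      ext x
      simp [eich_apply, h0]
    exact this ▸ one_mem _
  obtain ⟨k, hk, c, -, e⟩ := h.exists_move ho hz (hr z h0 hz)
  have h1 := conj_mem_X hz (sup_le (X_le_Isom _) (X_le_Isom _) hk) (eich_mem_X hz hw ha)
  simp only [e] at h1
  have h2 := Subgroup.mem_sup_left (T := f.X v h.Q2) (X_smul_le h.Q1 c h1)
  simpa [mul_assoc] using mul_mem (mul_mem (inv_mem hk) h2) hk

theorem NRad.exists_partner (hr : f.NRad) (hu : f.Q u = 0) (h0 : u ≠ 0) : ∃ v, f.IsHyp u v := by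
  obtain ⟨y, hy⟩ := hr u h0 hu
  obtain ⟨c, hc⟩ := exists_singular_add hu (w := (f.B u y)⁻¹ • y) (by simp [hy])
  exact ⟨_, hu, hc, by simp [hy, B_self_of_Q hu]⟩

theorem IsHyp.exists_lev (h : f.IsHyp u v) (ho : f.Opp u v) {g : V ≃ₗ[F] V} (hg : g ∈ f.Isom) :
    ∃ k ∈ f.EO, ∃ c : F, c ≠ 0 ∧ k (g u) = c • u ∧ k (g v) = (P.σ c)⁻¹ • v := by
  obtain ⟨k, hk, c, hc, e⟩ := h.exists_move ho (h.map hg).Q1 ⟨g v, by simp [(h.map hg).B12]⟩
  have hk' : k ∈ f.EO := sup_le (X_le_EO _) (X_le_EO _) hk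
  have h1 := (h.map hg).map (EO_le_Isom hk')
  have h2 := h1.B12
  rw [e, B_smul_left] at h2
  obtain ⟨k', hk'', e'⟩ := X_trans h.Q1 (r := P.σ c • k (g v)) (by rw [Q_smul, h1.Q2, mul_zero]) h.Q2
    (by simpa using h2) h.B12
  refine ⟨k' * k, mul_mem (X_le_EO _ hk'') hk', c, hc, by simp [e, X_fix _ hk''], ?_⟩
  rw [map_smul] at e'
  exact (eq_inv_smul_iff₀ (by simpa using hc)).2 e'

/-- Extension of automorphisms of the complement of a hyperbolic pair. -/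
noncomputable def IsHyp.extd (h : f.IsHyp u v) : (f.hperp u v ≃ₗ[F] f.hperp u v) →* (V ≃ₗ[F] V) :=
  (sumAut h.isCompl).comp (MonoidHom.inr _ _)

theorem IsHyp.extd_apply (h : f.IsHyp u v) (k : f.hperp u v ≃ₗ[F] f.hperp u v) (a b : F)
    (w : f.hperp u v) : h.extd k (a • u + b • v + w) = a • u + b • v + k w :=
  sumAut_apply h.isCompl (1, k) ⟨a • u + b • v, add_mem
    (Submodule.smul_mem _ _ (Submodule.subset_span (by simp)))
    (Submodule.smul_mem _ _ (Submodule.subset_span (by simp)))⟩ w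

theorem IsHyp.ext' (h : f.IsHyp u v) {g k : V ≃ₗ[F] V}
    (H : ∀ (a b : F) (w : f.hperp u v), g (a • u + b • v + w) = k (a • u + b • v + w)) : g = k := by
  ext x
  obtain ⟨a, b, w, hw, rfl⟩ := h.decomp x
  exact H a b ⟨w, hw⟩

theorem IsHyp.extd_mem_EO (h : f.IsHyp u v) {k : f.hperp u v ≃ₗ[F] f.hperp u v}
    (hk : k ∈ (f.res (f.hperp u v)).EO) : h.extd k ∈ f.EO := by
  refine EO_le (G := f.EO.comap h.extd) (fun z w a hz hw ha => ?_) hk
  have e1 : ∀ x : f.hperp u v, f.B x u = 0 := fun x => B_comm_zero (mem_hperp.1 x.2).1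
  have e2 : ∀ x : f.hperp u v, f.B x v = 0 := fun x => B_comm_zero (mem_hperp.1 x.2).2
  have : h.extd ((f.res (f.hperp u v)).eich z w a hz hw ha) = f.eich z w a hz hw ha :=
    h.ext' fun a b x => by
      rw [h.extd_apply]
      refine Eq.trans ?_ (f.eich_apply _ _ _ _ _ _ _).symm
      simp [eich_apply, e1, e2]
      abel
  exact Subgroup.mem_comap.2 (this ▸ eich_mem_EO _ _ _)

variable [FiniteDimensional F V]

theorem IsHyp.exists_lev' (h : f.IsHyp u v) (ho : f.Opp u v) {g : V ≃ₗ[F] V} (hg : g ∈ f.Isom) :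
    ∃ k ∈ f.EO, ∃ (c : F) (hc : c ≠ 0), ∃ r ∈ (f.res (f.hperp u v)).Isom,
      k * g = h.scale c hc * h.extd r := by
  obtain ⟨k, hk, c, hc, e1, e2⟩ := h.exists_lev ho hg
  have hI : k * g ∈ f.Isom := mul_mem (EO_le_Isom hk) hg
  have hs := mem_stab_hperp hI e1 e2
  refine ⟨k, hk, c, hc, resAut _ _ hs, ⟨fun x y => hI.1 _ _, fun x => hI.2 _⟩, h.ext' fun a b w => ?_⟩
  rw [LinearEquiv.mul_apply (h.scale c hc), h.extd_apply, h.scale_decomp _ _ _ _ (Subtype.prop _)]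
  simp [e1, e2, smul_smul, mul_comm]
  rfl

theorem IsHyp.comm_mem_EO (h : f.IsHyp u v) (ho : f.Opp u v)
    (H : ∀ a ∈ (f.res (f.hperp u v)).Isom, ∀ b ∈ (f.res (f.hperp u v)).Isom, h.extd ⁅a, b⁆ ∈ f.EO) :
    ∀ a ∈ f.Isom, ∀ b ∈ f.Isom, ⁅a, b⁆ ∈ f.EO := fun a ha b hb => by
  have : (f.EO.subgroupOf f.Isom).Normal := ⟨fun _ hx g => conj_mem_EO g.2 hx⟩
  obtain ⟨k, hk, c, hc, r, hr, e⟩ := h.exists_lev' ho ha
  obtain ⟨k', hk', c', hc', r', hr', e'⟩ := h.exists_lev' ho hb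
  have c1 : ∀ c hc r, Commute (h.scale c hc) (h.extd r) := fun c hc r => h.ext' fun a b w => by
    simp only [LinearEquiv.mul_apply, h.extd_apply, h.scale_decomp _ _ _ _ (Subtype.prop _)]
  have c2 : Commute (h.scale c hc) (h.scale c' hc') := by
    rw [Commute, SemiconjBy, ← h.scale_mul, ← h.scale_mul]; simp only [mul_comm]
  have e3 : ⁅k * a, k' * b⁆ = h.extd ⁅r, r'⁆ := by
    rw [e, e', map_commutatorElement, comm_mul_left (c1 _ _ _) (c2.mul_right (c1 _ _ _)),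
      comm_mul_right (c1 _ _ _) (c1 _ _ _)]
  let π := QuotientGroup.mk' (f.EO.subgroupOf f.Isom)
  have p1 : π ⟨k, EO_le_Isom hk⟩ = 1 := (QuotientGroup.eq_one_iff _).2 hk
  have p2 : π ⟨k', EO_le_Isom hk'⟩ = 1 := (QuotientGroup.eq_one_iff _).2 hk'
  have p3 : π ⁅(⟨k, EO_le_Isom hk⟩ * ⟨a, ha⟩ : f.Isom), ⟨k', EO_le_Isom hk'⟩ * ⟨b, hb⟩⁆ = 1 :=
    (QuotientGroup.eq_one_iff _).2 (show ⁅k * a, k' * b⁆ ∈ f.EO from e3 ▸ H r hr r' hr')
  rw [map_commutatorElement, map_mul, map_mul, p1, p2, one_mul, one_mul,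
    ← map_commutatorElement] at p3
  exact (QuotientGroup.eq_one_iff (N := f.EO.subgroupOf f.Isom) ⁅(⟨a, ha⟩ : f.Isom), ⟨b, hb⟩⁆).1 p3

/-! ### Orthogonal groups -/

variable {f : OS F V}

omit [FiniteDimensional F V] in
theorem ee_mem_EO (u v : V) : (f.ee u v).1 ∈ f.EO := ee_mem_EOs u v

omit [FiniteDimensional F V] in
theorem EO_le_comm (hr : f.NRad) {c : F} (h0 : c ≠ 0) (h1 : c ≠ 1) : f.EOs ≤ commutator f.Isom := by
  refine EOs_le fun u w hu hw => ?_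
  by_cases hu0 : u = 0
  · rw [hu0, ee_zero_left]; exact one_mem _
  obtain ⟨v, h⟩ := hr.exists_partner hu hu0
  obtain ⟨a, b, w, hw', rfl⟩ := h.decomp w
  have h2 := (mem_hperp.1 hw').1
  have hb : b = 0 := by simpa [h.B11, h.B12, h2] using hw
  have h3 : c - 1 ≠ 0 := sub_ne_zero.2 h1
  have h4 : f.B u ((c - 1)⁻¹ • w) = 0 := by simp [h2]
  have := Subgroup.commutator_mem_commutator (Subgroup.mem_top (⟨_, h.scale_mem c h0⟩ : f.Isom))
    (Subgroup.mem_top (f.ee u ((c - 1)⁻¹ • w)))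
  rw [commutatorElement_def, conj_ee, ← ee_neg hu h4] at this
  simp only [h.scale_left, h.scale_perp _ _ (Submodule.smul_mem _ _ hw')] at this
  rw [ee_smul hu h4, ← ee_add hu (by simp [h2]) (by simp [h2])] at this
  rw [hb, zero_smul, add_zero, add_comm, ee_add_smul hu h2]
  have e : c • (c - 1)⁻¹ • w + -((c - 1)⁻¹ • w) = w := by
    match_scalars
    field_simp
    ring
  rwa [e] at this

omit [FiniteDimensional F V] in
theorem scale_mul_scale_mem {z z' : V} (h : f.IsHyp u v) (hz : f.IsHyp z z') (h1 : z ∈ f.hperp u v)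
    (h2 : z' ∈ f.hperp u v) {t : F} (ht : t ≠ 0) : hz.scale t ht * h.scale t ht ∈ f.EO := by
  obtain ⟨a1, a2⟩ := mem_hperp.1 h1
  obtain ⟨a3, a4⟩ := mem_hperp.1 h2
  have b1 := B_comm_zero a1
  have b2 := B_comm_zero a2
  have b3 := B_comm_zero a3
  have b4 := B_comm_zero a4
  have c1 : f.B v u = 1 := h.B21
  have c2 : f.B z' z = 1 := hz.B21
  have n : ∀ t : F, t ≠ 0 → ∃ g ∈ f.EO, g z = t⁻¹ • v ∧ g v = -t • z ∧ g u = -t⁻¹ • z' ∧
      g z' = t • u ∧ ∀ w, w ∈ f.hperp u v → w ∈ f.hperp z z' → g w = w := fun t ht => by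
    have e1 := ee_apply hz.Q1 (v := t • u) (by simp [b1])
    have e2 := ee_apply hz.Q2 (v := t⁻¹ • v) (by simp [b4])
    refine ⟨(f.ee z (t • u)).1 * (f.ee z' (t⁻¹ • v)).1 * (f.ee z (t • u)).1,
      mul_mem (mul_mem (ee_mem_EO _ _) (ee_mem_EO _ _)) (ee_mem_EO _ _), ?_, ?_, ?_, ?_,
      fun w hw hw' => ?_⟩
    rotate_right
    · obtain ⟨d1, d2⟩ := mem_hperp.1 hw
      obtain ⟨d3, d4⟩ := mem_hperp.1 hw'
      simp [e1, e2, d1, d2, d3, d4]
    all_goals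
      simp [e1, e2, orth_Q_smul, h.Q1, h.Q2, h.B11, h.B12, h.B22, hz.B11, hz.B12, hz.B22, a1, a2,
        a3, a4, b1, b2, b3, b4, c1, c2, ht, smul_smul]
      try abel
  obtain ⟨g, hg, g1, g2, g3, g4, g5⟩ := n t ht
  obtain ⟨k, hk, k1, k2, k3, k4, k5⟩ := n (-1) (by simp)
  convert mul_mem hg hk using 1
  have hu : u ∈ f.hperp z z' := mem_hperp.2 ⟨b1, b3⟩
  have hv : v ∈ f.hperp z z' := mem_hperp.2 ⟨b2, b4⟩
  ext x
  obtain ⟨a, b, w, hw, rfl⟩ := h.decomp x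
  obtain ⟨c, d, w, hw', rfl⟩ := hz.decomp w
  have hw'' : w ∈ f.hperp u v := by
    simpa using sub_mem hw (add_mem (Submodule.smul_mem _ c h1) (Submodule.smul_mem _ d h2))
  simp [g1, g2, g3, g4, g5 w hw'' hw', k1, k2, k3, k4, k5 w hw'' hw', h.scale_left, h.scale_right,
    hz.scale_left, hz.scale_right, h.scale_perp _ _ h1, h.scale_perp _ _ h2, h.scale_perp _ _ hw'',
    hz.scale_perp _ _ hu, hz.scale_perp _ _ hv, hz.scale_perp _ _ hw']

omit [FiniteDimensional F V] in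
theorem scale_sq_mem {z z' : V} (h : f.IsHyp u v) (hz : f.IsHyp z z') (h1 : z ∈ f.hperp u v)
    (h2 : z' ∈ f.hperp u v) {t : F} (ht : t ≠ 0) : hz.scale (t * t) (mul_ne_zero ht ht) ∈ f.EO := by
  have e1 := scale_mul_scale_mem h hz h1 h2 ht
  have e2 := scale_mul_scale_mem h.orth_swap hz (mem_hperp.2 (mem_hperp.1 h1).symm)
    (mem_hperp.2 (mem_hperp.1 h2).symm) ht
  convert mul_mem e1 e2 using 1
  have c1 : f.B v u = 1 := h.B21
  obtain ⟨a1, a2⟩ := mem_hperp.1 h1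
  obtain ⟨a3, a4⟩ := mem_hperp.1 h2
  ext x
  simp only [LinearEquiv.mul_apply, IsHyp.scale_apply, map_add, map_smul, FP.orth_σ, FP.orth_ε,
    smul_eq_mul, h.B11, h.B12, h.B22, hz.B11, hz.B12, hz.B22, hz.B21, a1, a2, a3, a4, c1,
    B_comm_zero a1, B_comm_zero a2, B_comm_zero a3, B_comm_zero a4]
  match_scalars <;> field_simp <;> ring

theorem plane_cases (h : f.IsHyp u v) (hn : finrank F V = 2) {g : V ≃ₗ[F] V} (hg : g ∈ f.Isom) :
    ∃ c : F, c ≠ 0 ∧ ((g u = c • u ∧ g v = c⁻¹ • v) ∨ (g u = c • v ∧ g v = c⁻¹ • u)) := by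
  have h0 : f.hperp u v = ⊥ := Submodule.finrank_eq_zero.1 (by have := h.finrank_hperp; omega)
  have c1 : f.B v u = 1 := h.B21
  have h1 := h.map hg
  obtain ⟨a, b, w, hw, e⟩ := h.decomp (g u)
  obtain ⟨c, d, w', hw', e'⟩ := h.decomp (g v)
  have q1 := h1.Q1
  have q2 := h1.Q2
  have q3 := h1.B12
  rw [e, h.orth_Q _ _ hw] at q1
  rw [e', h.orth_Q _ _ hw'] at q2
  rw [e, e', h.B_decomp _ _ _ _ hw hw'] at q3
  rw [h0, Submodule.mem_bot] at hw hw'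
  subst hw hw'
  simp only [Q_zero, add_zero, mul_eq_zero, FP.orth_σ, FP.orth_ε, one_mul, map_zero] at q1 q2 q3 e e'
  rcases q1 with rfl | rfl <;> rcases q2 with rfl | rfl
  · simp at q3
  · refine ⟨b, fun h => by simp [h] at q3, Or.inr ⟨by simp [e], ?_⟩⟩
    rw [e', ← eq_inv_of_mul_eq_one_right (by simpa using q3)]; simp
  · refine ⟨a, fun h => by simp [h] at q3, Or.inl ⟨by simp [e], ?_⟩⟩
    rw [e', ← eq_inv_of_mul_eq_one_right (by simpa using q3)]; simp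
  · simp at q3

theorem plane_comm (h : f.IsHyp u v) (hn : finrank F V = 2) {a b : V ≃ₗ[F] V} (ha : a ∈ f.Isom)
    (hb : b ∈ f.Isom) : ∃ t : F, t ≠ 0 ∧ ⁅a, b⁆ u = (t * t) • u ∧ ⁅a, b⁆ v = (t * t)⁻¹ • v := by
  have e : ∀ x, ⁅a, b⁆ (b (a x)) = a (b x) := fun x => by simp [commutatorElement_def]
  have e1 := e u
  have e2 := e v
  obtain ⟨c, hc, ⟨a1, a2⟩ | ⟨a1, a2⟩⟩ := plane_cases h hn ha <;>
  obtain ⟨d, hd, ⟨b1, b2⟩ | ⟨b1, b2⟩⟩ := plane_cases h hn hb <;>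
  simp only [a1, a2, b1, b2, map_smul, smul_smul] at e1 e2 <;>
  rw [← eq_inv_smul_iff₀ (by simp [hc, hd]), smul_smul] at e1 e2
  · refine ⟨1, one_ne_zero, ?_, ?_⟩ <;> simp only [e1, e2] <;> congr 1 <;> field_simp
  · refine ⟨c, hc, ?_, ?_⟩ <;> simp only [e1, e2] <;> congr 1 <;> field_simp
  · refine ⟨d⁻¹, inv_ne_zero hd, ?_, ?_⟩ <;> simp only [e1, e2] <;> congr 1 <;> field_simp
  · refine ⟨d / c, div_ne_zero hd hc, ?_, ?_⟩ <;> simp only [e1, e2] <;> congr 1 <;> field_simp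

theorem opp_of_hyp {z z' : f.hperp u v} (hz : (f.res (f.hperp u v)).IsHyp z z') : f.Opp u v :=
  ⟨_, (z + z').2, 1, one_ne_zero, by simpa using (hz.universal 1).symm⟩

theorem comm_mem_EO_plus (m : ℕ) : ∀ {V : Type*} [AddCommGroup V] [Module F V]
    [FiniteDimensional F V] {f : OS F V}, f.Nondeg → finrank F V = 2 * (m + 2) → f.wi (m + 2) →
    ∀ a ∈ f.Isom, ∀ b ∈ f.Isom, ⁅a, b⁆ ∈ f.EO := by
  have hyp : ∀ {V : Type _} [AddCommGroup V] [Module F V] [FiniteDimensional F V] {f : OS F V},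
      f.Nondeg → f.wi 1 → ∃ u v, f.IsHyp u v := fun hf hw => by
    obtain ⟨u, h0, hu⟩ := wi_one.1 hw
    exact ⟨u, hf.exists_partner' hu h0⟩
  induction m with
  | zero =>
    intro V _ _ _ f hf hn hw
    obtain ⟨u, v, h⟩ := hyp hf (hw.mono (by omega))
    obtain ⟨z, z', hz⟩ := hyp (h.nondeg_hperp hf) ((wi_succ hf h 1).1 hw)
    refine h.comm_mem_EO (opp_of_hyp hz) fun a ha b hb => ?_
    have h2 : finrank F (f.hperp u v) = 2 := by have := h.finrank_hperp; omega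
    obtain ⟨t, ht, e1, e2⟩ := plane_comm hz h2 ha hb
    convert scale_sq_mem h hz.of_res z.2 z'.2 ht using 1
    refine h.ext' fun c d w => ?_
    obtain ⟨c', d', w, hw, rfl⟩ := hz.decomp w
    have h0 : (f.res (f.hperp u v)).hperp z z' = ⊥ :=
      Submodule.finrank_eq_zero.1 (by have := hz.finrank_hperp; omega)
    rw [h0, Submodule.mem_bot] at hw
    have hu : u ∈ f.hperp z z' :=
      mem_hperp.2 ⟨B_comm_zero (mem_hperp.1 z.2).1, B_comm_zero (mem_hperp.1 z'.2).1⟩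
    have hv : v ∈ f.hperp z z' :=
      mem_hperp.2 ⟨B_comm_zero (mem_hperp.1 z.2).2, B_comm_zero (mem_hperp.1 z'.2).2⟩
    rw [h.extd_apply]
    simp [hw, e1, e2, hz.of_res.scale_left, hz.of_res.scale_right, hz.of_res.scale_perp _ _ hu,
      hz.of_res.scale_perp _ _ hv]
  | succ m ih =>
    intro V _ _ _ f hf hn hw
    obtain ⟨u, v, h⟩ := hyp hf (hw.mono (by omega))
    have hw' := (wi_succ hf h _).1 hw
    obtain ⟨z, z', hz⟩ := hyp (h.nondeg_hperp hf) (hw'.mono (by omega))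
    exact h.comm_mem_EO (opp_of_hyp hz) fun a ha b hb => h.extd_mem_EO
      (ih (h.nondeg_hperp hf) (by have := h.finrank_hperp; omega) hw' a ha b hb)

theorem comm_mem_EO_three (h : f.IsHyp u v) (ho : f.Opp u v) (hn : finrank F V = 3) :
    ∀ a ∈ f.Isom, ∀ b ∈ f.Isom, ⁅a, b⁆ ∈ f.EO := by
  refine h.comm_mem_EO ho fun a _ b _ => ?_
  have h1 : finrank F (f.hperp u v) = 1 := by have := h.finrank_hperp; omega
  obtain ⟨e, -, he⟩ := finrank_eq_one_iff'.1 h1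
  have : ⁅a, b⁆ = 1 := by
    rw [commutatorElement_eq_one_iff_mul_comm]
    ext x
    obtain ⟨c, rfl⟩ := he x
    obtain ⟨c1, h1⟩ := he (a e)
    obtain ⟨c2, h2⟩ := he (b e)
    simp [← h1, ← h2, smul_smul, mul_comm, mul_left_comm]
  rw [this, map_one]
  exact one_mem _

omit [FiniteDimensional F V] in
theorem EOs_eq_of (h1 : f.EOs ≤ commutator f.Isom)
    (h2 : ∀ a ∈ f.Isom, ∀ b ∈ f.Isom, ⁅a, b⁆ ∈ f.EO) : f.EOs = commutator f.Isom :=
  le_antisymm h1 (Subgroup.commutator_le.2 fun a _ b _ => h2 a a.2 b b.2)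

end FS

open FS

theorem finite_of_not_exists (h : ¬ ∃ a : F, a ≠ 0 ∧ a ≠ 1) : Finite F :=
  Finite.of_surjective (fun b : Bool => if b then (1 : F) else 0) fun a => by
    by_cases h0 : a = 0
    · exact ⟨false, h0.symm⟩
    · exact ⟨true, by_contra fun h1 => h ⟨a, h0, fun h2 => h1 h2.symm⟩⟩

theorem plus_EOs_eq (m : ℕ) (hm : 3 ≤ m) : (plusOS F m).EOs = commutator (plusOS F m).Isom := by
  have hn := plusOS_finrank F m
  by_cases h : ∃ a : F, a ≠ 0 ∧ a ≠ 1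
  · obtain ⟨a, h0, h1⟩ := h
    obtain ⟨k, rfl⟩ : ∃ k, m = k + 2 := ⟨m - 2, by omega⟩
    exact EOs_eq_of (EO_le_comm (plusOS_nondeg F _).nRad h0 h1)
      (comm_mem_EO_plus k (plusOS_nondeg F _) hn (plusOS_wi F _))
  · have := finite_of_not_exists h
    exact EOs_eq (plusOS_nondeg F _) (rc_of_five (by omega)) (by omega)

end Cfsg.Agent.Class
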