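import Cfsg.Agent.Class.FS5

/-! Unitary spaces over finite fields. -/

set_option autoImplicit false

namespace Cfsg.Agent.Class

open Module
open scoped commutatorElement

variable {F : Type*} [Field F]

/-- `σ` is the involution `x ↦ x ^ q` of a field with `q ^ 2` elements. -/
structure UF (σ : F →+* F) (q : ℕ) : Prop where
  card : Nat.card F = q ^ 2
  two_le : 2 ≤ q
  eq : ∀ a, σ a = a ^ q

theorem exists_UF [Fintype F] {q : ℕ} (hF : Fintype.card F = q ^ 2) : ∃ σ : F →+* F, UF σ q := by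
  obtain ⟨p, hp, n, hpp, hn⟩ := FiniteField.card' F
  have : Fact p.Prime := ⟨hpp⟩
  have hq : q ∣ p ^ (n : ℕ) := by rw [← hn, hF]; exact dvd_pow_self q two_ne_zero
  obtain ⟨k, -, hk⟩ := (Nat.dvd_prime_pow hpp).1 hq
  refine ⟨iterateFrobenius F p k, by rw [Nat.card_eq_fintype_card, hF], ?_,
    fun a => by rw [iterateFrobenius_def, hk]⟩
  have := Fintype.one_lt_card (α := F)
  rw [hF] at this
  by_contra h
  have h' : q = 0 ∨ q = 1 := by omega
  rcases h' with h' | h' <;> rw [h'] at this <;> simp at this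

theorem card_pow_eq_one [Finite F] {n : ℕ} (hn : n ≠ 0) :
    Nat.card {x : F // x ^ n = 1} = Nat.gcd n (Nat.card F - 1) := by
  have := Fintype.ofFinite F
  rw [Nat.card_eq_fintype_card (α := F), ← card_rootsOfUnity_eq_gcd]
  have : NeZero n := ⟨hn⟩
  refine Nat.card_congr (Equiv.symm ?_)
  exact (rootsOfUnityEquivNthRoots F n).trans (Equiv.subtypeEquivRight fun x => by
    simp [Polynomial.mem_nthRoots (Nat.pos_of_ne_zero hn)])

theorem card_pow_self [Finite F] {q : ℕ} (hq : 2 ≤ q) :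
    Nat.card {x : F // x ^ q = x} = Nat.gcd (q - 1) (Nat.card F - 1) + 1 := by
  classical
  have := Fintype.ofFinite F
  rw [← card_pow_eq_one (by omega), Nat.subtype_card (Finset.univ.filter fun x : F => x ^ q = x)
    (by simp), Nat.subtype_card (Finset.univ.filter fun x : F => x ^ (q - 1) = 1) (by simp),
    ← Finset.card_insert_of_notMem (a := 0) (by simp [show q - 1 ≠ 0 by omega])]
  congr 1
  ext x
  obtain ⟨k, rfl⟩ : ∃ k, q = k + 1 := ⟨q - 1, by omega⟩
  by_cases hx : x = 0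
  · simp [hx]
  · simp [hx, pow_succ]

namespace UF
variable {σ : F →+* F} {q : ℕ}

theorem finite (h : UF σ q) : Finite F :=
  Nat.finite_of_card_ne_zero (by rw [h.card]; have := h.two_le; positivity)

theorem σσ (h : UF σ q) (a : F) : σ (σ a) = a := by
  have := h.finite
  have := Fintype.ofFinite F
  rw [h.eq, h.eq, ← pow_mul, ← sq, ← h.card, Nat.card_eq_fintype_card, FiniteField.pow_card]

theorem card_sub_one (h : UF σ q) : Nat.card F - 1 = (q - 1) * (q + 1) := by
  rw [h.card]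
  obtain ⟨k, rfl⟩ : ∃ k, q = k + 1 := ⟨q - 1, by have := h.two_le; omega⟩
  simp only [Nat.add_sub_cancel]
  apply Nat.sub_eq_of_eq_add; ring

theorem card_fixed (h : UF σ q) : Nat.card {x : F // σ x = x} = q := by
  have := h.finite
  simp only [h.eq]
  rw [card_pow_self h.two_le, h.card_sub_one, Nat.gcd_mul_right_right]
  have := h.two_le; omega

theorem ne_id (h : UF σ q) : σ ≠ RingHom.id F := by
  intro h1
  have h2 := h.card_fixed
  have h3 : Nat.card {x : F // σ x = x} = Nat.card F :=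
    Nat.card_congr (Equiv.subtypeUnivEquiv fun x => by rw [h1]; rfl)
  rw [h3, h.card] at h2
  have := h.two_le
  nlinarith

theorem norm_eq (h : UF σ q) (x : F) : σ x * x = x ^ (q + 1) := by rw [h.eq, pow_succ]

theorem card_norm_one (h : UF σ q) : Nat.card {x : F // σ x * x = 1} = q + 1 := by
  have := h.finite
  simp only [h.norm_eq]
  rw [card_pow_eq_one (by omega), h.card_sub_one, Nat.gcd_mul_left_right]

theorem exists_norm (h : UF σ q) {μ : F} (hμ : σ μ = μ) : ∃ x, σ x * x = μ := by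
  have := h.finite
  by_cases h0 : μ = 0
  · exact ⟨0, by simp [h0]⟩
  have hq := h.two_le
  have hc : Nat.card Fˣ = (q - 1) * (q + 1) := by rw [Nat.card_units, h.card_sub_one]
  have h1 : (powMonoidHom (q + 1) : Fˣ →* Fˣ).range = (powMonoidHom (q - 1) : Fˣ →* Fˣ).ker := by
    apply Subgroup.eq_of_le_of_card_ge
    · rintro _ ⟨x, rfl⟩
      simp only [MonoidHom.mem_ker, powMonoidHom_apply]
      rw [← pow_mul, mul_comm, ← hc, pow_card_eq_one']
    · rw [IsCyclic.card_powMonoidHom_ker, IsCyclic.card_powMonoidHom_range, hc,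
        Nat.gcd_mul_right_left, Nat.gcd_mul_left_left, Nat.mul_div_cancel _ (by omega)]
  have h2 : Units.mk0 μ h0 ∈ (powMonoidHom (q - 1) : Fˣ →* Fˣ).ker := by
    simp only [MonoidHom.mem_ker, powMonoidHom_apply]
    apply Units.ext
    rw [h.eq] at hμ
    obtain ⟨k, rfl⟩ : ∃ k, q = k + 1 := ⟨q - 1, by omega⟩
    simpa [pow_succ, h0] using hμ
  rw [← h1] at h2
  obtain ⟨x, hx⟩ := h2
  exact ⟨x, by rw [h.norm_eq]; simpa using congrArg Units.val hx⟩

theorem card_norm (h : UF σ q) {μ : F} (h0 : μ ≠ 0) (hμ : σ μ = μ) :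
    Nat.card {x : F // σ x * x = μ} = q + 1 := by
  obtain ⟨a, ha⟩ := h.exists_norm hμ
  have ha0 : a ≠ 0 := by rintro rfl; simp [← ha] at h0
  rw [← h.card_norm_one]
  refine Nat.card_congr (Equiv.symm ((Equiv.mulRight₀ a ha0).subtypeEquiv fun x => ?_))
  simp only [Equiv.mulRight₀_apply, map_mul]
  constructor
  · intro hx; linear_combination (σ a * a) * hx + ha
  · intro hx; apply mul_right_cancel₀ h0; linear_combination hx - (σ x * x) * ha

theorem card_trace_zero (h : UF σ q) : Nat.card {x : F // x + σ x = 0} = q := by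
  obtain ⟨d, hd0, hd⟩ := exists_trace_zero h.σσ h.ne_id
  rw [← h.card_fixed]
  refine Nat.card_congr (Equiv.symm ((Equiv.mulRight₀ d hd0).subtypeEquiv fun x => ?_))
  simp only [Equiv.mulRight₀_apply, map_mul]
  constructor
  · intro hx; rw [hx]; linear_combination x * hd
  · intro hx; apply mul_right_cancel₀ hd0; linear_combination σ x * hd - hx

theorem card_ker (h : UF σ q) (hσ : ∀ a, σ (σ a) = a) : Nat.card (FP.herm σ hσ).τ.ker = q :=
  h.card_trace_zero

theorem exists_norm_ne (h : UF σ q) {μ : F} (h0 : μ ≠ 0) (hμ : σ μ = μ) (a : F) :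
    ∃ x, x ≠ a ∧ σ x * x = μ := by
  have := h.finite
  have h1 : Nontrivial {x : F // σ x * x = μ} := by
    rw [← Finite.one_lt_card_iff_nontrivial, h.card_norm h0 hμ]; have := h.two_le; omega
  obtain ⟨x, y, hxy⟩ := h1
  by_cases hx : x.1 = a
  · exact ⟨y, fun hy => hxy (Subtype.ext (hx.trans hy.symm)), y.2⟩
  · exact ⟨x, hx, x.2⟩

theorem exists_norm_ne_one (h : UF σ q) (hq : 3 ≤ q) : ∃ t : F, t ≠ 0 ∧ σ t * t ≠ 1 := by
  have := h.finite
  by_contra hc
  push Not at hc
  have h1 : Nat.card {x : F // x ≠ 0} ≤ Nat.card {x : F // σ x * x = 1} :=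
    Nat.card_le_card_of_injective (fun x => ⟨x.1, hc x.1 x.2⟩)
      fun x y hxy => Subtype.ext (congrArg Subtype.val hxy :)
  rw [card_ne_zero, h.card_sub_one, h.card_norm_one] at h1
  have : 2 * (q + 1) ≤ (q - 1) * (q + 1) := Nat.mul_le_mul_right _ (by omega)
  omega

theorem hilbert90 (h : UF σ q) {l : F} (hl : σ l * l = 1) : ∃ c, c ≠ 0 ∧ c * (σ c)⁻¹ = l := by
  by_cases h1 : 1 + l = 0
  · obtain ⟨d, hd0, hd⟩ := exists_trace_zero h.σσ h.ne_id
    refine ⟨d, hd0, ?_⟩
    have : σ d = -d := by linear_combination hd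
    rw [this]; field_simp; linear_combination -h1
  · refine ⟨1 + l, h1, ?_⟩
    have : σ (1 + l) ≠ 0 := by simpa only [ne_eq, map_eq_zero] using h1
    field_simp
    rw [map_add, map_one]; linear_combination -hl

end UF

theorem exists_UF_of_invol [Finite F] {σ : F →+* F} (hσ : ∀ a, σ (σ a) = a)
    (hσ1 : σ ≠ RingHom.id F) : ∃ q, UF σ q := by
  classical
  have := Fintype.ofFinite F
  let K := σ.eqLocusField (RingHom.id F)
  have hK : ∀ x, x ∈ K ↔ σ x = x := fun x => Iff.rfl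
  have h2 : 2 ≤ Nat.card K := Finite.one_lt_card
  have hc : Nat.card F = Nat.card K ^ 2 := by
    have h1 := (FP.herm σ hσ).τ.ker.index_mul_card
    rw [AddSubgroup.index_ker] at h1
    have h3 : Nat.card (FP.herm σ hσ).τ.range = Nat.card K :=
      Nat.card_congr (Equiv.subtypeEquivRight fun x => by
        rw [hK]
        constructor
        · rintro ⟨a, rfl⟩; simp [hσ, add_comm]
        · exact fun h => exists_trace_eq hσ hσ1 h)
    obtain ⟨d, hd0, hd⟩ := exists_trace_zero hσ hσ1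
    have h4 : Nat.card (FP.herm σ hσ).τ.ker = Nat.card K := by
      refine Nat.card_congr (Equiv.symm ((Equiv.mulRight₀ d hd0).subtypeEquiv fun x => ?_))
      simp only [hK, Equiv.mulRight₀_apply, AddMonoidHom.mem_ker, FP.herm_τ, map_mul]
      constructor
      · intro hx; rw [hx]; linear_combination x * hd
      · intro hx; apply mul_right_cancel₀ hd0; linear_combination σ x * hd - hx
    rw [← h1, h3, h4, sq]
  obtain ⟨φ, hφ⟩ := exists_UF (F := F) (q := Nat.card K) (by rw [← hc, Nat.card_eq_fintype_card])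
  have hfix : ∀ x, σ x = x → φ x = x := by
    intro x hx
    have := FiniteField.pow_card (⟨x, hx⟩ : K)
    rw [hφ.eq, Nat.card_eq_fintype_card]
    exact congrArg Subtype.val this
  have hfix' : ∀ x, φ x = x → σ x = x := by
    have h5 : {x | σ x = x} = {x | φ x = x} := by
      apply Set.eq_of_subset_of_ncard_le hfix
      have h6 : {x | φ x = x}.ncard = Nat.card K := hφ.card_fixed
      exact h6.le
    intro x hx
    have : x ∈ {x | φ x = x} := hx
    rwa [← h5] at this
  refine ⟨Nat.card K, hc, h2, fun a => ?_⟩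
  rw [← hφ.eq]
  have h7 := hfix (a + σ a) (by simp [hσ, add_comm])
  have h8 := hfix (a * σ a) (by simp [hσ, mul_comm])
  rw [map_add] at h7
  rw [map_mul] at h8
  have : (φ a - a) * (φ a - σ a) = 0 := by linear_combination φ a * h7 - h8
  rcases mul_eq_zero.1 this with h | h
  · rw [hfix' a (sub_eq_zero.1 h), sub_eq_zero.1 h]
  · exact (sub_eq_zero.1 h).symm

/-- The factors in the order of the unitary group. -/
def uFac (q i : ℕ) : ℕ := if Even i then q ^ (i + 1) + 1 else q ^ (i + 1) - 1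

theorem uFac_cast {q : ℕ} (hq : 1 ≤ q) (i : ℕ) : (uFac q i : ℤ) = q ^ (i + 1) + (-1) ^ i := by
  unfold uFac
  split_ifs with h
  · simp [h.neg_one_pow]
  · rw [Nat.cast_sub (Nat.one_le_pow _ _ hq), (Nat.not_even_iff_odd.1 h).neg_one_pow]
    simp [sub_eq_add_neg]

/-- The order of the unitary group. -/
def guCard (q n : ℕ) : ℕ := q ^ (n * (n - 1) / 2) * ∏ i ∈ Finset.range n, uFac q i

theorem guCard_succ (q n : ℕ) : guCard q (n + 1) = q ^ n * uFac q n * guCard q n := by
  unfold guCard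
  rw [Finset.prod_range_succ, Nat.triangle_succ, pow_add]; ring

variable {σ : F →+* F} {hσ : ∀ a, σ (σ a) = a} {q : ℕ}
variable {V : Type*} [AddCommGroup V] [Module F V] {f : FS (FP.herm σ hσ) V}

namespace FS

theorem herm_hP' (h : σ ≠ RingHom.id F) :
    ∃ c, c + (FP.herm σ hσ).ε * (FP.herm σ hσ).σ c ≠ 0 := by
  obtain ⟨a, ha⟩ := exists_trace_eq hσ h (map_one σ)
  exact ⟨a, by simp [ha]⟩

theorem herm_fixed (x : V) : σ (f.B x x) = f.B x x := (f.herm_symm x x).symm

theorem herm_normalize (h : UF σ q) {x : V} (hx : f.B x x ≠ 0) :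
    ∃ c : F, c ≠ 0 ∧ f.B (c • x) (c • x) = 1 := by
  obtain ⟨c, hc⟩ := h.exists_norm (μ := (f.B x x)⁻¹) (by rw [map_inv₀, herm_fixed])
  refine ⟨c, by rintro rfl; simp at hc; exact hx hc.symm, ?_⟩
  simp only [map_smul, B_smul_left, FP.herm_σ, smul_eq_mul]
  field_simp at hc
  linear_combination hc

theorem herm_goodC (h : UF σ q) : f.GoodC := by
  obtain ⟨d, hd0, hd⟩ := exists_trace_zero hσ h.ne_id
  exact goodC_of_ker hd0 hd

theorem herm_good (h : UF σ q) (z : V) : f.Good z := by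
  obtain ⟨d, hd0, hd⟩ := exists_trace_zero hσ h.ne_id
  exact good_of_ker hd0 hd z

theorem Nondeg.exists_orthonormal [FiniteDimensional F V] (h : UF σ q) (hf : f.Nondeg) {n : ℕ}
    (hn : finrank F V = n) :
    ∃ b : Basis (Fin n) F V, ∀ i j, f.B (b i) (b j) = if i = j then 1 else 0 := by
  obtain ⟨b, h1, h2⟩ := hf.exists_orth_basis (herm_hP' h.ne_id) hn
  choose c hc0 hc using fun i => herm_normalize h (h2 i)
  refine ⟨b.unitsSMul fun i => Units.mk0 (c i) (hc0 i), fun i j => ?_⟩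
  simp only [Basis.unitsSMul_apply, Units.smul_mk0]
  split_ifs with hij
  · subst hij; exact hc i
  · simp [h1 i j hij]

theorem herm_isIso {U : Type*} [AddCommGroup U] [Module F U] {f' : FS (FP.herm σ hσ) U}
    [FiniteDimensional F V] [FiniteDimensional F U] (h : UF σ q) (hf : f.Nondeg) (hf' : f'.Nondeg)
    (hn : finrank F U = finrank F V) : ∃ e, f'.IsIso f e := by
  obtain ⟨b, hb⟩ := hf.exists_orthonormal h rfl
  obtain ⟨b', hb'⟩ := hf'.exists_orthonormal h hn
  exact ⟨_, isIso_of_basis b' b (fun i j => by rw [hb, hb'])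
    fun i => by rw [herm_Q, herm_Q, hb, hb']⟩

theorem Nondeg.exists_norm_one [Nontrivial V] (h : UF σ q) (hf : f.Nondeg) :
    ∃ e, f.B e e = 1 := by
  obtain ⟨z, hz⟩ := hf.exists_B_self_ne (herm_hP' h.ne_id)
  obtain ⟨c, -, hc⟩ := herm_normalize h hz
  exact ⟨_, hc⟩

/-- Two orthonormal vectors lie in a hyperbolic plane. -/
theorem herm_exists_hyp (h : UF σ q) {y e : V} (hy : f.B y y = 1) (he : f.B e e = 1)
    (hye : f.B y e = 0) : ∃ u v, f.IsHyp u v ∧ y ∈ Submodule.span F {u, v} ∧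
      e ∈ Submodule.span F {u, v} ∧ u ∈ Submodule.span F {y, e} ∧ v ∈ Submodule.span F {y, e} := by
  obtain ⟨a, ha⟩ := h.exists_norm (μ := -1) (by simp)
  obtain ⟨a', hne, ha'⟩ := h.exists_norm_ne (μ := -1) (by simp) (by simp) a
  have hey := B_comm_zero hye
  have hQ : ∀ c, σ c * c = -1 → f.Q (y + c • e) = 0 := by
    intro c hc
    rw [herm_Q]
    simp [hy, he, hye, hey]
    linear_combination hc
  have ha0 : σ a ≠ 0 := by rintro h0; simp [h0] at ha
  have hB : f.B (y + a • e) (y + a' • e) ≠ 0 := by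
    simp only [map_add, LinearMap.add_apply, B_smul_left, map_smul, hy, he, hye, hey, smul_eq_mul,
      FP.herm_σ]
    intro h0
    apply hne
    apply mul_left_cancel₀ ha0
    linear_combination h0 - ha
  have hd : a' - a ≠ 0 := sub_ne_zero.2 hne
  refine ⟨_, _, isHyp_of_ne (hQ a ha) (hQ a' ha') hB, ?_, ?_, ?_, ?_⟩
  · refine Submodule.mem_span_pair.2 ⟨a' / (a' - a), -a / (a' - a) * f.B (y + a • e) (y + a' • e), ?_⟩
    rw [smul_smul, mul_assoc, mul_inv_cancel₀ hB]
    match_scalars <;> field_simp <;> ring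
  · refine Submodule.mem_span_pair.2 ⟨-1 / (a' - a), 1 / (a' - a) * f.B (y + a • e) (y + a' • e), ?_⟩
    rw [smul_smul, mul_assoc, mul_inv_cancel₀ hB]
    match_scalars <;> field_simp <;> ring
  · exact Submodule.mem_span_pair.2 ⟨1, a, by simp⟩
  · exact Submodule.smul_mem _ _ (Submodule.mem_span_pair.2 ⟨1, a', by simp⟩)

theorem Nondeg.herm_exists_hyp [FiniteDimensional F V] (h : UF σ q) (hf : f.Nondeg)
    (hn : 2 ≤ finrank F V) : ∃ u v, f.IsHyp u v := by
  obtain ⟨n, hn⟩ : ∃ n, finrank F V = n + 2 := ⟨finrank F V - 2, by omega⟩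
  obtain ⟨b, hb⟩ := hf.exists_orthonormal h hn
  obtain ⟨u, v, huv, -⟩ := FS.herm_exists_hyp (f := f) h (y := b 0) (e := b 1) (by simp [hb])
    (by simp [hb]) (by simp [hb])
  exact ⟨u, v, huv⟩

open Classical in
theorem herm_card_Q (h : UF σ q) {c : F} (hc : σ c = c) (n : ℕ) :
    ∀ {V : Type*} [AddCommGroup V] [Module F V] [FiniteDimensional F V]
      {f : FS (FP.herm σ hσ) V}, f.Nondeg → finrank F V = n →
      (q : ℤ) * Nat.card {x // f.Q x = c} =
        q ^ (2 * n) + (-1) ^ n * ((if c = 0 then q else 0 : ℤ) - 1) * q ^ n := by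
  classical
  have := h.finite
  induction n using Nat.twoStepInduction with
  | zero =>
    intro V _ _ _ f hf hn
    have : Subsingleton V := finrank_zero_iff.1 hn
    split_ifs with h0
    · have : Nat.card {x // f.Q x = c} = 1 :=
        Nat.card_eq_one_iff_unique.2 ⟨inferInstance, ⟨⟨0, by simp [h0]⟩⟩⟩
      rw [this]; simp
    · have : IsEmpty {x // f.Q x = c} :=
        ⟨fun x => h0 (by rw [← x.2, Subsingleton.elim x.1 0, Q_zero])⟩
      simp
  | one =>
    intro V _ _ _ f hf hn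
    obtain ⟨b, hb⟩ := hf.exists_orthonormal h hn
    have h1 : Nat.card {x // f.Q x = c} = Nat.card {a : F // σ a * a = c} := by
      refine Nat.card_congr (Equiv.symm ((Equiv.ofBijective (fun a : F => a • b 0)
        ⟨smul_left_injective F (b.ne_zero 0), fun x => ⟨b.repr x 0, ?_⟩⟩).subtypeEquiv fun a => ?_))
      · simpa using b.sum_repr x
      · change _ ↔ f.Q (a • b 0) = c
        rw [Q_smul, herm_Q, hb]; simp
    rw [h1]
    split_ifs with h0
    · have : Nat.card {a : F // σ a * a = c} = 1 :=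
        Nat.card_eq_one_iff_unique.2 ⟨⟨fun x y => Subtype.ext (by
          have h1 := x.2
          have h2 := y.2
          simp only [h0, mul_eq_zero, map_eq_zero, or_self] at h1 h2
          rw [h1, h2])⟩, ⟨⟨0, by simp [h0]⟩⟩⟩
      rw [this]; ring
    · rw [h.card_norm h0 hc]; push_cast; ring
  | more n ih _ =>
    intro V _ _ _ f hf hn
    obtain ⟨u, v, huv⟩ := hf.herm_exists_hyp h (by omega)
    have h1 := huv.finrank_hperp
    have h2 := ih (huv.nondeg_hperp hf) (by omega)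
    have h3 : finrank F (f.hperp u v) = n := by omega
    rw [huv.card_Q (exists_trace_eq hσ h.ne_id hc), h.card_ker, h3, h.card]
    have h4 : 1 ≤ q ^ 2 := Nat.one_le_pow _ _ (by have := h.two_le; omega)
    push_cast [Nat.cast_sub h4]
    simp only [comap_Q, Submodule.subtype_apply] at h2
    linear_combination (q : ℤ) ^ 2 * h2

theorem herm_card_one [FiniteDimensional F V] (h : UF σ q) (hf : f.Nondeg) {n : ℕ}
    (hn : finrank F V = n + 1) : Nat.card {x // f.Q x = 1} = q ^ n * uFac q n := by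
  have h1 := herm_card_Q h (map_one σ) _ hf hn
  have hq := h.two_le
  rw [if_neg one_ne_zero] at h1
  have h2 : (q : ℤ) ≠ 0 := by positivity
  apply Nat.cast_injective (R := ℤ)
  apply mul_left_cancel₀ h2
  rw [h1]; push_cast; rw [uFac_cast (by omega)]; ring

theorem herm_card_zero [FiniteDimensional F V] (h : UF σ q) (hf : f.Nondeg) {n : ℕ}
    (hn : finrank F V = n + 2) : Nat.card {x // f.Q x = 0} = uFac q (n + 1) * uFac q n + 1 := by
  have h1 := herm_card_Q h (map_zero σ) _ hf hn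
  have hq := h.two_le
  rw [if_pos rfl] at h1
  have h2 : (q : ℤ) ≠ 0 := by positivity
  apply Nat.cast_injective (R := ℤ)
  apply mul_left_cancel₀ h2
  rw [h1]; push_cast; rw [uFac_cast (by omega), uFac_cast (by omega)]
  have : ((-1 : ℤ) ^ n) ^ 2 = 1 := by rw [← pow_mul, mul_comm, pow_mul]; simp
  linear_combination (q : ℤ) * this

theorem herm_card_Isom (h : UF σ q) (n : ℕ) :
    ∀ {V : Type*} [AddCommGroup V] [Module F V] [FiniteDimensional F V]
      {f : FS (FP.herm σ hσ) V}, f.Nondeg → finrank F V = n → Nat.card f.Isom = guCard q n := by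
  induction n with
  | zero =>
    intro V _ _ _ f hf hn
    have : Subsingleton V := finrank_zero_iff.1 hn
    have : Subsingleton (V ≃ₗ[F] V) := ⟨fun a b => LinearEquiv.ext fun x => Subsingleton.elim _ _⟩
    simp [guCard]
  | succ n ih =>
    intro V _ _ _ f hf hn
    have : Nontrivial V := nontrivial_of_finrank_pos (R := F) (by omega)
    obtain ⟨e, he⟩ := hf.exists_norm_one h
    have he0 : e ≠ 0 := by rintro rfl; simp at he
    have h1 := hf.finrank_perp_singleton he0
    rw [hf.card_Isom_of_ne (u := e) (by simp [he]), guCard_succ,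
      ih (hf.nondeg_perp (disjoint_perp_singleton (by simp [he]))) (by omega), herm_Q _ e, he,
      herm_card_one h hf hn]

/-! ### Determinants -/

/-- The group of elements of norm one. -/
def normOne (σ : F →+* F) : Subgroup Fˣ where
  carrier := {c | σ c * c = 1}
  mul_mem' {a b} ha hb := by
    simp only [Set.mem_setOf_eq, Units.val_mul, map_mul] at *
    linear_combination (σ b * b) * ha + hb
  one_mem' := by simp
  inv_mem' {a} ha := by
    simp only [Set.mem_setOf_eq, Units.val_inv_eq_inv_val, map_inv₀] at *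
    rw [← mul_inv, ha, inv_one]

theorem mem_normOne {c : Fˣ} : c ∈ normOne σ ↔ σ c * c = 1 := Iff.rfl

theorem card_normOne (h : UF σ q) : Nat.card (normOne σ) = q + 1 := by
  rw [← h.card_norm_one]
  refine Nat.card_congr ⟨fun x => ⟨x.1, x.2⟩, fun x => ⟨Units.mk0 x.1 ?_, x.2⟩, fun x => ?_,
    fun x => rfl⟩
  · intro h0
    have := x.2
    simp [h0] at this
  · ext; rfl

theorem herm_τ_quasi {l : F} (hl : σ l * l = 1) (h1 : l ≠ 1) :
    (1 - l)⁻¹ + σ (1 - l)⁻¹ = 1 := by
  have h2 : 1 - l ≠ 0 := sub_ne_zero.2 h1.symm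
  have h3 : 1 - σ l ≠ 0 := by simpa using (map_ne_zero σ).2 h2
  rw [map_inv₀, map_sub, map_one]
  field_simp
  linear_combination -hl

theorem herm_exists_det [FiniteDimensional F V] {e : V} (he : f.B e e = 1) {l : Fˣ}
    (hl : l ∈ normOne σ) : ∃ g ∈ f.Isom, g.det = l ∧ ∀ x, f.B e x = 0 → g x = x := by
  by_cases h1 : (l : F) = 1
  · exact ⟨1, Subgroup.one_mem _, Units.ext (by simp [h1]), fun _ _ => rfl⟩
  have h2 : 1 - (l : F) ≠ 0 := sub_ne_zero.2 (Ne.symm h1)
  have h3 : 1 - σ l ≠ 0 := by simpa using (map_ne_zero σ).2 h2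
  refine ⟨f.refl e (1 - l)⁻¹ (inv_ne_zero h2) (by rw [herm_Q, he]; exact herm_τ_quasi hl h1),
    f.refl_mem _ _ _ _, Units.ext ?_, fun x hx => by simp [refl_apply, hx]⟩
  rw [det_refl]
  simp only [FP.herm_ε, FP.herm_σ, map_inv₀, map_sub, map_one]
  field_simp
  linear_combination (mem_normOne.1 hl)

theorem herm_map_det [FiniteDimensional F V] (hf : f.Nondeg) {G : Subgroup (V ≃ₗ[F] V)}
    (hG : G ≤ f.Isom) (h : ∀ l ∈ normOne σ, ∃ g ∈ G, g.det = l) :
    G.map LinearEquiv.det = normOne σ := by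
  apply le_antisymm
  · rintro _ ⟨g, hg, rfl⟩
    exact det_norm hf (hG hg)
  · intro l hl
    exact h l hl

theorem herm_card_SI [FiniteDimensional F V] [Nontrivial V] (h : UF σ q) (hf : f.Nondeg) :
    (q + 1) * Nat.card f.SI = guCard q (finrank F V) := by
  obtain ⟨e, he⟩ := hf.exists_norm_one h
  rw [← herm_card_Isom h _ hf rfl, card_eq_map_mul_inf_ker LinearEquiv.det f.Isom,
    herm_map_det hf le_rfl, card_normOne h]
  · rfl
  · intro l hl
    obtain ⟨g, hg, hd, -⟩ := herm_exists_det he hl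
    exact ⟨g, hg, hd⟩

theorem herm_card_stab_SI [FiniteDimensional F V] [Nontrivial V] (h : UF σ q) (hf : f.Nondeg)
    {W : Submodule F V} (hW : f.TS W) :
    (q + 1) * Nat.card (f.SI ⊓ stab W : Subgroup (V ≃ₗ[F] V)) =
      Nat.card (f.Isom ⊓ stab W : Subgroup (V ≃ₗ[F] V)) := by
  rw [card_eq_map_mul_inf_ker LinearEquiv.det (f.Isom ⊓ stab W),
    herm_map_det hf inf_le_left, card_normOne h, SI, inf_right_comm]
  intro l hl
  by_cases h0 : W = ⊥
  · obtain ⟨e, he⟩ := hf.exists_norm_one h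
    obtain ⟨g, hg, hd, -⟩ := herm_exists_det he hl
    exact ⟨g, ⟨hg, fun x => by simp [h0]⟩, hd⟩
  obtain ⟨u, huW, hu0⟩ := W.exists_mem_ne_zero_of_ne_bot h0
  obtain ⟨v, huv⟩ := hf.exists_partner' (hW.1 u huW) hu0
  obtain ⟨c, hc0, hc⟩ := h.hilbert90 hl
  refine ⟨huv.scale c hc0, ⟨huv.scale_mem _ _, mem_stab_of_le fun x hx => ?_⟩,
    Units.ext ((huv.det_scale c hc0).trans hc)⟩
  rw [huv.scale_apply, hW.2 u huW x hx, mul_zero, zero_smul, add_zero]
  exact W.add_mem hx (W.smul_mem _ huW)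

/-! ### Transvections -/

/-- Unitary transvection `x ↦ x + c B(u, x) u`. -/
def uT (f : FS (FP.herm σ hσ) V) (u : V) (c : F) (hu : f.Q u = 0) (hc : c + σ c = 0) :
    V ≃ₗ[F] V := f.eich u 0 c hu (map_zero _) (hc.trans f.Q_zero.symm)

theorem uT_apply (u : V) (c : F) (hu : f.Q u = 0) (hc : c + σ c = 0) (x : V) :
    f.uT u c hu hc x = x + (c * f.B u x) • u := by
  refine (f.eich_apply _ _ _ _ _ _ x).trans ?_
  have : σ c = -c := by linear_combination hc
  simp [this]

/-- The group generated by the unitary transvections. -/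
def uTG (f : FS (FP.herm σ hσ) V) : Subgroup (V ≃ₗ[F] V) :=
  Subgroup.closure {g | ∃ u c hu hc, g = f.uT u c hu hc}

theorem uT_mem (u : V) (c : F) (hu : f.Q u = 0) (hc : c + σ c = 0) : f.uT u c hu hc ∈ f.uTG :=
  Subgroup.subset_closure ⟨u, c, hu, hc, rfl⟩

theorem uT_mem_EO (u : V) (c : F) (hu : f.Q u = 0) (hc : c + σ c = 0) : f.uT u c hu hc ∈ f.EO :=
  eich_mem_EO _ _ _

theorem uTG_le_EO : f.uTG ≤ f.EO := (Subgroup.closure_le _).2 (by
  rintro _ ⟨u, c, hu, hc, rfl⟩; exact uT_mem_EO _ _ _ _)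

theorem uTG_le_Isom : f.uTG ≤ f.Isom := uTG_le_EO.trans EO_le_Isom

theorem conj_uT {g : V ≃ₗ[F] V} (hg : g ∈ f.Isom) (u : V) (c : F) (hu : f.Q u = 0)
    (hc : c + σ c = 0) :
    g * f.uT u c hu hc * g⁻¹ = f.uT (g u) c (by rw [Isom_Q hg, hu]) hc := by
  ext x
  simp [uT_apply, Isom_B_symm hg]

theorem conj_mem_uTG {g x : V ≃ₗ[F] V} (hg : g ∈ f.Isom) (hx : x ∈ f.uTG) :
    g * x * g⁻¹ ∈ f.uTG := by
  induction hx using Subgroup.closure_induction with
  | mem x hx => obtain ⟨u, c, hu, hc, rfl⟩ := hx; rw [conj_uT hg]; exact uT_mem _ _ _ _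
  | one => simp [Subgroup.one_mem]
  | mul x y _ _ h1 h2 =>
    have : g * (x * y) * g⁻¹ = (g * x * g⁻¹) * (g * y * g⁻¹) := by group
    rw [this]; exact Subgroup.mul_mem _ h1 h2
  | inv x _ h1 =>
    have : g * x⁻¹ * g⁻¹ = (g * x * g⁻¹)⁻¹ := by group
    rw [this]; exact Subgroup.inv_mem _ h1

section plane
variable {u v : V}

theorem uT_plane₁ (h : f.IsHyp u v) {c : F} (hc : c + σ c = 0) (a b : F) :
    ∃ g ∈ f.uTG, g (a • u + b • v) = (a + c * b) • u + b • v :=
  ⟨_, uT_mem u c h.Q1 hc, by simp [uT_apply, h.B11, h.B12]; module⟩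

theorem uT_plane₂ (h : f.IsHyp u v) {c : F} (hc : c + σ c = 0) (a b : F) :
    ∃ g ∈ f.uTG, g (a • u + b • v) = a • u + (b + c * a) • v :=
  ⟨_, uT_mem v c h.Q2 hc, by simp [uT_apply, h.B21, h.B22]; module⟩

theorem uT_plane_aux (h : f.IsHyp u v) {a b a' b' N : F} (hN : N ≠ 0)
    (h1 : σ a * b + a * σ b = N) (h2 : σ a' * b' + a' * σ b' = N)
    (h3 : σ b * b' ≠ b * σ b') :
    ∃ g ∈ f.uTG, g (a • u + b • v) = a' • u + b' • v := by
  have hσN : σ N = N := by rw [← h1]; simp [hσ]; ring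
  have hb' : b' ≠ 0 := by rintro rfl; simp at h3
  have hσb' : σ b' ≠ 0 := by simpa using hb'
  set β := (σ a * b' + a * σ b') / N with hβ
  set c₂ := (σ b * b' - b * σ b') / N with hc₂
  have hc0 : c₂ ≠ 0 := div_ne_zero (sub_ne_zero.2 h3) hN
  have hσβ : σ β = β := by simp [hβ, hσ, hσN]; ring
  have hσc : σ c₂ = -c₂ := by simp [hc₂, hσ, hσN]; ring
  have hb : b' = β * b + c₂ * a := by
    rw [hβ, hc₂]; field_simp; linear_combination -b' * h1
  obtain ⟨g₁, hg₁, e₁⟩ := uT_plane₁ h (c := (β - 1) / c₂) (by simp [hσβ, hσc]; ring) a b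
  obtain ⟨g₂, hg₂, e₂⟩ := uT_plane₂ h (c := c₂) (by simp [hσc]) (a + (β - 1) / c₂ * b) b
  have h4 : b + c₂ * (a + (β - 1) / c₂ * b) = b' := by rw [hb]; field_simp; ring
  rw [h4] at e₂
  set a₁ := a + (β - 1) / c₂ * b with ha₁
  have h5 : σ a₁ * b' + a₁ * σ b' = N := by
    have := Isom_Q (uTG_le_Isom (Subgroup.mul_mem _ hg₂ hg₁)) (a • u + b • v)
    rw [LinearEquiv.mul_apply, e₁, e₂] at this
    have h6 := h.Q_decomp a₁ b' (Submodule.zero_mem _)
    have h7 := h.Q_decomp a b (Submodule.zero_mem _)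
    simp only [add_zero, Q_zero, FP.herm_τ, FP.herm_σ, map_mul, hσ] at h6 h7
    rw [← h6, this, h7, h1]
  obtain ⟨g₃, hg₃, e₃⟩ := uT_plane₁ h (c := (a' - a₁) / b') (by
    rw [map_div₀, map_sub]; field_simp; linear_combination h2 - h5) a₁ b'
  refine ⟨g₃ * (g₂ * g₁), Subgroup.mul_mem _ hg₃ (Subgroup.mul_mem _ hg₂ hg₁), ?_⟩
  rw [LinearEquiv.mul_apply, LinearEquiv.mul_apply, e₁, e₂, e₃]
  congr 2
  field_simp; ring

theorem uT_plane (hσ1 : σ ≠ RingHom.id F) (h : f.IsHyp u v) {y y' : V}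
    (hy : y ∈ Submodule.span F {u, v}) (hy' : y' ∈ Submodule.span F {u, v}) (h1 : f.Q y ≠ 0)
    (h2 : f.Q y' = f.Q y) : ∃ g ∈ f.uTG, g y = y' := by
  obtain ⟨a, b, rfl⟩ := Submodule.mem_span_pair.1 hy
  obtain ⟨a', b', rfl⟩ := Submodule.mem_span_pair.1 hy'
  have h6 := h.Q_decomp a' b' (Submodule.zero_mem _)
  have h7 := h.Q_decomp a b (Submodule.zero_mem _)
  simp only [add_zero, Q_zero, FP.herm_τ, FP.herm_σ, map_mul, hσ] at h6 h7
  rw [h2] at h6
  by_cases h3 : σ b * b' = b * σ b'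
  · obtain ⟨d, hd0, hd⟩ := exists_trace_zero hσ hσ1
    have hσd : σ d = -d := by linear_combination hd
    obtain ⟨g₁, hg₁, e₁⟩ := uT_plane₂ h hd a b
    obtain ⟨g₂, hg₂, e₂⟩ := uT_plane_aux h (a := a) (b := b + d * a) (a' := a') (b' := b') h1
      (by simp [hσd, h7]; ring) h6.symm (by
        intro h4
        simp only [map_add, map_mul, hσd] at h4
        have h5 : σ a * b' + a * σ b' = 0 := by
          apply mul_left_cancel₀ hd0; linear_combination h3 - h4
        have hb' : b' ≠ 0 := by rintro rfl; apply h1; simp [h6]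
        apply h1
        apply mul_right_cancel₀ hb'
        rw [h7]
        linear_combination b * h5 + a * h3)
    exact ⟨g₂ * g₁, Subgroup.mul_mem _ hg₂ hg₁, by rw [LinearEquiv.mul_apply, e₁, e₂]⟩
  · exact uT_plane_aux h h1 h7.symm h6.symm h3

end plane

theorem uT_trans_nondeg (h : UF σ q) {y z : V} (hy : f.B y y = 1) (hz : f.B z z = 1)
    (hyz : σ (f.B y z) * f.B y z ≠ 1) : ∃ g ∈ f.uTG, g y = z := by
  have h1 : f.B y (z - f.B y z • y) = 0 := by simp [hy]
  have h2 : f.B (z - f.B y z • y) (z - f.B y z • y) ≠ 0 := by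
    simp only [map_sub, LinearMap.sub_apply, B_smul_left, map_smul, hy, hz, smul_eq_mul,
      FP.herm_σ, f.herm_symm y z]
    intro h0
    apply hyz
    linear_combination -h0
  obtain ⟨c, hc0, hc⟩ := herm_normalize h h2
  obtain ⟨u, v, huv, h3, h4, -⟩ := herm_exists_hyp h hy hc (by rw [map_smul, h1, smul_zero])
  refine uT_plane h.ne_id huv h3 ?_ (by rw [herm_Q, hy]; exact one_ne_zero)
    (by rw [herm_Q, herm_Q, hy, hz])
  have : z = c⁻¹ • (c • (z - f.B y z • y)) + f.B y z • y := by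
    rw [smul_smul, inv_mul_cancel₀ hc0]; simp
  rw [this]
  exact Submodule.add_mem _ (Submodule.smul_mem _ _ h4) (Submodule.smul_mem _ _ h3)

theorem uT_trans [FiniteDimensional F V] (h : UF σ q) (hf : f.Nondeg)
    (hn : 3 ≤ q ∨ 4 ≤ finrank F V) {y z : V} (hy : f.B y y = 1) (hz : f.B z z = 1) :
    ∃ g ∈ f.uTG, ∃ c : F, σ c * c = 1 ∧ g y = c • z := by
  by_cases hyz : σ (f.B y z) * f.B y z ≠ 1
  · obtain ⟨g, hg, e⟩ := uT_trans_nondeg h hy hz hyz
    exact ⟨g, hg, 1, by simp, by simp [e]⟩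
  push Not at hyz
  set β := f.B y z with hβ
  set p := σ β • z - y with hp
  have hyp : f.B y p = 0 := by simp [hp, hy, ← hβ, hyz]
  have hzy : f.B z y = σ β := f.herm_symm y z
  have hpp : f.Q p = 0 := by
    rw [herm_Q]
    simp [hp, hy, hz, ← hβ, hzy, hσ]
    linear_combination -hyz
  have hc1 : σ (σ β) * σ β = 1 := by rw [hσ, mul_comm, hyz]
  by_cases hp0 : p = 0
  · exact ⟨1, Subgroup.one_mem _, σ β, hc1, (sub_eq_zero.1 hp0).symm⟩
  have key : ∀ w, f.B w w = 1 → f.B y w = 0 → σ (f.B p w) * f.B p w ≠ 1 →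
      ∃ g ∈ f.uTG, ∃ c : F, σ c * c = 1 ∧ g y = c • z := by
    intro w hw h1 h2
    obtain ⟨g₁, hg₁, e₁⟩ := uT_trans_nondeg h hy hw (by simp [h1])
    obtain ⟨g₂, hg₂, e₂⟩ := uT_trans_nondeg h (y := σ β • z) (by simp [hz, hσ, hyz]) hw (by
      have : σ β • z = p + y := by simp [hp]
      rw [this]; simpa [h1] using h2)
    exact ⟨g₂⁻¹ * g₁, Subgroup.mul_mem _ (Subgroup.inv_mem _ hg₂) hg₁, σ β, hc1, by
      rw [LinearEquiv.mul_apply, e₁, ← e₂]; simp⟩
  rcases hn with hn | hn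
  · obtain ⟨w, hw, hyw⟩ := hf.exists_partner hpp (Z := Submodule.span F {y}) (by
      intro hm
      obtain ⟨c, hc⟩ := Submodule.mem_span_singleton.1 hm
      rw [← hc] at hyp
      have : c = 0 := by simpa [hy] using hyp
      exact hp0 (by rw [← hc, this, zero_smul])) (by
      intro x hx
      obtain ⟨c, rfl⟩ := Submodule.mem_span_singleton.1 hx
      simp [hyp])
    obtain ⟨t, ht0, ht⟩ := h.exists_norm_ne_one hn
    obtain ⟨s, hs⟩ := exists_trace_eq hσ h.ne_id (map_one σ)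
    have h6 := hw.Q_decomp (σ (s / t)) t (Submodule.zero_mem _)
    simp only [add_zero, Q_zero, FP.herm_σ, hσ, div_mul_cancel₀ _ ht0, FP.herm_τ, hs] at h6
    refine key (σ (s / t) • p + t • w) (by rw [← herm_Q, h6]) ?_ ?_
    · rw [map_add, map_smul, map_smul, hyp, hyw y (Submodule.mem_span_singleton_self y)]; simp
    · rw [map_add, map_smul, map_smul, hw.B11, hw.B12]; simpa using ht
  · set U := f.perp (Submodule.span F {y, p}) with hU
    have h1 := hf.finrank_perp (Submodule.span F {y, p})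
    have h2 := finrank_span_pair_le (F := F) y p
    by_cases h3 : ∃ x ∈ U, ∃ x' ∈ U, f.B x x' ≠ 0
    · obtain ⟨x, hx, x', hx', h3⟩ := h3
      obtain ⟨w, hwU, hw⟩ := exists_B_self_ne (herm_hP' h.ne_id) hx hx' h3
      obtain ⟨c, -, hc⟩ := herm_normalize h hw
      rw [hU, mem_perp_span] at hwU
      refine key _ hc ?_ ?_
      · rw [map_smul, hwU y (by simp), smul_zero]
      · rw [map_smul, hwU p (by simp)]; simp
    · exfalso
      push Not at h3
      have h4 : U ≤ Submodule.span F {y, p} := by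
        rw [← hf.perp_perp (Submodule.span F {y, p})]
        exact fun x hx w hw => h3 w hw x hx
      have h5 : U = Submodule.span F {y, p} :=
        Submodule.eq_of_le_of_finrank_le h4 (by rw [hU]; omega)
      have h6 : y ∈ U := h5 ▸ Submodule.subset_span (by simp)
      exact one_ne_zero (hy.symm.trans (h3 y h6 y h6))

/-- Quasi-reflections along a vector. -/
def quasi (f : FS (FP.herm σ hσ) V) (e : V) : Subgroup (V ≃ₗ[F] V) :=
  f.Isom ⊓ fix (f.perp (Submodule.span F {e}) : Set V)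

theorem quasi_eq_one [FiniteDimensional F V] (hf : f.Nondeg) {e : V} (he : f.B e e = 1) {g : V ≃ₗ[F] V}
    (hg : g ∈ f.quasi e) (hd : g.det = 1) : g = 1 := by
  have h1 : ∀ x, x - f.B e x • e ∈ f.perp (Submodule.span F {e}) := fun x => by
    rw [mem_perp_singleton]; simp [he]
  have h2 : ∀ x, g x = x + f.B e x • (g e - e) := fun x => by
    have := hg.2 _ (h1 x)
    rw [map_sub, map_smul] at this
    linear_combination (norm := module) this
  have h3 : (g : V →ₗ[F] V) = LinearMap.transvection (f.B e) (g e - e) := by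
    ext x; rw [LinearMap.transvection.apply]; exact h2 x
  have h4 : f.B e (g e - e) = 0 := by
    have := congrArg Units.val hd
    rw [LinearEquiv.coe_det, h3, LinearMap.transvection.det] at this
    simpa using this
  have h5 : g e - e = 0 := hf.eq_zero fun x => by
    have h6 := Isom_B hg.1 e (x - f.B e x • e)
    rw [hg.2 _ (h1 x), mem_perp_singleton.1 (h1 x)] at h6
    have h7 := B_comm_zero h4
    simp only [map_sub, map_smul, LinearMap.sub_apply, smul_eq_mul, he] at h6 h7 ⊢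
    linear_combination h6 + f.B e x * h7
  ext x
  simp [h2 x, h5]

theorem conj_mem_quasi {e : V} {g x : V ≃ₗ[F] V} (hg : g ∈ f.Isom) (hx : x ∈ f.quasi e) :
    g * x * g⁻¹ ∈ f.quasi (g e) := by
  refine ⟨Subgroup.mul_mem _ (Subgroup.mul_mem _ hg hx.1) (Subgroup.inv_mem _ hg), fun y hy => ?_⟩
  have h1 : g.symm y ∈ f.perp (Submodule.span F {e}) := by
    rw [SetLike.mem_coe, mem_perp_singleton] at hy
    rw [mem_perp_singleton, Isom_B_symm hg, hy]
  simp [hx.2 _ h1]

theorem quasi_smul_le (e : V) (c : F) : f.quasi (c • e) ≤ f.quasi e := fun g hg =>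
  ⟨hg.1, fun y hy => hg.2 y (by
    rw [SetLike.mem_coe, mem_perp_singleton] at hy ⊢; simp [hy])⟩

theorem refl_mem_quasi (p : V) (a : F) (ha : a ≠ 0) (h) : f.refl p a ha h ∈ f.quasi p :=
  ⟨f.refl_mem _ _ _ _, fun y hy => by
    rw [SetLike.mem_coe, mem_perp_singleton] at hy; simp [refl_apply, hy]⟩

theorem uTG_eq_SI [FiniteDimensional F V] [Nontrivial V] (h : UF σ q) (hf : f.Nondeg)
    (hn : 3 ≤ q ∨ 4 ≤ finrank F V) : f.uTG = f.SI := by
  refine le_antisymm (uTG_le_EO.trans EO_le_SI) fun g hg => ?_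
  obtain ⟨e, he⟩ := hf.exists_norm_one h
  have h1 : f.Isom ≤ f.uTG ⊔ f.quasi e := by
    refine Isom_le_of_gen hf (fun p a ha hp => ?_) fun u _ _ _ _ _ hu => absurd (herm_good h u) hu
    by_cases hQ : f.Q p = 0
    · have h2 : a + σ a = 0 := hp.trans hQ
      have h3 : σ a = -a := by linear_combination h2
      have : f.refl p a ha hp = f.uT p (-a⁻¹) hQ (by simp [h3]) := by
        ext x; simp [refl_apply, uT_apply, sub_eq_add_neg]
      rw [this]
      exact Subgroup.mem_sup_left (uT_mem _ _ _ _)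
    · obtain ⟨c, hc0, hc⟩ := herm_normalize h (x := p) (by rwa [← herm_Q])
      obtain ⟨t, ht, d, -, hd⟩ := uT_trans h hf hn hc he
      have h2 : f.refl p a ha hp ∈ f.quasi (c • p) := by
        have := quasi_smul_le (f := f) (c • p) c⁻¹
        rw [smul_smul, inv_mul_cancel₀ hc0, one_smul] at this
        exact this (refl_mem_quasi _ _ _ _)
      have h3 := conj_mem_quasi (uTG_le_Isom ht) h2
      rw [hd] at h3
      have h4 : f.refl p a ha hp = t⁻¹ * (t * f.refl p a ha hp * t⁻¹) * t := by group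
      rw [h4]
      exact Subgroup.mul_mem _ (Subgroup.mul_mem _ (Subgroup.mem_sup_left (Subgroup.inv_mem _ ht))
        (Subgroup.mem_sup_right (quasi_smul_le _ _ h3))) (Subgroup.mem_sup_left ht)
  obtain ⟨t, ht, r, hr, rfl⟩ := mem_sup_of_conj (R := f.quasi e)
    (fun r hr t ht => conj_mem_uTG hr.1 ht) (h1 hg.1)
  have h2 : r.det = 1 := by
    have := (mem_SI.1 hg).2
    rwa [map_mul, (mem_SI.1 (EO_le_SI (uTG_le_EO ht))).2, one_mul] at this
  rw [quasi_eq_one hf he hr h2, mul_one]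
  exact ht

theorem herm_EO [FiniteDimensional F V] [Nontrivial V] (h : UF σ q) (hf : f.Nondeg)
    (hn : 3 ≤ q ∨ 4 ≤ finrank F V) : f.EO = f.SI :=
  le_antisymm EO_le_SI ((uTG_eq_SI h hf hn).ge.trans uTG_le_EO)

theorem uT_commutator [FiniteDimensional F V] (h : UF σ q) (hf : f.Nondeg)
    (hn : 3 ≤ finrank F V) (u : V) (c : F) (hu : f.Q u = 0) (hc : c + σ c = 0) :
    ∃ a ∈ f.EO, ∃ b ∈ f.EO, ⁅a, b⁆ = f.uT u c hu hc := by
  by_cases hu0 : u = 0
  · exact ⟨1, Subgroup.one_mem _, 1, Subgroup.one_mem _, by ext x; simp [uT_apply, hu0]⟩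
  obtain ⟨v, huv⟩ := hf.exists_partner' hu hu0
  have h1 := huv.finrank_hperp
  have : Nontrivial (f.hperp u v) := nontrivial_of_finrank_pos (R := F) (by omega)
  obtain ⟨⟨e, heW⟩, he⟩ := (huv.nondeg_hperp hf).exists_norm_one h
  replace he : f.B e e = 1 := he
  have hue := (mem_hperp.1 heW).1
  obtain ⟨d, hd⟩ := exists_trace_eq hσ h.ne_id (map_one σ)
  obtain ⟨a, ha⟩ := f.ex ((c * d) • e)
  obtain ⟨b, hb⟩ := f.ex e
  refine ⟨_, eich_mem_EO hu (by simp [hue]) ha, _, eich_mem_EO hu hue hb, ?_⟩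
  rw [eich_commutator]
  refine eich_congr _ _ _ rfl ?_
  have : σ c = -c := by linear_combination hc
  simp [he, this]
  linear_combination c * hd

theorem herm_perfect [FiniteDimensional F V] (h : UF σ q) (hf : f.Nondeg)
    (hn : 3 ≤ finrank F V) (hq : 3 ≤ q ∨ 4 ≤ finrank F V) : commutator f.EO = ⊤ := by
  have : Nontrivial V := nontrivial_of_finrank_pos (R := F) (by omega)
  have h1 : f.EO ≤ (commutator f.EO).map f.EO.subtype := by
    conv_lhs => rw [herm_EO h hf hq, ← uTG_eq_SI h hf hq]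
    refine (Subgroup.closure_le _).2 ?_
    rintro _ ⟨u, c, hu, hc, rfl⟩
    obtain ⟨a, ha, b, hb, hab⟩ := uT_commutator h hf hn u c hu hc
    exact ⟨⁅(⟨a, ha⟩ : f.EO), ⟨b, hb⟩⁆,
      Subgroup.commutator_mem_commutator (Subgroup.mem_top _) (Subgroup.mem_top _), hab⟩
  rw [eq_top_iff]
  intro x _
  obtain ⟨y, hy, hxy⟩ := h1 x.2
  rwa [← Subtype.ext hxy]

theorem herm_simple [FiniteDimensional F V] (h : UF σ q) (hf : f.Nondeg)
    (hn : 3 ≤ finrank F V) (hq : 3 ≤ q ∨ 4 ≤ finrank F V) :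
    IsSimpleGroup (f.SI ⧸ Subgroup.center f.SI) := by
  have : Nontrivial V := nontrivial_of_finrank_pos (R := F) (by omega)
  obtain ⟨u, v, huv⟩ := hf.herm_exists_hyp h (by omega)
  rw [← herm_EO h hf hq]
  exact EO_simple hf (herm_goodC h) huv.ne1 huv.Q1 (herm_perfect h hf hn hq)

theorem herm_mem_center [FiniteDimensional F V] (h : UF σ q) (hf : f.Nondeg)
    (hn : 2 ≤ finrank F V) {G : Subgroup (V ≃ₗ[F] V)} (h1 : f.EO ≤ G) (h2 : G ≤ f.Isom) {g : G} :
    g ∈ Subgroup.center G ↔ ∃ c : Fˣ, (g : V ≃ₗ[F] V) = scal V c := by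
  have : Nontrivial V := nontrivial_of_finrank_pos (R := F) (by omega)
  obtain ⟨u, v, huv⟩ := hf.herm_exists_hyp h hn
  rw [Subgroup.mem_center_iff]
  constructor
  · intro hg
    obtain ⟨c, hc⟩ := scalar_of_comm_EO hf (herm_goodC h) huv.ne1 huv.Q1 (h2 g.2)
      fun x hx => congrArg Subtype.val (hg ⟨x, h1 hx⟩)
    obtain ⟨c', -, hc'⟩ := exists_scal_eq hc
    exact ⟨c', hc'⟩
  · rintro ⟨c, hc⟩ x
    exact Subtype.ext (by simp [hc, scal_comm])

theorem herm_card_center_SI [FiniteDimensional F V] (h : UF σ q) (hf : f.Nondeg)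
    (hn : 2 ≤ finrank F V) :
    Nat.card (Subgroup.center f.SI) = Nat.gcd (finrank F V) (q + 1) := by
  have : Nontrivial V := nontrivial_of_finrank_pos (R := F) (by omega)
  have := h.finite
  have h1 : (Subgroup.center f.SI).map f.SI.subtype =
      (powMonoidHom (Nat.gcd (finrank F V) (q + 1)) : Fˣ →* Fˣ).ker.map (scal V) := by
    ext g
    simp only [Subgroup.mem_map, MonoidHom.mem_ker, powMonoidHom_apply, pow_gcd_eq_one]
    constructor
    · rintro ⟨g, hg, rfl⟩
      obtain ⟨c, hc⟩ := (herm_mem_center h hf hn EO_le_SI SI_le).1 hg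
      refine ⟨c, ⟨?_, Units.ext ?_⟩, hc.symm⟩
      · rw [← det_scal, ← hc]; exact g.2.2
      · have := hf.norm_of_scal_mem (hc ▸ g.2.1)
        rwa [FP.herm_σ, h.norm_eq] at this
    · rintro ⟨c, ⟨hc1, hc2⟩, rfl⟩
      refine ⟨⟨scal V c, scal_mem_Isom ?_, (det_scal c).trans hc1⟩,
        (herm_mem_center h hf hn EO_le_SI SI_le).2 ⟨c, rfl⟩, rfl⟩
      rw [FP.herm_σ, h.norm_eq]
      exact congrArg Units.val hc2
  rw [← Subgroup.card_map_of_injective f.SI.subtype_injective, h1,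
    Subgroup.card_map_of_injective scal_injective, IsCyclic.card_powMonoidHom_ker, Nat.card_units,
    h.card_sub_one, Nat.gcd_eq_right]
  exact (Nat.gcd_dvd_right _ _).mul_left _

theorem herm_exists_zmod [FiniteDimensional F V] (h : UF σ q) (hf : f.Nondeg)
    (hn : 2 ≤ finrank F V) :
    ∃ φ : f.Isom →* Multiplicative (ZMod (Nat.gcd (finrank F V) (q + 1))), Function.Surjective φ ∧
      φ.ker = (LinearEquiv.det).ker.subgroupOf f.Isom ⊔ Subgroup.center f.Isom := by
  have : Nontrivial V := nontrivial_of_finrank_pos (R := F) (by omega)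
  have := h.finite
  obtain ⟨ψ, hψ, hker⟩ := exists_zmod_quot (normOne σ) (finrank F V)
  let d : f.Isom →* normOne σ :=
    (LinearEquiv.det.comp f.Isom.subtype).codRestrict _ fun g => det_norm hf g.2
  rw [← card_normOne h]
  refine ⟨ψ.comp d, hψ.comp fun l => ?_, ?_⟩
  · obtain ⟨e, he⟩ := hf.exists_norm_one h
    obtain ⟨g, hg, hd, -⟩ := herm_exists_det he l.2
    exact ⟨⟨g, hg⟩, Subtype.ext hd⟩
  · rw [ker_comp_eq_sup d ψ (Subgroup.center f.Isom)]
    · congr 1
      ext g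
      exact Subtype.ext_iff
    · rw [hker]
      rintro _ ⟨c, rfl⟩
      exact ⟨⟨scal V c, scal_mem_Isom c.2⟩, (herm_mem_center h hf hn EO_le_Isom le_rfl).2 ⟨c, rfl⟩,
        Subtype.ext (det_scal _)⟩
    · intro z hz
      obtain ⟨c, hc⟩ := (herm_mem_center h hf hn EO_le_Isom le_rfl).1 hz
      rw [hker]
      refine ⟨⟨c, hf.norm_of_scal_mem (hc ▸ z.2)⟩, Subtype.ext ?_⟩
      change c ^ _ = LinearEquiv.det (z : V ≃ₗ[F] V)
      rw [hc, det_scal]

theorem herm_ts {W : Submodule F V} : f.TS W ↔ ∀ x ∈ W, ∀ y ∈ W, f.B x y = 0 :=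
  ⟨fun h => h.2, fun h => ⟨fun x hx => by rw [herm_Q, h x hx x hx], h⟩⟩

end FS

end Cfsg.Agent.Class
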