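import Cfsg.Agent.Class.Uni
import Cfsg.Agent.Class.Dick3

/-! Linear groups: rank one perturbations, flags, parabolic subgroups, monomial matrices. -/

set_option autoImplicit false

namespace Cfsg.Agent.Class

open Module Matrix
open scoped MatrixGroups commutatorElement

variable {F : Type*} [Field F] {ι : Type*} [Fintype ι] [DecidableEq ι]

theorem exists_not_mem_ker {V U : Type*} [AddCommGroup V] [Module F V] [AddCommGroup U] [Module F U]
    [FiniteDimensional F V] [FiniteDimensional F U] (L : V →ₗ[F] U) (W : Submodule F V)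
    (h : finrank F U + finrank F W < finrank F V) : ∃ z, z ∉ W ∧ L z = 0 := by
  by_contra hc
  have : LinearMap.ker L ≤ W := fun z hz => by_contra fun hzW => hc ⟨z, hzW, hz⟩
  have h1 := Submodule.finrank_mono this
  have h2 := L.finrank_range_add_finrank_ker
  have h3 := (LinearMap.range L).finrank_le
  omega

theorem exists_dot_of_not_mem {W : Submodule F (ι → F)} {x : ι → F} (hx : x ∉ W) :
    ∃ l, l ⬝ᵥ x = 1 ∧ ∀ w ∈ W, l ⬝ᵥ w = 0 := by
  obtain ⟨f, h1, h2⟩ := Submodule.exists_le_ker_of_notMem hx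
  obtain ⟨l, rfl⟩ := (dotProductEquiv F ι).surjective f
  exact ⟨(l ⬝ᵥ x)⁻¹ • l, by rw [smul_dotProduct]; exact inv_mul_cancel₀ h1,
    fun w hw => by rw [smul_dotProduct, show l ⬝ᵥ w = 0 from h2 hw, smul_zero]⟩

theorem exists_dot_ne {W : Submodule F (ι → F)} {x y : ι → F} (hx : x ∉ W) (hy : y ∉ W) :
    ∃ l, l ⬝ᵥ x = 1 ∧ l ⬝ᵥ y ≠ 0 ∧ ∀ w ∈ W, l ⬝ᵥ w = 0 := by
  obtain ⟨l, h1, h2⟩ := exists_dot_of_not_mem hx
  obtain ⟨m, h3, h4⟩ := exists_dot_of_not_mem hy
  by_cases h5 : l ⬝ᵥ y = 0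
  · exact ⟨(1 - m ⬝ᵥ x) • l + m, by simp [h1], by simp [h5, h3], fun w hw => by
      simp [h2 w hw, h4 w hw]⟩
  · exact ⟨l, h1, h5, h2⟩

theorem exists_dot_ne' {x y : ι → F} (hx : x ≠ 0) (hy : y ≠ 0) : ∃ l, l ⬝ᵥ x = 1 ∧ l ⬝ᵥ y ≠ 0 :=
  let ⟨l, h1, h2, _⟩ := exists_dot_ne (W := ⊥) (by simpa using hx) (by simpa using hy); ⟨l, h1, h2⟩

theorem det_one_add_vecMulVec (a l : ι → F) : (1 + vecMulVec a l).det = 1 + l ⬝ᵥ a := by
  rw [vecMulVec_eq Unit, det_one_add_replicateCol_mul_replicateRow]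

theorem one_add_vecMulVec_mulVec (a l x : ι → F) :
    (1 + vecMulVec a l) *ᵥ x = x + (l ⬝ᵥ x) • a := by
  simp [add_mulVec, vecMulVec_mulVec]

theorem vecMul_one_add_vecMulVec (a l x : ι → F) :
    x ᵥ* (1 + vecMulVec a l) = x + (x ⬝ᵥ a) • l := by
  simp [vecMul_add, vecMul_vecMulVec]

/-- Invertible rank one perturbations of the identity. -/
noncomputable def rk1 (a l : ι → F) (h : 1 + l ⬝ᵥ a ≠ 0) : GL ι F :=
  GeneralLinearGroup.mkOfDetNeZero (1 + vecMulVec a l) (by rwa [det_one_add_vecMulVec])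

@[simp] theorem rk1_coe (a l : ι → F) (h : 1 + l ⬝ᵥ a ≠ 0) :
    (rk1 a l h : Matrix ι ι F) = 1 + vecMulVec a l := rfl

/-- Transvections. -/
def tv (a l : ι → F) (h : l ⬝ᵥ a = 0) : SpecialLinearGroup ι F :=
  ⟨1 + vecMulVec a l, by rw [det_one_add_vecMulVec, h, add_zero]⟩

@[simp] theorem tv_coe (a l : ι → F) (h : l ⬝ᵥ a = 0) :
    (tv a l h : Matrix ι ι F) = 1 + vecMulVec a l := rfl

theorem conj_vecMulVec {g g' : Matrix ι ι F} (h : g * g' = 1) (a l : ι → F) :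
    g * (1 + vecMulVec a l) * g' = 1 + vecMulVec (g *ᵥ a) (l ᵥ* g') := by
  rw [mul_add, add_mul, mul_one, h, mul_vecMulVec, vecMulVec_mul]

theorem exists_GL_fix {W : Submodule F (ι → F)} {x y : ι → F} (hx : x ∉ W) (hy : y ∉ W) :
    ∃ g : GL ι F, g.1 *ᵥ x = y ∧ ∀ w ∈ W, g.1 *ᵥ w = w := by
  obtain ⟨l, h1, h2, h3⟩ := exists_dot_ne hx hy
  exact ⟨rk1 (y - x) l (by simpa [h1]), by simp [one_add_vecMulVec_mulVec, h1],
    fun w hw => by simp [one_add_vecMulVec_mulVec, h3 w hw]⟩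

theorem exists_vecMulVec_of_rank {M : Matrix ι ι F} (h : M.rank = 1) :
    ∃ a l, a ≠ 0 ∧ l ≠ 0 ∧ M = vecMulVec a l := by
  rw [rank_eq_finrank_span_cols] at h
  obtain ⟨⟨a, ha⟩, h0, h1⟩ := finrank_eq_one_iff'.1 h
  choose l hl using fun j => h1 ⟨M.col j, Submodule.subset_span ⟨j, rfl⟩⟩
  have : M = vecMulVec a l := by
    ext i j
    simpa [vecMulVec_apply, mul_comm] using (congrFun (congrArg Subtype.val (hl j)) i).symm
  refine ⟨a, l, by simpa using h0, ?_, this⟩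
  rintro rfl
  rw [← rank_eq_finrank_span_cols, this] at h
  simp at h

theorem IsTransvection.exists {ι : Type} [Fintype ι] [DecidableEq ι] {t : Matrix ι ι F}
    (h : Cfsg.IsTransvection t) : ∃ a l, a ≠ 0 ∧ l ≠ 0 ∧ l ⬝ᵥ a = 0 ∧ t = 1 + vecMulVec a l := by
  obtain ⟨a, l, ha, hl, h1⟩ := exists_vecMulVec_of_rank h.1
  have := h.2
  rw [h1, vecMulVec_mul_vecMulVec, vecMulVec_eq_zero, or_iff_right ha, smul_eq_zero,
    or_iff_left hl] at this
  exact ⟨a, l, ha, hl, this, by rw [← h1]; simp⟩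

theorem exists_det_fix {W : Submodule F (ι → F)} {l : ι → F} (h : 1 + finrank F W < Fintype.card ι)
    (s : Fˣ) : ∃ g : GL ι F, GeneralLinearGroup.det g = s ∧ (∀ w ∈ W, g.1 *ᵥ w = w) ∧ l ᵥ* g.1 = l := by
  obtain ⟨c, h1, h2⟩ := exists_not_mem_ker (dotProductEquiv F ι l) W (by simpa using h)
  obtain ⟨m, h3, h4⟩ := exists_dot_of_not_mem h1
  refine ⟨rk1 c (((s : F) - 1) • m) (by simp [h3]), Units.ext ?_, fun w hw => ?_, ?_⟩
  · simp [det_one_add_vecMulVec, h3, -vecMulVec_smul]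
  · simp [one_add_vecMulVec_mulVec, h4 w hw, -vecMulVec_smul]
  · simp [vecMul_one_add_vecMulVec, show l ⬝ᵥ c = 0 from h2, -vecMulVec_smul]

theorem exists_SL_of_det {g : GL ι F} (h : GeneralLinearGroup.det g = 1) :
    ∃ s : SpecialLinearGroup ι F, (s : GL ι F) = g :=
  ⟨⟨g, congrArg Units.val h⟩, Units.ext rfl⟩

theorem exists_SL_vec (hn : 2 ≤ Fintype.card ι) {a a' : ι → F} (ha : a ≠ 0) (ha' : a' ≠ 0) :
    ∃ g : SpecialLinearGroup ι F, g.1 *ᵥ a = a' := by
  obtain ⟨g, h1, -⟩ := exists_GL_fix (W := ⊥) (by simpa using ha) (by simpa using ha')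
  obtain ⟨c, hc, -⟩ := exists_not_mem_ker (0 : (ι → F) →ₗ[F] PUnit.{1}) (Submodule.span F {a'})
    (by rw [finrank_span_singleton ha', finrank_zero_of_subsingleton]; simp; omega)
  obtain ⟨m, h3, h4⟩ := exists_dot_of_not_mem hc
  refine ⟨⟨rk1 c ((g.1.det⁻¹ - 1) • m) (by simp [h3, g.det_ne_zero]) * g, ?_⟩, ?_⟩
  · simp [det_one_add_vecMulVec, h3, -vecMulVec_smul, g.det_ne_zero]
  · simp [← mulVec_mulVec, h1, one_add_vecMulVec_mulVec, -vecMulVec_smul,
      h4 a' (Submodule.mem_span_singleton_self _)]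

theorem exists_GL_flag {a a' l l' : ι → F} (ha : a ≠ 0) (ha' : a' ≠ 0) (hl : l ≠ 0) (hl' : l' ≠ 0)
    (h : l ⬝ᵥ a = l' ⬝ᵥ a') : ∃ g : GL ι F, g.1 *ᵥ a = a' ∧ l' ᵥ* g.1 = l := by
  obtain ⟨c, h1, h2⟩ := exists_dot_ne' hl' hl
  rw [dotProduct_comm] at h1 h2
  let g₁ := rk1 c (l - l') (by simpa [h1])
  have h3 : l' ᵥ* g₁.1 = l := by simp [g₁, vecMul_one_add_vecMulVec, h1]
  have h4 : g₁.1 *ᵥ a ≠ 0 := fun h0 => ha ((mulVec_injective_iff_isUnit.2 g₁.isUnit) (by simp [h0]))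
  obtain ⟨m, h5, h6⟩ := exists_dot_ne' h4 ha'
  have h7 : l' ⬝ᵥ g₁.1 *ᵥ a = l' ⬝ᵥ a' := by rw [dotProduct_mulVec, h3, h]
  refine ⟨rk1 (a' - g₁.1 *ᵥ a) m (by simpa [h5]) * g₁, ?_, ?_⟩
  · simp only [Units.val_mul, ← mulVec_mulVec, rk1_coe, one_add_vecMulVec_mulVec, h5]; simp
  · simp only [Units.val_mul, ← vecMul_vecMul, rk1_coe, vecMul_one_add_vecMulVec, dotProduct_sub, h7]
    simpa using h3

theorem exists_SL_flag (hn : 3 ≤ Fintype.card ι) {a a' l l' : ι → F} (ha : a ≠ 0) (ha' : a' ≠ 0)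
    (hl : l ≠ 0) (hl' : l' ≠ 0) (h : l ⬝ᵥ a = l' ⬝ᵥ a') :
    ∃ g : SpecialLinearGroup ι F, g.1 *ᵥ a = a' ∧ l' ᵥ* g.1 = l := by
  obtain ⟨g, h1, h2⟩ := exists_GL_flag ha ha' hl hl' h
  obtain ⟨d, h3, h4, h5⟩ := exists_det_fix (W := Submodule.span F {a'}) (l := l')
    (by rw [finrank_span_singleton ha']; omega) (GeneralLinearGroup.det g)⁻¹
  obtain ⟨s, hs⟩ := exists_SL_of_det (g := d * g) (by simp [h3])
  have : s.1 = d.1 * g.1 := congrArg Units.val hs
  exact ⟨s, by rw [this, ← mulVec_mulVec, h1, h4 _ (Submodule.mem_span_singleton_self _)],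
    by rw [this, ← vecMul_vecMul, h5, h2]⟩

theorem sl_mul_inv (g : SpecialLinearGroup ι F) : g.1 * (g⁻¹).1 = 1 :=
  congrArg Subtype.val (mul_inv_cancel g)

theorem sl_inv_mul (g : SpecialLinearGroup ι F) : (g⁻¹).1 * g.1 = 1 :=
  congrArg Subtype.val (inv_mul_cancel g)

theorem conj_tv (g : SpecialLinearGroup ι F) (a l : ι → F) (h : l ⬝ᵥ a = 0) :
    g * tv a l h * g⁻¹ = tv (g.1 *ᵥ a) (l ᵥ* (g⁻¹).1) (by
      rwa [← dotProduct_mulVec, mulVec_mulVec, sl_inv_mul, one_mulVec]) :=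
  Subtype.ext (conj_vecMulVec (sl_mul_inv g) a l)

theorem isConj_tv (hn : 3 ≤ Fintype.card ι) {a a' l l' : ι → F} (ha : a ≠ 0) (ha' : a' ≠ 0)
    (hl : l ≠ 0) (hl' : l' ≠ 0) (h : l ⬝ᵥ a = 0) (h' : l' ⬝ᵥ a' = 0) :
    IsConj (tv a l h) (tv a' l' h') := by
  obtain ⟨g, h1, h2⟩ := exists_SL_flag hn ha ha' hl hl' (h.trans h'.symm)
  refine isConj_iff.2 ⟨g, ?_⟩
  rw [conj_tv]
  congr 1
  rw [← h2, vecMul_vecMul, sl_mul_inv, vecMul_one]

theorem transvection_eq_tv {i j : ι} (h : i ≠ j) (c : F) : SpecialLinearGroup.transvection h c =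
    tv (Pi.single i c) (Pi.single j 1) (by simp [h.symm]) := by
  ext a b
  simp [SpecialLinearGroup.transvection, Matrix.transvection, vecMulVec_apply, Pi.single_apply,
    single_apply, ite_and, eq_comm]
  split_ifs <;> rfl

/-! ### Stabilisers of subspaces -/

/-- The stabiliser of a subspace in `GL`. -/
noncomputable def glStab (W : Submodule F (ι → F)) : Subgroup (GL ι F) :=
  (stab W).comap glEquiv.toMonoidHom

theorem mem_glStab {W : Submodule F (ι → F)} {g : GL ι F} :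
    g ∈ glStab W ↔ ∀ w ∈ W, g.1 *ᵥ w ∈ W :=
  ⟨fun h w hw => (h w).1 hw, fun h => mem_stab_of_le h⟩

theorem rk1_mem_glStab {W : Submodule F (ι → F)} {a l : ι → F} (h : 1 + l ⬝ᵥ a ≠ 0)
    (h' : a ∈ W ∨ ∀ w ∈ W, l ⬝ᵥ w = 0) : rk1 a l h ∈ glStab W := mem_glStab.2 fun w hw => by
  rw [rk1_coe, one_add_vecMulVec_mulVec]
  rcases h' with h' | h'
  · exact W.add_mem hw (W.smul_mem _ h')
  · simpa [h' w hw]

theorem le_of_glStab_le {W U : Submodule F (ι → F)} (hU : U ≠ ⊥) (h : glStab W ≤ glStab U) :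
    W ≤ U := by
  intro a ha
  by_contra haU
  obtain ⟨u, hu, hu0⟩ := U.ne_bot_iff.1 hU
  obtain ⟨l, h1, h2⟩ := exists_dot_of_not_mem (W := Submodule.span F {a}) (x := u) fun h => by
    obtain ⟨c, rfl⟩ := Submodule.mem_span_singleton.1 h
    exact haU ((U.smul_mem_iff (by rintro rfl; simp at hu0)).1 hu)
  have := mem_glStab.1 (h (rk1_mem_glStab (l := l)
    (by simp [h2 a (Submodule.mem_span_singleton_self _)]) (Or.inl ha))) u hu
  rw [rk1_coe, one_add_vecMulVec_mulVec, h1, one_smul] at this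
  exact haU ((U.add_mem_iff_right hu).1 this)

theorem map_conj_glStab (g : GL ι F) (W : Submodule F (ι → F)) :
    (glStab W).map (MulAut.conj g).toMonoidHom =
      glStab (W.map (glEquiv g : (ι → F) →ₗ[F] (ι → F))) := by
  ext h
  rw [Subgroup.mem_map_equiv, mem_glStab, mem_glStab]
  simp only [MulAut.conj_symm_apply, Units.val_mul, ← mulVec_mulVec, Submodule.mem_map_equiv,
    ← map_inv, ← LinearEquiv.coe_inv, glEquiv_apply]
  refine ⟨fun h w hw => ?_, fun h w hw => h _ ?_⟩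
  · simpa using h _ hw
  · simpa using hw

theorem isCoatom_glStab {W : Submodule F (ι → F)} (h0 : W ≠ ⊥) (h1 : W ≠ ⊤) :
    IsCoatom (glStab W) := by
  obtain ⟨w, hw, hw0⟩ := W.ne_bot_iff.1 h0
  obtain ⟨x, hx⟩ : ∃ x, x ∉ W := by simpa [Submodule.eq_top_iff'] using h1
  refine ⟨fun h => h1 (top_le_iff.1 (le_of_glStab_le h0 (h ▸ le_top))), fun H hH => ?_⟩
  obtain ⟨g, hg, hgW⟩ := SetLike.exists_of_lt hH
  simp only [mem_glStab, not_forall] at hgW
  obtain ⟨v, hv, hgv⟩ := hgW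
  have h2 : ∀ a l h, rk1 a l h ∈ H := fun a l h => by
    by_cases ha : a ∈ W
    · exact hH.le (rk1_mem_glStab h (Or.inl ha))
    obtain ⟨p, hp, hp'⟩ := exists_GL_fix hgv ha
    have h3 : p * g ∈ H := mul_mem (hH.le (mem_glStab.2 fun w hw => by rwa [hp' w hw])) hg
    have h4 : (p * g).1 *ᵥ v = a := by rw [Units.val_mul, ← mulVec_mulVec, hp]
    have : rk1 a l h = p * g * rk1 v (l ᵥ* (p * g).1) (by rwa [← dotProduct_mulVec, h4]) * (p * g)⁻¹ :=
      Units.ext (by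
        rw [Units.val_mul, Units.val_mul _ (rk1 _ _ _), rk1_coe, rk1_coe,
          conj_vecMulVec (Units.mul_inv _), h4, vecMul_vecMul, Units.mul_inv, vecMul_one])
    exact this ▸ mul_mem (mul_mem h3 (hH.le (rk1_mem_glStab _ (Or.inl hv)))) (inv_mem h3)
  have h3 : ∀ s : SpecialLinearGroup ι F, (s : GL ι F) ∈ H := fun s => by
    induction s using SL_transvection_induction with
    | h1 => rw [map_one]; exact H.one_mem
    | htransvec i j h c =>
      rw [transvection_eq_tv]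
      convert h2 (Pi.single i c) (Pi.single j 1) (by simp [h.symm])
      exact Units.ext rfl
    | hmul A B hA hB => rw [map_mul]; exact mul_mem hA hB
  rw [eq_top_iff]
  rintro g -
  obtain ⟨l, hl, -⟩ := exists_dot_ne' hw0 hw0
  obtain ⟨s, hs⟩ := exists_SL_of_det (g := rk1 w ((g.1.det⁻¹ - 1) • l) (by simp [hl, g.det_ne_zero]) * g)
    (Units.ext (by simp [det_one_add_vecMulVec, hl, -vecMulVec_smul, g.det_ne_zero]))
  exact (H.mul_mem_cancel_left (h2 _ _ _)).1 (hs ▸ h3 s)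

/-- The span of the coordinate vectors in a set. -/
def coord (F : Type*) [Field F] (p : ι → Prop) : Submodule F (ι → F) where
  carrier := {v | ∀ i, p i → v i = 0}
  add_mem' ha hb i hi := by simp [ha i hi, hb i hi]
  zero_mem' _ _ := rfl
  smul_mem' c v hv i hi := by simp [hv i hi]

omit [Fintype ι] [DecidableEq ι] in
theorem mem_coord {p : ι → Prop} {v : ι → F} : v ∈ coord F p ↔ ∀ i, p i → v i = 0 := Iff.rfl

theorem mem_glStab_coord {p : ι → Prop} {g : GL ι F} :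
    g ∈ glStab (coord F p) ↔ ∀ i j, p i → ¬ p j → g.1 i j = 0 := by
  rw [mem_glStab]
  constructor
  · intro h i j hi hj
    simpa using h (Pi.single j 1) (fun k hk => Pi.single_eq_of_ne (by rintro rfl; exact hj hk) _) i hi
  · intro h w hw i hi
    exact Finset.sum_eq_zero fun j _ => by
      by_cases hj : p j
      · simp [hw j hj]
      · simp [h i j hi hj]

theorem finrank_coord (p : ι → Prop) [DecidablePred p] :
    finrank F (coord F p) = Fintype.card {i // ¬ p i} := by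
  rw [← finrank_fintype_fun_eq_card F]
  exact LinearEquiv.finrank_eq
    { toFun := fun v i => v.1 i, map_add' := fun _ _ => rfl, map_smul' := fun _ _ => rfl,
      invFun := fun v => ⟨fun i => if h : p i then 0 else v ⟨i, h⟩, fun i hi => dif_pos hi⟩,
      left_inv := fun v => Subtype.ext (funext fun i => by
        by_cases h : p i
        · simp [h, v.2 i h]
        · simp [h]),
      right_inv := fun v => funext fun i => dif_neg i.2 }

theorem finrank_coord_fin {n k : ℕ} (hk : k ≤ n) :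
    finrank F (coord F fun i : Fin n => k ≤ (i : ℕ)) = k := by
  rw [finrank_coord]
  simp only [not_le]
  rw [Fintype.card_subtype, Fin.card_filter_val_lt]
  omega

theorem card_glStab_coord [Finite F] (p : ι → Prop) [DecidablePred p] :
    Nat.card (glStab (coord F p)) = Nat.card F ^ (Fintype.card {i // ¬ p i} * Fintype.card {i // p i}) *
      Nat.card (GL {i // ¬ p i} F) * Nat.card (GL {i // p i} F) := by
  let e : {i // ¬ p i} ⊕ {i // p i} ≃ ι := (Equiv.sumComm _ _).trans (Equiv.sumCompl p)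
  have key : ∀ g : glStab (coord F p), (g.1.1.submatrix e e).toBlocks₂₁ = 0 := fun g =>
    Matrix.ext fun i j => mem_glStab_coord.1 g.2 _ _ i.2 j.2
  have key2 : ∀ g : glStab (coord F p), IsUnit (g.1.1.submatrix e e).toBlocks₁₁ ∧
      IsUnit (g.1.1.submatrix e e).toBlocks₂₂ := fun g => by
    rw [← isUnit_fromBlocks_zero₂₁ (B := (g.1.1.submatrix e e).toBlocks₁₂), ← key g, fromBlocks_toBlocks,
      isUnit_submatrix_equiv]
    exact g.1.isUnit
  have : Nat.card F ^ (Fintype.card {i // ¬ p i} * Fintype.card {i // p i}) =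
      Nat.card (Matrix {i // ¬ p i} {i // p i} F) := by
    simp [Matrix, Nat.card_fun, ← pow_mul, mul_comm]
  rw [this, ← Nat.card_prod, ← Nat.card_prod]
  refine Nat.card_eq_of_bijective (fun g => (((g.1.1.submatrix e e).toBlocks₁₂, (key2 g).1.unit),
    (key2 g).2.unit)) ⟨fun g g' h => ?_, fun ⟨⟨B, A⟩, D⟩ => ?_⟩
  · simp only [Prod.mk.injEq, Units.ext_iff, IsUnit.unit_spec] at h
    refine Subtype.ext (Units.ext ((reindex e.symm e.symm).injective ?_))
    rw [reindex_apply, reindex_apply, e.symm_symm, ← fromBlocks_toBlocks (submatrix _ _ _), key, h.1.1,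
      h.1.2, h.2, ← key g', fromBlocks_toBlocks]
  · have h : IsUnit ((fromBlocks A.1 B 0 D.1).submatrix e.symm e.symm) := by
      rw [isUnit_submatrix_equiv, isUnit_fromBlocks_zero₂₁]; exact ⟨A.isUnit, D.isUnit⟩
    refine ⟨⟨h.unit, mem_glStab_coord.2 fun i j hi hj => ?_⟩, ?_⟩
    · simp [e, hi, hj]
    · simp [Units.ext_iff]

/-- Inverse transpose followed by a permutation of the coordinates. -/
def glDual (e : ι ≃ ι) : GL ι F ≃* GL ι F where
  toFun g := ⟨(g⁻¹).1ᵀ.submatrix e e, g.1ᵀ.submatrix e e,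
    by rw [submatrix_mul_equiv, ← transpose_mul, Units.mul_inv]; simp,
    by rw [submatrix_mul_equiv, ← transpose_mul, Units.inv_mul]; simp⟩
  invFun g := ⟨(g⁻¹).1ᵀ.submatrix e.symm e.symm, g.1ᵀ.submatrix e.symm e.symm,
    by rw [submatrix_mul_equiv, ← transpose_mul, Units.mul_inv]; simp,
    by rw [submatrix_mul_equiv, ← transpose_mul, Units.inv_mul]; simp⟩
  left_inv g := Units.ext (Matrix.ext fun i j => by
    change g.1 (e (e.symm i)) (e (e.symm j)) = _; simp)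
  right_inv g := Units.ext (Matrix.ext fun i j => by
    change g.1 (e.symm (e i)) (e.symm (e j)) = _; simp)
  map_mul' g h := Units.ext (by
    change submatrix _ _ _ = submatrix _ _ _ * submatrix _ _ _
    rw [submatrix_mul_equiv, ← transpose_mul, ← Units.val_mul, ← _root_.mul_inv_rev])

theorem glDual_apply (e : ι ≃ ι) (g : GL ι F) (i j : ι) : (glDual e g).1 i j = (g⁻¹).1 (e j) (e i) := rfl

/-! ### Monomial matrices -/

theorem monomial_of_conj {g : Matrix ι ι F} (hg : g.det ≠ 0)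
    (h : ∀ j k, j ≠ k → ∃ t t' : ι → F, t j ≠ t k ∧ g * diagonal t = diagonal t' * g) (i : ι) :
    ∃! j, g i j ≠ 0 := by
  have : ∃ j, g i j ≠ 0 := by
    by_contra hc
    push Not at hc
    exact hg (det_eq_zero_of_row_eq_zero i hc)
  obtain ⟨j, hj⟩ := this
  refine ⟨j, hj, fun k hk => by_contra fun hkj => ?_⟩
  obtain ⟨t, t', h1, h2⟩ := h k j hkj
  have h3 := congrFun₂ h2 i j
  have h4 := congrFun₂ h2 i k
  simp only [mul_diagonal, diagonal_mul] at h3 h4
  exact h1 ((mul_left_cancel₀ hk (h4.trans (mul_comm _ _))).trans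
    (mul_left_cancel₀ hj (h3.trans (mul_comm _ _))).symm)

theorem exists_perm_of_monomial {g : Matrix ι ι F} (hg : g.det ≠ 0) (h : ∀ i, ∃! j, g i j ≠ 0) :
    ∃ σ : Equiv.Perm ι, ∀ i j, g i j ≠ 0 ↔ j = σ i := by
  choose σ h1 h2 using h
  have : Function.Surjective σ := fun j => by
    by_contra hc
    exact hg (det_eq_zero_of_column_eq_zero j fun i => by_contra fun h => hc ⟨i, (h2 i j h).symm⟩)
  exact ⟨Equiv.ofBijective σ (Finite.surjective_iff_bijective.1 this),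
    fun i j => ⟨h2 i j, fun h => h ▸ h1 i⟩⟩

theorem monomial_mul_diagonal {g : Matrix ι ι F} {σ : Equiv.Perm ι} (h : ∀ i j, g i j ≠ 0 ↔ j = σ i)
    (t : ι → F) : g * diagonal t = diagonal (t ∘ σ) * g := by
  ext i j
  simp only [mul_diagonal, diagonal_mul, Function.comp]
  by_cases hj : j = σ i
  · rw [hj, mul_comm]
  · simp [not_not.1 (mt (h i j).1 hj)]

/-! ### Triangular matrices -/

theorem card_lower [Finite F] (n : ℕ) : Nat.card {g : GL (Fin n) F // ∀ i j, i < j → g.1 i j = 0} =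
    Nat.card F ^ (n * (n - 1) / 2) * (Nat.card F - 1) ^ n := by
  have h1 : ∀ M : Matrix (Fin n) (Fin n) F, (∀ i j, i < j → M i j = 0) → M.det = ∏ i, M i i :=
    fun M h => det_of_lowerTriangular M fun i j hij => h i j hij
  have h2 : ∀ g : {g : GL (Fin n) F // ∀ i j, i < j → g.1 i j = 0}, ∀ i, g.1.1 i i ≠ 0 := fun g i =>
    Finset.prod_ne_zero_iff.1 ((h1 _ g.2).symm.trans_ne g.1.det_ne_zero) i (Finset.mem_univ _)
  have h3 : n * (n - 1) / 2 = Fintype.card (Σ i : Fin n, {j // j < i}) := by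
    rw [Fintype.card_sigma, ← Finset.sum_range_id, ← Fin.sum_univ_eq_sum_range (fun i => i)]
    exact Finset.sum_congr rfl fun i _ => by
      rw [Fintype.card_subtype, Finset.filter_gt_eq_Iio, Fin.card_Iio]
  have h4 : Nat.card F ^ (n * (n - 1) / 2) * (Nat.card F - 1) ^ n =
      Nat.card (((Σ i : Fin n, {j // j < i}) → F) × (Fin n → Fˣ)) := by
    rw [h3, Nat.card_prod, Nat.card_fun, Nat.card_fun, Nat.card_units]; simp
  rw [h4]
  refine Nat.card_eq_of_bijective (fun g => (fun p => g.1.1 p.1 p.2, fun i => Units.mk0 _ (h2 g i)))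
    ⟨fun g g' h => ?_, fun ⟨a, d⟩ => ?_⟩
  · refine Subtype.ext (Units.ext (Matrix.ext fun i j => ?_))
    rcases lt_trichotomy i j with hij | rfl | hij
    · rw [g.2 i j hij, g'.2 i j hij]
    · exact congrArg Units.val (congrFun (congrArg Prod.snd h) i)
    · exact congrFun (congrArg Prod.fst h) ⟨i, j, hij⟩
  · let M : Matrix (Fin n) (Fin n) F := fun i j =>
      if h : j < i then a ⟨i, j, h⟩ else if i = j then d i else 0
    have h5 : ∀ i j, i < j → M i j = 0 := fun i j h => by simp [M, h.not_gt, h.ne]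
    refine ⟨⟨GeneralLinearGroup.mkOfDetNeZero M ?_, h5⟩, Prod.ext (funext fun p => dif_pos p.2.2)
      (funext fun i => Units.ext ?_)⟩
    · rw [h1 M h5]; simp [M, Finset.prod_ne_zero_iff]
    · change M i i = _
      simp [M]

theorem card_upper [Finite F] (n : ℕ) : Nat.card {g : GL (Fin n) F // ∀ i j, j < i → g.1 i j = 0} =
    Nat.card F ^ (n * (n - 1) / 2) * (Nat.card F - 1) ^ n := by
  rw [← card_lower]
  let T : GL (Fin n) F → GL (Fin n) F := fun g => glDual (Equiv.refl _) g⁻¹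
  exact Nat.card_congr ⟨fun g => ⟨T g.1, fun i j h => g.2 j i h⟩, fun g => ⟨T g.1, fun i j h => g.2 j i h⟩,
    fun g => Subtype.ext (Units.ext rfl), fun g => Subtype.ext (Units.ext rfl)⟩

end Cfsg.Agent.Class
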