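import Cfsg.Agent.Class.Uni
import Cfsg.Agent.Class.Tab
import Cfsg.Agent.Class.Grp
import Cfsg.Agent.Class.FS6

/-! Orthogonal spaces: isotropy, Witt index, anisotropic planes, counts and orders. -/

set_option autoImplicit false

namespace Cfsg.Agent.Class

open Module

/-- Orthogonal spaces. -/
abbrev OS (F : Type*) [Field F] (V : Type*) [AddCommGroup V] [Module F V] := FS (FP.orth F) V

variable {F : Type*} [Field F] {V : Type*} [AddCommGroup V] [Module F V]
  {U : Type*} [AddCommGroup U] [Module F U]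

theorem exists_sq_char_two [Finite F] (h2 : (2 : F) = 0) (a : F) : ∃ c : F, c * c = a := by
  have : Function.Injective (fun c : F => c * c) := by
    intro x y h
    have : (x - y) ^ 2 = 0 := by
      simp only at h
      linear_combination h + (y * y - x * y) * h2
    exact sub_eq_zero.1 (pow_eq_zero_iff (two_ne_zero) |>.1 this)
  exact Finite.injective_iff_surjective.1 this a

namespace FS

/-- Build an orthogonal space from a function and its polar form. -/
def mkOrth (Q : V → F) (B : V →ₗ[F] V →ₗ[F] F) (hadd : ∀ x y, Q (x + y) = Q x + Q y + B x y)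
    (hsmul : ∀ (c : F) x, Q (c • x) = c * c * Q x) : OS F V where
  B := B
  Q := Q
  symm x y := by
    change B y x = 1 * B x y
    have h1 := hadd x y
    have h2 := hadd y x
    rw [add_comm y x] at h2
    linear_combination h1 - h2
  Q_add := hadd
  Q_smul := hsmul
  ex x := ⟨Q x, rfl⟩
  B_self x a h := by
    change B x x = a + 1 * a
    have h1 := hadd x x
    have h2 := hsmul 2 x
    rw [two_smul] at h2
    simp only [FP.orth_τ] at h
    linear_combination h2 - h1 - 2 * h

@[simp] theorem mkOrth_B (Q : V → F) (B : V →ₗ[F] V →ₗ[F] F) (hadd) (hsmul) (x y : V) :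
    (mkOrth Q B hadd hsmul).B x y = B x y := rfl

@[simp] theorem mkOrth_Q (Q : V → F) (B : V →ₗ[F] V →ₗ[F] F) (hadd) (hsmul) (x : V) :
    (mkOrth Q B hadd hsmul).Q x = Q x := rfl

/-- The polar form as a bilinear form. -/
def bil (f : OS F V) : LinearMap.BilinForm F V := f.B

@[simp] theorem bil_apply (f : OS F V) (x y : V) : f.bil x y = f.B x y := rfl

/-- The underlying quadratic form. -/
def toQF (f : OS F V) : QuadraticForm F V where
  toFun := f.Q
  toFun_smul a x := f.orth_Q_smul a x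
  exists_companion' := ⟨f.bil, f.orth_Q_add⟩

@[simp] theorem toQF_apply (f : OS F V) (x : V) : f.toQF x = f.Q x := rfl

theorem polar_Q (f : OS F V) (x y : V) : QuadraticMap.polar f.Q x y = f.B x y := by
  rw [QuadraticMap.polar, orth_Q_add]; ring

/-- Scaling an orthogonal space. -/
def smul (c : F) (f : OS F V) : OS F V :=
  mkOrth (fun x => c * f.Q x) (c • f.bil) (fun x y => by simp [orth_Q_add]; ring)
    (fun a x => by simp only [orth_Q_smul]; ring)

@[simp] theorem smul_Q (c : F) (f : OS F V) (x : V) : (f.smul c).Q x = c * f.Q x := rfl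
@[simp] theorem smul_B (c : F) (f : OS F V) (x y : V) : (f.smul c).B x y = c * f.B x y := rfl

variable {f : OS F V} {f' : OS F U}

theorem smul_Isom {c : F} (hc : c ≠ 0) : (f.smul c).Isom = f.Isom := by
  ext g
  simp [orth_mem_Isom, hc]

theorem Nondeg.smul [FiniteDimensional F V] (hf : f.Nondeg) {c : F} (hc : c ≠ 0) :
    (f.smul c).Nondeg :=
  nondeg_of_sep fun _ hx => hf.eq_zero fun y => by simpa [hc] using hx y

theorem orth_isIso {e : U ≃ₗ[F] V} (h : ∀ x, f.Q (e x) = f'.Q x) : f'.IsIso f e :=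
  ⟨fun x y => by
    have := h (x + y)
    rw [map_add, orth_Q_add, orth_Q_add, h, h] at this
    linear_combination this, h⟩

theorem orth_Q_sub (x y : V) : f.Q (x - y) = f.Q x + f.Q y - f.B x y := f.Q_sub x y

theorem orth_Q_two (a b : F) (x y : V) :
    f.Q (a • x + b • y) = a * a * f.Q x + b * b * f.Q y + a * b * f.B x y := by
  simp only [orth_Q_add, orth_Q_smul, B_smul_left, B_smul_right, FP.orth_σ]; ring

theorem IsHyp.orth_Q {u v : V} (h : f.IsHyp u v) (a b : F) {w : V} (hw : w ∈ f.hperp u v) :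
    f.Q (a • u + b • v + w) = a * b + f.Q w := h.Q_decomp a b hw

theorem IsHyp.orth_swap {u v : V} (h : f.IsHyp u v) : f.IsHyp v u :=
  ⟨h.Q2, h.Q1, by rw [orth_symm, h.B12]⟩

theorem exists_orth_not_mem {P : FP F} (f : FS P V) [FiniteDimensional F V] {ι : Type*} [Fintype ι]
    (v : ι → V) (W : Submodule F V) (h : Fintype.card ι + finrank F W < finrank F V) :
    ∃ z, z ∉ W ∧ ∀ i, f.B (v i) z = 0 := by
  let L : V →ₗ[F] (ι → F) := LinearMap.pi fun i => f.B (v i)
  by_contra hc
  have : LinearMap.ker L ≤ W := fun z hz => by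
    by_contra hzW
    exact hc ⟨z, hzW, fun i => congrFun hz i⟩
  have h1 := Submodule.finrank_mono this
  have h2 := L.finrank_range_add_finrank_ker
  have h3 := (LinearMap.range L).finrank_le
  rw [finrank_fintype_fun_eq_card] at h3
  omega

theorem exists_orth_ne_zero {P : FP F} (f : FS P V) [FiniteDimensional F V] {ι : Type*} [Fintype ι]
    (v : ι → V) (h : Fintype.card ι < finrank F V) : ∃ z, z ≠ 0 ∧ ∀ i, f.B (v i) z = 0 := by
  simpa using f.exists_orth_not_mem v ⊥ (by simpa using h)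

theorem Nondeg.exists_Q_ne [Nontrivial V] (hf : f.Nondeg) : ∃ x, f.Q x ≠ 0 := by
  by_contra h
  push Not at h
  obtain ⟨x, hx⟩ := exists_ne (0 : V)
  exact hx (hf.eq_zero fun y => by have := f.orth_Q_add x y; simpa [h] using this.symm)

theorem Nondeg.exists_Q_ne' [FiniteDimensional F V] (hf : f.Nondeg) (h : 0 < finrank F V) :
    ∃ x, f.Q x ≠ 0 :=
  have := Module.nontrivial_of_finrank_pos h
  hf.exists_Q_ne

theorem Nondeg.two_ne_zero_of_one (hf : f.Nondeg) (h : finrank F V = 1) : (2 : F) ≠ 0 := by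
  intro h2
  obtain ⟨v, hv, hs⟩ := finrank_eq_one_iff'.1 h
  refine hv (hf.eq_zero fun y => ?_)
  obtain ⟨c, rfl⟩ := hs y
  simp [orth_self, h2]

theorem exists_singular [Finite F] [FiniteDimensional F V] (f : OS F V) (h : 3 ≤ finrank F V) :
    ∃ u, u ≠ 0 ∧ f.Q u = 0 := by
  by_contra hc
  have hc' : ∀ u, u ≠ 0 → f.Q u ≠ 0 := fun u hu h => hc ⟨u, hu, h⟩
  have : Nontrivial V := Module.nontrivial_of_finrank_pos (R := F) (by omega)
  obtain ⟨x, hx⟩ := exists_ne (0 : V)
  obtain ⟨y, hy, hxy⟩ := f.exists_orth_not_mem ![x] (Submodule.span F {x})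
    (by rw [finrank_span_singleton hx]; simp; omega)
  have hxy := hxy 0
  simp only [Matrix.cons_val_zero] at hxy
  have hy0 : y ≠ 0 := fun h => hy (h ▸ Submodule.zero_mem _)
  by_cases h2 : (2 : F) = 0
  · obtain ⟨c, hcc⟩ := exists_sq_char_two h2 (f.Q y / f.Q x)
    refine hc' (c • x + (1 : F) • y) (fun h0 => hy ?_) ?_
    · rw [Submodule.mem_span_singleton]
      exact ⟨-c, by rw [one_smul] at h0; rw [neg_smul, neg_eq_iff_add_eq_zero, h0]⟩
    · rw [orth_Q_two, hcc, hxy]
      have := hc' x hx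
      field_simp
      linear_combination f.Q y * h2
  · obtain ⟨z, hz, hz'⟩ := f.exists_orth_ne_zero ![x, y] (by simp; omega)
    have h0 : f.B x z = 0 := hz' 0
    have h1 : f.B y z = 0 := hz' 1
    obtain ⟨a, b, hab⟩ := binary_form_surj h2 (a := f.Q x) (b := 0) (c := f.Q y) (by
      have h4 : (4 : F) ≠ 0 := by
        have := mul_ne_zero h2 h2
        norm_num at this ⊢; exact this
      simp [hc' x hx, hc' y hy0, h4]) (-f.Q z)
    refine hc' (a • x + b • y + z) (fun h => ?_) ?_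
    · have := congrArg (f.B z) h
      simp [B_comm_zero h0, B_comm_zero h1, orth_self, h2, hc' z hz] at this
    · rw [orth_Q_add, orth_Q_two, hxy]
      simp [h0, h1]
      linear_combination hab

theorem Nondeg.exists_hyp [Finite F] [FiniteDimensional F V] (hf : f.Nondeg) (h : 3 ≤ finrank F V) :
    ∃ u v, f.IsHyp u v := by
  obtain ⟨u, hu, hQ⟩ := f.exists_singular h
  exact ⟨u, hf.exists_partner' hQ hu⟩

theorem IsHyp.universal {u v : V} (h : f.IsHyp u v) (c : F) : f.Q (c • u + v) = c := by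
  simpa using h.orth_Q c 1 (Submodule.zero_mem _)

/-- The Witt index is at least `m`. -/
def wi {P : FP F} (f : FS P V) (m : ℕ) : Prop := ∃ W, f.TS W ∧ m ≤ finrank F W

theorem wi_zero {P : FP F} (f : FS P V) : f.wi 0 := ⟨⊥, ⟨by simp, by simp⟩, Nat.zero_le _⟩

theorem wi.mono {P : FP F} {f : FS P V} {m k : ℕ} (h : f.wi m) (hk : k ≤ m) : f.wi k :=
  let ⟨W, h1, h2⟩ := h; ⟨W, h1, hk.trans h2⟩

theorem TS.mono {P : FP F} {f : FS P V} {W W' : Submodule F V} (h : f.TS W) (hle : W' ≤ W) :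
    f.TS W' := ⟨fun x hx => h.1 x (hle hx), fun x hx y hy => h.2 x (hle hx) y (hle hy)⟩

theorem wi.exists_eq {P : FP F} {f : FS P V} [FiniteDimensional F V] {m : ℕ} (h : f.wi m) :
    ∃ W, f.TS W ∧ finrank F W = m := by
  obtain ⟨W, h1, h2⟩ := h
  obtain ⟨φ, hφ⟩ := (finrank_le_iff_exists_linearMap (R := F) (M := Fin m → F) (M' := W)).1
    (by simpa using h2)
  refine ⟨LinearMap.range (W.subtype ∘ₗ φ), h1.mono ?_, ?_⟩
  · rintro _ ⟨x, rfl⟩; exact (φ x).2
  · rw [LinearMap.finrank_range_of_inj (f := W.subtype ∘ₗ φ) (W.subtype_injective.comp hφ)]; simp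

theorem wi_one {P : FP F} {f : FS P V} [FiniteDimensional F V] :
    f.wi 1 ↔ ∃ u, u ≠ 0 ∧ f.Q u = 0 := by
  constructor
  · rintro ⟨W, h1, h2⟩
    have := Module.nontrivial_of_finrank_pos (R := F) (M := W) h2
    obtain ⟨x, hx⟩ := exists_ne (0 : W)
    exact ⟨x, by simpa using hx, h1.1 _ x.2⟩
  · rintro ⟨u, hu, hQ⟩
    exact ⟨_, ts_span (S := {u}) (by simpa) (by simpa using B_self_of_Q hQ),
      (finrank_span_singleton hu).ge⟩

theorem IsIso.wi {P : FP F} {f : FS P V} {f' : FS P U} {e : U ≃ₗ[F] V} (h : f'.IsIso f e) {m : ℕ}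
    (hw : f'.wi m) : f.wi m := by
  obtain ⟨W, h1, h2⟩ := hw
  refine ⟨W.map (e : U →ₗ[F] V), ⟨?_, ?_⟩, by rwa [LinearEquiv.finrank_map_eq]⟩
  · rintro _ ⟨x, hx, rfl⟩; exact (h.2 x).trans (h1.1 x hx)
  · rintro _ ⟨x, hx, rfl⟩ _ ⟨y, hy, rfl⟩; exact (h.1 x y).trans (h1.2 x hx y hy)

theorem IsIso.wi_iff {P : FP F} {f : FS P V} {f' : FS P U} {e : U ≃ₗ[F] V} (h : f'.IsIso f e)
    {m : ℕ} : f'.wi m ↔ f.wi m := ⟨h.wi, h.symm.wi⟩

theorem smul_wi {c : F} (hc : c ≠ 0) {m : ℕ} : (f.smul c).wi m ↔ f.wi m := by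
  simp [wi, orth_ts, hc]

theorem wi_succ {P : FP F} {f : FS P V} [FiniteDimensional F V] (hf : f.Nondeg) {u v : V}
    (h : f.IsHyp u v) (m : ℕ) : f.wi (m + 1) ↔ (f.res (f.hperp u v)).wi m := by
  constructor
  · rintro ⟨W, h1, h2⟩
    have := Module.nontrivial_of_finrank_pos (R := F) (M := W) (by omega)
    obtain ⟨x, hx⟩ := exists_ne (0 : W)
    obtain ⟨g, hg, hgx⟩ := witt_one hf (u := x) (v := u) (by simpa using hx) h.ne1
      ((h1.1 _ x.2).trans h.Q1.symm)
    set W' := W.map (g : V →ₗ[F] V)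
    have h3 : f.TS W' := by
      constructor
      · rintro _ ⟨x, hx, rfl⟩; exact (Isom_Q hg x).trans (h1.1 x hx)
      · rintro _ ⟨x, hx, rfl⟩ _ ⟨y, hy, rfl⟩; exact (Isom_B hg x y).trans (h1.2 x hx y hy)
    have h4 : finrank F W' = finrank F W := LinearEquiv.finrank_map_eq _ _
    have h5 : u ∈ W' := ⟨x, x.2, hgx⟩
    refine ⟨W'.comap (f.hperp u v).subtype, ⟨fun x hx => h3.1 _ hx, fun x hx y hy => h3.2 _ hx _ hy⟩, ?_⟩
    rw [← Submodule.finrank_map_subtype_eq, Submodule.map_comap_subtype]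
    have h6 : LinearMap.ker (f.B v) ⊓ W' ≤ f.hperp u v ⊓ W' := fun x hx =>
      ⟨mem_hperp.2 ⟨h3.2 _ h5 _ hx.2, hx.1⟩, hx.2⟩
    have h7 := Submodule.finrank_mono h6
    have h8 := Submodule.finrank_sup_add_finrank_inf_eq (LinearMap.ker (f.B v)) W'
    have h9 := (LinearMap.ker (f.B v) ⊔ W').finrank_le
    have h10 := (f.B v).finrank_range_add_finrank_ker
    have h11 := (LinearMap.range (f.B v)).finrank_le
    rw [finrank_self] at h11
    omega
  · rintro ⟨W, h1, h2⟩
    set W' := W.map (f.hperp u v).subtype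
    have h3 : u ∉ W' := by
      rintro ⟨x, -, hx⟩
      have := (mem_hperp.1 x.2).2
      rw [show (x : V) = u from hx, h.B21] at this
      exact P.ε_ne this
    refine ⟨W' ⊔ Submodule.span F {u}, ?_, ?_⟩
    · rw [← W'.span_eq, ← Submodule.span_union]
      refine ts_span ?_ ?_
      · rintro _ (⟨x, hx, rfl⟩ | rfl)
        exacts [h1.1 x hx, h.Q1]
      · rintro _ (⟨x, hx, rfl⟩ | rfl) _ (⟨y, hy, rfl⟩ | rfl)
        exacts [h1.2 x hx y hy, B_comm_zero (mem_hperp.1 x.2).1, (mem_hperp.1 y.2).1, h.B11]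
    · rw [Submodule.finrank_sup_span_singleton h3, Submodule.finrank_map_subtype_eq]
      omega

end FS

theorem dihedral_of_hom {C G : Type*} [Group C] [IsCyclic C] [Finite C] [Group G] (ρ : C →* G)
    (hρ : Function.Injective ρ) (τ : G) (hτ : τ ∉ ρ.range) (hall : ∀ g, g ∈ ρ.range ∨ g * τ ∈ ρ.range)
    (hττ : τ * τ = 1) (hsq : ∀ c, τ * ρ c * τ = (ρ c)⁻¹) :
    Nonempty (G ≃* DihedralGroup (Nat.card C)) := by
  obtain ⟨c, hc⟩ := IsCyclic.exists_generator (α := C)
  have h1 : Subgroup.zpowers (ρ c) = ρ.range := by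
    rw [← MonoidHom.map_zpowers, (Subgroup.eq_top_iff' _).2 hc, MonoidHom.range_eq_map]
  have h2 : orderOf (ρ c) = Nat.card C := by
    rw [orderOf_injective ρ hρ, orderOf_eq_card_of_forall_mem_zpowers hc]
  rw [← h2]
  refine dihedral_of_index_two ?_ ?_
  · rw [h1, Subgroup.index_eq_two_iff]
    refine ⟨τ, fun b => ?_⟩
    rcases hall b with h | h
    · exact Or.inr ⟨h, fun h' => hτ ((Subgroup.mul_mem_cancel_left _ h).1 h')⟩
    · exact Or.inl ⟨h, fun h' => hτ ((Subgroup.mul_mem_cancel_left _ h').1 h)⟩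
  · rw [h1]
    intro s hs
    obtain ⟨d, hd⟩ := (hall s).resolve_left hs
    have : s = ρ d * τ := by rw [hd, mul_assoc, hττ, mul_one]
    rw [this, mul_assoc, ← mul_assoc τ, hsq, mul_inv_cancel]

/-! ### The norm form of a quadratic extension -/

section norm
open QuadraticAlgebra

/-- The norm form of a quadratic algebra. -/
def nOS (a b : F) : OS F (QuadraticAlgebra F a b) :=
  FS.mkOrth (fun z => norm z) (LinearMap.mk₂ F (fun z w => trace (z * star w))
    (fun _ _ _ => by simp [add_mul]) (fun _ _ _ => by simp)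
    (fun _ _ _ => by simp [mul_add]) (fun _ _ _ => by simp [trace_def]; ring))
    (fun _ _ => by simp [norm_def, trace_def]; ring) (fun _ _ => by simp [norm_def]; ring)

variable {a b : F}

@[simp] theorem nOS_Q (z : QuadraticAlgebra F a b) : (nOS a b).Q z = norm z := rfl
theorem nOS_B (z w : QuadraticAlgebra F a b) : (nOS a b).B z w = trace (z * star w) := rfl

theorem qa_disc_ne [Finite F] (h : ∀ r : F, r ^ 2 ≠ a + b * r) : b ^ 2 + 4 * a ≠ 0 := by
  intro h0
  by_cases h2 : (2 : F) = 0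
  · obtain ⟨r, hr⟩ := exists_sq_char_two h2 a
    have : b = 0 := pow_eq_zero_iff two_ne_zero |>.1 (by linear_combination h0 - 2 * a * h2)
    exact h r (by rw [this]; linear_combination hr)
  · refine h (b / 2) ?_
    field_simp
    linear_combination -h0

theorem nOS_nondeg (h : b ^ 2 + 4 * a ≠ 0) : (nOS a b).Nondeg := by
  refine FS.nondeg_of_sep fun z hz => ?_
  have h1 := hz 1
  have h2 := hz ω
  simp [nOS_B, trace_def] at h1 h2
  have h3 : z.im = 0 := by
    have : (b ^ 2 + 4 * a) * z.im = 0 := by linear_combination b * h1 - 2 * h2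
    exact (mul_eq_zero.1 this).resolve_left h
  have h4 : z.re = 0 := by
    have : (b ^ 2 + 4 * a) * z.re = 0 := by linear_combination 2 * a * h1 + b * h2
    exact (mul_eq_zero.1 this).resolve_left h
  ext <;> simp [h3, h4]

instance qa_finite [Finite F] : Finite (QuadraticAlgebra F a b) :=
  Finite.of_equiv _ (equivProd a b).symm

theorem qa_card : Nat.card (QuadraticAlgebra F a b) = Nat.card F ^ 2 := by
  rw [Nat.card_congr (equivProd a b), Nat.card_prod, sq]

theorem qa_star_omega_ne (h : b ^ 2 + 4 * a ≠ 0) : star (ω : QuadraticAlgebra F a b) ≠ ω := by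
  intro h0
  have h1 := congrArg re h0
  have h2 := congrArg im h0
  simp at h1 h2
  apply h
  linear_combination b * h1 - 2 * a * h2

variable [hab : Fact (∀ r : F, r ^ 2 ≠ a + b * r)]

theorem qa_UF [Finite F] : UF (starRingEnd (QuadraticAlgebra F a b)) (Nat.card F) := by
  obtain ⟨q, hq⟩ := exists_UF_of_invol (σ := starRingEnd (QuadraticAlgebra F a b))
    (fun z => star_star z) (fun h => qa_star_omega_ne (qa_disc_ne hab.out) (RingHom.congr_fun h ω))
  have := hq.card
  rw [qa_card] at this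
  rwa [Nat.pow_left_injective two_ne_zero this]

theorem qa_norm_iff {z : QuadraticAlgebra F a b} {c : F} :
    starRingEnd _ z * z = algebraMap F _ c ↔ norm z = c := by
  rw [starRingEnd_apply, mul_comm, ← algebraMap_norm_eq_mul_star, algebraMap_inj]

theorem nOS_card [Finite F] {c : F} (hc : c ≠ 0) :
    Nat.card {z // (nOS a b).Q z = c} = Nat.card F + 1 := by
  rw [← (qa_UF (a := a) (b := b)).card_norm (μ := algebraMap F _ c) (by simpa using hc)
    (by ext <;> simp [starRingEnd_apply])]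
  exact Nat.card_congr (Equiv.subtypeEquivRight fun z => qa_norm_iff.symm)

/-- Multiplication by an element of norm one. -/
def nMul : FS.normOne (starRingEnd (QuadraticAlgebra F a b)) →* (nOS a b).Isom where
  toFun s := ⟨(LinearEquiv.smulOfUnit s.1).restrictScalars F, FS.orth_mem_Isom.2 fun z => by
    have : norm (s.1 : QuadraticAlgebra F a b) = 1 := qa_norm_iff.1 (by
      rw [map_one]; exact FS.mem_normOne.1 s.2)
    change norm ((s.1 : QuadraticAlgebra F a b) * z) = norm z
    rw [map_mul, this, one_mul]⟩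
  map_one' := Subtype.ext (LinearEquiv.ext fun z => one_mul z)
  map_mul' s t := Subtype.ext (LinearEquiv.ext fun z => mul_assoc _ _ z)

theorem nMul_apply (s : FS.normOne (starRingEnd (QuadraticAlgebra F a b)))
    (z : QuadraticAlgebra F a b) : (nMul s).1 z = s.1 * z := rfl

/-- Conjugation. -/
def nStar (a b : F) : (nOS a b).Isom :=
  ⟨{ toFun := star, invFun := star, map_add' := star_add, left_inv := star_star,
     right_inv := star_star, map_smul' := fun _ _ => by ext <;> simp; ring },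
    FS.orth_mem_Isom.2 fun z => norm_star z⟩

omit hab in
theorem nStar_apply (z : QuadraticAlgebra F a b) : (nStar a b).1 z = star z := rfl

theorem nOS_cases (g : (nOS a b).Isom) : g ∈ nMul.range ∨ g * nStar a b ∈ nMul.range := by
  have h1 : norm (g.1 1) = 1 := (FS.Isom_Q g.2 1).trans norm_one
  have h0 : g.1 1 ≠ 0 := by simp
  let s : FS.normOne (starRingEnd (QuadraticAlgebra F a b)) :=
    ⟨Units.mk0 _ h0, FS.mem_normOne.2 (by simpa using qa_norm_iff.2 h1)⟩
  set h := (nMul s)⁻¹ * g with hh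
  have hg : g = nMul s * h := by simp [hh]
  have h2 : h.1 1 = 1 := by
    apply (nMul s).1.injective
    change (nMul s * h).1 1 = _
    rw [← hg, nMul_apply, mul_one]; rfl
  have h3 : norm (h.1 ω) = -a := (FS.Isom_Q h.2 ω).trans (by simp [norm_def])
  have h4 : trace (h.1 ω) = b := by
    have := FS.Isom_B h.2 ω 1
    rw [h2] at this
    simpa [nOS_B] using this
  have h5 : (h.1 ω - ω) * (h.1 ω - star ω) = 0 := by
    have e1 := sq_sub_trace_smul_add_norm_eq_zero (h.1 ω)
    have e2 := algebraMap_trace_eq_add_star (ω : QuadraticAlgebra F a b)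
    have e3 := algebraMap_norm_eq_mul_star (ω : QuadraticAlgebra F a b)
    rw [h3, h4, Algebra.smul_def] at e1
    rw [trace_omega] at e2
    rw [show norm (ω : QuadraticAlgebra F a b) = -a by simp [norm_def]] at e3
    linear_combination e1 + h.1 ω * e2 - e3
  have hext : ∀ k : (nOS a b).Isom, k.1 1 = 1 → k.1 ω = ω → k = 1 := fun k k1 k2 =>
    Subtype.ext (LinearEquiv.ext fun z => by
      have : z = z.re • (1 : QuadraticAlgebra F a b) + z.im • ω := by ext <;> simp
      rw [this, map_add, map_smul, map_smul, k1, k2]; rfl)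
  rcases mul_eq_zero.1 h5 with h6 | h6
  · left; rw [hg, hext h h2 (sub_eq_zero.1 h6), mul_one]; exact ⟨s, rfl⟩
  · right
    have : nStar a b * h = 1 := hext _ (by change star (h.1 1) = 1; rw [h2, star_one])
      (by change star (h.1 ω) = ω; rw [sub_eq_zero.1 h6, star_star])
    rw [hg, mul_assoc, mul_eq_one_comm.1 this, mul_one]; exact ⟨s, rfl⟩

theorem nOS_dihedral [Finite F] :
    Nonempty ((nOS a b).Isom ≃* DihedralGroup (Nat.card F + 1)) := by
  rw [← FS.card_normOne (qa_UF (a := a) (b := b))]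
  refine dihedral_of_hom nMul (fun s t h => ?_) (nStar a b) ?_ nOS_cases
    (Subtype.ext (LinearEquiv.ext fun z => star_star z)) fun s => ?_
  · have := congrArg (fun g : (nOS a b).Isom => g.1 1) h
    simp only [nMul_apply, mul_one] at this
    exact Subtype.ext (Units.ext this)
  · rintro ⟨s, hs⟩
    have h1 := congrArg (fun g : (nOS a b).Isom => g.1 1) hs
    have h2 := congrArg (fun g : (nOS a b).Isom => g.1 ω) hs
    simp only [nMul_apply, mul_one, nStar_apply, star_one] at h1 h2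
    rw [h1, one_mul] at h2
    exact qa_star_omega_ne (qa_disc_ne hab.out) h2.symm
  · refine eq_inv_of_mul_eq_one_right (Subtype.ext (LinearEquiv.ext fun z => ?_))
    change s.1 * star (s.1 * star z) = z
    have := s.2
    rw [FS.mem_normOne, starRingEnd_apply] at this
    rw [star_mul, star_star]
    linear_combination z * this

end norm

namespace FS
variable {f : OS F V} {f' : OS F U}

/-- Anisotropic. -/
def Aniso (f : OS F V) : Prop := ∀ x, f.Q x = 0 → x = 0

theorem aniso_iff [FiniteDimensional F V] : f.Aniso ↔ ¬ f.wi 1 := by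
  rw [wi_one, Aniso]
  push Not
  exact forall_congr' fun x => by tauto

theorem Aniso.finrank_le [Finite F] [FiniteDimensional F V] (h : f.Aniso) : finrank F V ≤ 2 := by
  by_contra hc
  obtain ⟨u, hu, hQ⟩ := f.exists_singular (by omega)
  exact hu (h u hQ)

theorem Nondeg.hyp_or_aniso (hf : f.Nondeg) : (∃ u v, f.IsHyp u v) ∨ f.Aniso := by
  by_cases h : f.Aniso
  · exact Or.inr h
  · simp only [Aniso, not_forall] at h
    obtain ⟨u, hQ, hu⟩ := h
    exact Or.inl ⟨u, hf.exists_partner' hQ hu⟩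

theorem IsHyp.wi_one [FiniteDimensional F V] {u v : V} (h : f.IsHyp u v) : f.wi 1 :=
  FS.wi_one.2 ⟨u, h.ne1, h.Q1⟩

theorem Aniso.model (h : f.Aniso) (hn : finrank F V = 2) {x : V} (hx : x ≠ 0) :
    ∃ (a b : F) (_ : ∀ r : F, r ^ 2 ≠ a + b * r) (e : QuadraticAlgebra F a b ≃ₗ[F] V),
      ((nOS a b).smul (f.Q x)).IsIso f e := by
  have : FiniteDimensional F V := Module.finite_of_finrank_pos (by omega)
  obtain ⟨y, hy⟩ := exists_linearIndependent_pair_of_one_lt_finrank (R := F) (by omega) hx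
  have hγ : f.Q x ≠ 0 := fun h0 => hx (h x h0)
  let bb := basisOfLinearIndependentOfCardEqFinrank hy (by simp [hn])
  refine ⟨-f.Q y / f.Q x, f.B x y / f.Q x, fun r hr => ?_,
    (QuadraticAlgebra.linearEquivTuple _ _).trans bb.equivFun.symm, orth_isIso fun z => ?_⟩
  · have := h ((-r) • x + (1 : F) • y) (by
      rw [orth_Q_two]
      field_simp at hr
      linear_combination hr)
    exact one_ne_zero (LinearIndependent.pair_iff.1 hy _ _ this).2
  · simp [bb, orth_Q_two, QuadraticAlgebra.norm_def]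
    field_simp
    ring

theorem Aniso.card_Q [Finite F] (h : f.Aniso) (hn : finrank F V = 2) {c : F} (hc : c ≠ 0) :
    Nat.card {x // f.Q x = c} = Nat.card F + 1 := by
  have : Nontrivial V := Module.nontrivial_of_finrank_pos (R := F) (by omega)
  obtain ⟨x, hx⟩ := exists_ne (0 : V)
  obtain ⟨a, b, hab, e, he⟩ := h.model hn hx
  have := Fact.mk hab
  have hγ : f.Q x ≠ 0 := fun h0 => hx (h x h0)
  rw [← he.card_Q, ← nOS_card (a := a) (b := b) (div_ne_zero hc hγ)]
  refine Nat.card_congr (Equiv.subtypeEquivRight fun z => ?_)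
  rw [smul_Q, eq_div_iff hγ, mul_comm]

theorem Aniso.dihedral [Finite F] (h : f.Aniso) (hn : finrank F V = 2) :
    Nonempty (f.Isom ≃* DihedralGroup (Nat.card F + 1)) := by
  have : Nontrivial V := Module.nontrivial_of_finrank_pos (R := F) (by omega)
  obtain ⟨x, hx⟩ := exists_ne (0 : V)
  obtain ⟨a, b, hab, e, he⟩ := h.model hn hx
  have := Fact.mk hab
  have hγ : f.Q x ≠ 0 := fun h0 => hx (h x h0)
  obtain ⟨d⟩ := nOS_dihedral (a := a) (b := b)
  exact ⟨he.isomEquiv.symm.trans ((MulEquiv.subgroupCongr (smul_Isom hγ)).trans d)⟩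

theorem Nondeg.universal [Finite F] [FiniteDimensional F V] (hf : f.Nondeg) (hn : 2 ≤ finrank F V)
    (c : F) : ∃ x, f.Q x = c := by
  rcases hf.hyp_or_aniso with ⟨u, v, h⟩ | h
  · exact ⟨_, h.universal c⟩
  · by_cases hc : c = 0
    · exact ⟨0, by simp [hc]⟩
    · have := h.card_Q (le_antisymm h.finrank_le hn) hc
      obtain ⟨⟨x, hx⟩⟩ := (Nat.card_pos_iff.1 (this.ge.trans_lt' (Nat.succ_pos _))).1
      exact ⟨x, hx⟩

theorem Aniso.model_one [Finite F] (hf : f.Nondeg) (h : f.Aniso) (hn : finrank F V = 2) :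
    ∃ (a b : F) (_ : ∀ r : F, r ^ 2 ≠ a + b * r) (e : QuadraticAlgebra F a b ≃ₗ[F] V),
      (nOS a b).IsIso f e := by
  have : FiniteDimensional F V := Module.finite_of_finrank_pos (by omega)
  obtain ⟨x, hx⟩ := hf.universal hn.ge 1
  obtain ⟨a, b, hab, e, he⟩ := h.model hn (x := x) (by rintro rfl; simp at hx)
  exact ⟨a, b, hab, e, orth_isIso fun z => by rw [he.2, hx, smul_Q, one_mul]⟩

theorem nOS_isIso [Finite F] {a b a' b' : F} (h : ∀ r : F, r ^ 2 ≠ a + b * r)
    (h' : ∀ r : F, r ^ 2 ≠ a' + b' * r) : ∃ e, (nOS a b).IsIso (nOS a' b') e := by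
  have := Fact.mk h
  have := Fact.mk h'
  obtain ⟨φ⟩ := FiniteField.nonempty_algHom_of_finrank_dvd (F := F) (K := QuadraticAlgebra F a b)
    (L := QuadraticAlgebra F a' b') (by simp [QuadraticAlgebra.finrank_eq_two])
  refine ⟨LinearEquiv.ofInjectiveOfFinrankEq φ.toLinearMap φ.injective
    (by simp [QuadraticAlgebra.finrank_eq_two]), orth_isIso fun z => ?_⟩
  change QuadraticAlgebra.norm (φ z) = QuadraticAlgebra.norm z
  rw [← qa_norm_iff, (qa_UF (a := a') (b := b')).eq, ← map_pow, ← map_mul,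
    ← (qa_UF (a := a) (b := b)).eq, qa_norm_iff.2 rfl, AlgHom.commutes]

theorem Aniso.isIso [Finite F] (hf : f.Nondeg) (hf' : f'.Nondeg) (h : f.Aniso) (h' : f'.Aniso)
    (hn : finrank F V = 2) (hn' : finrank F U = 2) : ∃ e, f'.IsIso f e := by
  obtain ⟨a, b, hab, e, he⟩ := h.model_one hf hn
  obtain ⟨a', b', hab', e', he'⟩ := h'.model_one hf' hn'
  obtain ⟨e'', he''⟩ := nOS_isIso hab' hab
  exact ⟨_, (he'.symm.trans he'').trans he⟩

theorem isIso_of_even [Finite F] (m : ℕ) : ∀ {V : Type*} [AddCommGroup V] [Module F V]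
    [FiniteDimensional F V] {U : Type*} [AddCommGroup U] [Module F U] [FiniteDimensional F U]
    {f : OS F V} {f' : OS F U}, f.Nondeg → f'.Nondeg → finrank F V = 2 * m → finrank F U = 2 * m →
    (f.wi m ↔ f'.wi m) → ∃ e, f'.IsIso f e := by
  induction m with
  | zero =>
    intro V _ _ _ U _ _ _ f f' _ _ h h' _
    have := (finrank_zero_iff (R := F)).1 h
    have := (finrank_zero_iff (R := F)).1 h'
    exact isIso_of_subsingleton
  | succ m ih =>
    intro V _ _ _ U _ _ _ f f' hf hf' h h' hw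
    rcases hf.hyp_or_aniso with ⟨u, v, huv⟩ | ha
    · rcases hf'.hyp_or_aniso with ⟨u', v', huv'⟩ | ha'
      · have h1 := huv.finrank_hperp
        have h2 := huv'.finrank_hperp
        obtain ⟨e, he⟩ := ih (huv.nondeg_hperp hf) (huv'.nondeg_hperp hf') (by omega) (by omega)
          (by rwa [← wi_succ hf huv, ← wi_succ hf' huv'])
        obtain ⟨e', he', -⟩ := huv'.glue huv he
        exact ⟨e', he'⟩
      · have := ha'.finrank_le
        obtain rfl : m = 0 := by omega
        exact absurd (hw.1 huv.wi_one) (aniso_iff.1 ha')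
    · have := ha.finrank_le
      obtain rfl : m = 0 := by omega
      exact ha.isIso hf hf' (aniso_iff.2 fun h => aniso_iff.1 ha (hw.2 h)) h h'

theorem card_ker_orth : Nat.card (FP.orth F).τ.ker = 1 := by
  rw [(AddMonoidHom.ker_eq_bot_iff _).2 (fun _ _ h => h)]; simp

open Classical in
/-- The sign of an even-dimensional orthogonal space. -/
noncomputable def sg (f : OS F V) (m : ℕ) : ℤ := if f.wi m then 1 else -1

theorem sg_succ [FiniteDimensional F V] (hf : f.Nondeg) {u v : V} (h : f.IsHyp u v) (m : ℕ) :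
    f.sg (m + 1) = sg (f.res (f.hperp u v)) m := by
  unfold sg; rw [wi_succ hf h]

theorem sg_sq (m : ℕ) : f.sg m * f.sg m = 1 := by unfold sg; split_ifs <;> rfl

open Classical in
theorem card_Q_even [Finite F] (c : F) (m : ℕ) : ∀ {V : Type*} [AddCommGroup V] [Module F V]
    [FiniteDimensional F V] {f : OS F V}, f.Nondeg → finrank F V = 2 * m →
    (Nat.card F : ℤ) * Nat.card {x // f.Q x = c} = Nat.card F ^ (2 * m) +
      f.sg m * ((if c = 0 then Nat.card F else 0 : ℤ) - 1) * Nat.card F ^ m := by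
  induction m with
  | zero =>
    intro V _ _ _ f _ h
    have := (finrank_zero_iff (R := F)).1 h
    simp only [sg, wi_zero, if_true]
    split_ifs with hc
    · rw [(Nat.card_eq_one_iff_unique (α := {x // f.Q x = c})).2 ⟨inferInstance, ⟨0, by simp [hc]⟩⟩]
      simp
    · have : IsEmpty {x // f.Q x = c} := ⟨fun x => hc (by rw [← x.2, Subsingleton.elim x.1 0]; simp)⟩
      simp
  | succ m ih =>
    intro V _ _ _ f hf h
    rcases hf.hyp_or_aniso with ⟨u, v, huv⟩ | ha
    · have h1 := huv.finrank_hperp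
      have h2 := ih (huv.nondeg_hperp hf) (by omega)
      rw [huv.card_Q (c := c) ⟨c, rfl⟩, sg_succ hf huv, card_ker_orth, show finrank F (f.hperp u v) = 2 * m by omega]
      have : 1 ≤ Nat.card F := Nat.card_pos
      push_cast [this]
      simp only [comap_Q, Submodule.subtype_apply] at h2
      linear_combination (Nat.card F : ℤ) * h2
    · have := ha.finrank_le
      obtain rfl : m = 0 := by omega
      simp only [sg, zero_add, aniso_iff.1 ha, if_false]
      split_ifs with hc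
      · rw [(Nat.card_eq_one_iff_unique (α := {x // f.Q x = c})).2 ⟨⟨fun x y => Subtype.ext
          ((ha _ (x.2.trans hc)).trans (ha _ (y.2.trans hc)).symm)⟩, ⟨0, by simp [hc]⟩⟩]
        push_cast; ring
      · rw [ha.card_Q h hc]; push_cast; ring

theorem card_Q_odd [Finite F] (m : ℕ) : ∀ {V : Type*} [AddCommGroup V] [Module F V]
    [FiniteDimensional F V] {f : OS F V}, f.Nondeg → finrank F V = 2 * m + 1 →
    Nat.card {x // f.Q x = 0} = Nat.card F ^ (2 * m) := by
  induction m with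
  | zero =>
    intro V _ _ _ f hf h
    rcases hf.hyp_or_aniso with ⟨u, v, huv⟩ | ha
    · have h1 := huv.finrank_hperp
      omega
    · exact Nat.card_eq_one_iff_unique.2 ⟨⟨fun x y => Subtype.ext
          ((ha _ x.2).trans (ha _ y.2).symm)⟩, ⟨0, by simp⟩⟩
  | succ m ih =>
    intro V _ _ _ f hf h
    obtain ⟨u, v, huv⟩ := hf.exists_hyp (by omega)
    have h1 := huv.finrank_hperp
    have h2 := ih (huv.nondeg_hperp hf) (by omega)
    simp only [comap_Q, Submodule.subtype_apply] at h2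
    rw [huv.card_Q (c := 0) ⟨0, rfl⟩, card_ker_orth, show finrank F (f.hperp u v) = 2 * m + 1 by omega, h2]
    have : 1 ≤ Nat.card F := Nat.card_pos
    zify [this]
    ring

theorem card_sing_even [Finite F] [FiniteDimensional F V] (hf : f.Nondeg) {m : ℕ}
    (h : finrank F V = 2 * (m + 1)) : (Nat.card {x // x ≠ 0 ∧ f.Q x = 0} : ℤ) =
      (Nat.card F ^ (m + 1) - f.sg (m + 1)) * (Nat.card F ^ m + f.sg (m + 1)) := by
  have : Finite V := Module.finite_of_finite F
  have h1 := card_Q_even 0 (m + 1) hf h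
  rw [← card_sing_add_one, if_pos rfl] at h1
  have : (Nat.card F : ℤ) ≠ 0 := by exact_mod_cast (Nat.card_pos (α := F)).ne'
  apply mul_left_cancel₀ this
  push_cast at h1
  linear_combination h1 + (Nat.card F : ℤ) * f.sg_sq (m + 1)

theorem card_sing_odd [Finite F] [FiniteDimensional F V] (hf : f.Nondeg) {m : ℕ}
    (h : finrank F V = 2 * m + 1) :
    Nat.card {x // x ≠ 0 ∧ f.Q x = 0} = Nat.card F ^ (2 * m) - 1 := by
  have : Finite V := Module.finite_of_finite F
  rw [← card_Q_odd m hf h, ← card_sing_add_one]; simp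

theorem card_Isom_zero {P : FP F} (f : FS P V) [Subsingleton V] : Nat.card f.Isom = 1 :=
  Nat.card_eq_one_iff_unique.2 ⟨⟨fun _ _ => Subtype.ext (LinearEquiv.ext fun _ =>
    Subsingleton.elim _ _)⟩, ⟨1⟩⟩

theorem card_Isom_even [Finite F] (m : ℕ) : ∀ {V : Type*} [AddCommGroup V] [Module F V]
    [FiniteDimensional F V] {f : OS F V}, f.Nondeg → finrank F V = 2 * (m + 1) →
    (Nat.card f.Isom : ℤ) = 2 * Nat.card F ^ ((m + 1) * m) * (Nat.card F ^ (m + 1) - f.sg (m + 1)) *
      (∏ i ∈ Finset.range m, (Nat.card F ^ (2 * (i + 1)) - 1) : ℕ) := by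
  induction m with
  | zero =>
    intro V _ _ _ f hf h
    rcases hf.hyp_or_aniso with ⟨u, v, huv⟩ | ha
    · have h1 := huv.finrank_hperp
      have := (finrank_zero_iff (R := F) (M := f.hperp u v)).1 (by omega)
      rw [huv.card_Isom hf, card_ker_orth, card_Isom_zero, show finrank F (f.hperp u v) = 0 by omega]
      push_cast
      rw [card_sing_even hf h]
      simp [sg, huv.wi_one]; ring
    · obtain ⟨e⟩ := ha.dihedral h
      rw [Nat.card_congr e.toEquiv, DihedralGroup.nat_card]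
      simp [sg, aniso_iff.1 ha]
  | succ m ih =>
    intro V _ _ _ f hf h
    obtain ⟨u, v, huv⟩ := hf.exists_hyp (by omega)
    have h1 := huv.finrank_hperp
    have h2 := ih (huv.nondeg_hperp hf) (by omega)
    rw [huv.card_Isom hf, card_ker_orth, show finrank F (f.hperp u v) = 2 * (m + 1) by omega,
      Finset.prod_range_succ]
    have : 1 ≤ Nat.card F ^ (2 * (m + 1)) := Nat.one_le_pow _ _ Nat.card_pos
    push_cast [this] at h2 ⊢
    rw [card_sing_even hf h, h2, ← sg_succ hf huv]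
    set s := f.sg (m + 1 + 1)
    have hs : s * s = 1 := sg_sq _
    linear_combination (-2 * (Nat.card F : ℤ) ^ ((m + 1 + 1) * (m + 1)) * (Nat.card F ^ (m + 1 + 1) - s) *
      ∏ i ∈ Finset.range m, ((Nat.card F ^ (2 * (i + 1)) - 1 : ℕ) : ℤ)) * hs

theorem card_Isom_one (hf : f.Nondeg) (h : finrank F V = 1) : Nat.card f.Isom = 2 := by
  have h2 := hf.two_ne_zero_of_one h
  obtain ⟨v, hv, hs⟩ := finrank_eq_one_iff'.1 h
  have hQ : f.Q v ≠ 0 := fun h0 => hv (hf.eq_zero fun y => by
    obtain ⟨c, rfl⟩ := hs y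
    simp [B_self_of_Q h0])
  rw [Nat.card_eq_two_iff]
  refine ⟨1, ⟨LinearEquiv.neg F, orth_mem_Isom.2 f.Q_neg⟩, fun h0 => ?_, ?_⟩
  · have := congrArg (fun g : f.Isom => g.1 v) h0
    simp only [OneMemClass.coe_one, LinearEquiv.coe_one, id_eq, LinearEquiv.neg_apply] at this
    rw [eq_neg_iff_add_eq_zero, ← two_smul F] at this
    exact hv ((smul_eq_zero.1 this).resolve_left h2)
  · rw [Set.eq_univ_iff_forall]
    intro g
    obtain ⟨c, hc⟩ := hs (g.1 v)
    have := Isom_Q g.2 v
    rw [← hc, orth_Q_smul, mul_left_eq_self₀, or_iff_left hQ, mul_self_eq_one_iff] at this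
    rcases this with rfl | rfl
    · left; ext y; obtain ⟨d, rfl⟩ := hs y; simp [← hc]
    · right; ext y; obtain ⟨d, rfl⟩ := hs y; simp [← hc]

theorem card_Isom_odd [Finite F] (m : ℕ) : ∀ {V : Type*} [AddCommGroup V] [Module F V]
    [FiniteDimensional F V] {f : OS F V}, f.Nondeg → finrank F V = 2 * m + 1 →
    Nat.card f.Isom = 2 * Nat.card F ^ (m ^ 2) *
      ∏ i ∈ Finset.range m, (Nat.card F ^ (2 * (i + 1)) - 1) := by
  induction m with
  | zero =>
    intro V _ _ _ f hf h
    simp [card_Isom_one hf h]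
  | succ m ih =>
    intro V _ _ _ f hf h
    obtain ⟨u, v, huv⟩ := hf.exists_hyp (by omega)
    have h1 := huv.finrank_hperp
    rw [huv.card_Isom hf, card_ker_orth, ih (huv.nondeg_hperp hf) (by omega),
      show finrank F (f.hperp u v) = 2 * m + 1 by omega, Finset.prod_range_succ, card_sing_odd hf h]
    ring

open Classical in
/-- The reflection in a vector (the identity if the vector is singular). -/
noncomputable def rf (f : OS F V) (v : V) : f.Isom :=
  if h : f.Q v = 0 then 1 else ⟨f.refl v (f.Q v) h rfl, f.refl_mem _ _ _ _⟩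

theorem rf_apply (v x : V) : (f.rf v).1 x = x - ((f.Q v)⁻¹ * f.B v x) • v := by
  unfold rf
  split_ifs with h
  · simp [h]
  · rfl

theorem IsHyp.dihedral [Finite F] {u v : V} (h : f.IsHyp u v) (hn : finrank F V = 2) :
    Nonempty (f.Isom ≃* DihedralGroup (Nat.card F - 1)) := by
  have : FiniteDimensional F V := Module.finite_of_finrank_pos (by omega)
  have h1 := h.finrank_hperp
  have h0 : f.hperp u v = ⊥ := Submodule.finrank_eq_zero.1 (by omega)
  have hd : ∀ x, ∃ a b : F, x = a • u + b • v := fun x => by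
    obtain ⟨a, b, w, hw, rfl⟩ := h.decomp x
    rw [h0, Submodule.mem_bot] at hw
    exact ⟨a, b, by simp [hw]⟩
  have hext : ∀ g g' : f.Isom, g.1 u = g'.1 u → g.1 v = g'.1 v → g = g' := fun g g' h1 h2 =>
    Subtype.ext (LinearEquiv.ext fun x => by obtain ⟨a, b, rfl⟩ := hd x; simp [h1, h2])
  have hQ : ∀ a b : F, f.Q (a • u + b • v) = a * b := fun a b => by
    simpa using h.orth_Q a b (Submodule.zero_mem _)
  let ρ : Fˣ →* f.Isom := MonoidHom.mk' (fun c => ⟨h.scale c c.ne_zero, h.scale_mem _ _⟩)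
    fun c d => Subtype.ext (h.scale_mul _ _ c.ne_zero d.ne_zero)
  have ρu : ∀ c, (ρ c).1 u = (c : F) • u := fun c => h.scale_left _ c.ne_zero
  have ρv : ∀ c, (ρ c).1 v = (c : F)⁻¹ • v := fun c => h.scale_right _ c.ne_zero
  have hp : f.Q (u - v) = -1 := by simpa [sub_eq_add_neg] using hQ 1 (-1)
  let τ : f.Isom := f.rf (u - v)
  have τu : τ.1 u = v := by simp [τ, rf_apply, hp, h.B11, h.B21]
  have τv : τ.1 v = u := by simp [τ, rf_apply, hp, h.B22, h.B12]
  have hli : ∀ a b : F, a • u + b • v = 0 → a = 0 ∧ b = 0 :=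
    LinearIndependent.pair_iff.1 h.linearIndependent
  have key : ∀ g : f.Isom, ∀ a : F, g.1 u = a • u → g ∈ ρ.range := by
    intro g a ha
    have ha0 : a ≠ 0 := by rintro rfl; exact h.ne1 (by simpa using ha)
    obtain ⟨c, d, hcd⟩ := hd (g.1 v)
    have e1 := Isom_B g.2 u v
    have e2 := Isom_Q g.2 v
    rw [hcd, hQ, h.Q2] at e2
    rw [ha, hcd] at e1
    simp [h.B11, h.B12] at e1
    have hd0 : d ≠ 0 := by rintro rfl; simp at e1
    refine ⟨Units.mk0 a ha0, hext _ _ (by rw [ρu, ha]; rfl) ?_⟩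
    rw [ρv, hcd, (mul_eq_zero.1 e2).resolve_right hd0, eq_inv_of_mul_eq_one_right e1]; simp
  rw [← Nat.card_units]
  refine dihedral_of_hom ρ (fun c d hcd => ?_) τ ?_ (fun g => ?_)
    (hext _ _ (by simp [τu, τv]) (by simp [τu, τv])) fun c => ?_
  · have := ρu c
    rw [hcd, ρu] at this
    exact Units.ext (smul_left_injective F h.ne1 this).symm
  · rintro ⟨c, hc⟩
    have := ρu c
    rw [hc, τu] at this
    exact one_ne_zero (hli (-c) 1 (by rw [one_smul, neg_smul, ← this]; simp)).2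
  · obtain ⟨a, b, hab⟩ := hd (g.1 u)
    have e2 := Isom_Q g.2 u
    rw [hab, hQ, h.Q1, mul_eq_zero] at e2
    rcases e2 with rfl | rfl
    · right
      obtain ⟨c, d, hcd⟩ := hd (g.1 v)
      have e1 := Isom_B g.2 u v
      have e3 := Isom_Q g.2 v
      rw [hcd, hQ, h.Q2] at e3
      rw [hab, hcd] at e1
      simp [h.B22, h.B21, h.B12] at e1
      have hc0 : c ≠ 0 := by rintro rfl; simp at e1
      exact key _ c (by simp [τu, hcd, (mul_eq_zero.1 e3).resolve_left hc0])
    · exact Or.inl (key g a (by simpa using hab))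
  · rw [← map_inv]
    exact hext _ _ (by rw [ρu]; simp [τu, τv, ρv]) (by rw [ρv]; simp [τu, τv, ρu])

end FS

/-! ### The standard forms -/

section std
open Matrix
variable {ι : Type} [Fintype ι] [DecidableEq ι]

/-- The isometry group acting on column vectors. -/
noncomputable def oLin (Q : (ι → F) → F) : Cfsg.isometryGroup F Q →* ((ι → F) ≃ₗ[F] (ι → F)) :=
  glEquiv.toMonoidHom.comp (Cfsg.isometryGroup F Q).subtype

theorem oLin_apply {Q : (ι → F) → F} (A : Cfsg.isometryGroup F Q) (v : ι → F) :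
    oLin Q A v = ((A : GL ι F) : Matrix _ _ F) *ᵥ v := rfl

theorem oLin_injective {Q : (ι → F) → F} : Function.Injective (oLin Q) :=
  glEquiv.injective.comp Subtype.val_injective

theorem oLin_range (f : OS F (ι → F)) : (oLin f.Q).range = f.Isom := by
  ext g
  rw [FS.orth_mem_Isom]
  constructor
  · rintro ⟨A, rfl⟩ v; exact A.2 v v
  · intro hg
    obtain ⟨A, rfl⟩ := glEquiv.surjective g
    exact ⟨⟨A, fun v _ => hg v⟩, rfl⟩

/-- The matrix isometry group is the abstract one. -/
noncomputable def oEquiv (f : OS F (ι → F)) : Cfsg.isometryGroup F f.Q ≃* f.Isom :=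
  equivOfRange _ oLin_injective (oLin_range f)

theorem oEquiv_apply (f : OS F (ι → F)) (A : Cfsg.isometryGroup F f.Q) (v : ι → F) :
    (oEquiv f A).1 v = ((A : GL ι F) : Matrix _ _ F) *ᵥ v := rfl

theorem det_oEquiv (f : OS F (ι → F)) (A : Cfsg.isometryGroup F f.Q) :
    (oEquiv f A).1.det = GeneralLinearGroup.det (A : GL ι F) := det_glEquiv _

theorem oEquiv_eq_iff (f : OS F (ι → F)) {A : Cfsg.isometryGroup F f.Q} {g : f.Isom}
    {M : Matrix ι ι F} (hM : ∀ x, M *ᵥ x = g.1 x) :
    ((A : GL ι F) : Matrix _ _ F) = M ↔ oEquiv f A = g := by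
  constructor
  · rintro rfl; exact Subtype.ext (LinearEquiv.ext hM)
  · rintro rfl; exact matrix_ext_mulVec fun x => (hM x).symm

theorem polarVec_dot (f : OS F (ι → F)) (v x : ι → F) : Cfsg.polarVec f.Q v ⬝ᵥ x = f.B v x := by
  conv_rhs => rw [← Finset.univ_sum_single x, map_sum]
  refine Finset.sum_congr rfl fun j _ => ?_
  rw [Cfsg.polarVec, f.polar_Q, show Pi.single j (x j) = x j • (Pi.single j (1 : F) : ι → F) by
    rw [← Pi.single_smul]; simp, map_smul, smul_eq_mul, mul_comm]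

theorem reflectionMatrix_mulVec (f : OS F (ι → F)) (v x : ι → F) :
    Cfsg.reflectionMatrix f.Q v *ᵥ x = (f.rf v).1 x := by
  rw [Cfsg.reflectionMatrix, sub_mulVec, one_mulVec, smul_mulVec, vecMulVec_mulVec, polarVec_dot,
    FS.rf_apply, mul_smul]
  simp

theorem siegelMatrix_mulVec (f : OS F (ι → F)) (u v x : ι → F) (c : F) :
    Cfsg.siegelMatrix f.Q u v c *ᵥ x = x + (c * f.B u x) • v - (c * f.B v x) • u := by
  rw [Cfsg.siegelMatrix, add_mulVec, one_mulVec, smul_mulVec, sub_mulVec, vecMulVec_mulVec,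
    vecMulVec_mulVec, polarVec_dot, polarVec_dot]
  simp [smul_sub, mul_smul, add_sub_assoc]

variable (m : ℕ) (F)

/-- The plus type form. -/
def plusOS : OS F (Fin m ⊕ Fin m → F) :=
  FS.mkOrth (Cfsg.quadFormPlus m F) (LinearMap.mk₂ F
    (fun x y => ∑ i, (x (.inl i) * y (.inr i) + x (.inr i) * y (.inl i)))
    (fun _ _ _ => by simp only [← Finset.sum_add_distrib, Pi.add_apply]; congr; ext; ring)
    (fun _ _ _ => by simp only [Finset.mul_sum, Pi.smul_apply, smul_eq_mul]; congr; ext; ring)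
    (fun _ _ _ => by simp only [← Finset.sum_add_distrib, Pi.add_apply]; congr; ext; ring)
    (fun _ _ _ => by simp only [Finset.mul_sum, Pi.smul_apply, smul_eq_mul]; congr; ext; ring))
    (fun _ _ => by
      simp only [Cfsg.quadFormPlus, LinearMap.mk₂_apply, ← Finset.sum_add_distrib, Pi.add_apply]
      congr; ext; ring)
    (fun _ _ => by
      simp only [Cfsg.quadFormPlus, Finset.mul_sum, Pi.smul_apply, smul_eq_mul]; congr; ext; ring)

theorem plusOS_B (x y : Fin m ⊕ Fin m → F) :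
    (plusOS F m).B x y = ∑ i, (x (.inl i) * y (.inr i) + x (.inr i) * y (.inl i)) := rfl
theorem plusOS_Q (x : Fin m ⊕ Fin m → F) : (plusOS F m).Q x = ∑ i, x (.inl i) * x (.inr i) := rfl

theorem plusOS_nondeg : (plusOS F m).Nondeg := by
  refine FS.nondeg_of_sep fun x hx => ?_
  ext (i | i)
  · simpa [plusOS_B, Pi.single_apply] using hx (Pi.single (.inr i) 1)
  · simpa [plusOS_B, Pi.single_apply] using hx (Pi.single (.inl i) 1)

theorem plusOS_finrank : finrank F (Fin m ⊕ Fin m → F) = 2 * m := by simp [two_mul]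

theorem finrank_span_single {κ : Type*} [Fintype κ] (j : κ → ι) (hj : Function.Injective j) :
    finrank F (Submodule.span F (Set.range fun i => (Pi.single (j i) 1 : ι → F))) = Fintype.card κ :=
  finrank_span_eq_card ((Pi.linearIndependent_single_one ι F).comp j hj)

theorem plusOS_wi : (plusOS F m).wi m := by
  refine ⟨Submodule.span F (Set.range fun i => Pi.single (.inl i) 1), FS.ts_span ?_ ?_, ?_⟩
  · rintro _ ⟨i, rfl⟩; simp [plusOS_Q]
  · rintro _ ⟨i, rfl⟩ _ ⟨j, rfl⟩; simp [plusOS_B]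
  · rw [finrank_span_single F _ Sum.inl_injective]; simp

/-- The odd-dimensional form. -/
def oddOS : OS F (Unit ⊕ (Fin m ⊕ Fin m) → F) :=
  FS.mkOrth (Cfsg.quadFormOdd m F) (LinearMap.mk₂ F
    (fun x y => 2 * x (.inl ()) * y (.inl ()) + (plusOS F m).B (x ∘ .inr) (y ∘ .inr))
    (fun x y _ => by rw [show (x + y) ∘ Sum.inr = x ∘ Sum.inr + y ∘ Sum.inr from rfl]; simp; ring)
    (fun c x _ => by rw [show (c • x) ∘ Sum.inr = c • x ∘ Sum.inr from rfl]; simp; ring)
    (fun _ x y => by rw [show (x + y) ∘ Sum.inr = x ∘ Sum.inr + y ∘ Sum.inr from rfl]; simp; ring)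
    (fun c _ x => by rw [show (c • x) ∘ Sum.inr = c • x ∘ Sum.inr from rfl]; simp; ring))
    (fun x y => by
      have := (plusOS F m).orth_Q_add (x ∘ .inr) (y ∘ .inr)
      simp only [plusOS_Q, Pi.add_apply, Function.comp] at this
      simp only [Cfsg.quadFormOdd, LinearMap.mk₂_apply, Pi.add_apply, this]
      ring)
    (fun _ _ => by
      simp only [Cfsg.quadFormOdd, mul_add, Finset.mul_sum, Pi.smul_apply, smul_eq_mul]
      congr 1
      · ring
      · congr; ext; ring)

theorem oddOS_B (x y : Unit ⊕ (Fin m ⊕ Fin m) → F) :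
    (oddOS F m).B x y = 2 * x (.inl ()) * y (.inl ()) +
      ∑ i, (x (.inr (.inl i)) * y (.inr (.inr i)) + x (.inr (.inr i)) * y (.inr (.inl i))) := rfl
theorem oddOS_Q (x : Unit ⊕ (Fin m ⊕ Fin m) → F) :
    (oddOS F m).Q x = x (.inl ()) ^ 2 + ∑ i, x (.inr (.inl i)) * x (.inr (.inr i)) := rfl

variable {F} in
theorem oddOS_nondeg (h2 : (2 : F) ≠ 0) : (oddOS F m).Nondeg := by
  refine FS.nondeg_of_sep fun x hx => ?_
  ext (i | i | i)
  · simpa [oddOS_B, Pi.single_apply, h2] using hx (Pi.single (.inl i) 1)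
  · simpa [oddOS_B, Pi.single_apply] using hx (Pi.single (.inr (.inr i)) 1)
  · simpa [oddOS_B, Pi.single_apply] using hx (Pi.single (.inr (.inl i)) 1)

theorem oddOS_finrank : finrank F (Unit ⊕ (Fin m ⊕ Fin m) → F) = 2 * m + 1 := by
  simp [two_mul, add_comm]

variable {F}

/-- The minus type form. -/
def minusOS (a b : F) : OS F ((Fin m ⊕ Fin m) ⊕ Fin 2 → F) :=
  FS.mkOrth (Cfsg.quadFormMinus m F a b) (LinearMap.mk₂ F
    (fun x y => (plusOS F m).B (x ∘ .inl) (y ∘ .inl) + (2 * x (.inr 0) * y (.inr 0) +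
      a * (x (.inr 0) * y (.inr 1) + x (.inr 1) * y (.inr 0)) + 2 * b * x (.inr 1) * y (.inr 1)))
    (fun x y _ => by rw [show (x + y) ∘ Sum.inl = x ∘ Sum.inl + y ∘ Sum.inl from rfl]; simp; ring)
    (fun c x _ => by rw [show (c • x) ∘ Sum.inl = c • x ∘ Sum.inl from rfl]; simp; ring)
    (fun _ x y => by rw [show (x + y) ∘ Sum.inl = x ∘ Sum.inl + y ∘ Sum.inl from rfl]; simp; ring)
    (fun c _ x => by rw [show (c • x) ∘ Sum.inl = c • x ∘ Sum.inl from rfl]; simp; ring))
    (fun x y => by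
      have := (plusOS F m).orth_Q_add (x ∘ .inl) (y ∘ .inl)
      simp only [plusOS_Q, Pi.add_apply, Function.comp] at this
      simp only [Cfsg.quadFormMinus, LinearMap.mk₂_apply, Pi.add_apply, this]
      ring)
    (fun _ _ => by
      simp only [Cfsg.quadFormMinus, mul_add, Finset.mul_sum, Pi.smul_apply, smul_eq_mul]
      congr 1
      · congr; ext; ring
      · ring)

variable (a b : F)

theorem minusOS_B (x y : (Fin m ⊕ Fin m) ⊕ Fin 2 → F) :
    (minusOS m a b).B x y =
      ∑ i, (x (.inl (.inl i)) * y (.inl (.inr i)) + x (.inl (.inr i)) * y (.inl (.inl i))) +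
      (2 * x (.inr 0) * y (.inr 0) + a * (x (.inr 0) * y (.inr 1) + x (.inr 1) * y (.inr 0)) +
        2 * b * x (.inr 1) * y (.inr 1)) := rfl
theorem minusOS_Q (x : (Fin m ⊕ Fin m) ⊕ Fin 2 → F) :
    (minusOS m a b).Q x = ∑ i, x (.inl (.inl i)) * x (.inl (.inr i)) +
      (x (.inr 0) ^ 2 + a * x (.inr 0) * x (.inr 1) + b * x (.inr 1) ^ 2) := rfl

theorem minusOS_finrank : finrank F ((Fin m ⊕ Fin m) ⊕ Fin 2 → F) = 2 * (m + 1) := by
  simp; ring

variable {a b}

theorem aniso_fact (hab : ∀ z₁ z₂ : F, z₁ ^ 2 + a * z₁ * z₂ + b * z₂ ^ 2 = 0 → z₁ = 0 ∧ z₂ = 0)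
    (r : F) : r ^ 2 ≠ -b + a * r := fun h =>
  one_ne_zero (hab (-r) 1 (by linear_combination h)).2

theorem minusOS_nondeg [Finite F]
    (hab : ∀ z₁ z₂ : F, z₁ ^ 2 + a * z₁ * z₂ + b * z₂ ^ 2 = 0 → z₁ = 0 ∧ z₂ = 0) :
    (minusOS m a b).Nondeg := by
  have h := qa_disc_ne (aniso_fact hab)
  refine FS.nondeg_of_sep fun x hx => ?_
  have h1 := hx (Pi.single (.inr 0) 1)
  have h2 := hx (Pi.single (.inr 1) 1)
  simp [minusOS_B] at h1 h2
  ext ((i | i) | i)
  · simpa [minusOS_B, Pi.single_apply] using hx (Pi.single (.inl (.inr i)) 1)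
  · simpa [minusOS_B, Pi.single_apply] using hx (Pi.single (.inl (.inl i)) 1)
  · fin_cases i
    · have : (a ^ 2 + 4 * -b) * x (.inr 0) = 0 := by linear_combination a * h2 - 2 * b * h1
      exact (mul_eq_zero.1 this).resolve_left h
    · have : (a ^ 2 + 4 * -b) * x (.inr 1) = 0 := by linear_combination a * h1 - 2 * h2
      exact (mul_eq_zero.1 this).resolve_left h

theorem minusOS_not_wi [Finite F]
    (hab : ∀ z₁ z₂ : F, z₁ ^ 2 + a * z₁ * z₂ + b * z₂ ^ 2 = 0 → z₁ = 0 ∧ z₂ = 0) :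
    ¬ (minusOS m a b).wi (m + 1) := by
  rintro ⟨W', h1, h2⟩
  have := FS.TS.finrank_le_of_max (minusOS_nondeg m hab)
    (W := Submodule.span F (Set.range fun i => Pi.single (.inl (.inl i)) 1)) (FS.ts_span ?_ ?_) h1 ?_
  · rw [finrank_span_single F (fun i : Fin m => Sum.inl (Sum.inl i))
      (Sum.inl_injective.comp Sum.inl_injective)] at this
    simp at this; omega
  · rintro _ ⟨i, rfl⟩; simp [minusOS_Q, Pi.single_apply]
  · rintro _ ⟨i, rfl⟩ _ ⟨j, rfl⟩; simp [minusOS_B, Pi.single_apply]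
  · intro x hx hQ
    rw [FS.mem_perp_span] at hx
    have h3 : ∀ i, x (.inl (.inr i)) = 0 := fun i => by
      simpa [minusOS_B, Pi.single_apply] using hx _ ⟨i, rfl⟩
    rw [minusOS_Q] at hQ
    obtain ⟨h4, h5⟩ := hab _ _ (by simpa [h3] using hQ)
    have : x = ∑ i, x (.inl (.inl i)) • Pi.single (.inl (.inl i)) 1 := by
      ext ((i | i) | i)
      · simp [Pi.single_apply]
      · simp [h3]
      · fin_cases i <;> simp [h4, h5]
    rw [this]
    exact Submodule.sum_mem _ fun i _ => Submodule.smul_mem _ _ (Submodule.subset_span ⟨i, rfl⟩)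

end std

end Cfsg.Agent.Class
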