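import Cfsg.Agent.Class.Orth1

/-! Orthogonal groups: generation by reflections, Dickson invariant and spinor norm, `Ω`. -/

set_option autoImplicit false

namespace Cfsg.Agent.Class

open Module
open scoped commutatorElement

variable {F : Type*} [Field F] {V : Type*} [AddCommGroup V] [Module F V]

/-! ### Square classes -/

/-- The group of square classes. -/
abbrev SqC (F : Type*) [Field F] := Fˣ ⧸ (powMonoidHom 2 : Fˣ →* Fˣ).range

open Classical in
/-- The square class of a scalar. -/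
noncomputable def sqc (c : F) : SqC F := if h : c = 0 then 1 else (Units.mk0 c h : Fˣ)

theorem sqc_mul {c d : F} (hc : c ≠ 0) (hd : d ≠ 0) : sqc (c * d) = sqc c * sqc d := by
  simp only [sqc, hc, hd, mul_ne_zero hc hd, dif_neg, not_false_eq_true, Units.mk0_mul,
    QuotientGroup.mk_mul]

theorem sqc_eq_one {c : F} (hc : c ≠ 0) : sqc c = 1 ↔ IsSquare c := by
  simp only [sqc, hc, dif_neg, not_false_eq_true, QuotientGroup.eq_one_iff, MonoidHom.mem_range,
    powMonoidHom_apply]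
  constructor
  · rintro ⟨x, hx⟩; exact ⟨x, by rw [← sq]; exact (congrArg Units.val hx).symm⟩
  · rintro ⟨x, rfl⟩
    exact ⟨Units.mk0 x (left_ne_zero_of_mul hc), Units.ext (sq x)⟩

theorem sqc_surj (s : SqC F) : ∃ c, c ≠ 0 ∧ sqc c = s := by
  obtain ⟨c, rfl⟩ := QuotientGroup.mk_surjective s
  exact ⟨c, c.ne_zero, by simp [sqc]⟩

theorem sqc_one : sqc (1 : F) = 1 := (sqc_eq_one one_ne_zero).2 ⟨1, by simp⟩

theorem SqC.mul_self (s : SqC F) : s * s = 1 := by
  obtain ⟨c, hc, rfl⟩ := sqc_surj s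
  rw [← sqc_mul hc hc, sqc_eq_one (mul_ne_zero hc hc)]
  exact ⟨c, rfl⟩

theorem sqc_eq_iff {c d : F} (hc : c ≠ 0) (hd : d ≠ 0) : sqc c = sqc d ↔ IsSquare (c * d) := by
  rw [← sqc_eq_one (mul_ne_zero hc hd), sqc_mul hc hd, mul_eq_one_iff_eq_inv,
    inv_eq_of_mul_eq_one_right (SqC.mul_self _)]

theorem sqc_eq_iff' {c d : F} (hc : c ≠ 0) (hd : d ≠ 0) :
    sqc c = sqc d ↔ ∃ t, t ≠ 0 ∧ c = t * t * d := by
  rw [sqc_eq_iff hc hd]
  constructor
  · rintro ⟨t, ht⟩
    have : t ≠ 0 := by rintro rfl; simp [hc, hd] at ht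
    exact ⟨t / d, div_ne_zero this hd, by field_simp; linear_combination ht⟩
  · rintro ⟨t, -, rfl⟩; exact ⟨t * d, by ring⟩

theorem sqc_prod {ι : Type*} (s : Finset ι) {c : ι → F} (hc : ∀ i, c i ≠ 0) :
    sqc (∏ i ∈ s, c i) = ∏ i ∈ s, sqc (c i) := by
  classical
  induction s using Finset.induction_on with
  | empty => simp [sqc_one]
  | insert a s ha ih =>
    rw [Finset.prod_insert ha, Finset.prod_insert ha,
      sqc_mul (hc a) (Finset.prod_ne_zero_iff.2 fun i _ => hc i), ih]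

theorem card_SqC [Finite F] : Nat.card (SqC F) = Nat.gcd 2 (Nat.card F - 1) := by
  have h1 := Subgroup.card_eq_card_quotient_mul_card_subgroup (powMonoidHom 2 : Fˣ →* Fˣ).range
  have h2 := Subgroup.card_eq_card_quotient_mul_card_subgroup (powMonoidHom 2 : Fˣ →* Fˣ).ker
  rw [Nat.card_congr (QuotientGroup.quotientKerEquivRange _).toEquiv,
    IsCyclic.card_powMonoidHom_ker, mul_comm] at h2
  rw [Nat.eq_of_mul_eq_mul_right Nat.card_pos (h1.symm.trans h2), Nat.card_units, Nat.gcd_comm]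

theorem card_SqC_odd [Finite F] (h2 : (2 : F) ≠ 0) : Nat.card (SqC F) = 2 := by
  have := Fintype.ofFinite F
  obtain ⟨k, hk⟩ := odd_of_two_ne_zero h2
  rw [card_SqC, Nat.card_eq_fintype_card, hk]; simp

theorem card_SqC_even [Finite F] (h2 : (2 : F) = 0) : Nat.card (SqC F) = 1 := by
  refine Nat.card_eq_one_iff_unique.2 ⟨⟨fun s t => ?_⟩, ⟨1⟩⟩
  obtain ⟨c, hc, rfl⟩ := sqc_surj s
  obtain ⟨d, hd, rfl⟩ := sqc_surj t
  obtain ⟨t, ht⟩ := exists_sq_char_two h2 (c * d)
  exact (sqc_eq_iff hc hd).2 ⟨t, ht.symm⟩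

theorem SqC.exists_gen (F : Type*) [Field F] [Finite F] : ∃ t : SqC F, ∀ s, s = 1 ∨ s = t := by
  by_cases h2 : (2 : F) = 0
  · have := (Nat.card_eq_one_iff_unique.1 (card_SqC_even h2)).1
    exact ⟨1, fun s => Or.inl (Subsingleton.elim _ _)⟩
  · obtain ⟨t, -, ht⟩ := (Nat.card_eq_two_iff' 1).1 (card_SqC_odd h2)
    exact ⟨t, fun s => or_iff_not_imp_left.2 (ht s)⟩

theorem SqC.eq_of_ne_one [Finite F] {s t : SqC F} (hs : s ≠ 1) (ht : t ≠ 1) : s = t := by
  obtain ⟨r, hr⟩ := SqC.exists_gen F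
  rw [(hr s).resolve_left hs, (hr t).resolve_left ht]

/-! ### The Clifford algebra -/

section cliff
open CliffordAlgebra
variable {Q : QuadraticForm F V}

theorem cl_injective (Q : QuadraticForm F V) :
    Function.Injective (algebraMap F (CliffordAlgebra Q)) := by
  obtain ⟨B, hB⟩ := LinearMap.BilinMap.toQuadraticMap_surjective (R := F) (M := V) (N := F) (0 - Q)
  intro a b h
  have := congrArg (changeForm (Q := Q) (Q' := 0) (B := B) hB) h
  rw [changeForm_algebraMap, changeForm_algebraMap] at this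
  exact (ExteriorAlgebra.algebraMap_inj V a b).1 this

theorem cl_comm (y : V) (x : CliffordAlgebra Q) :
    ι Q y * x - involute x * ι Q y = contractLeft (Q := Q) (Q.polarBilin y) x := by
  induction x using CliffordAlgebra.left_induction with
  | algebraMap r => simp [Algebra.commutes]
  | add x z hx hz => rw [map_add, map_add, ← hx, ← hz]; noncomm_ring
  | ι_mul x m hx =>
    rw [contractLeft_ι_mul, ← hx, map_mul, involute_ι, ← mul_assoc, ι_mul_ι_comm,
      QuadraticMap.polarBilin_apply_apply, Algebra.smul_def]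
    noncomm_ring

/-- The subalgebra generated by a subspace. -/
def clS (Q : QuadraticForm F V) (W : Submodule F V) : Submodule F (CliffordAlgebra Q) :=
  sInf {T | 1 ∈ T ∧ ∀ w ∈ W, ∀ x ∈ T, ι Q w * x ∈ T}

theorem clS_one (W : Submodule F V) : 1 ∈ clS Q W := Submodule.mem_sInf.2 fun _ h => h.1

theorem clS_mul {W : Submodule F V} {w : V} (hw : w ∈ W) {x : CliffordAlgebra Q} (hx : x ∈ clS Q W) :
    ι Q w * x ∈ clS Q W :=
  Submodule.mem_sInf.2 fun T h => h.2 w hw x (Submodule.mem_sInf.1 hx T h)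

theorem clS_le {W : Submodule F V} {T : Submodule F (CliffordAlgebra Q)} (h1 : 1 ∈ T)
    (h2 : ∀ w ∈ W, ∀ x ∈ T, ι Q w * x ∈ T) : clS Q W ≤ T := sInf_le ⟨h1, h2⟩

theorem mem_clS_top (x : CliffordAlgebra Q) : x ∈ clS Q ⊤ := by
  induction x using CliffordAlgebra.left_induction with
  | algebraMap r => rw [Algebra.algebraMap_eq_smul_one]; exact Submodule.smul_mem _ _ (clS_one _)
  | add x z hx hz => exact Submodule.add_mem _ hx hz
  | ι_mul x m hx => exact clS_mul Submodule.mem_top hx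

theorem clS_contract {W : Submodule F V} {d : Module.Dual F V} (hd : ∀ w ∈ W, d w = 0)
    {x : CliffordAlgebra Q} (hx : x ∈ clS Q W) : contractLeft (Q := Q) d x = 0 := by
  refine clS_le (T := LinearMap.ker (contractLeft (Q := Q) d)) (by simp) (fun w hw x hx => ?_) hx
  rw [LinearMap.mem_ker] at hx ⊢
  simp [contractLeft_ι_mul, hx, hd w hw]

theorem cl_scalar_aux [FiniteDimensional F V] (n : ℕ) : ∀ W : Submodule F V, finrank F W = n →
    ∀ x ∈ clS Q W, (∀ d, contractLeft (Q := Q) d x = 0) → ∃ s, x = algebraMap F _ s := by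
  induction n with
  | zero =>
    intro W hW x hx _
    rw [Submodule.finrank_eq_zero.1 hW] at hx
    obtain ⟨s, rfl⟩ := Submodule.mem_span_singleton.1 (clS_le (T := Submodule.span F {1})
      (Submodule.mem_span_singleton_self _) (by simp) hx)
    exact ⟨s, (Algebra.algebraMap_eq_smul_one s).symm⟩
  | succ n ih =>
    intro W hW x hx hd
    have := Module.nontrivial_of_finrank_pos (R := F) (M := W) (by omega)
    obtain ⟨⟨e, he⟩, he0⟩ := exists_ne (0 : W)
    obtain ⟨d, hde⟩ := Module.exists_dual_forall_apply_eq_one (K := F) (s := {e})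
      (v := id) (by simpa using he0)
    have hde : d e = 1 := hde e rfl
    set W' := W ⊓ LinearMap.ker d
    have hW' : ∀ w ∈ W, w - d w • e ∈ W' := fun w hw =>
      ⟨W.sub_mem hw (W.smul_mem _ he), by simp [hde]⟩
    have h1 : W' ⊔ Submodule.span F {e} = W := by
      refine le_antisymm (sup_le inf_le_left (by simpa using he)) fun w hw => ?_
      rw [← sub_add_cancel w (d w • e)]
      exact Submodule.add_mem_sup (hW' w hw) (Submodule.smul_mem _ _ (Submodule.mem_span_singleton_self _))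
    have h2 : finrank F W' = n := by
      have := Submodule.finrank_sup_span_singleton (p := W') (v := e) (fun h => by simpa [hde] using h.2)
      rw [h1] at this; omega
    have h3 : clS Q W ≤ clS Q W' ⊔ (clS Q W').map (LinearMap.mulLeft F (ι Q e)) := by
      refine clS_le (Submodule.mem_sup_left (clS_one _)) fun w hw x hx => ?_
      obtain ⟨a, ha, _, ⟨b, hb, rfl⟩, rfl⟩ := Submodule.mem_sup.1 hx
      have h4 := hW' w hw
      set w' := w - d w • e
      have : ι Q w * (a + LinearMap.mulLeft F (ι Q e) b) =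
          (ι Q w' * a + QuadraticMap.polar Q w' e • b + (d w * Q e) • b) +
            LinearMap.mulLeft F (ι Q e) (d w • a - ι Q w' * b) := by
        rw [show w = w' + d w • e by simp [w']]
        simp only [LinearMap.mulLeft_apply, map_add, map_smul, add_mul, mul_add, mul_sub,
          smul_mul_assoc, ← mul_assoc, ι_sq_scalar, ι_mul_ι_comm w' e, sub_mul, ← Algebra.smul_def,
          mul_smul_comm, mul_smul, (hW' w hw).2, h4.2, hde, smul_eq_mul, mul_one, zero_add,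
          show d w' = 0 from h4.2]
        abel
      rw [this]
      exact Submodule.add_mem_sup (Submodule.add_mem _ (Submodule.add_mem _ (clS_mul h4 ha)
        (Submodule.smul_mem _ _ hb)) (Submodule.smul_mem _ _ hb))
        ⟨_, Submodule.sub_mem _ (Submodule.smul_mem _ _ ha) (clS_mul h4 hb), rfl⟩
    obtain ⟨a, ha, _, ⟨b, hb, rfl⟩, rfl⟩ := Submodule.mem_sup.1 (h3 hx)
    have h5 := hd d
    rw [map_add, LinearMap.mulLeft_apply, contractLeft_ι_mul, clS_contract (W := W') (fun w hw => hw.2) ha,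
      clS_contract (W := W') (fun w hw => hw.2) hb, hde] at h5
    obtain rfl : b = 0 := by simpa using h5
    simp only [map_zero, add_zero] at hd ⊢
    exact ih W' h2 a ha hd

theorem cl_scalar [FiniteDimensional F V] {x : CliffordAlgebra Q}
    (h : ∀ d, contractLeft (Q := Q) d x = 0) : ∃ s, x = algebraMap F _ s :=
  cl_scalar_aux _ ⊤ rfl x (mem_clS_top x) h

end cliff

namespace FS
variable {f : OS F V}

/-! ### Reflections and Eichler transformations -/

theorem rf_of_Q_zero {v : V} (h : f.Q v = 0) : f.rf v = 1 := dif_pos h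

theorem rf_mul_self (v : V) : f.rf v * f.rf v = 1 := by
  by_cases h : f.Q v = 0
  · simp [rf_of_Q_zero h]
  · ext x
    simp only [Subgroup.coe_mul, LinearEquiv.mul_apply, rf_apply, map_sub, map_smul, orth_self,
      smul_eq_mul, OneMemClass.coe_one, LinearEquiv.coe_one, id_eq]
    match_scalars
    · rfl
    · field_simp; ring

theorem rf_inv (v : V) : (f.rf v)⁻¹ = f.rf v := inv_eq_of_mul_eq_one_right (rf_mul_self v)

theorem conj_rf (g : f.Isom) (v : V) : g * f.rf v * g⁻¹ = f.rf (g.1 v) := by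
  ext x
  simp [rf_apply, Isom_Q g.2, Isom_B_symm g.2]

theorem rf_smul {c : F} (hc : c ≠ 0) (v : V) : f.rf (c • v) = f.rf v := by
  ext x
  simp only [rf_apply, orth_Q_smul, B_smul_left, FP.orth_σ, smul_smul]
  congr 2
  by_cases h : f.Q v = 0
  · simp [h]
  · field_simp

theorem rf_neg (v : V) : f.rf (-v) = f.rf v := by
  rw [← neg_one_smul F, rf_smul (by simp)]

theorem rf_self {v : V} (h : f.Q v ≠ 0) : (f.rf v).1 v = -v := by
  rw [rf_apply, orth_self]
  match_scalars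
  field_simp; ring

theorem rf_orth {v x : V} (h : f.B v x = 0) : (f.rf v).1 x = x := by simp [rf_apply, h]

theorem det_rf [FiniteDimensional F V] {v : V} (h : f.Q v ≠ 0) : (f.rf v).1.det = -1 := by
  ext
  rw [rf, dif_neg h]
  exact (f.det_refl v (f.Q v) h rfl).trans (by simp [h])

theorem rf_sub {u v : V} (h : f.Q u = f.Q v) (h' : f.Q (u - v) ≠ 0) : (f.rf (u - v)).1 u = v := by
  have : f.B (u - v) u = f.Q (u - v) := by
    rw [orth_Q_sub, map_sub, LinearMap.sub_apply, orth_self, orth_symm f u v, h]; ring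
  rw [rf_apply, this, inv_mul_cancel₀ h']; simp

theorem det_sq [FiniteDimensional F V] (hf : f.Nondeg) (g : f.Isom) :
    g.1.det = 1 ∨ g.1.det = -1 := by
  have := det_norm hf g.2
  rw [FP.orth_σ, mul_self_eq_one_iff] at this
  exact this.imp (fun h => Units.ext h) fun h => Units.ext h

open Classical in
/-- Eichler transformations. -/
noncomputable def ee (f : OS F V) (u v : V) : f.Isom :=
  if h : f.Q u = 0 ∧ f.B u v = 0 then ⟨f.eich u v (f.Q v) h.1 h.2 (FP.orth_τ _), f.eich_mem _ _ _ _ _ _⟩ else 1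

theorem ee_coe {u v : V} (hu : f.Q u = 0) (hv : f.B u v = 0) :
    (f.ee u v).1 = f.eich u v (f.Q v) hu hv (FP.orth_τ _) := by rw [ee, dif_pos ⟨hu, hv⟩]

theorem ee_apply {u v : V} (hu : f.Q u = 0) (hv : f.B u v = 0) (x : V) :
    (f.ee u v).1 x = x + f.B u x • v - f.B v x • u - (f.Q v * f.B u x) • u := by
  rw [ee_coe hu hv, eich_apply]; simp

theorem ee_add {u v w : V} (hu : f.Q u = 0) (hv : f.B u v = 0) (hw : f.B u w = 0) :
    f.ee u (v + w) = f.ee u v * f.ee u w := by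
  ext1
  rw [Subgroup.coe_mul, ee_coe hu hv, ee_coe hu hw, eich_mul, ee_coe hu (by simp [hv, hw])]
  exact eich_congr _ _ _ rfl (by rw [orth_Q_add, orth_symm])

theorem ee_self {u : V} (c : F) : f.ee u (c • u) = 1 := by
  by_cases hu : f.Q u = 0
  · ext x
    simp [ee_apply hu, B_self_of_Q hu, orth_Q_smul, hu, smul_smul, mul_comm]
  · exact dif_neg fun h => hu h.1

theorem ee_zero (u : V) : f.ee u 0 = 1 := by simpa using f.ee_self (u := u) 0

theorem ee_neg {u v : V} (hu : f.Q u = 0) (hv : f.B u v = 0) : f.ee u (-v) = (f.ee u v)⁻¹ :=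
  eq_inv_of_mul_eq_one_left (by rw [← ee_add hu (by simp [hv]) hv, neg_add_cancel, ee_zero])

theorem ee_add_smul {u v : V} (hu : f.Q u = 0) (hv : f.B u v = 0) (c : F) :
    f.ee u (v + c • u) = f.ee u v := by
  rw [ee_add hu hv (by simp [B_self_of_Q hu]), ee_self, mul_one]

theorem ee_zero_left (v : V) : f.ee 0 v = 1 := by
  ext x; simp [ee_apply]

theorem conj_ee (g : f.Isom) (u v : V) : g * f.ee u v * g⁻¹ = f.ee (g.1 u) (g.1 v) := by
  by_cases h : f.Q u = 0 ∧ f.B u v = 0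
  · ext x
    simp [ee_apply h.1 h.2, ee_apply ((Isom_Q g.2 u).trans h.1) ((Isom_B g.2 u v).trans h.2),
      Isom_Q g.2, Isom_B_symm g.2]
  · rw [ee, dif_neg h, ee, dif_neg (by rwa [Isom_Q g.2, Isom_B g.2])]; simp

theorem ee_smul {u v : V} (hu : f.Q u = 0) (hv : f.B u v = 0) (c : F) :
    f.ee (c • u) v = f.ee u (c • v) := by
  ext x
  rw [ee_apply (by simp [orth_Q_smul, hu]) (by simp [hv]), ee_apply hu (by simp [hv])]
  simp only [B_smul_left, FP.orth_σ, orth_Q_smul]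
  match_scalars <;> ring

theorem ee_eq_rf {u w : V} (hu : f.Q u = 0) (hw : f.B u w = 0) (h : f.Q w ≠ 0) :
    f.ee u w = f.rf w * f.rf (w + f.Q w • u) := by
  have : f.Q (w + f.Q w • u) = f.Q w := by
    simp [orth_Q_add, orth_Q_smul, hu, B_comm_zero hw]
  ext x
  simp only [Subgroup.coe_mul, LinearEquiv.mul_apply, rf_apply, ee_apply hu hw, this, map_sub,
    map_smul, orth_self, LinearMap.add_apply, B_smul_left, FP.orth_σ, B_comm_zero hw, smul_eq_mul,
    map_add]
  match_scalars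
  · rfl
  · field_simp; ring
  · field_simp; ring

theorem ee_apply_left {u v : V} : (f.ee u v).1 u = u := by
  by_cases h : f.Q u = 0 ∧ f.B u v = 0
  · simp [ee_apply h.1 h.2, B_self_of_Q h.1, B_comm_zero h.2]
  · rw [ee, dif_neg h]; rfl

theorem ee_trans {u a b : V} (hu : f.Q u = 0) (hQ : f.Q a = f.Q b) (ha : f.B u a = 1)
    (hb : f.B u b = 1) : (f.ee u (b - a)).1 a = b := by
  rw [ee_apply hu (by simp [ha, hb]), ha, orth_Q_sub, map_sub, LinearMap.sub_apply, orth_self, hQ]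
  match_scalars <;> ring

/-- The subgroup generated by the Eichler transformations. -/
def EOs (f : OS F V) : Subgroup f.Isom := f.EO.subgroupOf f.Isom

instance EOs_normal : f.EOs.Normal := ⟨fun _ hx g => conj_mem_EO g.2 hx⟩

theorem ee_mem_EOs (u v : V) : f.ee u v ∈ f.EOs := by
  unfold ee
  split_ifs with h
  exacts [eich_mem_EO h.1 h.2 (FP.orth_τ _), one_mem _]

theorem EOs_le {K : Subgroup f.Isom} (h : ∀ u v, f.Q u = 0 → f.B u v = 0 → f.ee u v ∈ K) :
    f.EOs ≤ K := by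
  intro g hg
  obtain ⟨g', hg', h'⟩ := EO_le (G := K.map f.Isom.subtype) (fun u v a hu hv ha =>
    ⟨_, h u v hu hv, by obtain rfl : a = f.Q v := ha; exact ee_coe hu hv⟩) hg
  exact Subtype.ext h' ▸ hg'

/-- The condition under which the reflections generate. -/
def RC (f : OS F V) : Prop := (∃ a : F, a ≠ 0 ∧ a ≠ 1) ∨ finrank F V ≠ 4 ∨ ¬ f.wi 2

theorem rc_of_two (h2 : (2 : F) ≠ 0) : f.RC :=
  Or.inl ⟨-1, by simp, fun h => h2 (by linear_combination -h)⟩

theorem rc_of_card [Fintype F] (h : Fintype.card F ≠ 2 ∨ finrank F V ≠ 4) : f.RC := by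
  rcases h with h | h
  · left
    have := Fintype.one_lt_card (α := F)
    by_contra hc
    refine absurd (Fintype.card_le_of_surjective ![(0 : F), 1] fun a => ?_) (by simp; omega)
    by_cases h0 : a = 0
    · exact ⟨0, h0.symm⟩
    · exact ⟨1, by_contra fun h1 => hc ⟨a, h0, fun h => h1 h.symm⟩⟩
  · exact Or.inr (Or.inl h)

theorem IsHyp.mem_hperp_of {u v u' v' x : V} (h1 : u' ∈ f.hperp u v) (h2 : v' ∈ f.hperp u v)
    (hx : x ∈ f.hperp u v) : (⟨x, hx⟩ : f.hperp u v) ∈ (f.res (f.hperp u v)).hperp ⟨u', h1⟩ ⟨v', h2⟩ ↔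
      f.B u' x = 0 ∧ f.B v' x = 0 := mem_hperp

/-- A nonsingular vector orthogonal to two orthogonal singular vectors. -/
theorem exists_Q_ne_orth [FiniteDimensional F V] (hf : f.Nondeg) (hn : 5 ≤ finrank F V) {u u' v : V}
    (h : f.IsHyp u u') (hv : f.Q v = 0) (hv' : v ∈ f.hperp u u') :
    ∃ z ∈ f.hperp u u', f.B v z = 0 ∧ f.Q z ≠ 0 := by
  have h1 := h.nondeg_hperp hf
  have h2 := h.finrank_hperp
  by_cases h0 : v = 0
  · obtain ⟨z, hz⟩ := h1.exists_Q_ne' (by omega)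
    exact ⟨z, z.2, by simp [h0], hz⟩
  · obtain ⟨v', h3⟩ := h1.exists_partner' (u := ⟨v, hv'⟩) (by exact hv) (by simpa using h0)
    have h4 := h3.finrank_hperp
    obtain ⟨z, hz⟩ := (h3.nondeg_hperp h1).exists_Q_ne' (by omega)
    exact ⟨z, z.1.2, (mem_hperp.1 z.2).1, hz⟩

theorem ee_mem_of_RC [FiniteDimensional F V] (hf : f.Nondeg) (hR : f.RC) {K : Subgroup f.Isom}
    {u : V} (hu : f.Q u = 0) (h : ∀ w, f.B u w = 0 → f.Q w ≠ 0 → f.ee u w ∈ K) {v : V}
    (hv : f.B u v = 0) : f.ee u v ∈ K := by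
  by_cases hQ : f.Q v = 0
  swap; · exact h v hv hQ
  by_cases hu0 : u = 0
  · rw [hu0, ee_zero_left]; exact one_mem _
  obtain ⟨u', huu⟩ := hf.exists_partner' hu hu0
  set v' := v - f.B u' v • u
  have h1 : v' ∈ f.hperp u u' := mem_hperp.2 ⟨by simp [v', hv, huu.B11], by simp [v', huu.B21]⟩
  have h2 : f.Q v' = 0 := by simp [v', orth_Q_sub, orth_Q_smul, hu, hQ, B_comm_zero hv]
  have h1' := (mem_hperp.1 h1).1
  rw [← sub_add_cancel v (f.B u' v • u), ee_add_smul hu h1']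
  by_cases h0 : v' = 0
  · rw [h0, ee_zero]; exact one_mem _
  suffices ∃ w, f.B u w = 0 ∧ f.Q w ≠ 0 ∧ f.Q (v' + w) ≠ 0 by
    obtain ⟨w, h3, h4, h5⟩ := this
    rw [← add_neg_cancel_right v' w, ee_add hu (by simp [h1', h3]) (by simp [h3]), ee_neg hu h3]
    exact mul_mem (h _ (by simp [h1', h3]) h5) (inv_mem (h _ h3 h4))
  obtain ⟨w, h3⟩ := (huu.nondeg_hperp hf).exists_partner' (u := ⟨v', h1⟩) (by exact h2)
    (by simpa using h0)
  have h4 := h3.finrank_hperp
  have h5 := huu.finrank_hperp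
  by_cases hn : 5 ≤ finrank F V
  · obtain ⟨z, hz, h6, h7⟩ := exists_Q_ne_orth hf hn huu h2 h1
    exact ⟨z, (mem_hperp.1 hz).1, h7, by rwa [orth_Q_add, h2, h6, zero_add, add_zero]⟩
  rcases hR with ⟨a, ha0, ha1⟩ | hR | hR
  · have h6 : f.IsHyp v' w := ⟨h2, h3.Q2, h3.B12⟩
    refine ⟨(-a) • v' + w, by simp [h1', (mem_hperp.1 w.2).1], by rw [h6.universal]; simpa, ?_⟩
    rw [← add_assoc, show v' + (-a) • v' = (1 - a) • v' by module, h6.universal]
    exact sub_ne_zero.2 ha1.symm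
  · omega
  · exact absurd ((wi_succ hf huu 1).2 h3.wi_one) hR

/-- The reflections generate the orthogonal group. -/
theorem closure_rf [FiniteDimensional F V] (hf : f.Nondeg) (hR : f.RC) :
    Subgroup.closure (Set.range f.rf) = ⊤ := by
  have h1 : ∀ v, f.rf v ∈ Subgroup.closure (Set.range f.rf) := fun v => Subgroup.subset_closure ⟨v, rfl⟩
  rw [eq_top_iff]
  rintro g -
  obtain ⟨g', hg', h'⟩ := Isom_le_of_gen hf (G := (Subgroup.closure (Set.range f.rf)).map f.Isom.subtype)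
    (fun p a ha h => ⟨_, h1 p, by obtain rfl : a = f.Q p := h; rw [rf, dif_neg ha]; rfl⟩)
    (fun u v hu hv h hQ _ => ⟨_, ee_mem_of_RC hf hR hu (fun w hw hQ => by
      rw [ee_eq_rf hu hw hQ]; exact mul_mem (h1 _) (h1 _)) hv, by
        rw [Subgroup.coe_subtype, ee_coe hu hv]; exact eich_congr _ _ _ rfl hQ⟩) g.2
  exact Subtype.ext h' ▸ hg'

@[elab_as_elim]
theorem rf_induction [FiniteDimensional F V] (hf : f.Nondeg) (hR : f.RC) {p : f.Isom → Prop}
    (h1 : p 1) (h2 : ∀ v g, f.Q v ≠ 0 → p g → p (f.rf v * g)) (g : f.Isom) : p g := by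
  have key : ∀ v g, p g → p (f.rf v * g) := fun v g hg => by
    by_cases hv : f.Q v = 0
    · rwa [rf_of_Q_zero hv, one_mul]
    · exact h2 v g hv hg
  refine Subgroup.closure_induction_left (p := fun g _ => p g) h1 ?_ ?_
    (closure_rf hf hR ▸ Subgroup.mem_top g)
  · rintro _ ⟨v, rfl⟩ g _ hg; exact key v g hg
  · rintro _ ⟨v, rfl⟩ g _ hg; rw [rf_inv]; exact key v g hg

theorem commutator_le_of_rf [FiniteDimensional F V] (hf : f.Nondeg) (hR : f.RC)
    {K : Subgroup f.Isom} (h : ∀ a b, f.Q a ≠ 0 → f.Q b ≠ 0 → ⁅f.rf a, f.rf b⁆ ∈ K) :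
    commutator f.Isom ≤ K := by
  set S : Set f.Isom := {g | ∃ a b, f.Q a ≠ 0 ∧ f.Q b ≠ 0 ∧ ⁅f.rf a, f.rf b⁆ = g}
  have : (Subgroup.closure S).Normal := by
    refine ⟨fun x hx g => ?_⟩
    induction hx using Subgroup.closure_induction with
    | mem x hx =>
      obtain ⟨a, b, ha, hb, rfl⟩ := hx
      refine Subgroup.subset_closure ⟨g.1 a, g.1 b, by rwa [Isom_Q g.2], by rwa [Isom_Q g.2], ?_⟩
      rw [← conj_rf, ← conj_rf]; group
    | one => simp
    | mul x y _ _ hx hy => simpa [mul_assoc] using mul_mem hx hy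
    | inv x _ hx => simpa [mul_assoc] using inv_mem hx
  refine le_trans ?_ ((Subgroup.closure_le K).2 (by rintro _ ⟨a, b, ha, hb, rfl⟩; exact h a b ha hb) :
    Subgroup.closure S ≤ K)
  let π := QuotientGroup.mk' (Subgroup.closure S)
  have h1 : ∀ a, f.Q a ≠ 0 → ∀ g, Commute (π (f.rf a)) (π g) := fun a ha g => by
    induction g using rf_induction hf hR with
    | h1 => simp
    | h2 b g hb hg =>
      rw [map_mul]
      refine Commute.mul_right ?_ hg
      rw [← commutatorElement_eq_one_iff_commute, ← map_commutatorElement]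
      exact (QuotientGroup.eq_one_iff _).2 (Subgroup.subset_closure ⟨a, b, ha, hb, rfl⟩)
  have h2 : ∀ g g', Commute (π g) (π g') := fun g g' => by
    induction g using rf_induction hf hR with
    | h1 => simp
    | h2 b g hb hg => rw [map_mul]; exact (h1 b hb g').mul_left hg
  rw [commutator_def, Subgroup.commutator_le]
  intro g _ g' _
  rw [← QuotientGroup.eq_one_iff]
  change π _ = 1
  rw [map_commutatorElement, commutatorElement_eq_one_iff_commute]
  exact h2 g g'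

/-! ### Dickson invariant and spinor norm -/

section theta
open CliffordAlgebra

/-- The target group. -/
abbrev TG (F : Type*) [Field F] := Multiplicative (ZMod 2) × SqC F

theorem TG.mul_self (t : TG F) : t * t = 1 :=
  Prod.ext ((by decide : ∀ s : Multiplicative (ZMod 2), s * s = 1) _) (SqC.mul_self _)

/-- The graph of the invariant. -/
def thRel (f : OS F V) : Subgroup (f.Isom × TG F) where
  carrier := {p | ∃ (x : CliffordAlgebra f.toQF) (c : F), c ≠ 0 ∧ sqc c = p.2.2 ∧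
    x ∈ evenOdd f.toQF p.2.1.toAdd ∧ (∀ y, ι f.toQF (p.1.1 y) * x = involute x * ι f.toQF y) ∧
    x * reverse x = algebraMap F _ c ∧ reverse x * x = algebraMap F _ c}
  one_mem' := ⟨1, 1, one_ne_zero, sqc_one, one_le_evenOdd_zero _ (Submodule.one_le.1 le_rfl),
    by simp, by simp, by simp⟩
  mul_mem' := by
    rintro p p' ⟨x, c, h1, h2, h3, h4, h5, h6⟩ ⟨x', c', h1', h2', h3', h4', h5', h6'⟩
    refine ⟨x * x', c * c', mul_ne_zero h1 h1', by rw [sqc_mul h1 h1', h2, h2']; rfl,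
      evenOdd_mul_le _ _ _ (Submodule.mul_mem_mul h3 h3'), fun y => ?_, ?_, ?_⟩
    · rw [map_mul, mul_assoc, ← h4', ← mul_assoc, ← mul_assoc, ← h4]; rfl
    · rw [reverse.map_mul, mul_assoc, ← mul_assoc x', h5', Algebra.commutes, ← mul_assoc, h5, map_mul]
    · rw [reverse.map_mul, mul_assoc, ← mul_assoc _ x, h6, Algebra.commutes, ← mul_assoc, h6',
        ← map_mul, mul_comm]
  inv_mem' := by
    rintro p ⟨x, c, h1, h2, h3, h4, h5, h6⟩
    have : p.2⁻¹ = p.2 := inv_eq_of_mul_eq_one_right (G := TG F) (TG.mul_self p.2)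
    refine ⟨reverse (involute x), c, h1, by rw [Prod.snd_inv, this, h2], ?_, fun y => ?_, ?_, ?_⟩
    · rwa [Prod.snd_inv, this, reverse_mem_evenOdd_iff, involute_mem_evenOdd_iff]
    · have := congrArg reverse (h4 (p.1⁻¹.1 y))
      rw [reverse.map_mul, reverse.map_mul, reverse_ι, reverse_ι] at this
      rw [Prod.fst_inv, ← this, reverse_involute, involute_involute]
      simp
    · rw [reverse_reverse, reverse_involute, ← map_mul, h6, AlgHom.commutes]
    · rw [reverse_reverse, reverse_involute, ← map_mul, h5, AlgHom.commutes]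

theorem rf_mem_thRel {v : V} (hv : f.Q v ≠ 0) :
    (f.rf v, (Multiplicative.ofAdd 1, sqc (f.Q v))) ∈ f.thRel := by
  refine ⟨ι _ v, f.Q v, hv, rfl, ι_mem_evenOdd_one _ v, fun y => ?_, by simp [ι_sq_scalar],
    by simp [ι_sq_scalar]⟩
  have : QuadraticMap.polar f.toQF y v = f.B v y := by rw [orth_symm]; exact f.polar_Q y v
  rw [rf_apply, map_sub, map_smul, sub_mul, smul_mul_assoc, ι_sq_scalar, ι_mul_ι_comm, this,
    Algebra.smul_def, ← map_mul (algebraMap F _), toQF_apply, involute_ι, mul_right_comm, inv_mul_cancel₀ hv, one_mul]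
  noncomm_ring

theorem eq_one_of_thRel [FiniteDimensional F V] (hf : f.Nondeg) {t : TG F} (h : (1, t) ∈ f.thRel) :
    t = 1 := by
  obtain ⟨x, c, h1, h2, h3, h4, h5, -⟩ := h
  obtain ⟨s, rfl⟩ := cl_scalar (x := x) fun d => by
    obtain ⟨z, hz⟩ := hf.exists_dual_family (Module.finBasis F V).linearIndependent
      (fun i => d (Module.finBasis F V i))
    have : d = f.toQF.polarBilin z := (Module.finBasis F V).ext fun i => by
      rw [← hz, orth_symm]; exact (f.polar_Q _ _).symm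
    rw [this, ← cl_comm, sub_eq_zero]
    exact h4 z
  rw [reverse.commutes, ← map_mul, (cl_injective _).eq_iff] at h5
  refine Prod.ext ?_ (h2.symm.trans ((sqc_eq_one h1).2 ⟨s, h5.symm⟩))
  by_contra h7
  have h8 : t.1.toAdd = 1 :=
    (by decide : ∀ s : Multiplicative (ZMod 2), s ≠ 1 → s.toAdd = 1) _ h7
  simp only [h8] at h3
  have := (evenOdd_isCompl f.toQF).disjoint.le_bot
    ⟨one_le_evenOdd_zero _ (Submodule.algebraMap_mem s), h3⟩
  rw [Submodule.mem_bot, map_eq_zero_iff _ (cl_injective _)] at this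
  simp [this, h1.symm] at h5

/-- `θ` is the Dickson invariant paired with the spinor norm. -/
def IsTh (f : OS F V) (θ : f.Isom →* TG F) : Prop :=
  ∀ v, f.Q v ≠ 0 → θ (f.rf v) = (Multiplicative.ofAdd 1, sqc (f.Q v))

theorem exists_isTh [FiniteDimensional F V] (hf : f.Nondeg) (hR : f.RC) : ∃ θ, f.IsTh θ := by
  obtain ⟨φ, hφ⟩ := exists_hom_of_rel ⊤ f.thRel (fun _ => eq_one_of_thRel hf) fun g _ => by
    induction g using rf_induction hf hR with
    | h1 => exact ⟨1, f.thRel.one_mem⟩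
    | h2 v g hv hg =>
      obtain ⟨t, ht⟩ := hg trivial
      exact ⟨_, mul_mem (rf_mem_thRel hv) ht⟩
  exact ⟨φ.comp Subgroup.topEquiv.symm.toMonoidHom, fun v hv =>
    (hφ ⟨_, trivial⟩ _).1 (rf_mem_thRel hv)⟩

end theta

theorem isConj_rf (hf : f.Nondeg) {a b : V} (ha : f.Q a ≠ 0) (hb : f.Q b ≠ 0)
    (h : sqc (f.Q a) = sqc (f.Q b)) : ∃ g : f.Isom, f.rf a = g * f.rf b * g⁻¹ := by
  obtain ⟨t, ht, h⟩ := (sqc_eq_iff' ha hb).1 h
  rw [← orth_Q_smul] at h
  obtain ⟨g, hg, hga⟩ := witt_one hf (u := t • b) (v := a) (by intro h0; simp [h0, ha] at h)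
    (by rintro rfl; simp at ha) h.symm
  exact ⟨⟨g, hg⟩, by rw [← rf_smul ht b, conj_rf, hga]⟩

theorem klein_aux {A : Type*} [CommGroup A] {x y : A} (h : x * x = 1) (i j : ℕ) :
    y * (x ^ i * (x * y) ^ j) = x ^ (i + 1) * (x * y) ^ (j + 1) := by
  calc y * (x ^ i * (x * y) ^ j) = x * x * (y * (x ^ i * (x * y) ^ j)) := by rw [h, one_mul]
    _ = _ := by rw [pow_succ, pow_succ]; generalize (x * y) ^ j = z; ac_rfl

variable {θ : f.Isom →* TG F}

theorem IsTh.ker_eq [Finite F] [FiniteDimensional F V] (hθ : f.IsTh θ) (hf : f.Nondeg) (hR : f.RC) :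
    θ.ker = commutator f.Isom := by
  refine le_antisymm ?_ (Abelianization.commutator_subset_ker (A := TG F) θ)
  rcases subsingleton_or_nontrivial V with hV | hV
  · have := (Nat.card_eq_one_iff_unique.1 (card_Isom_zero f)).1
    exact fun g _ => Subsingleton.elim 1 g ▸ one_mem _
  obtain ⟨a, ha⟩ := hf.exists_Q_ne
  obtain ⟨b, hb, hab⟩ : ∃ b, f.Q b ≠ 0 ∧
      ∀ v, f.Q v ≠ 0 → sqc (f.Q v) = sqc (f.Q a) ∨ sqc (f.Q v) = sqc (f.Q b) := by
    by_cases h : ∀ v, f.Q v ≠ 0 → sqc (f.Q v) = sqc (f.Q a)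
    · exact ⟨a, ha, fun v hv => Or.inl (h v hv)⟩
    · push Not at h
      obtain ⟨b, hb, h⟩ := h
      refine ⟨b, hb, fun v hv => or_iff_not_imp_left.2 fun h' => ?_⟩
      exact mul_right_cancel (SqC.eq_of_ne_one (mul_inv_eq_one.not.2 h') (mul_inv_eq_one.not.2 h))
  let π : f.Isom →* Abelianization f.Isom := Abelianization.of
  have hπ : ∀ a b, f.Q a ≠ 0 → f.Q b ≠ 0 → sqc (f.Q a) = sqc (f.Q b) → π (f.rf a) = π (f.rf b) :=
    fun a b ha hb h => by
      obtain ⟨g, hg⟩ := isConj_rf hf ha hb h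
      simp [hg]
  have hsq : ∀ a, π (f.rf a) ^ 2 = 1 := fun a => by rw [sq, ← map_mul, rf_mul_self, map_one]
  have key : ∀ g, ∃ i j : ℕ, π g = π (f.rf a) ^ i * (π (f.rf a) * π (f.rf b)) ^ j ∧
      θ g = θ (f.rf a) ^ i * (θ (f.rf a) * θ (f.rf b)) ^ j := fun g => by
    induction g using rf_induction hf hR with
    | h1 => exact ⟨0, 0, by simp, by simp⟩
    | h2 v g hv hg =>
      obtain ⟨i, j, h1, h2⟩ := hg
      rcases hab v hv with h | h
      · refine ⟨i + 1, j, by rw [map_mul, h1, hπ v a hv ha h, pow_succ', mul_assoc], ?_⟩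
        rw [map_mul, h2, hθ v hv, h, ← hθ a ha, pow_succ', mul_assoc]
      · refine ⟨i + 1, j + 1, ?_, ?_⟩
        · rw [map_mul, h1, hπ v b hv hb h, klein_aux (by rw [← sq, hsq])]
        · rw [map_mul, h2, hθ v hv, h, ← hθ b hb, klein_aux (A := TG F) (TG.mul_self _)]
  intro g hg
  obtain ⟨i, j, h1, h2⟩ := key g
  rw [MonoidHom.mem_ker.1 hg, hθ a ha, hθ b hb] at h2
  have h3 := congrArg (fun t : TG F => t.1.toAdd) h2
  have h4 := congrArg Prod.snd h2
  simp only [Prod.fst_one, toAdd_one, Prod.mk_mul_mk, Prod.pow_mk, toAdd_mul, toAdd_pow, toAdd_ofAdd,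
    nsmul_eq_mul, mul_one, show (1 : ZMod 2) + 1 = 0 from rfl, mul_zero, add_zero] at h3
  obtain ⟨i, rfl⟩ := (ZMod.natCast_eq_zero_iff i 2).1 h3.symm
  simp only [Prod.snd_one, Prod.mk_mul_mk, Prod.pow_mk, pow_mul, sq, SqC.mul_self, one_pow,
    one_mul] at h4
  rw [← Abelianization.ker_of, MonoidHom.mem_ker]
  change π g = 1
  rw [h1, pow_mul, hsq, one_pow, one_mul]
  rcases Nat.even_or_odd' j with ⟨k, rfl | rfl⟩
  · rw [pow_mul, mul_pow, hsq, hsq]; simp
  · rw [pow_succ, pow_mul, sq, SqC.mul_self, one_pow, one_mul, eq_comm, mul_eq_one_iff_eq_inv,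
      inv_eq_of_mul_eq_one_right (SqC.mul_self _)] at h4
    rw [hπ a b ha hb h4, ← sq, hsq, one_pow]

theorem IsTh.surj [Finite F] [FiniteDimensional F V] (hθ : f.IsTh θ) (hf : f.Nondeg)
    (hn : 2 ≤ finrank F V) : Function.Surjective θ := by
  rintro ⟨i, s⟩
  obtain ⟨c, hc, rfl⟩ := sqc_surj s
  obtain ⟨a, ha⟩ := hf.universal hn 1
  obtain ⟨b, rfl⟩ := hf.universal hn c
  have : i = Multiplicative.ofAdd 1 ∨ i = Multiplicative.ofAdd 1 * Multiplicative.ofAdd 1 := by
    revert i; decide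
  rcases this with rfl | rfl
  · exact ⟨_, hθ b hc⟩
  · exact ⟨f.rf a * f.rf b, by rw [map_mul, hθ b hc, hθ a (by simp [ha]), ha, sqc_one]; simp⟩

theorem index_commutator [Finite F] [FiniteDimensional F V] (hf : f.Nondeg) (hR : f.RC)
    (hn : 2 ≤ finrank F V) : (commutator f.Isom).index = 2 * Nat.gcd 2 (Nat.card F - 1) := by
  obtain ⟨θ, hθ⟩ := exists_isTh hf hR
  rw [← hθ.ker_eq hf hR, Subgroup.index_ker, MonoidHom.range_eq_top.2 (hθ.surj hf hn),
    Subgroup.card_top, Nat.card_prod, card_SqC]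
  simp

theorem IsTh.det [FiniteDimensional F V] (hθ : f.IsTh θ) (hf : f.Nondeg) (hR : f.RC) (g : f.Isom) :
    (g.1.det = 1 ∧ (θ g).1 = 1) ∨ (g.1.det = -1 ∧ (θ g).1 = Multiplicative.ofAdd 1) := by
  induction g using rf_induction hf hR with
  | h1 => simp
  | h2 v g hv hg =>
    rw [map_mul, Subgroup.coe_mul, map_mul, det_rf hv, hθ v hv, Prod.fst_mul]
    rcases hg with ⟨h1, h2⟩ | ⟨h1, h2⟩ <;> rw [h1, h2]
    · simp
    · exact Or.inl ⟨by simp, (by decide : Multiplicative.ofAdd (1 : ZMod 2) * Multiplicative.ofAdd 1 = 1)⟩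

theorem IsTh.det_eq_one [FiniteDimensional F V] (hθ : f.IsTh θ) (hf : f.Nondeg) (h2 : (2 : F) ≠ 0)
    (g : f.Isom) : g.1.det = 1 ↔ (θ g).1 = 1 := by
  have : (-1 : Fˣ) ≠ 1 := fun h => h2 (by
    have := congrArg Units.val h
    simp only [Units.val_neg, Units.val_one] at this
    linear_combination -this)
  rcases hθ.det hf (rc_of_two h2) g with ⟨h1, h2⟩ | ⟨h1, h2⟩
  · simp [h1, h2]
  · rw [h1, h2]; exact iff_of_false this (by decide)

theorem IsTh.ee [FiniteDimensional F V] (hθ : f.IsTh θ) (hf : f.Nondeg) (hR : f.RC) (u v : V) :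
    θ (f.ee u v) = 1 := by
  by_cases h : f.Q u = 0 ∧ f.B u v = 0
  · refine ee_mem_of_RC hf hR (K := θ.ker) h.1 (fun w hw hQ => ?_) h.2
    have : f.Q (w + f.Q w • u) = f.Q w := by
      simp [orth_Q_add, orth_Q_smul, h.1, B_comm_zero hw]
    rw [MonoidHom.mem_ker, ee_eq_rf h.1 hw hQ, map_mul, hθ w hQ, hθ _ (by rwa [this]), this, TG.mul_self]
  · rw [FS.ee, dif_neg h, map_one]

theorem EOs_trans [Finite F] [FiniteDimensional F V] (hf : f.Nondeg) (hn : 4 ≤ finrank F V)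
    {a b : V} (ha : f.Q a ≠ 0) (hab : f.Q a = f.Q b) : ∃ g ∈ f.EOs, g.1 a = b ∨ g.1 a = -b := by
  obtain ⟨u, v, h⟩ := hf.exists_hyp (by omega)
  have h0 : ∀ {p a b}, f.Q p = 0 → f.Q a = f.Q b → f.B p a = f.B p b → f.B p a ≠ 0 →
      ∃ g ∈ f.EOs, g.1 a = b := fun {p a b} hp hQ h1 h2 =>
    ⟨_, ee_mem_EOs _ _, ee_trans (u := (f.B p a)⁻¹ • p) (by simp [orth_Q_smul, hp]) hQ (by simp [h2])
      (by simp [← h1, h2])⟩
  have h1 : ∀ a, f.Q a ≠ 0 → ∃ g ∈ f.EOs, ∃ β : F, β ≠ 0 ∧ g.1 a = (f.Q a / β) • u + β • v := by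
    have h2 : ∀ a, f.B u a ≠ 0 ∨ f.B v a ≠ 0 → f.Q a ≠ 0 →
        ∃ g ∈ f.EOs, ∃ β : F, β ≠ 0 ∧ g.1 a = (f.Q a / β) • u + β • v := by
      rintro a (h2 | h2) ha
      · obtain ⟨g, hg, h3⟩ := h0 (b := (f.Q a / f.B u a) • u + f.B u a • v) h.Q1
          (by simp [orth_Q_two, h.Q1, h.Q2, h.B12, h2]) (by simp [h.B11, h.B12]) h2
        exact ⟨g, hg, _, h2, h3⟩
      · obtain ⟨g, hg, h3⟩ := h0 (b := f.B v a • u + (f.Q a / f.B v a) • v) h.Q2
          (by simp [orth_Q_two, h.Q1, h.Q2, h.B12]; field_simp) (by simp [h.B22, h.B21]) h2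
        exact ⟨g, hg, _, div_ne_zero ha h2, by rw [h3, div_div_cancel₀ ha]⟩
    intro a ha
    by_cases h3 : f.B u a ≠ 0 ∨ f.B v a ≠ 0
    · exact h2 a h3 ha
    · push Not at h3
      have h4 : (⟨a, mem_hperp.2 h3⟩ : f.hperp u v) ≠ 0 := by
        intro h5; rw [Submodule.mk_eq_zero] at h5; simp [h5] at ha
      obtain ⟨w, -, hw⟩ := (h.nondeg_hperp hf).exists_dual (H := ⊥) (mt (Submodule.mem_bot F).1 h4) 1
      have hw : f.B w a = 1 := hw
      obtain ⟨g, hg, β, hβ, h5⟩ := h2 ((f.ee u w).1 a) (Or.inr (by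
        simp [ee_apply h.Q1 (mem_hperp.1 w.2).1, h3.1, h3.2, hw, h.B21])) (by rwa [Isom_Q (f.ee u w).2])
      exact ⟨g * f.ee u w, mul_mem hg (ee_mem_EOs _ _), β, hβ, by rwa [Isom_Q (f.ee u w).2] at h5⟩
  obtain ⟨g, hg, β, hβ, h2⟩ := h1 a ha
  obtain ⟨g', hg', β', hβ', h3⟩ := h1 b (hab ▸ ha)
  rw [← hab] at h3
  suffices ∃ k ∈ f.EOs, k.1 (g.1 a) = g'.1 b ∨ k.1 (g.1 a) = -g'.1 b by
    obtain ⟨k, hk, h4⟩ := this
    refine ⟨g'⁻¹ * k * g, mul_mem (mul_mem (inv_mem hg') hk) hg, ?_⟩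
    rcases h4 with h4 | h4 <;> simp [h4]
  by_cases hβs : β + β' = 0
  · refine ⟨1, one_mem _, Or.inr ?_⟩
    rw [h3, OneMemClass.coe_one, LinearEquiv.coe_one, id_eq, h2, eq_neg_of_add_eq_zero_left hβs]
    match_scalars
    · field_simp
    · ring
  · have h4 := h.finrank_hperp
    obtain ⟨w, hw⟩ := (h.nondeg_hperp hf).universal (by omega) (-(f.Q a / (β * β')))
    have hw : f.Q w = _ := hw
    have h5 : ∀ x y : F, f.B ((f.Q a / (β * β')) • u + (1 : F) • v + w) (x • u + y • v) =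
        f.Q a / (β * β') * y + x := fun x y => by
      simpa using h.B_decomp (f.Q a / (β * β')) 1 x y w.2 (Submodule.zero_mem _)
    obtain ⟨k, hk, h6⟩ := h0 (p := (f.Q a / (β * β')) • u + (1 : F) • v + w) (a := g.1 a) (b := g'.1 b)
      (by rw [h.orth_Q _ _ w.2, hw]; ring) (by rw [Isom_Q g.2, Isom_Q g'.2, hab])
      (by rw [h2, h3, h5, h5]; field_simp; ring) (by
        rw [h2, h5, show f.Q a / (β * β') * β + f.Q a / β = f.Q a * (β + β') / (β * β') by field_simp]
        simp [ha, hβs, hβ, hβ'])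
    exact ⟨k, hk, Or.inl h6⟩

theorem rf_mul_rf_mem {K : Subgroup f.Isom} [K.Normal] {a b : V} {g : f.Isom} (hg : g ∈ K)
    (h : g.1 a = b ∨ g.1 a = -b) : f.rf a * f.rf b ∈ K := by
  have : f.rf b = g * f.rf a * g⁻¹ := by
    rw [conj_rf]; rcases h with h | h <;> simp [h, rf_neg]
  rw [this, ← mul_assoc, ← mul_assoc]
  exact mul_mem (by simpa [rf_inv] using Subgroup.Normal.conj_mem ‹_› g hg (f.rf a)) (inv_mem hg)

theorem commutator_rf (a b : V) : ⁅f.rf a, f.rf b⁆ = f.rf a * f.rf ((f.rf b).1 a) := by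
  rw [← conj_rf, commutatorElement_def, rf_inv a]; group

theorem EOs_eq [Finite F] [FiniteDimensional F V] (hf : f.Nondeg) (hR : f.RC) (hn : 4 ≤ finrank F V) :
    f.EOs = commutator f.Isom := by
  obtain ⟨θ, hθ⟩ := exists_isTh hf hR
  refine le_antisymm (EOs_le fun u v _ _ => hθ.ker_eq hf hR ▸ hθ.ee hf hR u v)
    (commutator_le_of_rf hf hR fun a b ha _ => ?_)
  obtain ⟨g, hg, h⟩ := EOs_trans hf hn ha (Isom_Q (f.rf b).2 a).symm
  rw [commutator_rf]
  exact rf_mul_rf_mem hg h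

end FS

end Cfsg.Agent.Class
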