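import Cfsg.Agent.Class.Orth2

/-! Orthogonal groups: discriminant, simplicity, centre, orders, subgroups of index two. -/

set_option autoImplicit false

namespace Cfsg.Agent.Class

open Module
open scoped commutatorElement

variable {F : Type*} [Field F] {V : Type*} [AddCommGroup V] [Module F V]
  {U : Type*} [AddCommGroup U] [Module F U]

/-- Transport of the commutator subgroup. -/
def commCongr {G H : Type*} [Group G] [Group H] (e : G ≃* H) : commutator G ≃* commutator H :=
  (e.subgroupMap _).trans (MulEquiv.subgroupCongr (by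
    rw [map_commutator_eq, MonoidHom.range_eq_top.2 e.surjective]; rfl))

theorem mem_commutator_congr {G H : Type*} [Group G] [Group H] (e : G ≃* H) {g : G} :
    e g ∈ commutator H ↔ g ∈ commutator G :=
  ⟨fun h => e.symm_apply_apply g ▸ (commCongr e.symm ⟨_, h⟩).2, fun h => (commCongr e ⟨_, h⟩).2⟩

theorem comap_commutator_congr {G H : Type*} [Group G] [Group H] (e : G ≃* H) :
    (commutator H).comap e.toMonoidHom = commutator G :=
  Subgroup.ext fun _ => mem_commutator_congr e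

theorem index_commutator_congr {G H : Type*} [Group G] [Group H] (e : G ≃* H) :
    (commutator G).index = (commutator H).index := by
  rw [← comap_commutator_congr e, Subgroup.index_comap_of_surjective _ e.surjective]

theorem comap_closure_congr {G H : Type*} [Group G] [Group H] (e : G ≃* H) (S : Set H) :
    (Subgroup.closure S).comap e.toMonoidHom = Subgroup.closure (e ⁻¹' S) := by
  rw [← e.symm_symm, ← Subgroup.map_equiv_eq_comap_symm' e.symm, MonoidHom.map_closure]
  congr 1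
  exact e.symm.toEquiv.image_eq_preimage_symm S

theorem isSquare_neg_one_pow [Fintype F] (h2 : (2 : F) ≠ 0) (m : ℕ) :
    (IsSquare ((-1 : F) ^ m) ↔ Fintype.card F ^ m % 4 = 1) ∧
      (¬ IsSquare ((-1 : F) ^ m) ↔ Fintype.card F ^ m % 4 = 3) := by
  have h := Nat.odd_iff.1 (odd_of_two_ne_zero h2)
  have h1 : ∀ k, (Fintype.card F ^ 2) ^ k % 4 = 1 := fun k => by
    have : Fintype.card F ^ 2 % 4 = 1 := by
      rcases Nat.odd_mod_four_iff.1 h with h | h <;> simp [Nat.pow_mod, h]
    simp [Nat.pow_mod, this]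
  rcases Nat.even_or_odd' m with ⟨k, rfl | rfl⟩
  · simp [pow_mul, h1]
  · rw [pow_succ, pow_succ, pow_mul, pow_mul, neg_one_sq, one_pow, one_mul,
      FiniteField.isSquare_neg_one_iff, Nat.mul_mod, h1]
    omega

theorem card_index_two_klein {T : Type*} [Group T] (h : Nat.card T = 4) (h2 : ∀ t : T, t * t = 1) :
    Nat.card {K : Subgroup T // K.index = 2} = 3 := by
  have : Finite T := Nat.finite_of_card_ne_zero (by omega)
  have ho : ∀ t : T, t ≠ 1 → Nat.card (Subgroup.zpowers t) = 2 := fun t ht => by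
    rw [Nat.card_zpowers, orderOf_eq_prime (by rw [sq, h2]) ht]
  have hK : ∀ K : Subgroup T, K.index = 2 ↔ Nat.card K = 2 := fun K => by
    have := K.card_mul_index
    constructor <;> intro h' <;> rw [h', h] at this <;> omega
  have h3 : Nat.card {t : T // t ≠ 1} = 3 := by rw [card_ne_zero, h]
  rw [← h3]
  refine (Nat.card_eq_of_bijective (fun t => ⟨Subgroup.zpowers t.1, (hK _).2 (ho _ t.2)⟩) ⟨?_, ?_⟩).symm
  · rintro ⟨s, hs⟩ ⟨t, ht⟩ hst
    have hst : Subgroup.zpowers s = Subgroup.zpowers t := congrArg Subtype.val hst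
    obtain ⟨y, -, hy⟩ := (Nat.card_eq_two_iff' (1 : Subgroup.zpowers t)).1 (ho t ht)
    have h1 := hy ⟨s, hst ▸ Subgroup.mem_zpowers s⟩ (by simpa using hs)
    have h2 := hy ⟨t, Subgroup.mem_zpowers t⟩ (by simpa using ht)
    exact Subtype.ext (congrArg Subtype.val (h1.trans h2.symm) :)
  · rintro ⟨K, hK'⟩
    obtain ⟨⟨y, hyK⟩, hy, -⟩ := (Nat.card_eq_two_iff' (1 : K)).1 ((hK K).1 hK')
    have hy : y ≠ 1 := by simpa using hy
    exact ⟨⟨y, hy⟩, Subtype.ext (Subgroup.eq_of_le_of_card_ge (by simpa using hyK)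
      (by rw [ho y hy, (hK K).1 hK']))⟩

theorem card_index_two_of_surj {G T : Type*} [Group G] [Group T] (θ : G →* T)
    (hθ : Function.Surjective θ) (h : ∀ H : Subgroup G, H.index = 2 → θ.ker ≤ H) :
    Nat.card {H : Subgroup G // H.index = 2} = Nat.card {K : Subgroup T // K.index = 2} := by
  refine (Nat.card_eq_of_bijective (fun K => ⟨K.1.comap θ, by
    rw [Subgroup.index_comap_of_surjective _ hθ, K.2]⟩) ⟨fun K K' hK => ?_, fun H => ?_⟩).symm
  · exact Subtype.ext (Subgroup.comap_injective hθ (congrArg Subtype.val hK))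
  · have := Subgroup.comap_map_eq_self (h _ H.2)
    exact ⟨⟨H.1.map θ, by rw [← Subgroup.index_comap_of_surjective _ hθ, this, H.2]⟩, Subtype.ext this⟩

theorem commutator_le_of_index_two {G : Type*} [Group G] {H : Subgroup G} (h : H.index = 2) :
    commutator G ≤ H := by
  rw [commutator_def, Subgroup.commutator_le]
  intro a _ b _
  simp only [commutatorElement_def, Subgroup.mul_mem_iff_of_index_two h, inv_mem_iff]
  tauto

namespace FS
variable {f : OS F V} {f' : OS F U}

/-! ### Orthogonal bases and the discriminant -/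

/-- An orthogonal basis, as a family. -/
structure OB (f : OS F V) {ι : Type*} [Fintype ι] (e : ι → V) : Prop where
  orth : ∀ i j, i ≠ j → f.B (e i) (e j) = 0
  ne : ∀ i, f.Q (e i) ≠ 0
  card : Fintype.card ι = finrank F V

section ob
variable {ι : Type*} [Fintype ι] {e : ι → V}

theorem OB.li (h : f.OB e) (h2 : (2 : F) ≠ 0) : LinearIndependent F e :=
  linearIndependent_of_orth h.orth fun i => by simp [orth_self, h2, h.ne]

theorem OB.exists_basis [FiniteDimensional F V] (h : f.OB e) (h2 : (2 : F) ≠ 0) :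
    ∃ b : Basis ι F V, ⇑b = e :=
  ⟨Basis.mk (h.li h2) ((h.li h2).span_eq_top_of_card_eq_finrank' h.card).ge, Basis.coe_mk _ _⟩

theorem OB.nondeg [FiniteDimensional F V] (h : f.OB e) (h2 : (2 : F) ≠ 0) : f.Nondeg := by
  obtain ⟨b, rfl⟩ := h.exists_basis h2
  refine nondeg_of_sep fun x hx => b.ext_elem fun i => ?_
  have := hx (b i)
  rw [orth_symm, ← b.sum_repr x, map_sum, Finset.sum_eq_single i
    (fun j _ hj => by simp [h.orth i j hj.symm]) (by simp)] at this
  simpa [orth_self, h2, h.ne] using this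

theorem OB.prod_ne (h : f.OB e) : ∏ i, f.Q (e i) ≠ 0 := Finset.prod_ne_zero_iff.2 fun i _ => h.ne i

theorem Nondeg.exists_OB [FiniteDimensional F V] (hf : f.Nondeg) (h2 : (2 : F) ≠ 0) {n : ℕ}
    (hn : finrank F V = n) : ∃ e : Fin n → V, f.OB e := by
  obtain ⟨e, h1, h3⟩ := exists_orth_family ⟨1, by simpa [one_add_one_eq_two]⟩ n hf hn
  exact ⟨e, h1, fun i h => h3 i (B_self_of_Q h), by simp [hn]⟩

/-- Minus the identity. -/
def neg1 (f : OS F V) : f.Isom := ⟨LinearEquiv.neg F, orth_mem_Isom.2 f.Q_neg⟩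

@[simp] theorem neg1_apply (x : V) : f.neg1.1 x = -x := rfl

theorem neg1_ne_one [Nontrivial V] (h2 : (2 : F) ≠ 0) : f.neg1 ≠ 1 := fun h => by
  obtain ⟨x, hx⟩ := exists_ne (0 : V)
  have : -x = x := congrArg (fun g : f.Isom => g.1 x) h
  rw [neg_eq_iff_add_eq_zero, ← two_smul F] at this
  exact hx ((smul_eq_zero.1 this).resolve_left h2)

theorem neg1_eq_one (h2 : (2 : F) = 0) : f.neg1 = 1 := by
  ext x
  change -x = x
  rw [neg_eq_iff_add_eq_zero, ← two_smul F, h2, zero_smul]

theorem neg1_comm (g : f.Isom) : g * f.neg1 = f.neg1 * g := by ext; simp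

theorem IsTh.neg1 [FiniteDimensional F V] {θ : f.Isom →* TG F} (hθ : f.IsTh θ) (h2 : (2 : F) ≠ 0)
    (h : f.OB e) : θ f.neg1 = (Multiplicative.ofAdd (finrank F V : ZMod 2), sqc (∏ i, f.Q (e i))) := by
  classical
  have key : ∀ s : Finset ι, ∃ g : f.Isom, (∀ i, g.1 (e i) = if i ∈ s then -e i else e i) ∧
      θ g = (Multiplicative.ofAdd (s.card : ZMod 2), sqc (∏ i ∈ s, f.Q (e i))) := fun s => by
    induction s using Finset.induction_on with
    | empty => exact ⟨1, by simp, by simp [sqc_one]; rfl⟩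
    | insert a s ha ih =>
      obtain ⟨g, h3, h4⟩ := ih
      refine ⟨f.rf (e a) * g, fun i => ?_, ?_⟩
      · rw [Subgroup.coe_mul, LinearEquiv.mul_apply, h3]
        by_cases hi : i = a
        · simp [hi, ha, rf_self (h.ne a)]
        · split_ifs <;> simp_all [rf_orth (h.orth a i (Ne.symm hi))]
      · rw [map_mul, h4, hθ _ (h.ne a), Finset.prod_insert ha, Finset.card_insert_of_notMem ha,
          sqc_mul (h.ne a) (Finset.prod_ne_zero_iff.2 fun i _ => h.ne i), Prod.mk_mul_mk,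
          ← ofAdd_add, add_comm]
        simp
  obtain ⟨g, h3, h4⟩ := key Finset.univ
  obtain ⟨b, rfl⟩ := h.exists_basis h2
  rw [← h.card, ← Finset.card_univ, ← h4]
  congr 1
  exact Subtype.ext (b.ext' fun i => by simp [h3])

open Classical in
/-- The discriminant. -/
noncomputable def disc (f : OS F V) : SqC F :=
  if h : ∃ e : Fin (finrank F V) → V, f.OB e then sqc (∏ i, f.Q (h.choose i)) else 1

theorem OB.disc_eq [FiniteDimensional F V] (h : f.OB e) (h2 : (2 : F) ≠ 0) :
    f.disc = sqc (∏ i, f.Q (e i)) := by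
  have h1 := (h.nondeg h2).exists_OB h2 rfl
  obtain ⟨θ, hθ⟩ := exists_isTh (h.nondeg h2) (rc_of_two h2)
  rw [disc, dif_pos h1]
  exact congrArg Prod.snd ((hθ.neg1 h2 h1.choose_spec).symm.trans (hθ.neg1 h2 h))

theorem IsTh.neg1' [FiniteDimensional F V] {θ : f.Isom →* TG F} (hθ : f.IsTh θ) (hf : f.Nondeg)
    (h2 : (2 : F) ≠ 0) : θ f.neg1 = (Multiplicative.ofAdd (finrank F V : ZMod 2), f.disc) := by
  obtain ⟨e, he⟩ := hf.exists_OB h2 rfl
  rw [hθ.neg1 h2 he, he.disc_eq h2]

end ob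

theorem IsIso.disc_eq [FiniteDimensional F V] [FiniteDimensional F U] {e : U ≃ₗ[F] V}
    (h : f'.IsIso f e) (hf : f.Nondeg) (h2 : (2 : F) ≠ 0) : f'.disc = f.disc := by
  obtain ⟨b, hb⟩ := (h.nondeg hf).exists_OB h2 rfl
  have : f.OB (fun i => e (b i)) := ⟨fun i j hij => (h.1 _ _).trans (hb.orth i j hij),
    fun i => h.2 _ ▸ hb.ne i, hb.card.trans e.finrank_eq⟩
  simp only [hb.disc_eq h2, this.disc_eq h2, h.2]

theorem disc_smul [FiniteDimensional F V] (hf : f.Nondeg) (h2 : (2 : F) ≠ 0) {c : F} (hc : c ≠ 0) :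
    (f.smul c).disc = sqc c ^ finrank F V * f.disc := by
  obtain ⟨b, hb⟩ := hf.exists_OB h2 rfl
  have : (f.smul c).OB b := ⟨fun i j hij => by simp [hb.orth i j hij],
    fun i => by simp [hb.ne, hc], hb.card⟩
  rw [hb.disc_eq h2, this.disc_eq h2, sqc_prod _ this.ne, sqc_prod _ hb.ne]
  simp [sqc_mul hc (hb.ne _), Finset.prod_mul_distrib]

theorem IsHyp.disc_eq [FiniteDimensional F V] (hf : f.Nondeg) (h2 : (2 : F) ≠ 0) {u v : V}
    (h : f.IsHyp u v) : f.disc = sqc (-1) * disc (f.res (f.hperp u v)) := by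
  obtain ⟨b, hb⟩ := (h.nondeg_hperp hf).exists_OB h2 rfl
  have h1 : ∀ i, f.B u (b i) = 0 := fun i => (mem_hperp.1 (b i).2).1
  have h3 : ∀ i, f.B v (b i) = 0 := fun i => (mem_hperp.1 (b i).2).2
  have h4 : f.Q (u + v) = 1 := by simpa using h.universal 1
  have h5 : f.Q (-u + v) = -1 := by simpa using h.universal (-1)
  have : f.OB (Sum.elim ![u + v, -u + v] fun i => (b i : V)) := by
    refine ⟨?_, ?_, by simp [← h.finrank_hperp, add_comm]⟩
    · rintro (i | i) (j | j) hij
      · fin_cases i <;> fin_cases j <;> simp_all [h.B11, h.B12, h.B21, h.B22]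
      · fin_cases i <;> simp [h1, h3]
      · fin_cases j <;> simp [B_comm_zero (h1 _), B_comm_zero (h3 _)]
      · exact hb.orth i j (by simpa using hij)
    · rintro (i | i)
      · fin_cases i <;> simp [h4, h5]
      · exact hb.ne i
  rw [hb.disc_eq h2, this.disc_eq h2, ← sqc_mul (by simp) hb.prod_ne]
  simp [h4, h5]

theorem wi_iff_disc [Finite F] (h2 : (2 : F) ≠ 0) (m : ℕ) : ∀ {V : Type*} [AddCommGroup V]
    [Module F V] [FiniteDimensional F V] {f : OS F V}, f.Nondeg → finrank F V = 2 * m →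
    (f.wi m ↔ f.disc = sqc ((-1) ^ m)) := by
  induction m with
  | zero =>
    intro V _ _ _ f hf h
    obtain ⟨b, hb⟩ := hf.exists_OB h2 h
    simp [wi_zero, hb.disc_eq h2]
  | succ m ih =>
    intro V _ _ _ f hf h
    rcases hf.hyp_or_aniso with ⟨u, v, huv⟩ | ha
    · have h1 := huv.finrank_hperp
      rw [wi_succ hf huv, ih (huv.nondeg_hperp hf) (by omega), huv.disc_eq hf h2, pow_succ',
        sqc_mul (by simp) (by simp), mul_right_inj]
    · have := ha.finrank_le
      obtain rfl : m = 0 := by omega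
      obtain ⟨b, hb⟩ := hf.exists_OB (n := 2) h2 h
      refine iff_of_false (aniso_iff.1 ha) ?_
      rw [hb.disc_eq h2, sqc_eq_iff hb.prod_ne (by simp)]
      rintro ⟨t, ht⟩
      simp only [Fin.prod_univ_two, zero_add, pow_one] at ht
      have := ha (t • b 0 + f.Q (b 0) • b 1) (by
        rw [orth_Q_two, hb.orth 0 1 (by simp)]; linear_combination (-f.Q (b 0)) * ht)
      have h3 := congrArg (f.B (b 1)) this
      simp [hb.orth 1 0 (by simp), orth_self, h2, hb.ne] at h3

theorem exists_OB_normal [Finite F] (h2 : (2 : F) ≠ 0) (n : ℕ) : ∀ {V : Type*} [AddCommGroup V]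
    [Module F V] [FiniteDimensional F V] {f : OS F V}, f.Nondeg → finrank F V = n + 1 →
    ∀ d, d ≠ 0 → sqc d = f.disc →
    ∃ e : Fin (n + 1) → V, f.OB e ∧ ∀ i, f.Q (e i) = if i = Fin.last n then d else 1 := by
  induction n with
  | zero =>
    intro V _ _ _ f hf h d hd hd'
    obtain ⟨b, hb⟩ := hf.exists_OB h2 h
    obtain ⟨t, ht, h1⟩ := (sqc_eq_iff' hd hb.prod_ne).1 (hd'.trans (hb.disc_eq h2))
    have : f.Q (t • b 0) = d := by simpa [orth_Q_smul] using h1.symm
    exact ⟨![t • b 0], ⟨by simp [Fin.forall_fin_one], by simp [this, hd], hb.card⟩, by simp [this]⟩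
  | succ n ih =>
    intro V _ _ _ f hf h d hd hd'
    obtain ⟨x, hx⟩ := hf.universal (by omega) 1
    have h1 : f.B x x ≠ 0 := by simp [orth_self, hx, h2]
    have h3 := hf.nondeg_perp (disjoint_perp_singleton h1)
    have h4 := hf.finrank_perp_singleton (v := x) (by rintro rfl; simp at h1)
    have key : ∀ b : Fin (n + 1) → f.perp (Submodule.span F {x}), OB (f.res _) b →
        f.OB (Fin.cons x fun i => (b i : V) : Fin (n + 2) → V) := fun b hb => by
      have h5 : ∀ i, f.B x (b i) = 0 := fun i => mem_perp_singleton.1 (b i).2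
      refine ⟨fun i j hij => ?_, fun i => ?_, by simp [h]⟩
      · induction i using Fin.cases <;> induction j using Fin.cases
        · exact absurd rfl hij
        · exact h5 _
        · exact B_comm_zero (h5 _)
        · exact hb.orth _ _ (by simpa using hij)
      · induction i using Fin.cases
        · simp [hx]
        · exact hb.ne _
    obtain ⟨b, hb⟩ := h3.exists_OB h2 (n := n + 1) (by omega)
    obtain ⟨e, he, he'⟩ := ih h3 (by omega) d hd (by
      rw [hd', (key b hb).disc_eq h2, hb.disc_eq h2, Fin.prod_univ_succ]; simp [hx])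
    refine ⟨_, key e he, fun i => ?_⟩
    induction i using Fin.cases
    · simp [hx, (Fin.last_pos).ne]
    · simpa [← Fin.succ_last] using he' _

theorem isIso_of_disc [Finite F] [FiniteDimensional F V] [FiniteDimensional F U] (h2 : (2 : F) ≠ 0)
    (hf : f.Nondeg) (hf' : f'.Nondeg) (hn : finrank F V = finrank F U) (hd : f.disc = f'.disc) :
    ∃ e, f'.IsIso f e := by
  rcases hV : finrank F V with _ | n
  · have := (finrank_zero_iff (R := F)).1 hV
    have := (finrank_zero_iff (R := F)).1 (hn ▸ hV)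
    exact isIso_of_subsingleton
  obtain ⟨d, hd0, h⟩ := sqc_surj f.disc
  obtain ⟨e, he, h1⟩ := exists_OB_normal h2 n hf hV d hd0 h
  obtain ⟨e', he', h1'⟩ := exists_OB_normal h2 n hf' (hn ▸ hV) d hd0 (h.trans hd)
  obtain ⟨b, rfl⟩ := he.exists_basis h2
  obtain ⟨b', rfl⟩ := he'.exists_basis h2
  refine ⟨_, isIso_of_basis b' b (fun i j => ?_) fun i => (h1 i).trans (h1' i).symm⟩
  by_cases hij : i = j
  · simp [hij, orth_self, h1, h1']
  · rw [he.orth i j hij, he'.orth i j hij]

theorem isIso_smul_of_odd [Finite F] [FiniteDimensional F V] [FiniteDimensional F U] (h2 : (2 : F) ≠ 0)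
    (hf : f.Nondeg) (hf' : f'.Nondeg) (hn : finrank F V = finrank F U) (ho : Odd (finrank F U)) :
    ∃ c e, c ≠ 0 ∧ (f'.smul c).IsIso f e := by
  obtain ⟨c, hc, h⟩ := sqc_surj (f.disc * f'.disc)
  obtain ⟨k, hk⟩ := ho
  obtain ⟨e, he⟩ := isIso_of_disc h2 hf (hf'.smul hc) hn (by
    rw [disc_smul hf' h2 hc, hk, pow_succ, pow_mul, sq, SqC.mul_self, h, one_pow, one_mul, mul_assoc,
      SqC.mul_self, mul_one])
  exact ⟨c, e, hc, he⟩

theorem nonempty_isom_of_odd [Finite F] [FiniteDimensional F V] [FiniteDimensional F U]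
    (h2 : (2 : F) ≠ 0) (hf : f.Nondeg) (hf' : f'.Nondeg) (hn : finrank F V = finrank F U)
    (ho : Odd (finrank F U)) : Nonempty (f'.Isom ≃* f.Isom) := by
  obtain ⟨c, e, hc, h⟩ := isIso_smul_of_odd h2 hf hf' hn ho
  exact ⟨(MulEquiv.subgroupCongr (smul_Isom hc).symm).trans h.isomEquiv⟩

theorem neg1_mem_iff [Finite F] [FiniteDimensional F V] (hf : f.Nondeg) (h2 : (2 : F) ≠ 0) :
    f.neg1 ∈ commutator f.Isom ↔ Even (finrank F V) ∧ f.disc = 1 := by
  obtain ⟨θ, hθ⟩ := exists_isTh hf (rc_of_two h2)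
  rw [← hθ.ker_eq hf (rc_of_two h2), MonoidHom.mem_ker, hθ.neg1' hf h2, Prod.mk_eq_one, ofAdd_eq_one,
    ZMod.natCast_eq_zero_iff_even]

theorem neg1_mem_plus [Fintype F] [FiniteDimensional F V] (hf : f.Nondeg) (h2 : (2 : F) ≠ 0) {m : ℕ}
    (hn : finrank F V = 2 * m) (hw : f.wi m) :
    f.neg1 ∈ commutator f.Isom ↔ Fintype.card F ^ m % 4 = 1 := by
  rw [neg1_mem_iff hf h2, (wi_iff_disc h2 m hf hn).1 hw, sqc_eq_one (by simp),
    (isSquare_neg_one_pow h2 m).1, hn]
  simp

theorem neg1_mem_minus [Fintype F] [FiniteDimensional F V] (hf : f.Nondeg) (h2 : (2 : F) ≠ 0) {m : ℕ}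
    (hn : finrank F V = 2 * m) (hw : ¬ f.wi m) :
    f.neg1 ∈ commutator f.Isom ↔ Fintype.card F ^ m % 4 = 3 := by
  rw [wi_iff_disc h2 m hf hn] at hw
  rw [neg1_mem_iff hf h2, ← (isSquare_neg_one_pow h2 m).2, ← sqc_eq_one (by simp), hn]
  simp only [even_two, Even.mul_right, true_and]
  exact ⟨fun h h' => hw (h.trans h'.symm), fun h => by_contra fun h' => hw (SqC.eq_of_ne_one h' h)⟩

/-! ### Simplicity -/

theorem orth_goodC [FiniteDimensional F V] (hf : f.Nondeg) (hn : 5 ≤ finrank F V) : f.GoodC := by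
  intro p s w h hp hp'
  obtain ⟨z, hz, h1, h2⟩ := exists_Q_ne_orth hf hn h hp (mem_hperp.2 hp')
  exact ⟨z, _, h2, rfl, h1, mem_hperp.1 hz⟩

theorem EOs_le_of_sing [Finite F] [FiniteDimensional F V] (hf : f.Nondeg) (hn : 5 ≤ finrank F V)
    {K : Subgroup f.Isom} (h : ∀ u v, f.Q u = 0 → f.Q v = 0 → f.B u v = 0 → f.ee u v ∈ K) :
    f.EOs ≤ K := by
  refine EOs_le fun u v hu hv => ?_
  by_cases hu0 : u = 0
  · rw [hu0, ee_zero_left]; exact one_mem _
  obtain ⟨u', huu⟩ := hf.exists_partner' hu hu0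
  have h1 : v - f.B u' v • u ∈ f.hperp u u' :=
    mem_hperp.2 ⟨by simp [hv, huu.B11], by simp [huu.B21]⟩
  rw [← sub_add_cancel v (f.B u' v • u), ee_add_smul hu (mem_hperp.1 h1).1]
  have h2 := huu.finrank_hperp
  obtain ⟨a, b, hab⟩ := (huu.nondeg_hperp hf).exists_hyp (by omega)
  obtain ⟨x, y, w, hw, h3⟩ := hab.decomp ⟨_, h1⟩
  have h4 : v - f.B u' v • u = (((-f.Q w) • a + (1 : F) • b + w :) : V) + ((x + f.Q w) • a :) +
      ((y - 1) • b :) := by
    rw [show v - f.B u' v • u = _ from congrArg Subtype.val h3]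
    simp only [Submodule.coe_add, Submodule.coe_smul]
    module
  have h5 : ∀ z : f.hperp u u', f.B u z = 0 := fun z => (mem_hperp.1 z.2).1
  rw [h4, ee_add hu (by rw [map_add, h5, h5, add_zero]) (h5 _), ee_add hu (h5 _) (h5 _)]
  refine mul_mem (mul_mem (h _ _ hu ?_ (h5 _)) (h _ _ hu ?_ (h5 _))) (h _ _ hu ?_ (h5 _))
  · exact (hab.orth_Q _ _ hw).trans (by simp)
  · exact (f.orth_Q_smul _ _).trans (by rw [show f.Q a = 0 from hab.Q1, mul_zero])
  · exact (f.orth_Q_smul _ _).trans (by rw [show f.Q b = 0 from hab.Q2, mul_zero])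

theorem EOs_perfect [Finite F] [FiniteDimensional F V] (hf : f.Nondeg) (hn : 5 ≤ finrank F V) :
    f.EOs ≤ ⁅f.EOs, f.EOs⁆ := by
  refine EOs_le_of_sing hf hn fun u v hu hv huv => ?_
  obtain ⟨z, hz, h1⟩ := f.exists_orth_not_mem ![u, v] (Submodule.span F {u, v})
    (by have := finrank_span_pair_le (F := F) u v; simp; omega)
  obtain ⟨w, h2, h3⟩ := hf.exists_dual hz (-1)
  have h4 : f.B u w = 0 := B_comm_zero (h2 u (Submodule.subset_span (by simp)))
  have h5 : f.B v w = 0 := B_comm_zero (h2 v (Submodule.subset_span (by simp)))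
  have h6 : f.B u z = 0 := h1 0
  have h7 : f.B v z = 0 := h1 1
  have : ⁅f.ee v z, f.ee u w⁆ = f.ee u v := by
    rw [commutatorElement_def, conj_ee, ee_apply hv h7, ee_apply hv h7, ← ee_neg hu h4]
    simp only [B_comm_zero huv, B_comm_zero h6, h5, orth_symm f w z, h3, zero_smul, mul_zero, add_zero,
      sub_zero, neg_smul, one_smul, sub_neg_eq_add]
    rw [← ee_add hu (by simp [h4, huv]) (by simp [h4])]
    congr 1; abel
  exact this ▸ Subgroup.commutator_mem_commutator (ee_mem_EOs _ _) (ee_mem_EOs _ _)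

theorem rc_of_five (hn : 5 ≤ finrank F V) : f.RC := Or.inr (Or.inl (by omega))

/-- `Ω` is the Eichler group. -/
noncomputable def omegaEquiv [Finite F] [FiniteDimensional F V] (hf : f.Nondeg) (hn : 5 ≤ finrank F V) :
    commutator f.Isom ≃* f.EO :=
  (MulEquiv.subgroupCongr (EOs_eq hf (rc_of_five hn) (by omega)).symm).trans
    (Subgroup.subgroupOfEquivOfLe EO_le_Isom)

theorem omega_perfect [Finite F] [FiniteDimensional F V] (hf : f.Nondeg) (hn : 5 ≤ finrank F V) :
    commutator (commutator f.Isom) = ⊤ := by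
  have := EOs_perfect hf hn
  rw [EOs_eq hf (rc_of_five hn) (by omega)] at this
  refine (Subgroup.map_subtype_inj).1 (le_antisymm (Subgroup.map_mono le_top) ?_)
  rwa [Subgroup.map_subtype_commutator, ← MonoidHom.range_eq_map, Subgroup.range_subtype]

theorem omega_simple [Finite F] [FiniteDimensional F V] (hf : f.Nondeg) (hn : 5 ≤ finrank F V) :
    IsSimpleGroup (commutator f.Isom ⧸ Subgroup.center (commutator f.Isom)) := by
  obtain ⟨u, hu, hQ⟩ := f.exists_singular (by omega)
  have := EO_simple hf (orth_goodC hf hn) hu hQ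
    (commutator_eq_top_of_equiv (omegaEquiv hf hn).symm (omega_perfect hf hn))
  exact (quotCenterCongr (omegaEquiv hf hn)).isSimpleGroup

theorem eq_or_of_comm [Finite F] [FiniteDimensional F V] (hf : f.Nondeg) (hn : 5 ≤ finrank F V)
    {g : f.Isom} (h : ∀ x ∈ commutator f.Isom, x * g = g * x) : g = 1 ∨ g = f.neg1 := by
  obtain ⟨u, hu, hQ⟩ := f.exists_singular (by omega)
  rw [← EOs_eq hf (rc_of_five hn) (by omega)] at h
  obtain ⟨c, hc⟩ := scalar_of_comm_EO hf (orth_goodC hf hn) hu hQ g.2 fun x hx =>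
    congrArg Subtype.val (h ⟨x, EO_le_Isom hx⟩ hx)
  obtain ⟨x, hx⟩ := hf.exists_Q_ne' (by omega)
  have := Isom_Q g.2 x
  rw [hc, orth_Q_smul, mul_left_eq_self₀, or_iff_left hx, mul_self_eq_one_iff] at this
  rcases this with rfl | rfl
  · left; ext; simp [hc]
  · right; ext; simp [hc]

open Classical in
theorem card_center_omega [Finite F] [FiniteDimensional F V] (hf : f.Nondeg) (hn : 5 ≤ finrank F V) :
    Nat.card (Subgroup.center (commutator f.Isom)) =
      if (2 : F) ≠ 0 ∧ f.neg1 ∈ commutator f.Isom then 2 else 1 := by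
  have key : ∀ g : Subgroup.center (commutator f.Isom), g.1.1 = 1 ∨ g.1.1 = f.neg1 := fun g =>
    eq_or_of_comm hf hn fun x hx => congrArg Subtype.val (Subgroup.mem_center_iff.1 g.2 ⟨x, hx⟩)
  have : Nontrivial V := Module.nontrivial_of_finrank_pos (R := F) (by omega)
  split_ifs with h
  · refine (Nat.card_eq_two_iff' 1).2 ⟨⟨⟨_, h.2⟩, Subgroup.mem_center_iff.2 fun g =>
      Subtype.ext (neg1_comm _)⟩, fun h' => neg1_ne_one h.1 (congrArg (·.1.1) h'), fun g hg => ?_⟩
    exact Subtype.ext (Subtype.ext ((key g).resolve_left fun h => hg (Subtype.ext (Subtype.ext h))))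
  · have h1 : ∀ g : Subgroup.center (commutator f.Isom), g = 1 := fun g => by
      refine Subtype.ext (Subtype.ext ((key g).elim id fun h' => ?_))
      exact h'.trans (neg1_eq_one (by_contra fun h2 => h ⟨h2, h' ▸ g.1.2⟩))
    exact Nat.card_eq_one_iff_unique.2 ⟨⟨fun a b => (h1 a).trans (h1 b).symm⟩, ⟨1⟩⟩

open Classical in
theorem card_pomega [Finite F] [FiniteDimensional F V] (hf : f.Nondeg) (hn : 5 ≤ finrank F V) :
    2 * (if (2 : F) = 0 then 1 else if f.neg1 ∈ commutator f.Isom then 4 else 2) *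
      Nat.card (commutator f.Isom ⧸ Subgroup.center (commutator f.Isom)) = Nat.card f.Isom := by
  rw [← (commutator f.Isom).index_mul_card, ← card_center_mul_card_quot (commutator f.Isom),
    index_commutator hf (rc_of_five hn) (by omega), card_center_omega hf hn, ← card_SqC]
  by_cases h2 : (2 : F) = 0
  · simp [h2, card_SqC_even h2]
  · rw [card_SqC_odd h2]
    rw [if_neg h2]
    by_cases h : f.neg1 ∈ commutator f.Isom
    · rw [if_pos h, if_pos ⟨h2, h⟩]; ring
    · rw [if_neg h, if_neg fun h' => h h'.2]; ring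

/-! ### Root elements and subgroups of index two -/

theorem ee_commutator [FiniteDimensional F V] (hf : f.Nondeg) (h2 : (2 : F) ≠ 0) {u v : V}
    (hu : f.Q u = 0) (hv : f.B u v = 0) : f.ee u v ∈ commutatorSet f.Isom := by
  by_cases hu0 : u = 0
  · rw [hu0, ee_zero_left]; exact one_mem_commutatorSet _
  obtain ⟨u', huu⟩ := hf.exists_partner' hu hu0
  have h1 : v - f.B u' v • u ∈ f.hperp u u' :=
    mem_hperp.2 ⟨by simp [hv, huu.B11], by simp [huu.B21]⟩
  have h3 := (mem_hperp.1 h1).1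
  rw [← sub_add_cancel v (f.B u' v • u), ee_add_smul hu h3]
  refine ⟨⟨huu.scale 2 h2, huu.scale_mem _ _⟩, f.ee u (v - f.B u' v • u), ?_⟩
  rw [commutatorElement_def, conj_ee, huu.scale_left, huu.scale_perp _ _ h1, ee_smul hu h3, two_smul,
    ee_add hu h3 h3, mul_inv_cancel_right]

/-- The special orthogonal group. -/
noncomputable def SOs (f : OS F V) : Subgroup f.Isom := (LinearEquiv.det.comp f.Isom.subtype).ker

theorem mem_SOs {g : f.Isom} : g ∈ f.SOs ↔ g.1.det = 1 := Iff.rfl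

theorem rf_mul_rf_mem_SOs [FiniteDimensional F V] {a b : V} (ha : f.Q a ≠ 0) (hb : f.Q b ≠ 0) :
    f.rf a * f.rf b ∈ f.SOs := by simp [mem_SOs, det_rf, ha, hb]

theorem units_neg_one_ne (h2 : (2 : F) ≠ 0) : (-1 : Fˣ) ≠ 1 := fun h => h2 (by
  have := congrArg Units.val h
  simp only [Units.val_neg, Units.val_one] at this
  linear_combination -this)

theorem SOs_eq_closure [FiniteDimensional F V] (hf : f.Nondeg) (h2 : (2 : F) ≠ 0) :
    f.SOs = Subgroup.closure {g | ∃ u v, f.Q u ≠ 0 ∧ f.Q v ≠ 0 ∧ g = f.rf u * f.rf v} := by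
  set H := Subgroup.closure {g | ∃ u v, f.Q u ≠ 0 ∧ f.Q v ≠ 0 ∧ g = f.rf u * f.rf v}
  have h1 : H ≤ f.SOs := (Subgroup.closure_le _).2 (by
    rintro _ ⟨u, v, hu, hv, rfl⟩; exact rf_mul_rf_mem_SOs hu hv)
  refine le_antisymm (fun g hg => ?_) h1
  have : g ∈ H ∨ ∃ v, f.Q v ≠ 0 ∧ f.rf v * g ∈ H := by
    clear hg
    induction g using rf_induction hf (rc_of_two h2) with
    | h1 => exact Or.inl (one_mem _)
    | h2 v g hv hg =>
      rcases hg with hg | ⟨w, hw, hg⟩
      · exact Or.inr ⟨v, hv, by rwa [← mul_assoc, rf_mul_self, one_mul]⟩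
      · have := mul_mem (Subgroup.subset_closure ⟨v, w, hv, hw, rfl⟩ : _ ∈ H) hg
        rw [mul_assoc, ← mul_assoc (f.rf w), rf_mul_self, one_mul] at this
        exact Or.inl this
  rcases this with h | ⟨v, hv, h⟩
  · exact h
  · have := mem_SOs.1 ((f.SOs.mul_mem_cancel_right hg).1 (h1 h))
    rw [det_rf hv] at this
    exact absurd this (units_neg_one_ne h2)

theorem commutator_le_SOs : commutator f.Isom ≤ f.SOs := Abelianization.commutator_subset_ker _

theorem index_SOs [FiniteDimensional F V] [Nontrivial V] (hf : f.Nondeg) (h2 : (2 : F) ≠ 0) :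
    f.SOs.index = 2 := by
  obtain ⟨v, hv⟩ := hf.exists_Q_ne
  refine Subgroup.index_eq_two_iff.2 ⟨f.rf v, fun b => ?_⟩
  simp only [mem_SOs, Subgroup.coe_mul, map_mul, det_rf hv]
  rcases det_sq hf b with h | h <;> simp [h, units_neg_one_ne h2]

theorem relIndex_SOs [Finite F] [FiniteDimensional F V] (hf : f.Nondeg) (hR : f.RC)
    (hn : 2 ≤ finrank F V) : (commutator f.Isom).relIndex f.SOs = 2 := by
  have h1 := Subgroup.relIndex_mul_index (commutator_le_SOs (f := f))
  rw [index_commutator hf hR hn, ← card_SqC] at h1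
  have : Nontrivial V := Module.nontrivial_of_finrank_pos (R := F) (by omega)
  by_cases h2 : (2 : F) = 0
  · have : f.SOs = ⊤ := (Subgroup.eq_top_iff' _).2 fun g => (det_sq hf g).elim id fun h =>
      h.trans (Units.ext (by simp only [Units.val_neg, Units.val_one]; linear_combination -h2))
    rw [card_SqC_even h2, this, Subgroup.index_top] at h1
    rw [this]; omega
  · rw [card_SqC_odd h2, index_SOs hf h2] at h1; omega

theorem existsUnique_index_two [Finite F] [FiniteDimensional F V] (hf : f.Nondeg) (hR : f.RC)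
    (hn : 2 ≤ finrank F V) : ∃! H : Subgroup f.SOs, H.index = 2 := by
  refine ⟨_, relIndex_SOs hf hR hn, fun H hH => ?_⟩
  have h1 : (commutator f.Isom).subgroupOf f.SOs ≤ H := by
    rw [← Subgroup.map_subtype_le_map_subtype, Subgroup.map_subgroupOf_eq_of_le commutator_le_SOs]
    refine commutator_le_of_rf hf hR fun a b ha hb => ⟨⟨_, rf_mul_rf_mem_SOs ha hb⟩ *
      ⟨_, rf_mul_rf_mem_SOs ha hb⟩, Subgroup.mul_self_mem_of_index_two hH _, ?_⟩
    simp [commutatorElement_def, rf_inv, mul_assoc]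
  have h3 := Subgroup.relIndex_mul_index h1
  rw [hH, show ((commutator f.Isom).subgroupOf f.SOs).index = 2 from relIndex_SOs hf hR hn] at h3
  exact le_antisymm (Subgroup.relIndex_eq_one.1 (by omega)) h1

theorem card_index_two [Finite F] [FiniteDimensional F V] (hf : f.Nondeg) (h2 : (2 : F) ≠ 0)
    (hn : 2 ≤ finrank F V) : Nat.card {H : Subgroup f.Isom // H.index = 2} = 3 := by
  obtain ⟨θ, hθ⟩ := exists_isTh hf (rc_of_two h2)
  rw [card_index_two_of_surj θ (hθ.surj hf hn) fun H hH =>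
    hθ.ker_eq hf (rc_of_two h2) ▸ commutator_le_of_index_two hH]
  exact card_index_two_klein (by simp [Nat.card_prod, card_SqC_odd h2]) TG.mul_self

theorem plane_det_neg (hf : f.Nondeg) (h2 : (2 : F) ≠ 0) (hn : finrank F V = 2) {g : f.Isom}
    (hg : g.1.det = -1) : ∃ v, f.Q v ≠ 0 ∧ g = f.rf v := by
  have : FiniteDimensional F V := Module.finite_of_finrank_pos (by omega)
  obtain ⟨e, he⟩ := hf.exists_OB h2 hn
  obtain ⟨b, rfl⟩ := he.exists_basis h2
  have h01 := he.orth 0 1 (by simp)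
  have hne := units_neg_one_ne h2
  have h0 : ∀ k : f.Isom, k.1 (b 0) = b 0 → k.1.det = 1 → k = 1 := by
    intro k hk hd
    have e1 := Isom_B k.2 (b 0) (b 1)
    have e2 := Isom_Q k.2 (b 1)
    rw [← b.sum_repr (k.1 (b 1)), Fin.sum_univ_two] at e1 e2
    have e3 : b.repr (k.1 (b 1)) 0 = 0 := by simpa [hk, h01, orth_self, h2, he.ne] using e1
    rw [e3, zero_smul, zero_add, orth_Q_smul, mul_left_eq_self₀, or_iff_left (he.ne 1),
      mul_self_eq_one_iff] at e2
    have e4 := b.sum_repr (k.1 (b 1))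
    rw [Fin.sum_univ_two, e3] at e4
    rcases e2 with e2 | e2 <;> rw [e2] at e4
    · exact Subtype.ext (b.ext' fun i => by fin_cases i <;> simp [hk, ← e4])
    · have : k = f.rf (b 1) := Subtype.ext (b.ext' fun i => by
        fin_cases i <;> simp [hk, ← e4, rf_orth (B_comm_zero h01), rf_self (he.ne 1)])
      rw [this, det_rf (he.ne 1)] at hd
      exact absurd hd hne
  have h1 : ∀ (k : f.Isom), k.1.det = -1 → f.Q (k.1 (b 0) - b 0) ≠ 0 ∨ k.1 (b 0) = b 0 →
      ∃ v, f.Q v ≠ 0 ∧ k = f.rf v := by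
    rintro k hk (h | h)
    · refine ⟨_, h, ?_⟩
      rw [← rf_inv, eq_comm, inv_eq_iff_mul_eq_one]
      exact h0 _ (rf_sub (Isom_Q k.2 _) h) (by simp [hk, det_rf h])
    · refine ⟨_, he.ne 1, ?_⟩
      rw [← rf_inv, eq_comm, inv_eq_iff_mul_eq_one]
      exact h0 _ (by simp [h, rf_orth (B_comm_zero h01)]) (by simp [hk, det_rf (he.ne 1)])
  by_cases h : f.Q (g.1 (b 0) - b 0) = 0
  swap; · exact h1 g hg (Or.inl h)
  have h3 : (f.neg1).1.det = 1 := by
    have : f.neg1 = f.rf (b 0) * f.rf (b 1) := Subtype.ext (b.ext' fun i => by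
      fin_cases i <;> simp [rf_orth h01, rf_orth (B_comm_zero h01), rf_self (he.ne _)])
    exact this ▸ rf_mul_rf_mem_SOs (he.ne _) (he.ne _)
  obtain ⟨v, hv, h4⟩ := h1 (f.neg1 * g) (by simp [h3, hg]) (Or.inl (by
    rw [orth_Q_sub, Isom_Q g.2] at h
    rw [orth_Q_sub, Isom_Q (f.neg1 * g).2]
    simp only [Subgroup.coe_mul, LinearEquiv.mul_apply, neg1_apply, map_neg, LinearMap.neg_apply]
    intro h5
    exact mul_ne_zero (mul_ne_zero h2 h2) (he.ne 0) (by linear_combination h + h5)))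
  have h7 := hf.finrank_perp_singleton (v := v) (by rintro rfl; simp at hv)
  obtain ⟨⟨w, h5⟩, h6⟩ := (hf.nondeg_perp (disjoint_perp_singleton (v := v)
    (by simp [orth_self, h2, hv]))).exists_Q_ne' (by omega)
  have h6 : f.Q w ≠ 0 := h6
  rw [mem_perp_singleton] at h5
  have hvw : f.OB ![v, w] := by
    refine ⟨fun i j hij => ?_, fun i => ?_, by simp [hn]⟩
    · fin_cases i <;> fin_cases j <;> simp_all [B_comm_zero h5]
    · fin_cases i <;> simp [hv, h6]
  obtain ⟨c, hc⟩ := hvw.exists_basis h2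
  have h8 : ∀ x, g.1 x = -(f.rf v).1 x := fun x => by rw [← h4]; simp
  exact ⟨w, h6, Subtype.ext (c.ext' fun i => by
    fin_cases i <;> simp [hc, h8, rf_self hv, rf_orth h5, rf_orth (B_comm_zero h5), rf_self h6])⟩

theorem span_class [Fintype F] [FiniteDimensional F V] (hf : f.Nondeg) (h2 : (2 : F) ≠ 0)
    (hn : 3 ≤ finrank F V ∨ (finrank F V = 2 ∧ Fintype.card F ≠ 3)) {c : F} (hc : c ≠ 0) :
    Submodule.span F {w | f.Q w = c} = ⊤ := by
  rw [← hf.perp_perp (Submodule.span F _), eq_top_iff]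
  rintro y - z hz
  rw [mem_perp_span] at hz
  suffices z = 0 by simp [this]
  by_contra h0
  by_cases hQ : f.Q z = 0
  · obtain ⟨z', h⟩ := hf.exists_partner' hQ h0
    simpa [h.B11, h.B21] using hz _ (h.universal c)
  have h1 : f.B z z ≠ 0 := by simp [orth_self, h2, hQ]
  have h3 := hf.nondeg_perp (disjoint_perp_singleton h1)
  have h4 := hf.finrank_perp_singleton h0
  rcases hn with hn | ⟨hn, hq⟩
  · obtain ⟨w, hw⟩ := h3.universal (by omega) (c - f.Q z)
    have h5 : f.B z w = 0 := mem_perp_singleton.1 w.2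
    have := hz (z + w) (by rw [Set.mem_setOf, orth_Q_add, show f.Q w = _ from hw, h5]; ring)
    simp [h1, B_comm_zero h5] at this
  · have h5 := card_Q_even c 1 hf hn
    obtain ⟨w, hw, h6⟩ := finrank_eq_one_iff'.1 (show finrank F (f.perp (Submodule.span F {z})) = 1 by omega)
    have h7 : Nat.card {x // f.Q x = c} ≤ 2 := by
      rcases isEmpty_or_nonempty {x // f.Q x = c} with h | ⟨⟨x, hx⟩⟩
      · simp
      refine (Nat.card_le_card_of_surjective ![⟨x, hx⟩, ⟨-x, by rw [Q_neg, hx]⟩] ?_).trans (by simp)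
      rintro ⟨y, hy⟩
      obtain ⟨s, hs⟩ := h6 ⟨x, mem_perp_singleton.2 (B_comm_zero (hz x hx))⟩
      obtain ⟨t, ht⟩ := h6 ⟨y, mem_perp_singleton.2 (B_comm_zero (hz y hy))⟩
      obtain rfl : s • (w : V) = x := congrArg Subtype.val hs
      obtain rfl : t • (w : V) = y := congrArg Subtype.val ht
      have := hx.trans hy.symm
      rw [orth_Q_smul, orth_Q_smul, mul_left_inj' (by
        intro h; rw [orth_Q_smul, h, mul_zero] at hx; exact hc hx.symm), mul_self_eq_mul_self_iff] at this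
      rcases this with rfl | rfl
      · exact ⟨0, rfl⟩
      · exact ⟨1, by simp⟩
    obtain ⟨k, hk⟩ := odd_of_two_ne_zero h2
    have h8 := Fintype.one_lt_card (α := F)
    rw [if_neg hc, Nat.card_eq_fintype_card (α := F)] at h5
    have h9 : (5 : ℤ) ≤ Fintype.card F := by omega
    have h10 : (Nat.card {x // f.Q x = c} : ℤ) ≤ 2 := by exact_mod_cast h7
    unfold sg at h5
    generalize (Fintype.card F : ℤ) = q at *
    generalize (Nat.card {x // f.Q x = c} : ℤ) = N at *
    have h11 : q * N ≤ q * 2 := mul_le_mul_of_nonneg_left h10 (by omega)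
    split_ifs at h5 <;> norm_num at h5 <;> nlinarith

theorem index_closure_class [Fintype F] [FiniteDimensional F V] (hf : f.Nondeg) (h2 : (2 : F) ≠ 0)
    (hn : finrank F V = 2 ∨ 5 ≤ finrank F V ∨ (finrank F V = 4 ∧ Fintype.card F ≠ 3)) {c : F}
    (hc : c ≠ 0) :
    (Subgroup.closure {g | ∃ v t, t ≠ 0 ∧ f.Q v = c * t ^ 2 ∧ g = f.rf v}).index = 2 := by
  set H := Subgroup.closure {g | ∃ v t, t ≠ 0 ∧ f.Q v = c * t ^ 2 ∧ g = f.rf v}
  have hR := rc_of_two (f := f) h2
  obtain ⟨θ, hθ⟩ := exists_isTh hf hR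
  have hH : ∀ v, f.Q v ≠ 0 → sqc (f.Q v) = sqc c → f.rf v ∈ H := fun v hv h => by
    obtain ⟨t, ht, h⟩ := (sqc_eq_iff' hv hc).1 h
    exact Subgroup.subset_closure ⟨v, t, ht, by rw [h]; ring, rfl⟩
  set K := Subgroup.zpowers ((Multiplicative.ofAdd 1, sqc c) : TG F)
  have hK : ∀ t ∈ K, t = 1 ∨ t = (Multiplicative.ofAdd 1, sqc c) := fun t ⟨k, hk⟩ => by
    have := zpow_eq_zpow_emod' (x := ((Multiplicative.ofAdd 1, sqc c) : TG F)) k (n := 2)
      (by rw [sq, TG.mul_self])
    rcases Int.emod_two_eq_zero_or_one k with h | h <;> simp_all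
  have h1 : K.index = 2 := by
    have := K.card_mul_index
    rw [Nat.card_zpowers, orderOf_eq_prime (p := 2) (by rw [sq, TG.mul_self])
      (fun h => absurd (congrArg Prod.fst h) (by simp))] at this
    simp only [Nat.card_prod, card_SqC_odd h2, Nat.card_eq_fintype_card, Fintype.card_multiplicative,
      ZMod.card] at this
    omega
  rw [← h1, ← Subgroup.index_comap_of_surjective _ (hθ.surj hf (by omega))]
  congr 1
  refine le_antisymm ((Subgroup.closure_le _).2 ?_) fun g hg => ?_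
  · rintro _ ⟨v, t, ht, h, rfl⟩
    have hv : f.Q v ≠ 0 := by simp [h, hc, ht]
    rw [SetLike.mem_coe, Subgroup.mem_comap, hθ v hv, (sqc_eq_iff' hv hc).2 ⟨t, ht, by rw [h]; ring⟩]
    exact Subgroup.mem_zpowers _
  obtain ⟨w, hw⟩ := hf.universal (by omega) c
  have hw0 : f.Q w ≠ 0 := by rwa [hw]
  have hwH := hH w hw0 (by rw [hw])
  have hθw : θ (f.rf w) = (Multiplicative.ofAdd 1, sqc c) := by rw [hθ w hw0, hw]
  suffices ∀ g, θ g = 1 → g ∈ H by
    rcases hK _ hg with h | h
    · exact this g h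
    · exact (H.mul_mem_cancel_right hwH).1 (this _ (by rw [map_mul, h, hθw, TG.mul_self]))
  intro g hg
  rcases hn with hn | hn
  · obtain ⟨v, hv, h⟩ := plane_det_neg hf h2 hn (g := g * f.rf w) (by
      simp [det_rf hw0, (hθ.det_eq_one hf h2 g).2 (by rw [hg]; rfl)])
    refine (H.mul_mem_cancel_right hwH).1 (h ▸ hH v hv ?_)
    have := hθ v hv
    rw [← h, map_mul, hg, one_mul, hθw] at this
    exact (congrArg Prod.snd this).symm
  rw [← MonoidHom.mem_ker, hθ.ker_eq hf hR, ← EOs_eq hf hR (by omega)] at hg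
  refine EOs_le (fun u v hu hv => ?_) hg
  by_cases hu0 : u = 0
  · rw [hu0, ee_zero_left]; exact one_mem _
  obtain ⟨u', huu⟩ := hf.exists_partner' hu hu0
  have h3 : v - f.B u' v • u ∈ f.hperp u u' :=
    mem_hperp.2 ⟨by simp [hv, huu.B11], by simp [huu.B21]⟩
  rw [← sub_add_cancel v (f.B u' v • u), ee_add_smul hu (mem_hperp.1 h3).1]
  have h4 := huu.finrank_hperp
  have h5 : ∀ z : f.hperp u u', f.B u z = 0 := fun z => (mem_hperp.1 z.2).1
  have : ∀ z : f.hperp u u', ∀ t : F, f.ee u (t • z) ∈ H := fun z => by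
    have hz := (span_class (huu.nondeg_hperp hf) h2 (by omega) hc).ge (Submodule.mem_top (x := z))
    induction hz using Submodule.span_induction with
    | mem z hz =>
      intro t
      by_cases ht : t = 0
      · rw [ht, zero_smul, ee_zero]; exact one_mem _
      have h6 : f.Q (t • z) = t * t * c := by rw [orth_Q_smul, show f.Q z = c from hz]
      have h7 : f.Q (t • z + f.Q (t • z) • u) = t * t * c := by
        simp [orth_Q_add, h6, orth_Q_smul _ _ u, hu, B_comm_zero (h5 z)]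
      rw [ee_eq_rf hu (by simp [h5]) (by simp [h6, ht, hc])]
      exact mul_mem (Subgroup.subset_closure ⟨_, t, ht, by rw [h6]; ring, rfl⟩)
        (Subgroup.subset_closure ⟨_, t, ht, by rw [h7]; ring, rfl⟩)
    | zero => intro t; simp [ee_zero]
    | add x y _ _ hx hy =>
      intro t
      rw [Submodule.coe_add, smul_add, ee_add hu (by simp [h5]) (by simp [h5])]
      exact mul_mem (hx t) (hy t)
    | smul a x _ hx => intro t; rw [Submodule.coe_smul, smul_smul]; exact hx _
  simpa using this ⟨_, h3⟩ 1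

end FS

end Cfsg.Agent.Class
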