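import Cfsg.Agent.Class.Dick1

/-! The projective line and the action of `PGL₂`. -/

set_option autoImplicit false

namespace Cfsg.Agent.Class

open MulAction Matrix Matrix.ProjGenLinGroup
open scoped MatrixGroups LinearAlgebra.Projectivization

/-- The projective line. -/
abbrev P1 (F : Type*) [Field F] := ℙ F (Fin 2 → F)

variable {F : Type*} [Field F]

theorem vec2_ne_zero {v : Fin 2 → F} : v ≠ 0 ↔ v 0 ≠ 0 ∨ v 1 ≠ 0 := by
  rw [ne_eq, funext_iff, Fin.forall_fin_two]; tauto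

theorem pmk_eq_iff {v w : Fin 2 → F} {hv : v ≠ 0} {hw : w ≠ 0} :
    Projectivization.mk F v hv = Projectivization.mk F w hw ↔ v 0 * w 1 = v 1 * w 0 := by
  rw [Projectivization.mk_eq_mk_iff']
  constructor
  · rintro ⟨a, rfl⟩; simp; ring
  · intro h
    rcases vec2_ne_zero.1 hw with h1 | h1
    · refine ⟨v 0 / w 0, funext (Fin.forall_fin_two.2 ⟨?_, ?_⟩)⟩ <;> simp <;> field_simp
      linear_combination h
    · refine ⟨v 1 / w 1, funext (Fin.forall_fin_two.2 ⟨?_, ?_⟩)⟩ <;> simp <;> field_simp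
      linear_combination -h

variable (F) in
/-- The point at infinity. -/
def pinf : P1 F := Projectivization.mk F ![1, 0] (vec2_ne_zero.2 (by simp))

/-- Affine points. -/
def ppt (a : F) : P1 F := Projectivization.mk F ![a, 1] (vec2_ne_zero.2 (by simp))

theorem ppt_ne_pinf (a : F) : ppt a ≠ pinf F := by simp [ppt, pinf, pmk_eq_iff]

theorem ppt_inj {a b : F} : ppt a = ppt b ↔ a = b := by simp [ppt, pmk_eq_iff]

theorem ppt_injective : Function.Injective (ppt : F → P1 F) := fun _ _ => ppt_inj.1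

theorem p1_cases (x : P1 F) : x = pinf F ∨ ∃ a, x = ppt a := by
  induction x using Projectivization.ind with | h v hv =>
  by_cases h : v 1 = 0
  · left; simp [pinf, pmk_eq_iff, h]
  · right; exact ⟨v 0 / v 1, by simp [ppt, pmk_eq_iff]; field_simp⟩

theorem card_P1 [Finite F] : Nat.card (P1 F) = Nat.card F + 1 :=
  Projectivization.card_of_finrank_two F (Fin 2 → F) (by simp)

theorem det_ne (A : GL (Fin 2) F) : A 0 0 * A 1 1 - A 0 1 * A 1 0 ≠ 0 := by
  have := A.det_ne_zero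
  rwa [det_fin_two] at this

/-- An invertible matrix given by its entries. -/
noncomputable def gl2 (a b c d : F) (h : a * d - b * c ≠ 0) : GL (Fin 2) F :=
  GeneralLinearGroup.mkOfDetNeZero !![a, b; c, d] (by rwa [det_fin_two_of])

@[simp] theorem gl2_coe (a b c d : F) (h : a * d - b * c ≠ 0) :
    (gl2 a b c d h : Matrix (Fin 2) (Fin 2) F) = !![a, b; c, d] := rfl

/-- A matrix of determinant one given by its entries. -/
def sl2 (a b c d : F) (h : a * d - b * c = 1) : SL(2, F) :=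
  ⟨!![a, b; c, d], by rwa [det_fin_two_of]⟩

@[simp] theorem sl2_coe (a b c d : F) (h : a * d - b * c = 1) :
    (sl2 a b c d h : Matrix (Fin 2) (Fin 2) F) = !![a, b; c, d] := rfl

theorem pgl_eq_iff {ι : Type*} [Fintype ι] [DecidableEq ι] {A B : GL ι F} :
    mk A = mk B ↔ ∃ u : F, u ≠ 0 ∧ (B : Matrix ι ι F) = u • (A : Matrix ι ι F) := by
  rw [mk_eq_mk_iff]
  have : ∀ u : Fˣ, ((A * GeneralLinearGroup.scalar ι u : GL ι F) : Matrix ι ι F) =
      (u : F) • (A : Matrix ι ι F) := fun u => by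
    ext i j; simp [mul_comm]
  constructor
  · rintro ⟨u, rfl⟩; exact ⟨u, u.ne_zero, this u⟩
  · rintro ⟨u, hu, h⟩; exact ⟨Units.mk0 u hu, Units.ext ((this _).trans h.symm)⟩

theorem pgl_eq_one_iff {A : GL (Fin 2) F} : mk A = 1 ↔ A 0 1 = 0 ∧ A 1 0 = 0 ∧ A 0 0 = A 1 1 := by
  rw [← mk_one, eq_comm, pgl_eq_iff]
  constructor
  · rintro ⟨u, -, h⟩; simp [h]
  · rintro ⟨h1, h2, h3⟩
    refine ⟨A 0 0, fun h => det_ne A (by simp [h, h1]), ?_⟩
    ext i j
    fin_cases i <;> fin_cases j <;> simp [h1, h2, h3]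

theorem pgl_smul (A : GL (Fin 2) F) (x : P1 F) : mk A • x = A • x := rfl

theorem gl_smul_pmk_iff {A : GL (Fin 2) F} {v w : Fin 2 → F} {hv : v ≠ 0} {hw : w ≠ 0} :
    A • Projectivization.mk F v hv = Projectivization.mk F w hw ↔
      (A 0 0 * v 0 + A 0 1 * v 1) * w 1 = (A 1 0 * v 0 + A 1 1 * v 1) * w 0 := by
  rw [Projectivization.smul_mk, pmk_eq_iff]; simp

theorem smul_pinf_pinf {A : GL (Fin 2) F} : A • pinf F = pinf F ↔ A 1 0 = 0 := by
  rw [pinf, gl_smul_pmk_iff]; simp [eq_comm]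

theorem smul_pinf_ppt {A : GL (Fin 2) F} {a : F} : A • pinf F = ppt a ↔ A 0 0 = A 1 0 * a := by
  rw [pinf, ppt, gl_smul_pmk_iff]; simp

theorem smul_ppt_pinf {A : GL (Fin 2) F} {a : F} :
    A • ppt a = pinf F ↔ A 1 0 * a + A 1 1 = 0 := by
  rw [pinf, ppt, gl_smul_pmk_iff]; simp [eq_comm]

theorem smul_ppt_ppt {A : GL (Fin 2) F} {a b : F} :
    A • ppt a = ppt b ↔ A 0 0 * a + A 0 1 = (A 1 0 * a + A 1 1) * b := by
  rw [ppt, ppt, gl_smul_pmk_iff]; simp

theorem pgl_three (g : PGL(2, F)) (x y z : P1 F) (hxy : x ≠ y) (hxz : x ≠ z) (hyz : y ≠ z)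
    (hx : g • x = x) (hy : g • y = y) (hz : g • z = z) : g = 1 := by
  cases g with | mk A =>
  induction x using Projectivization.ind with | h u hu =>
  induction y using Projectivization.ind with | h v hv =>
  induction z using Projectivization.ind with | h w hw =>
  rw [pgl_smul, gl_smul_pmk_iff] at hx hy hz
  rw [ne_eq, pmk_eq_iff, ← sub_eq_zero] at hxy hxz hyz
  have hD := mul_ne_zero (mul_ne_zero hxy hxz) hyz
  rw [pgl_eq_one_iff]
  refine ⟨mul_right_cancel₀ hD ?_, mul_right_cancel₀ hD ?_, mul_right_cancel₀ hD ?_⟩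
  · linear_combination (v 0 * w 0 * (v 0 * w 1 - v 1 * w 0)) * hx -
      (u 0 * w 0 * (u 0 * w 1 - u 1 * w 0)) * hy + (u 0 * v 0 * (u 0 * v 1 - u 1 * v 0)) * hz
  · linear_combination -(v 1 * w 1 * (v 0 * w 1 - v 1 * w 0)) * hx +
      (u 1 * w 1 * (u 0 * w 1 - u 1 * w 0)) * hy - (u 1 * v 1 * (u 0 * v 1 - u 1 * v 0)) * hz
  · linear_combination -((v 0 * w 1 + v 1 * w 0) * (v 0 * w 1 - v 1 * w 0)) * hx +
      ((u 0 * w 1 + u 1 * w 0) * (u 0 * w 1 - u 1 * w 0)) * hy -
      ((u 0 * v 1 + u 1 * v 0) * (u 0 * v 1 - u 1 * v 0)) * hz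

theorem gl_three_trans (x y z : P1 F) (hxy : x ≠ y) (hxz : x ≠ z) (hyz : y ≠ z) :
    ∃ A : GL (Fin 2) F, A • pinf F = x ∧ A • ppt 0 = y ∧ A • ppt 1 = z := by
  induction x using Projectivization.ind with | h u hu =>
  induction y using Projectivization.ind with | h v hv =>
  induction z using Projectivization.ind with | h w hw =>
  rw [ne_eq, pmk_eq_iff, ← sub_eq_zero] at hxy hxz hyz
  refine ⟨gl2 ((v 1 * w 0 - v 0 * w 1) * u 0) ((u 0 * w 1 - u 1 * w 0) * v 0)
    ((v 1 * w 0 - v 0 * w 1) * u 1) ((u 0 * w 1 - u 1 * w 0) * v 1) ?_, ?_, ?_, ?_⟩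
  · intro h
    apply mul_ne_zero (mul_ne_zero hxy hxz) hyz
    linear_combination -h
  all_goals
    simp only [pinf, ppt, gl_smul_pmk_iff]
    simp
    ring

theorem sl_two_trans (x y : P1 F) (hxy : x ≠ y) :
    ∃ A : SL(2, F), (A : GL (Fin 2) F) • pinf F = x ∧ (A : GL (Fin 2) F) • ppt 0 = y := by
  induction x using Projectivization.ind with | h u hu =>
  induction y using Projectivization.ind with | h v hv =>
  rw [ne_eq, pmk_eq_iff, ← sub_eq_zero] at hxy
  refine ⟨sl2 (u 0) (v 0 / (u 0 * v 1 - u 1 * v 0)) (u 1) (v 1 / (u 0 * v 1 - u 1 * v 0)) ?_, ?_, ?_⟩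
  · field_simp
  all_goals
    simp only [pinf, ppt, gl_smul_pmk_iff]
    simp
    ring

theorem p1_exists_ne (x : P1 F) : ∃ y, y ≠ x := by
  by_cases h : x = pinf F
  · exact ⟨ppt 0, h ▸ ppt_ne_pinf 0⟩
  · exact ⟨pinf F, Ne.symm h⟩

theorem p1_exists_ne_ne (x y : P1 F) : ∃ z, z ≠ x ∧ z ≠ y := by
  have h1 := ppt_ne_pinf (0 : F)
  have h2 := ppt_ne_pinf (1 : F)
  have h3 : ppt (0 : F) ≠ ppt 1 := by simp [ppt_inj]
  by_contra h
  push Not at h
  have a := h (pinf F)
  have b := h (ppt 0)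
  have c := h (ppt 1)
  generalize pinf F = u at *
  generalize ppt (0 : F) = v at *
  generalize ppt (1 : F) = w at *
  by_cases e1 : u = x <;> by_cases e2 : v = x <;> by_cases e3 : w = x <;> simp_all

theorem sl_trans (x : P1 F) : ∃ A : SL(2, F), (A : GL (Fin 2) F) • pinf F = x := by
  obtain ⟨y, hy⟩ := p1_exists_ne x
  obtain ⟨A, h, -⟩ := sl_two_trans x y hy.symm
  exact ⟨A, h⟩

theorem upper_pow {A : GL (Fin 2) F} (h1 : A 1 0 = 0) (h2 : A 0 0 = A 1 1) (n : ℕ) :
    ((A ^ (n + 1) : GL (Fin 2) F) : Matrix (Fin 2) (Fin 2) F) =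
      !![A 0 0 ^ (n + 1), (n + 1) * A 0 0 ^ n * A 0 1; 0, A 0 0 ^ (n + 1)] := by
  induction n with
  | zero => ext i j; fin_cases i <;> fin_cases j <;> simp [h1, h2]
  | succ n ih =>
    rw [pow_succ, Units.val_mul, ih]
    ext i j; fin_cases i <;> fin_cases j <;> simp [mul_apply, h1, ← h2] <;> ring

theorem chi_pinf (p : ℕ) [Fact p.Prime] [CharP F p] : Chi F p PGL(2, F) (pinf F) := by
  let B : Subgroup (GL (Fin 2) F) := stabilizer _ (pinf F)
  have hB : ∀ A : B, A.1 1 0 = 0 := fun A => smul_pinf_pinf.1 A.2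
  have h0 : ∀ A : B, A.1 0 0 ≠ 0 := fun A h => det_ne A.1 (by simp [h, hB])
  have h1 : ∀ A : B, A.1 1 1 ≠ 0 := fun A h => det_ne A.1 (by simp [h, hB])
  let χ₀ : B →* F :=
    { toFun A := A.1 0 0 / A.1 1 1
      map_one' := by simp
      map_mul' A A' := by simp [mul_apply, hB]; ring }
  have hχ : ∀ A : B, χ₀.toHomUnits A = 1 ↔ A.1 0 0 = A.1 1 1 := fun A => by
    rw [Units.ext_iff]; exact div_eq_one_iff_eq (h1 A)
  let π : B →* stabilizer PGL(2, F) (pinf F) := (mk.comp B.subtype).codRestrict _ fun A => A.2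
  have hπ : Function.Surjective π := by
    rintro ⟨g, hg⟩
    cases g with | mk A => exact ⟨⟨A, hg⟩, rfl⟩
  have hk : π.ker ≤ χ₀.toHomUnits.ker := fun A hA =>
    (hχ A).2 (pgl_eq_one_iff.1 (congrArg Subtype.val hA)).2.2
  have he : ∀ A, π.liftOfSurjective hπ ⟨_, hk⟩ (π A) = χ₀.toHomUnits A := fun A =>
    π.liftOfRightInverse_comp_apply _ _ ⟨_, hk⟩ A
  refine ⟨π.liftOfSurjective hπ ⟨_, hk⟩, fun g => ?_, fun g => ?_, fun g g' => ?_⟩
  · obtain ⟨A, rfl⟩ := hπ g
    rw [he, hχ]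
    change _ ↔ mk A.1 = 1 ∨ ∀ y : P1 F, A.1 • y = y → y = pinf F
    rw [pgl_eq_one_iff]
    constructor
    · intro h
      by_cases h2 : A.1 0 1 = 0
      · exact Or.inl ⟨h2, hB A, h⟩
      · refine Or.inr fun y hy => (p1_cases y).resolve_right ?_
        rintro ⟨a, rfl⟩
        rw [smul_ppt_ppt, hB, h] at hy
        exact h2 (by linear_combination hy)
    · rintro (h | h)
      · exact h.2.2
      · by_contra h2
        refine ppt_ne_pinf (A.1 0 1 / (A.1 1 1 - A.1 0 0)) (h _ ?_)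
        have := sub_ne_zero.2 (Ne.symm h2)
        rw [smul_ppt_ppt, hB]; field_simp; ring
  · obtain ⟨A, rfl⟩ := hπ g
    rw [he, hχ]
    intro h
    change (mk A.1) ^ p = 1
    obtain ⟨n, hn⟩ : ∃ n, p = n + 1 := ⟨p - 1, by have := (Fact.out : p.Prime).two_le; omega⟩
    have h2 : (n : F) + 1 = 0 := by rw [← CharP.cast_eq_zero F p, hn]; simp
    rw [← map_pow, pgl_eq_one_iff, hn, upper_pow (hB A) h]
    simp [h2]
  · obtain ⟨A, rfl⟩ := hπ g
    obtain ⟨A', rfl⟩ := hπ g'
    rw [he, hχ, he, hχ]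
    intro h h'
    change mk A.1 * mk A'.1 = mk A'.1 * mk A.1
    rw [← map_mul, ← map_mul]
    congr 1
    ext i j; fin_cases i <;> fin_cases j <;> simp [mul_apply, hB, h, h'] <;> ring

theorem dk_pgl (p : ℕ) [Fact p.Prime] [CharP F p] : DK F p PGL(2, F) (P1 F) where
  three := pgl_three
  chi x := by
    obtain ⟨A, rfl⟩ := sl_trans x
    exact (chi_pinf p).smul (mk (A : GL (Fin 2) F))

theorem pgl_ex [IsAlgClosed F] (g : PGL(2, F)) : ∃ x : P1 F, g • x = x := by
  cases g with | mk A =>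
  by_cases h : A 1 0 = 0
  · exact ⟨pinf F, smul_pinf_pinf.2 h⟩
  · obtain ⟨a, ha⟩ := IsAlgClosed.exists_root (Polynomial.C (A 1 0) * Polynomial.X ^ 2 +
      Polynomial.C (A 1 1 - A 0 0) * Polynomial.X + Polynomial.C (-A 0 1))
      (by rw [Polynomial.degree_quadratic h]; norm_num)
    refine ⟨ppt a, smul_ppt_ppt.2 ?_⟩
    simp at ha
    linear_combination -ha

section map
variable {R : Type*} [Field R] (j : R →+* F)

/-- The map of projective lines induced by a field embedding. -/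
def pmap : P1 R → P1 F :=
  Projectivization.map (σ := j) ⟨⟨fun v => j ∘ v, fun _ _ => by ext; simp⟩, fun _ _ => by ext; simp⟩
    (j.injective.comp_left)

theorem pmap_mk (v : Fin 2 → R) (hv : v ≠ 0) : pmap j (Projectivization.mk R v hv) =
    Projectivization.mk F (j ∘ v) (by simpa [vec2_ne_zero] using hv) := rfl

@[simp] theorem pmap_pinf : pmap j (pinf R) = pinf F := by simp [pinf, pmap_mk, pmk_eq_iff]

@[simp] theorem pmap_ppt (a : R) : pmap j (ppt a) = ppt (j a) := by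
  simp [ppt, pmap_mk, pmk_eq_iff]

theorem pmap_injective : Function.Injective (pmap j) := by
  intro x y h
  rcases p1_cases x with rfl | ⟨a, rfl⟩ <;> rcases p1_cases y with rfl | ⟨b, rfl⟩
  · rfl
  · simp [(ppt_ne_pinf _).symm] at h
  · simp [ppt_ne_pinf] at h
  · rw [j.injective (by simpa [ppt_inj] using h : j a = j b)]

theorem pmap_smul (A : GL (Fin 2) R) (x : P1 R) :
    pmap j (A • x) = GeneralLinearGroup.map j A • pmap j x := by
  induction x using Projectivization.ind with | h v hv =>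
  rw [Projectivization.smul_mk, pmap_mk, pmap_mk, eq_comm, gl_smul_pmk_iff]
  simp [GeneralLinearGroup.map_apply]; ring

theorem pmap_smul' (g : PGL(2, R)) (x : P1 R) :
    pmap j (g • x) = ProjGenLinGroup.map j g • pmap j x := by
  cases g with | mk A => exact pmap_smul j A x

theorem pgl_map_injective {ι : Type*} [Fintype ι] [DecidableEq ι] :
    Function.Injective (ProjGenLinGroup.map (n := ι) j) := by
  rw [injective_iff_map_eq_one]
  intro g hg
  cases g with | mk A =>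
  rw [map_mk, ← mk_one, eq_comm, pgl_eq_iff] at hg
  obtain ⟨u, hu, h⟩ := hg
  rw [← mk_one, eq_comm, pgl_eq_iff]
  rcases isEmpty_or_nonempty ι with h0 | ⟨⟨i⟩⟩
  · exact ⟨1, one_ne_zero, Subsingleton.elim _ _⟩
  have h1 : ∀ a b, j (A a b) = u * (1 : Matrix ι ι F) a b := fun a b => congrFun (congrFun h a) b
  have h2 : j (A i i) = u := by simpa using h1 i i
  refine ⟨A i i, fun h0 => hu (by simp [← h2, h0]), ?_⟩
  ext a b
  apply j.injective
  by_cases hab : a = b <;> simp [h1, hab]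

end map

variable (F) in
/-- The projective line over the algebraic closure. -/
def PL := P1 (AlgebraicClosure F)

noncomputable instance instMulActionPL : MulAction PGL(2, F) (PL F) :=
  MulAction.compHom (P1 (AlgebraicClosure F)) 
    (ProjGenLinGroup.map (algebraMap F (AlgebraicClosure F)))

instance instNonemptyPL : Nonempty (PL F) := ⟨pinf _⟩

/-- Rational points. -/
noncomputable def toPL : P1 F → PL F := pmap (algebraMap F _)

theorem toPL_injective : Function.Injective (toPL : P1 F → PL F) := pmap_injective _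

theorem toPL_smul (g : PGL(2, F)) (x : P1 F) : toPL (g • x) = g • toPL x := pmap_smul' _ g x

theorem dk_PL (p : ℕ) [Fact p.Prime] [CharP F p] :
    DK (AlgebraicClosure F) p PGL(2, F) (PL F) :=
  @DK.of_injective _ _ _ _ (P1 (AlgebraicClosure F)) _ _ (dk_pgl p) _ _ instMulActionPL
    (ProjGenLinGroup.map (algebraMap F _)) (pgl_map_injective _) fun _ _ => rfl

theorem PL_ex (g : PGL(2, F)) : ∃ x : PL F, g • x = x :=
  pgl_ex (ProjGenLinGroup.map (algebraMap F (AlgebraicClosure F)) g)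

end Cfsg.Agent.Class
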