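import Cfsg.Agent.Lie.St

/-! Checking Steinberg's relations in a matrix representation by computation. -/

set_option autoImplicit false

namespace Cfsg.Agent.Class

open Cfsg.Lie Cfsg.Agent.Lie Matrix

/-- A term `c · m(a) · E_{ij}`. -/
abbrev PT (ι M : Type) := (ι × ι × M) × ℤ

section poly
variable {ι M : Type} [DecidableEq ι] [DecidableEq M] {F : Type*} [Field F]

/-- Evaluation of a list of terms. -/
def pev (m : M → F) (L : List (PT ι M)) : Matrix ι ι F :=
  (L.map fun e => single e.1.1 e.1.2.1 (m e.1.2.2 * e.2)).sum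

omit [DecidableEq M] in
@[simp] theorem pev_nil (m : M → F) : pev m ([] : List (PT ι M)) = 0 := rfl

omit [DecidableEq M] in
@[simp] theorem pev_cons (m : M → F) (e : PT ι M) (L : List (PT ι M)) :
    pev m (e :: L) = single e.1.1 e.1.2.1 (m e.1.2.2 * e.2) + pev m L := rfl

omit [DecidableEq M] in
theorem pev_append (m : M → F) (L L' : List (PT ι M)) : pev m (L ++ L') = pev m L + pev m L' := by
  simp [pev]

/-- Insertion with merging. -/
def pins (e : PT ι M) : List (PT ι M) → List (PT ι M)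
  | [] => [e]
  | e' :: L => if e.1 = e'.1 then (e.1, e.2 + e'.2) :: L else e' :: pins e L

theorem pev_pins (m : M → F) (e : PT ι M) (L : List (PT ι M)) : pev m (pins e L) = pev m (e :: L) := by
  induction L with
  | nil => rfl
  | cons e' L ih =>
    rw [pins]
    split_ifs with h
    · simp [← h, mul_add, single_add, add_assoc]
    · simp [ih, add_left_comm]

/-- Normal form. -/
def pnorm (L : List (PT ι M)) : List (PT ι M) := (L.foldr pins []).filter fun e => e.2 ≠ 0

theorem pev_pnorm (m : M → F) (L : List (PT ι M)) : pev m (pnorm L) = pev m L := by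
  have h1 : ∀ L : List (PT ι M), pev m (L.filter fun e => e.2 ≠ 0) = pev m L := fun L => by
    induction L with
    | nil => rfl
    | cons e L ih => by_cases h : e.2 = 0 <;> simp_all [List.filter_cons]
  rw [pnorm, h1]
  induction L with
  | nil => rfl
  | cons e L ih => simp [pev_pins, ih]

/-- Equality test. -/
def peq (L L' : List (PT ι M)) : Bool := (pnorm (L ++ L'.map fun e => (e.1, -e.2))).isEmpty

theorem pev_eq_of_peq (m : M → F) {L L' : List (PT ι M)} (h : peq L L' = true) :
    pev m L = pev m L' := by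
  have h1 := pev_pnorm m (L ++ L'.map fun e => (e.1, -e.2))
  rw [List.isEmpty_iff.1 h, pev_append] at h1
  have h2 : pev m (L'.map fun e => (e.1, -e.2)) = - pev m L' := by
    clear h h1
    induction L' with
    | nil => simp
    | cons e L ih => simp [ih, add_comm, single_neg]
  rw [h2] at h1
  exact add_neg_eq_zero.1 h1.symm

variable [AddCommMonoid M]

/-- Product of lists of terms. -/
def pmul (L L' : List (PT ι M)) : List (PT ι M) :=
  L.flatMap fun e => L'.filterMap fun e' =>
    if e.1.2.1 = e'.1.1 then some ((e.1.1, e'.1.2.1, e.1.2.2 + e'.1.2.2), e.2 * e'.2) else none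

/-- Product of `1 + L` and `1 + L'`. -/
def pcmp (L L' : List (PT ι M)) : List (PT ι M) := pnorm (L ++ L' ++ pmul L L')

/-- Substitution `t = C m(μ)`. -/
def psub (μ : M) (C : ℤ) (L : List (PT ι ℕ)) : List (PT ι M) :=
  L.map fun e => ((e.1.1, e.1.2.1, e.1.2.2 • μ), e.2 * C ^ e.1.2.2)

/-- Substitution `t + u`. -/
def padd (L : List (PT ι ℕ)) : List (PT ι (ℕ × ℕ)) :=
  L.flatMap fun e => (List.range (e.1.2.2 + 1)).map fun k =>
    ((e.1.1, e.1.2.1, (k, e.1.2.2 - k)), e.2 * e.1.2.2.choose k)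

variable [Fintype ι]

/-- The matrix `1 + L(t)`. -/
def pY (L : List (PT ι ℕ)) (t : F) : Matrix ι ι F := 1 + pev (fun k => t ^ k) L

variable (m : Multiplicative M →* F)

omit [DecidableEq M] in
theorem pev_pmul (L L' : List (PT ι M)) : pev (fun a => m (.ofAdd a)) (pmul L L') =
    pev (fun a => m (.ofAdd a)) L * pev (fun a => m (.ofAdd a)) L' := by
  induction L with
  | nil => simp [pmul]
  | cons e L ih =>
    rw [pmul, List.flatMap_cons, pev_append, ← pmul, ih, pev_cons, add_mul]
    congr 1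
    clear ih
    induction L' with
    | nil => simp
    | cons e' L' ih =>
      rw [pev_cons, mul_add, ← ih, List.filterMap_cons]
      by_cases h : e.1.2.1 = e'.1.1
      · simp [h, ofAdd_add, mul_mul_mul_comm]
      · simp [h]

theorem pev_pcmp (L L' : List (PT ι M)) : 1 + pev (fun a => m (.ofAdd a)) (pcmp L L') =
    (1 + pev (fun a => m (.ofAdd a)) L) * (1 + pev (fun a => m (.ofAdd a)) L') := by
  rw [pcmp, pev_pnorm, pev_append, pev_append, pev_pmul]
  noncomm_ring

omit [DecidableEq M] in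
theorem pev_psub (μ : M) (C : ℤ) (L : List (PT ι ℕ)) :
    1 + pev (fun a => m (.ofAdd a)) (psub μ C L) = pY L (C * m (.ofAdd μ)) := by
  rw [pY]
  congr 1
  induction L with
  | nil => rfl
  | cons e L ih =>
    rw [psub, List.map_cons, pev_cons, ← psub, ih, pev_cons]
    simp [ofAdd_nsmul, mul_pow, mul_comm, mul_left_comm, mul_assoc]

/-- Monomials in two variables. -/
def mon2 (t u : F) : Multiplicative (ℕ × ℕ) →* F where
  toFun a := t ^ a.toAdd.1 * u ^ a.toAdd.2
  map_one' := by simp
  map_mul' a b := by simp [pow_add, mul_mul_mul_comm]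

/-- Laurent monomials in two variables. -/
def lmon2 (t u : Fˣ) : Multiplicative (ℤ × ℤ) →* F where
  toFun a := (t ^ a.toAdd.1 * u ^ a.toAdd.2 : Fˣ)
  map_one' := by simp
  map_mul' a b := by simp only [toAdd_mul, Prod.fst_add, Prod.snd_add, _root_.zpow_add,
    ← Units.val_mul, mul_mul_mul_comm]

theorem pev_padd (L : List (PT ι ℕ)) (t u : F) :
    1 + pev (fun a => mon2 t u (.ofAdd a)) (padd L) = pY L (t + u) := by
  rw [pY]
  congr 1
  induction L with
  | nil => rfl
  | cons e L ih =>
    rw [padd, List.flatMap_cons, pev_append, ← padd, ih, pev_cons, add_pow, Finset.sum_mul,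
      ← singleAddMonoidHom_apply, map_sum, pev, List.map_map]
    congr 1
    rw [← List.sum_toFinset _ List.nodup_range, List.toFinset_range]
    refine Finset.sum_congr rfl fun k _ => ?_
    simp [mon2, mul_comm, mul_left_comm]

end poly

section chk
variable {ι : Type} [DecidableEq ι] {D : ChevalleyDatum} [G : Good D] (d : Rt D → List (PT ι ℕ))

/-- `n_r(C m(μ))` -/
def pN (r : Rt D) (μ : ℤ × ℤ) (C : ℤ) : List (PT ι (ℤ × ℤ)) :=
  pcmp (pcmp (psub μ C (d r)) (psub (-μ) (-C) (d (ng r)))) (psub μ C (d r))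

/-- `h_r(m(μ))` -/
def pH (r : Rt D) (μ : ℤ × ℤ) : List (PT ι (ℤ × ℤ)) := pcmp (pN d r μ 1) (pN d r 0 (-1))

/-- The check of the relations for one root. -/
def RelChk (r : Rt D) : Prop :=
  peq (pcmp (psub (1, 0) 1 (d r)) (psub (0, 1) 1 (d r))) (padd (d r)) = true ∧
  peq (pcmp (pH d r (1, 0)) (pH d r (0, 1))) (pH d r (1, 1)) = true ∧
  ∀ s, s ≠ r → s ≠ ng r → peq (pcmp (psub (0, 1) 1 (d s)) (psub (1, 0) (-1) (d r)))
    (pcmp (pcmp (psub (1, 0) (-1) (d r)) (psub (0, 1) 1 (d s)))
      (((cT r s).map fun c => psub c.2.2 c.2.1 (d c.1)).foldr pcmp [])) = true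

instance instDecRelChk (r : Rt D) : Decidable (RelChk d r) := by unfold RelChk; infer_instance

variable [Fintype ι] {F : Type*} [Field F] {Γ : Type*} [Group Γ] {y : Rt D → F → Γ}
  {φ : Γ →* Matrix ι ι F}

theorem rel_of_chk (h : ∀ r, RelChk d r) (hφ : Function.Injective φ)
    (hy : ∀ r t, φ (y r t) = pY (d r) t) : Rel y := by
  refine ⟨fun r t u => hφ ?_, fun r s h1 h2 t u => hφ ?_, fun r t u => hφ ?_⟩
  · have := congrArg (1 + ·) (pev_eq_of_peq (fun a => mon2 t u (.ofAdd a)) (h r).1)
    simp only [pev_pcmp, pev_psub, pev_padd] at this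
    simpa [hy, mon2] using this
  · have := congrArg (1 + ·) (pev_eq_of_peq (fun a => mon2 (-t) u (.ofAdd a)) ((h r).2.2 s h1 h2))
    have e : ∀ L : List (Rt D × ℤ × ℕ × ℕ), 1 + pev (fun a => mon2 (-t) u (.ofAdd a))
        ((L.map fun c => psub c.2.2 c.2.1 (d c.1)).foldr pcmp []) = φ (cwL y L t u) := fun L => by
      induction L with
      | nil => simp
      | cons c L ih =>
        rw [List.map_cons, List.foldr_cons, pev_pcmp, ih, pev_psub, cwL, cwL, List.map_cons,
          List.prod_cons, map_mul, hy, mul_assoc]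
        rfl
    simp only [pev_pcmp, pev_psub, e] at this
    simpa [hy, mon2] using this
  · have := congrArg (1 + ·) (pev_eq_of_peq (fun a => lmon2 t u (.ofAdd a)) (h r).2.1)
    simp only [pH, pN, pev_pcmp, pev_psub] at this
    simpa [hX, nX, hy, lmon2, mul_comm] using this

omit [Fintype ι] [DecidableEq ι] in
theorem exists_hom_PQ (h : Rel y) (hy : XS y Set.univ = ⊤) :
    ∃ α : D.group F →* Γ ⧸ Subgroup.center Γ, Function.Surjective α ∧ ∀ r t, α (xA r t) = y r t := by
  have h1 : Function.Surjective h.lift := surj_of_XS hy fun r t => ⟨_, h.lift_xS r t⟩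
  have h2 : (πA : D.SteinbergGroup F →* D.group F).ker ≤
      ((QuotientGroup.mk' (Subgroup.center Γ)).comp h.lift).ker := by
    rw [ker_πA]
    intro z hz
    rw [MonoidHom.mem_ker, MonoidHom.comp_apply, QuotientGroup.mk'_apply, QuotientGroup.eq_one_iff,
      Subgroup.mem_center_iff]
    intro g
    obtain ⟨g, rfl⟩ := h1 g
    rw [← map_mul, ← map_mul, Subgroup.mem_center_iff.1 hz]
  refine ⟨πA.liftOfRightInverse _ (Function.rightInverse_surjInv πA_surj) ⟨_, h2⟩, fun g => ?_,
    fun r t => ?_⟩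
  · obtain ⟨g, rfl⟩ := QuotientGroup.mk_surjective g
    obtain ⟨g, rfl⟩ := h1 g
    exact ⟨πA g, MonoidHom.liftOfRightInverse_comp_apply _ _ _ _ _⟩
  · rw [← πA_xS, MonoidHom.liftOfRightInverse_comp_apply]
    exact congrArg _ (h.lift_xS r t)

omit [Fintype ι] [DecidableEq ι] in
theorem exists_equiv_PQ [IsSimpleGroup (D.group F)] (h : Rel y) (hy : XS y Set.univ = ⊤)
    (hna : Subgroup.center Γ ≠ ⊤) :
    ∃ α : D.group F ≃* Γ ⧸ Subgroup.center Γ, ∀ r t, α (xA r t) = y r t := by
  obtain ⟨α, h1, h2⟩ := exists_hom_PQ h hy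
  refine ⟨MulEquiv.ofBijective α ⟨?_, h1⟩, h2⟩
  rw [← MonoidHom.ker_eq_bot_iff]
  refine α.normal_ker.eq_bot_or_eq_top.resolve_right fun h3 => hna (eq_top_iff.2 fun g _ => ?_)
  obtain ⟨a, ha⟩ := h1 g
  rw [← QuotientGroup.eq_one_iff, ← ha, ← MonoidHom.mem_ker, h3]
  trivial

end chk

end Cfsg.Agent.Class
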