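import Cfsg.Agent.Class.Rep
import Cfsg.Agent.Class.Gen
import Cfsg.Agent.Lie.DataB2
import Cfsg.Agent.Lie.DataD4

/-! The Chevalley groups of types `D₄` and `B₂` as classical groups. -/

set_option autoImplicit false

namespace Cfsg.Agent.Class

open Cfsg.Lie Cfsg.Agent.Lie Matrix Module FS

variable {F : Type*} [Field F] {P : FP F} {ι : Type} [DecidableEq ι] [Fintype ι]

/-- The matrix of an element of a linear group. -/
noncomputable def matH (G : Subgroup ((ι → F) ≃ₗ[F] (ι → F))) : G →* Matrix ι ι F :=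
  (Units.coeHom _).comp (glEquiv.symm.toMonoidHom.comp G.subtype)

theorem matH_inj (G : Subgroup ((ι → F) ≃ₗ[F] (ι → F))) : Function.Injective (matH G) :=
  Units.val_injective.comp (glEquiv.symm.injective.comp Subtype.val_injective)

theorem matH_eq {G : Subgroup ((ι → F) ≃ₗ[F] (ι → F))} {g : G} {L : List (PT ι ℕ)} {t : F}
    (h : ∀ x, g.1 x = x + (L.map fun e => (t ^ e.1.2.2 * e.2 * x e.1.2.1) • Pi.single e.1.1 1).sum) :
    matH G g = pY L t := matrix_ext_mulVec fun x => by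
  refine (glEquiv_symm_mulVec _ _).trans ?_
  rw [Subgroup.coe_subtype, h, pY, add_mulVec, one_mulVec]
  congr 1
  clear h
  induction L with
  | nil => simp
  | cons e L ih =>
    rw [List.map_cons, List.sum_cons, ih, pev_cons, add_mulVec, single_mulVec_eq]

theorem X_le_coord {f : FS P (ι → F)} {u v : ι → F} (h : f.IsHyp u v)
    {K : Subgroup ((ι → F) ≃ₗ[F] (ι → F))} (h1 : ∀ t, P.τ t = 0 → h.EK K 0 t) (p : ι → Prop)
    (hp : ∀ w ∈ f.hperp u v, ∀ j, ¬ p j → w j = 0)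
    (h2 : ∀ j, p j → ∀ c, ∃ (hw : Pi.single j c ∈ f.hperp u v) (a : F), h.EK K ⟨_, hw⟩ a) :
    f.X u h.Q1 ≤ K := by
  let A : AddSubmonoid (ι → F) :=
    { carrier := {w | ∃ (hw : w ∈ f.hperp u v) (a : F), h.EK K ⟨_, hw⟩ a}
      add_mem' := by
        rintro a b ⟨ha, c, h1⟩ ⟨hb, d, h2⟩
        exact ⟨add_mem ha hb, _, h1.mul h2⟩
      zero_mem' := ⟨zero_mem _, 0, h1 0 (map_zero _)⟩ }
  refine h.X_le h1 fun w => ?_
  have : (w : ι → F) ∈ A := by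
    rw [← Finset.univ_sum_single (w : ι → F)]
    refine sum_mem fun j _ => ?_
    by_cases hj : p j
    · exact h2 j hj _
    · rw [hp w w.2 j hj, Pi.single_zero]; exact zero_mem _
  exact this.2

theorem XS_eq_top {D : ChevalleyDatum} {G : Subgroup ((ι → F) ≃ₗ[F] (ι → F))} {y : Rt D → F → G}
    (h : G ≤ (XS y Set.univ).map G.subtype) : XS y Set.univ = ⊤ := eq_top_iff.2 fun g _ => by
  obtain ⟨k, hk, e⟩ := h g.2
  exact Subtype.ext e ▸ hk

theorem center_ne_top_of {V : Type*} [AddCommGroup V] [Module F V] {G : Subgroup (V ≃ₗ[F] V)}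
    (a b : G) (x : V) (h : a.1 (b.1 x) ≠ b.1 (a.1 x)) : Subgroup.center G ≠ ⊤ := fun e =>
  h (LinearEquiv.congr_fun (congrArg Subtype.val
    (Subgroup.mem_center_iff.1 (e ▸ Subgroup.mem_top b) a)) x)

omit [Fintype ι] in
theorem single_eq_smul (j : ι) (c : F) : (Pi.single j c : ι → F) = c • Pi.single j 1 := by
  rw [← Pi.single_smul', smul_eq_mul, mul_one]

/-! ### Orthogonal representations -/

section orth
variable {f : OS F (ι → F)} {sw : ι → ι} {β κ : ι → ℤ}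

/-- Coordinates adapted to the form. -/
structure OCo (f : OS F (ι → F)) (sw : ι → ι) (β κ : ι → ℤ) : Prop where
  B : ∀ a c x, f.B (Pi.single a c) x = β a * c * x (sw a)
  Q : ∀ a c, f.Q (Pi.single a c) = κ a * c ^ 2

/-- Root elements. -/
noncomputable def oy (f : OS F (ι → F)) (e : ι × ι × ℤ) (t : F) : f.EO :=
  ⟨(f.ee (Pi.single e.1 1) (Pi.single e.2.1 (e.2.2 * t))).1, ee_mem_EO _ _⟩

/-- The data of root elements. -/
def od (sw : ι → ι) (β κ : ι → ℤ) (e : ι × ι × ℤ) : List (PT ι ℕ) :=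
  [((e.2.1, sw e.1, 1), e.2.2), ((e.1, sw e.2.1, 1), -(β e.2.1 * e.2.2)), ((e.1, sw e.1, 2), -κ e.2.1)]

/-- Admissible data. -/
def OOK (sw : ι → ι) (β κ : ι → ℤ) (e : ι × ι × ℤ) : Prop :=
  β e.1 = 1 ∧ κ e.1 = 0 ∧ sw e.1 ≠ e.2.1 ∧ e.2.2 * e.2.2 = 1

instance instDecOOK (e : ι × ι × ℤ) : Decidable (OOK sw β κ e) := by unfold OOK; infer_instance

theorem OCo.oy_apply (h : OCo f sw β κ) {e : ι × ι × ℤ} (he : OOK sw β κ e) (t : F) (x : ι → F) :
    (oy f e t).1 x = x + ((od sw β κ e).map fun e =>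
      (t ^ e.1.2.2 * e.2 * x e.1.2.1) • Pi.single e.1.1 1).sum := by
  obtain ⟨h1, h2, h3, h4⟩ := he
  have h5 : (e.2.2 : F) * e.2.2 = 1 := by exact_mod_cast congrArg (Int.cast (R := F)) h4
  rw [oy, ee_apply (by simp [h.Q, h2]) (by simp [h.B, h3])]
  simp only [h.B, h.Q, od, List.map_cons, List.map_nil, List.sum_cons, List.sum_nil, h1]
  rw [single_eq_smul e.2.1 (_ * t)]
  match_scalars
  all_goals push_cast
  · rfl
  · ring
  · linear_combination (-(κ e.2.1 : F) * t ^ 2 * x (sw e.1)) * h5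

theorem OCo.rel {D : ChevalleyDatum} [Good D] (h : OCo f sw β κ) {T : Rt D → ι × ι × ℤ}
    (h1 : ∀ r, OOK sw β κ (T r)) (h2 : ∀ r, RelChk (fun r => od sw β κ (T r)) r) :
    Lie.Rel fun r t => oy f (T r) t :=
  rel_of_chk _ h2 (matH_inj _) fun r t => matH_eq (h.oy_apply (h1 r) t)

theorem OCo.isHyp (h : OCo f sw β κ) {a : ι} (h1 : β a = 1) (h2 : κ a = 0) (h3 : κ (sw a) = 0) :
    f.IsHyp (Pi.single a 1) (Pi.single (sw a) 1) :=
  ⟨by simp [h.Q, h2], by simp [h.Q, h3], by simp [h.B, h1]⟩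

theorem OCo.X_le {D : ChevalleyDatum} (h : OCo f sw β κ) {T : Rt D → ι × ι × ℤ}
    (h0 : ∀ r, OOK sw β κ (T r)) {a a' : ι} (hh : f.IsHyp (Pi.single a 1) (Pi.single a' 1))
    (h1 : β a = 1 ∧ β a' = 1 ∧ sw a = a' ∧ sw a' = a)
    (h2 : ∀ j, j ≠ a → j ≠ a' → ∃ r, (T r).1 = a ∧ (T r).2.1 = j) :
    f.X _ hh.Q1 ≤ (XS (fun r t => oy f (T r) t) Set.univ).map f.EO.subtype := by
  obtain ⟨a1, a2, a3, a4⟩ := h1
  refine X_le_coord hh (fun t ht => ⟨by simpa using ht, ?_⟩) (fun j => j ≠ a ∧ j ≠ a')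
    (fun w hw j hj => ?_) fun j hj c => ?_
  · obtain rfl : t = 0 := ht
    rw [hh.E_zero]; exact one_mem _
  · have := mem_hperp.1 hw
    simp only [h.B, a1, a2, a3, a4, Int.cast_one, one_mul] at this
    by_cases e : j = a
    · exact e ▸ this.2
    · exact (show j = a' by simpa [e] using hj) ▸ this.1
  · have hw : Pi.single j c ∈ f.hperp (Pi.single a 1) (Pi.single a' 1) :=
      mem_hperp.2 (by simp [h.B, a3, a4, hj.1.symm, hj.2.symm])
    obtain ⟨r, e1, e2⟩ := h2 j hj.1 hj.2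
    have h5 : ((T r).2.2 : F) * (T r).2.2 = 1 := by
      exact_mod_cast congrArg (Int.cast (R := F)) (h0 r).2.2.2
    refine ⟨hw, _, rfl, oy f (T r) ((T r).2.2 * c), mem_XS (x := fun r t => oy f (T r) t)
      (Set.mem_univ r) _, ?_⟩
    refine Eq.trans ?_ (ee_coe hh.Q1 (mem_hperp.1 hw).1)
    simp only [Subgroup.coe_subtype, oy, e1, e2, ← mul_assoc, h5, one_mul]

end orth

/-! ### `D₄` -/

theorem plus_oco (m : ℕ) : OCo (plusOS F m) Sum.swap (fun _ => 1) fun _ => 0 :=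
  ⟨fun a c x => by cases a <;> simp [plusOS_B, Pi.single_apply],
    fun a c => by cases a <;> simp [plusOS_Q, Pi.single_apply]⟩

/-- Index decoding. -/
def ix8 (k : ℕ) : Fin 4 ⊕ Fin 4 := if k < 4 then .inl (Fin.ofNat 4 k) else .inr (Fin.ofNat 4 k)

/-- The root elements of `D₄`. -/
def tD4 (r : Rt chevD4) : (Fin 4 ⊕ Fin 4) × (Fin 4 ⊕ Fin 4) × ℤ :=
  let e := ([(4, 5, 1), (4, 6, 1), (4, 3, 1), (4, 7, 1), (4, 2, -1), (4, 1, 1), (5, 6, -1), (5, 3, -1),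
    (5, 7, -1), (5, 2, 1), (6, 3, 1), (6, 7, 1), (2, 3, -1), (2, 7, -1), (1, 6, -1), (1, 3, 1), (1, 7, 1),
    (1, 2, 1), (0, 5, -1), (0, 6, 1), (0, 3, -1), (0, 7, -1), (0, 2, -1), (0, 1, -1)] :
      List (ℕ × ℕ × ℤ)).getD r (0, 0, 0)
  (ix8 e.1, ix8 e.2.1, e.2.2)

theorem tD4_ok : ∀ r, OOK Sum.swap (fun _ => 1) (fun _ => 0) (tD4 r) := by decide +kernel

theorem tD4_chk : ∀ r, RelChk (fun r => od Sum.swap (fun _ => 1) (fun _ => 0) (tD4 r)) r := by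
  decide +kernel

theorem exists_D4_equiv : ∃ α : chevD4.group F ≃* PQ (plusOS F 4).EO,
    ∀ r t, α (xA r t) = oy (plusOS F 4) (tD4 r) t := by
  have := (simple_of_perfect (perfectD4 (F := F))).1
  have h := (plus_oco (F := F) 4).isHyp (a := .inl 0) rfl rfl rfl
  have hG := orth_goodC (plusOS_nondeg F 4) (by simp)
  refine exists_equiv_PQ ((plus_oco 4).rel tD4_ok tD4_chk) (XS_eq_top ?_)
    (center_EO_ne_top (plusOS_nondeg F 4) hG h.ne1 h.Q1)
  refine (h.EO_le_sup ⟨Pi.single (.inl 1) 1 + Pi.single (.inr 1) 1, mem_hperp.2 ?_, 1, one_ne_zero,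
    ?_⟩ (plusOS_nondeg F 4).nRad).trans (sup_le ?_ ?_)
  · simp [(plus_oco 4).B]
  · simp [orth_Q_add, (plus_oco 4).B, (plus_oco 4).Q]
  · exact (plus_oco 4).X_le tD4_ok h ⟨rfl, rfl, rfl, rfl⟩ (by decide +kernel)
  · exact (plus_oco 4).X_le tD4_ok h.orth_swap ⟨rfl, rfl, rfl, rfl⟩ (by decide +kernel)

noncomputable def pomegaEquiv2 {f : OS F (ι → F)} (h : f.EOs = commutator f.Isom) :
    Cfsg.POmega F f.Q ≃* PQ f.EO :=
  (pomegaEquiv f).trans (quotCenterCongr ((MulEquiv.subgroupCongr h.symm).trans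
    (Subgroup.subgroupOfEquivOfLe EO_le_Isom)))

/-! ### `B₂` as an orthogonal group -/

theorem odd_oco (m : ℕ) : OCo (oddOS F m) (Sum.map id Sum.swap) (Sum.elim (fun _ => 2) fun _ => 1)
    (Sum.elim (fun _ => 1) fun _ => 0) :=
  ⟨fun a c x => by rcases a with a | a | a <;> simp [oddOS_B, Pi.single_apply],
    fun a c => by rcases a with a | a | a <;> simp [oddOS_Q, Pi.single_apply]⟩

/-- The root elements of `B₂`. -/
def tO5 (r : Rt chevB2) : (Unit ⊕ (Fin 2 ⊕ Fin 2)) × (Unit ⊕ (Fin 2 ⊕ Fin 2)) × ℤ :=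
  [(.inr (.inr 0), .inr (.inr 1), 1), (.inr (.inr 0), .inl (), 1), (.inr (.inr 1), .inl (), 1),
    (.inr (.inr 0), .inr (.inl 1), 1), (.inr (.inl 0), .inr (.inr 1), -1), (.inr (.inl 1), .inl (), -1),
    (.inr (.inl 0), .inl (), -1), (.inr (.inl 0), .inr (.inl 1), -1)].getD r (.inl (), .inl (), 0)

theorem tO5_ok : ∀ r, OOK (Sum.map id Sum.swap) (Sum.elim (fun _ => 2) fun _ => 1)
    (Sum.elim (fun _ => 1) fun _ => 0) (tO5 r) := by decide +kernel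

theorem tO5_chk : ∀ r, RelChk (fun r => od (Sum.map id Sum.swap) (Sum.elim (fun _ => 2) fun _ => 1)
    (Sum.elim (fun _ => 1) fun _ => 0) (tO5 r)) r := by
  decide +kernel

theorem odd_nRad (m : ℕ) : (oddOS F m).NRad := fun x hx hQ => by
  by_contra! H
  have h1 : ∀ a, x (.inr a) = 0 := fun a => by
    have := H (Pi.single (.inr a.swap) 1)
    rw [orth_symm, (odd_oco m).B] at this
    simpa using this
  refine hx (funext fun a => ?_)
  rcases a with a | a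
  · simpa [oddOS_Q, h1] using hQ
  · exact h1 a

theorem odd_opp (m : ℕ) (a b : Fin m ⊕ Fin m) :
    (oddOS F m).Opp (Pi.single (.inr a) 1) (Pi.single (.inr b) 1) :=
  ⟨Pi.single (.inl ()) 1, mem_hperp.2 (by simp [(odd_oco m).B]), 1, one_ne_zero,
    by simp [(odd_oco m).Q]⟩

theorem exists_O5_equiv {a : F} (h0 : a ≠ 0) (h1 : a ≠ 1) :
    Nonempty (chevB2.group F ≃* PQ (oddOS F 2).EO) := by
  have := (simple_of_perfect (perfectB2 h0 h1)).1
  have h := (odd_oco (F := F) 2).isHyp (a := .inr (.inl 0)) rfl rfl rfl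
  refine (exists_equiv_PQ ((odd_oco 2).rel tO5_ok tO5_chk) (XS_eq_top ?_) ?_).nonempty
  · refine (h.EO_le_sup (odd_opp _ _ _) (odd_nRad 2)).trans (sup_le ?_ ?_)
    · exact (odd_oco 2).X_le tO5_ok h ⟨rfl, rfl, rfl, rfl⟩ (by decide +kernel)
    · exact (odd_oco 2).X_le tO5_ok h.orth_swap ⟨rfl, rfl, rfl, rfl⟩ (by decide +kernel)
  · refine center_ne_top_of (oy _ (tO5 ⟨3, by decide⟩) 1) (oy _ (tO5 ⟨4, by decide⟩) 1)
      (Pi.single (.inr (.inl 0)) 1) fun e => ?_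
    have := congrFun e (.inr (.inl 0))
    simp only [(odd_oco 2).oy_apply (tO5_ok _)] at this
    simp [od, tO5] at this

theorem odd_EOs_eq {a : F} (h0 : a ≠ 0) (h1 : a ≠ 1) :
    (oddOS F 2).EOs = commutator (oddOS F 2).Isom := by
  have h := (odd_oco (F := F) 2).isHyp (a := .inr (.inl 0)) rfl rfl rfl
  have h' := (odd_oco (F := F) 2).isHyp (a := .inr (.inl 1)) rfl rfl rfl
  refine EOs_eq_of (EO_le_comm (odd_nRad 2) h0 h1) (h.comm_mem_EO (odd_opp _ _ _) fun a ha b hb =>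
    h.extd_mem_EO ?_)
  have m1 : ∀ j, j ≠ .inr (.inl 0) → j ≠ .inr (.inr 0) → Pi.single j 1 ∈ (oddOS F 2).hperp
      (Pi.single (.inr (.inl 0)) 1) (Pi.single (Sum.map id Sum.swap (.inr (.inl 0))) 1) :=
    fun j h1 h2 => mem_hperp.2 (by simp [(odd_oco 2).B, h1.symm, h2.symm])
  refine comm_mem_EO_three (u := ⟨_, m1 (.inr (.inl 1)) (by decide) (by decide)⟩)
    (v := ⟨_, m1 (.inr (.inr 1)) (by decide) (by decide)⟩) ⟨h'.Q1, h'.Q2, h'.B12⟩
    ⟨⟨_, m1 (.inl ()) (by decide) (by decide)⟩, mem_hperp.2 ?_, 1, one_ne_zero, ?_⟩ ?_ a ha b hb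
  · have : ∀ j, (oddOS F 2).B (Pi.single (.inr j) 1) (Pi.single (.inl ()) 1) = 0 := fun j => by
      simp [(odd_oco 2).B]
    exact ⟨this _, this _⟩
  · simp [(odd_oco 2).Q]
  · have := h.finrank_hperp
    rw [oddOS_finrank] at this
    omega

/-! ### `B₂` as a symplectic group -/

/-- Signs of the symplectic form. -/
def sgS {m : ℕ} : Fin m ⊕ Fin m → ℤ := Sum.elim (fun _ => -1) fun _ => 1

theorem spFS_single (m : ℕ) (a : Fin m ⊕ Fin m) (c : F) (x : Fin m ⊕ Fin m → F) :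
    (spFS m F).B (Pi.single a c) x = sgS a * c * x a.swap := by
  cases a <;> simp [spFS_B, sympForm_eq, Pi.single_apply, sgS]

/-- The root elements of `C₂`. -/
def tS4 (r : Rt chevB2) : (Fin 2 ⊕ Fin 2) × (Fin 2 ⊕ Fin 2) × ℤ × ℤ :=
  [(.inr 0, .inr 0, 0, -1), (.inr 0, .inr 1, 1, 0), (.inr 0, .inl 1, 1, 0), (.inr 1, .inr 1, 0, 1),
    (.inl 1, .inl 1, 0, -1), (.inl 0, .inr 1, 1, 0), (.inl 0, .inl 1, -1, 0),
    (.inl 0, .inl 0, 0, 1)].getD r (.inl 0, .inl 0, 0, 0)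

theorem tS4_ne : ∀ r, (tS4 r).1.swap ≠ (tS4 r).2.1 := by decide +kernel

theorem tS4_orth (r : Rt chevB2) (c : F) :
    (spFS 2 F).B (Pi.single (tS4 r).1 1) (Pi.single (tS4 r).2.1 c) = 0 := by
  simp [spFS_single, tS4_ne]

/-- Root elements. -/
noncomputable def sy (F : Type*) [Field F] (r : Rt chevB2) (t : F) : (spFS 2 F).EO :=
  ⟨(spFS 2 F).eich (Pi.single (tS4 r).1 1) (Pi.single (tS4 r).2.1 ((tS4 r).2.2.1 * t))
    ((tS4 r).2.2.2 * t) (sp_Q _ _) (tS4_orth _ _) (sp_Q _ _).symm, eich_mem_EO _ _ _⟩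

/-- The data of root elements. -/
def sd (r : Rt chevB2) : List (PT (Fin 2 ⊕ Fin 2) ℕ) :=
  [(((tS4 r).2.1, (tS4 r).1.swap, 1), sgS (tS4 r).1 * (tS4 r).2.2.1),
    (((tS4 r).1, (tS4 r).2.1.swap, 1), sgS (tS4 r).2.1 * (tS4 r).2.2.1),
    (((tS4 r).1, (tS4 r).1.swap, 1), -(sgS (tS4 r).1 * (tS4 r).2.2.2))]

theorem sy_apply (r : Rt chevB2) (t : F) (x : Fin 2 ⊕ Fin 2 → F) :
    (sy F r t).1 x = x + ((sd r).map fun e =>
      (t ^ e.1.2.2 * e.2 * x e.1.2.1) • Pi.single e.1.1 1).sum := by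
  refine (eich_apply _ _ _ _ (sp_Q _ _) (tS4_orth _ _) (sp_Q _ _).symm _).trans ?_
  simp only [spFS_single, sd, List.map_cons, List.map_nil, List.sum_cons, List.sum_nil,
    FP.sp_ε, FP.sp_σ]
  rw [single_eq_smul (tS4 r).2.1 (_ * t)]
  match_scalars
  all_goals push_cast; ring

theorem tS4_chk : ∀ r, RelChk sd r := by decide +kernel

theorem sy_rel : Lie.Rel (sy F) := rel_of_chk _ tS4_chk (matH_inj _) fun r t => matH_eq (sy_apply r t)

theorem sy_X_le {a : Fin 2 ⊕ Fin 2} {v : Fin 2 ⊕ Fin 2 → F} {c : F} (hc : c ≠ 0)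
    (hv : v = Pi.single a.swap c) (hh : (spFS 2 F).IsHyp (Pi.single a 1) v)
    (h1 : ∃ r, (tS4 r).1 = a ∧ (tS4 r).2.2.1 = 0 ∧ (tS4 r).2.2.2 * (tS4 r).2.2.2 = 1)
    (h2 : ∀ j, j ≠ a → j ≠ a.swap → ∃ r, (tS4 r).1 = a ∧ (tS4 r).2.1 = j ∧
      (tS4 r).2.2.1 * (tS4 r).2.2.1 = 1) :
    (spFS 2 F).X _ hh.Q1 ≤ (XS (sy F) Set.univ).map (spFS 2 F).EO.subtype := by
  subst hv
  have hs : ∀ a : Fin 2 ⊕ Fin 2, (sgS a : F) ≠ 0 := fun a => by cases a <;> simp [sgS]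
  refine X_le_coord hh (fun t _ => ⟨by simp [sp_Q], ?_⟩) (fun j => j ≠ a ∧ j ≠ a.swap)
    (fun w hw j hj => ?_) fun j hj d => ?_
  · obtain ⟨r, rfl, e2, e3⟩ := h1
    have h5 : ((tS4 r).2.2.2 : F) * (tS4 r).2.2.2 = 1 := by
      exact_mod_cast congrArg (Int.cast (R := F)) e3
    exact ⟨sy F r ((tS4 r).2.2.2 * t), mem_XS (Set.mem_univ r) _,
      eich_congr (sp_Q _ _) (tS4_orth _ _) (sp_Q _ _).symm (by simp [e2]) (by rw [← mul_assoc, h5, one_mul])⟩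
  · have := mem_hperp.1 hw
    simp only [spFS_single, mul_eq_zero, hs, hc, one_ne_zero, false_or, Sum.swap_swap] at this
    by_cases e : j = a
    · exact e ▸ this.2
    · exact (show j = a.swap by simpa [e] using hj) ▸ this.1
  · have hw : Pi.single j d ∈ (spFS 2 F).hperp (Pi.single a 1) (Pi.single a.swap c) :=
      mem_hperp.2 (by simp [spFS_single, hj.1.symm, hj.2.symm])
    obtain ⟨r, rfl, rfl, e3⟩ := h2 j hj.1 hj.2
    have h5 : ((tS4 r).2.2.1 : F) * (tS4 r).2.2.1 = 1 := by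
      exact_mod_cast congrArg (Int.cast (R := F)) e3
    exact ⟨hw, _, by simp [sp_Q], sy F r ((tS4 r).2.2.1 * d), mem_XS (Set.mem_univ r) _,
      eich_congr (sp_Q _ _) (tS4_orth _ _) (sp_Q _ _).symm (by rw [← mul_assoc, h5, one_mul]) rfl⟩

theorem sy_top : XS (sy F) Set.univ = ⊤ := by
  have h : (spFS 2 F).IsHyp (Pi.single (.inr 0) 1) (Pi.single (.inl 0) 1) :=
    ⟨sp_Q _ _, sp_Q _ _, by simp [spFS_single, sgS]⟩
  have h' : (spFS 2 F).IsHyp (Pi.single (.inl 0) 1) (Pi.single (.inr 0) (-1)) :=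
    ⟨sp_Q _ _, sp_Q _ _, by simp [spFS_single, sgS]⟩
  exact XS_eq_top ((h.EO_le_sup ⟨0, zero_mem _, 1, one_ne_zero, by simp⟩
    (spFS_nondeg 2 F).nRad).trans (sup_le
      (sy_X_le one_ne_zero rfl h (by decide +kernel) (by decide +kernel))
      (sy_X_le (neg_ne_zero.2 one_ne_zero) rfl h' (by decide +kernel) (by decide +kernel))))

theorem exists_S4_equiv {a : F} (h0 : a ≠ 0) (h1 : a ≠ 1) :
    ∃ α : chevB2.group F ≃* PQ (spFS 2 F).EO, ∀ r t, α (xA r t) = sy F r t := by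
  have := (simple_of_perfect (perfectB2 h0 h1)).1
  obtain ⟨u, v, h⟩ := sp_exists_hyp (spFS_nondeg 2 F)
  exact exists_equiv_PQ sy_rel sy_top (center_EO_ne_top (spFS_nondeg 2 F) sp_goodC h.ne1 h.Q1)

end Cfsg.Agent.Class
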