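import Cfsg.Agent.Class.FS3

/-! The group generated by Eichler transformations acts primitively on singular points;
Iwasawa's criterion. -/

set_option autoImplicit false

namespace Cfsg.Agent.Class

open Module
open scoped LinearAlgebra.Projectivization Pointwise commutatorElement

/-- Iwasawa's criterion with a solvable subgroup, for the quotient by the centre. -/
theorem isSimpleGroup_quotient_center' {G α : Type*} [Group G] [MulAction G α]
    [MulAction.IsQuasiPreprimitive G α] (a : α) (A : Subgroup G) [Group.IsSolvable A]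
    (hA : ∀ g : G, g • a = a → ∀ x ∈ A, g * x * g⁻¹ ∈ A)
    (hgen : Subgroup.normalClosure (A : Set G) = ⊤)
    (hperf : commutator G = ⊤) (hker : ∀ g : G, (∀ x : α, g • x = x) → g ∈ Subgroup.center G)
    (hne : Subgroup.center G ≠ ⊤) : IsSimpleGroup (G ⧸ Subgroup.center G) := by
  have : Nontrivial (G ⧸ Subgroup.center G) := QuotientGroup.nontrivial_iff.2 hne
  refine ⟨fun N hN => ?_⟩
  set M := N.comap (QuotientGroup.mk' (Subgroup.center G)) with hM
  have hMN : M.map (QuotientGroup.mk' (Subgroup.center G)) = N :=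
    Subgroup.map_comap_eq_self_of_surjective (QuotientGroup.mk'_surjective _) N
  by_cases h : MulAction.fixedPoints M α = Set.univ
  · left
    rw [← hMN, Subgroup.map_eq_bot_iff, QuotientGroup.ker_mk']
    intro g hg
    exact hker g fun x => Set.eq_univ_iff_forall.1 h x ⟨g, hg⟩
  · right
    have htr := MulAction.IsQuasiPreprimitive.isPretransitive_of_normal (N := M) h
    have hnorm : (M ⊔ A).Normal := by
      refine ⟨fun x hx g => ?_⟩
      obtain ⟨m, hm⟩ := MulAction.exists_smul_eq M (g • a) a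
      obtain ⟨y, hy, z, hz, rfl⟩ := (Subgroup.mem_sup_of_normal_left).1 hx
      have h1 : (m * g) * z * (m * g)⁻¹ ∈ A := hA _ (by rw [mul_smul]; exact hm) z hz
      have h2 : g * (y * z) * g⁻¹ = (g * y * g⁻¹) * ((m : G)⁻¹ * ((m * g) * z * (m * g)⁻¹) * m) := by
        group
      rw [h2]
      exact Subgroup.mul_mem _ (Subgroup.mem_sup_left (Subgroup.Normal.conj_mem inferInstance y hy g))
        (Subgroup.mul_mem _ (Subgroup.mul_mem _ (Subgroup.mem_sup_left (M.inv_mem m.2))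
          (Subgroup.mem_sup_right h1)) (Subgroup.mem_sup_left m.2))
    have htop : M ⊔ A = ⊤ := by
      rw [eq_top_iff, ← hgen]
      exact Subgroup.normalClosure_le_normal fun x hx => Subgroup.mem_sup_right hx
    have hsurj : Function.Surjective ((QuotientGroup.mk' M).comp A.subtype) := by
      intro x
      obtain ⟨g, rfl⟩ := QuotientGroup.mk'_surjective M x
      obtain ⟨y, hy, z, hz, rfl⟩ := (Subgroup.mem_sup_of_normal_left).1
        (htop ▸ Subgroup.mem_top g : g ∈ M ⊔ A)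
      refine ⟨⟨z, hz⟩, ?_⟩
      simp [(QuotientGroup.eq_one_iff y).2 hy]
    have hsol : Group.IsSolvable (G ⧸ M) := solvable_of_surjective hsurj
    have hp : commutator (G ⧸ M) = ⊤ := by
      have := congrArg (Subgroup.map (QuotientGroup.mk' M)) hperf
      rwa [commutator_def, Subgroup.map_commutator,
        Subgroup.map_top_of_surjective _ (QuotientGroup.mk'_surjective M)] at this
    have hMtop : M = ⊤ := by
      by_contra hM'
      have : Nontrivial (G ⧸ M) := QuotientGroup.nontrivial_iff.2 hM'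
      exact (Group.IsSolvable.commutator_lt_top_of_nontrivial (G ⧸ M)).ne hp
    rw [← hMN, hMtop]
    exact Subgroup.map_top_of_surjective _ (QuotientGroup.mk'_surjective _)

variable {F : Type*} [Field F] {P : FP F} {V : Type*} [AddCommGroup V] [Module F V]

namespace FS
variable (f : FS P V)

/-- The unipotent radical of the stabilizer of a singular vector. -/
def X (u : V) (hu : f.Q u = 0) : Subgroup (V ≃ₗ[F] V) where
  carrier := {g | ∃ v a hv ha, g = f.eich u v a hu hv ha}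
  mul_mem' := by
    rintro _ _ ⟨v, a, hv, ha, rfl⟩ ⟨w, b, hw, hb, rfl⟩
    exact ⟨_, _, _, _, f.eich_mul hu hv hw ha hb⟩
  one_mem' := ⟨_, _, _, _, (f.eich_zero hu).symm⟩
  inv_mem' := by
    rintro _ ⟨v, a, hv, ha, rfl⟩
    exact ⟨_, _, _, _, f.eich_inv hu hv ha⟩

/-- The group generated by all Eichler transformations. -/
def EO : Subgroup (V ≃ₗ[F] V) := Subgroup.closure {g | ∃ u hu, g ∈ f.X u hu}

variable {f}

theorem eich_mem_X {u v : V} {a : F} (hu : f.Q u = 0) (hv : f.B u v = 0) (ha : P.τ a = f.Q v) :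
    f.eich u v a hu hv ha ∈ f.X u hu := ⟨v, a, hv, ha, rfl⟩

theorem X_le_EO {u : V} (hu : f.Q u = 0) : f.X u hu ≤ f.EO :=
  fun _ hg => Subgroup.subset_closure ⟨u, hu, hg⟩

theorem eich_mem_EO {u v : V} {a : F} (hu : f.Q u = 0) (hv : f.B u v = 0) (ha : P.τ a = f.Q v) :
    f.eich u v a hu hv ha ∈ f.EO := X_le_EO hu (eich_mem_X hu hv ha)

theorem X_le_Isom {u : V} (hu : f.Q u = 0) : f.X u hu ≤ f.Isom := by
  rintro _ ⟨v, a, hv, ha, rfl⟩; exact f.eich_mem _ _ _ _ _ _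

theorem EO_le_Isom : f.EO ≤ f.Isom :=
  (Subgroup.closure_le _).2 fun _ ⟨_, hu, hg⟩ => X_le_Isom hu hg

theorem EO_le {G : Subgroup (V ≃ₗ[F] V)}
    (h : ∀ u v a hu hv ha, f.eich u v a hu hv ha ∈ G) : f.EO ≤ G :=
  (Subgroup.closure_le _).2 (by rintro _ ⟨u, hu, v, a, hv, ha, rfl⟩; exact h _ _ _ _ _ _)

theorem X_fix {u : V} (hu : f.Q u = 0) {g : V ≃ₗ[F] V} (hg : g ∈ f.X u hu) : g u = u := by
  obtain ⟨v, a, hv, ha, rfl⟩ := hg
  exact f.eich_apply_self hu hv ha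

theorem conj_mem_X {u : V} (hu : f.Q u = 0) {g x : V ≃ₗ[F] V} (hg : g ∈ f.Isom)
    (hx : x ∈ f.X u hu) : g * x * g⁻¹ ∈ f.X (g u) (by rw [Isom_Q hg, hu]) := by
  obtain ⟨v, a, hv, ha, rfl⟩ := hx
  exact ⟨_, _, _, _, f.conj_eich hg hu hv ha⟩

theorem X_smul_le {u : V} (hu : f.Q u = 0) (c : F) :
    f.X (c • u) (by rw [Q_smul, hu, mul_zero]) ≤ f.X u hu := by
  by_cases hc : c = 0
  · rintro _ ⟨v, a, hv, ha, rfl⟩
    have : f.eich (c • u) v a (by rw [Q_smul, hu, mul_zero]) hv ha = 1 := by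
      ext x; simp [eich_apply, hc]
    rw [this]; exact Subgroup.one_mem _
  rintro _ ⟨v, a, hv, ha, rfl⟩
  have hv' : f.B u (P.σ c • v) = 0 := by
    rw [B_smul_left, mul_eq_zero, P.σ_eq_zero] at hv
    simp [hv.resolve_left hc]
  exact ⟨_, _, _, _, f.eich_smul c hu hv hv' ha⟩

theorem conj_mem_EO {g x : V ≃ₗ[F] V} (hg : g ∈ f.Isom) (hx : x ∈ f.EO) : g * x * g⁻¹ ∈ f.EO := by
  have : f.EO ≤ f.EO.comap (MulAut.conj g).toMonoidHom :=
    EO_le fun u v a hu hv ha => X_le_EO _ (conj_mem_X hu hg (eich_mem_X hu hv ha))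
  exact this hx

theorem eich_congr {u v v' : V} {a a' : F} (hu : f.Q u = 0) (hv : f.B u v = 0) (ha : P.τ a = f.Q v)
    (h1 : v = v') (h2 : a = a') :
    f.eich u v a hu hv ha = f.eich u v' a' hu (h1 ▸ hv) (h1 ▸ h2 ▸ ha) := by
  subst h1 h2; rfl

theorem eich_commutator {u v w : V} {a b : F} (hu : f.Q u = 0) (hv : f.B u v = 0)
    (hw : f.B u w = 0) (ha : P.τ a = f.Q v) (hb : P.τ b = f.Q w) :
    ⁅f.eich u v a hu hv ha, f.eich u w b hu hw hb⁆ =
      f.eich u 0 (f.B w v - f.B v w) hu (by simp) (by simp [f.τ_B_comm]) := by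
  rw [commutatorElement_def, eich_inv, eich_inv, eich_mul, eich_mul, eich_mul]
  apply eich_congr
  · abel
  · simp [f.B_self v a ha, f.B_self w b hb]; ring

instance X_solvable {u : V} (hu : f.Q u = 0) : Group.IsSolvable (f.X u hu) := by
  refine ⟨⟨2, ?_⟩⟩
  have h1 : ∀ x ∈ derivedSeries (f.X u hu) 1, x ∈ Subgroup.center (f.X u hu) := by
    change ⁅(⊤ : Subgroup (f.X u hu)), (⊤ : Subgroup (f.X u hu))⁆ ≤ _
    rw [Subgroup.commutator_le]
    rintro ⟨_, v, a, hv, ha, rfl⟩ - ⟨_, w, b, hw, hb, rfl⟩ -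
    rw [Subgroup.mem_center_iff]
    rintro ⟨_, x, c, hx, hc, rfl⟩
    apply Subtype.ext
    change f.eich u x c hu hx hc * ⁅f.eich u v a hu hv ha, f.eich u w b hu hw hb⁆ =
      ⁅f.eich u v a hu hv ha, f.eich u w b hu hw hb⁆ * f.eich u x c hu hx hc
    rw [eich_commutator, eich_mul, eich_mul]
    apply eich_congr
    · abel
    · simp; ring
  rw [derivedSeries_succ, Subgroup.commutator_eq_bot_iff_le_centralizer]
  intro x hx y hy
  exact Subgroup.mem_center_iff.1 (h1 x hx) y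

theorem X_trans {u r s : V} (hu : f.Q u = 0) (hr : f.Q r = 0) (hs : f.Q s = 0)
    (hur : f.B u r = 1) (hus : f.B u s = 1) : ∃ g ∈ f.X u hu, g r = s := by
  have h : f.IsHyp u r := ⟨hu, hr, hur⟩
  have hw := mem_hperp.1 (h.proj_mem s)
  have hQ := h.Q_eq s
  rw [hs, hus, mul_one] at hQ
  rw [hus] at hw
  refine ⟨_, eich_mem_X (a := -P.σ (P.ε * f.B r s)) hu hw.1 (by rw [map_neg]; linear_combination hQ), ?_⟩
  rw [eich_apply, hur, B_comm_zero hw.2, map_neg, P.σσ]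
  module

/-- Enough good vectors. -/
def GoodC (f : FS P V) : Prop := ∀ p s w, f.IsHyp s w → f.Q p = 0 → (f.B s p = 0 ∧ f.B w p = 0) →
  ∃ v a, a ≠ 0 ∧ P.τ a = f.Q v ∧ f.B p v = 0 ∧ f.B s v = 0 ∧ f.B w v = 0

theorem goodC_of_ker {c : F} (hc : c ≠ 0) (hτ : P.τ c = 0) : f.GoodC :=
  fun _ _ _ _ _ _ => ⟨0, c, hc, by simp [hτ], by simp, by simp, by simp⟩

theorem Nondeg.exists_opp_of_orth (hf : f.Nondeg) {p r : V} (hp : f.Q p = 0) (hr : f.Q r = 0)
    (hpr : f.B p r = 0) (hli : LinearIndependent F ![p, r]) :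
    ∃ s, f.Q s = 0 ∧ f.B p s = 1 ∧ f.B r s = 1 := by
  obtain ⟨s, hs⟩ := hf.exists_dual_family hli (fun _ => 1)
  have h0 : f.B p s = 1 := hs 0
  have h1 : f.B r s = 1 := hs 1
  obtain ⟨c, hc⟩ := exists_singular_add hp h0
  exact ⟨s + c • p, hc, by simp [h0, B_self_of_Q hp], by simp [h1, B_comm_zero hpr]⟩

theorem exists_opp (hf : f.Nondeg) (hG : f.GoodC) {p r : V} (hp : f.Q p = 0) (hr : f.Q r = 0)
    (hli : LinearIndependent F ![p, r]) :
    ∃ s, f.Q s = 0 ∧ f.B p s ≠ 0 ∧ f.B r s ≠ 0 := by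
  by_cases hpr : f.B p r = 0
  · obtain ⟨s, h1, h2, h3⟩ := hf.exists_opp_of_orth hp hr hpr hli
    exact ⟨s, h1, by simp [h2], by simp [h3]⟩
  · have h := isHyp_of_ne hp hr hpr
    obtain ⟨v, a, ha, hτ, -, h1, h2⟩ := hG 0 _ _ h (by simp) (by simp)
    have h2' : f.B r v = 0 := by simpa [hpr] using h2
    refine ⟨f.eich p v a hp h1 hτ r, by rw [Isom_Q (f.eich_mem _ _ _ _ _ _), hr], ?_, ?_⟩
    · simpa [eich_apply, h1, B_self_of_Q hp] using hpr
    · simp [eich_apply, h2', B_comm_zero h2', B_self_of_Q hr, ha, hpr, B_ne_zero_comm hpr]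

section action
variable {G : Type*} [Group G] [DistribMulAction G V] [SMulCommClass G F V]

/-- The singular points. -/
def sing (f : FS P V) (G : Type*) [Group G] [DistribMulAction G V] [SMulCommClass G F V]
    (hI : ∀ (g : G) x, f.Q (g • x) = f.Q x) : SubMulAction G (ℙ F V) where
  carrier := {p | f.Q p.rep = 0}
  smul_mem' g p hp := by
    rw [← p.mk_rep, Projectivization.smul_mk]
    obtain ⟨a, ha⟩ := Projectivization.exists_smul_eq_mk_rep F _
      ((smul_ne_zero_iff_ne g).2 p.rep_nonzero)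
    change f.Q _ = 0
    rw [← ha, Units.smul_def, Q_smul, hI, hp, mul_zero]

theorem Q_rep_mk {v : V} (hv : v ≠ 0) (hQ : f.Q v = 0) : f.Q (Projectivization.mk F v hv).rep = 0 := by
  obtain ⟨a, ha⟩ := Projectivization.exists_smul_eq_mk_rep F v hv
  rw [← ha, Units.smul_def, Q_smul, hQ, mul_zero]

/-- The singular point of a singular vector. -/
def pt (hI : ∀ (g : G) x, f.Q (g • x) = f.Q x) (v : V) (hv : v ≠ 0) (hQ : f.Q v = 0) :
    f.sing G hI := ⟨Projectivization.mk F v hv, Q_rep_mk hv hQ⟩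

variable {hI : ∀ (g : G) x, f.Q (g • x) = f.Q x}

theorem pt_surj (x : f.sing G hI) : ∃ v hv hQ, x = pt hI v hv hQ :=
  ⟨x.1.rep, x.1.rep_nonzero, x.2, Subtype.ext x.1.mk_rep.symm⟩

theorem smul_pt (g : G) (v : V) (hv : v ≠ 0) (hQ : f.Q v = 0) :
    g • pt hI v hv hQ = pt hI (g • v) ((smul_ne_zero_iff_ne g).2 hv) (by rw [hI, hQ]) := rfl

theorem pt_eq_iff {v w : V} {hv : v ≠ 0} {hQ : f.Q v = 0} {hw : w ≠ 0} {hQ' : f.Q w = 0} :
    pt hI v hv hQ = pt hI w hw hQ' ↔ ∃ c : F, c • w = v := by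
  rw [Subtype.ext_iff]
  exact Projectivization.mk_eq_mk_iff' F v w hv hw

theorem li_of_pt_ne {v w : V} {hv : v ≠ 0} {hQ : f.Q v = 0} {hw : w ≠ 0} {hQ' : f.Q w = 0}
    (h : pt hI v hv hQ ≠ pt hI w hw hQ') : LinearIndependent F ![v, w] := by
  rw [LinearIndependent.pair_iff' hv]
  intro a ha
  exact h (pt_eq_iff.2 ⟨a, ha⟩).symm

theorem trans_opp (hE : ∀ u hu, ∀ x ∈ f.X u hu, ∃ g : G, ∀ v, g • v = x v)
    {s r r' : V} {hs : s ≠ 0} {hsQ : f.Q s = 0} {hr : r ≠ 0} {hrQ : f.Q r = 0}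
    {hr' : r' ≠ 0} {hrQ' : f.Q r' = 0} (h1 : f.B s r ≠ 0) (h2 : f.B s r' ≠ 0) :
    ∃ g : G, g • pt hI s hs hsQ = pt hI s hs hsQ ∧ g • pt hI r hr hrQ = pt hI r' hr' hrQ' := by
  have a1 := isHyp_of_ne hsQ hrQ h1
  have a2 := isHyp_of_ne hsQ hrQ' h2
  obtain ⟨x, hx, hxr⟩ := X_trans hsQ a1.Q2 a2.Q2 a1.B12 a2.B12
  obtain ⟨g, hg⟩ := hE _ _ x hx
  refine ⟨g, ?_, ?_⟩
  · rw [smul_pt, pt_eq_iff]
    exact ⟨1, by rw [hg, X_fix hsQ hx, one_smul]⟩
  · rw [smul_pt, pt_eq_iff]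
    refine ⟨f.B s r * (f.B s r')⁻¹, ?_⟩
    rw [hg, mul_smul, ← hxr, map_smul, smul_smul, mul_inv_cancel₀ h1, one_smul]

theorem isPretransitive_sing (hf : f.Nondeg) (hG : f.GoodC)
    (hE : ∀ u hu, ∀ x ∈ f.X u hu, ∃ g : G, ∀ v, g • v = x v) :
    MulAction.IsPretransitive G (f.sing G hI) := by
  refine ⟨fun x y => ?_⟩
  by_cases hxy : x = y
  · exact ⟨1, by simp [hxy]⟩
  obtain ⟨p, hp, hpQ, rfl⟩ := pt_surj x
  obtain ⟨r, hr, hrQ, rfl⟩ := pt_surj y
  obtain ⟨s, hsQ, h1, h2⟩ := exists_opp hf hG hpQ hrQ (li_of_pt_ne hxy)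
  have hs : s ≠ 0 := fun h => by simp [h] at h1
  obtain ⟨g, -, hg⟩ := trans_opp (hI := hI) hE (hs := hs) (hsQ := hsQ) (hr := hp) (hrQ := hpQ)
    (hr' := hr) (hrQ' := hrQ) (B_ne_zero_comm h1) (B_ne_zero_comm h2)
  exact ⟨g, hg⟩

theorem isPreprimitive_sing (hf : f.Nondeg) (hG : f.GoodC)
    (hE : ∀ u hu, ∀ x ∈ f.X u hu, ∃ g : G, ∀ v, g • v = x v) :
    MulAction.IsPreprimitive G (f.sing G hI) := by
  have := isPretransitive_sing (hI := hI) hf hG hE
  refine ⟨fun {B} hB => ?_⟩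
  by_cases hs : B.Subsingleton
  · exact Or.inl hs
  right
  have step1 : ∀ {s r r' : V} {hs : s ≠ 0} {hsQ : f.Q s = 0} {hr : r ≠ 0} {hrQ : f.Q r = 0}
      {hr' : r' ≠ 0} {hrQ' : f.Q r' = 0}, f.B s r ≠ 0 → f.B s r' ≠ 0 → pt hI s hs hsQ ∈ B →
      pt hI r hr hrQ ∈ B → pt hI r' hr' hrQ' ∈ B := by
    intro s r r' hs hsQ hr hrQ hr' hrQ' h1 h2 m1 m2
    obtain ⟨g, g1, g2⟩ := trans_opp (hI := hI) hE (hs := hs) (hsQ := hsQ) (hr := hr) (hrQ := hrQ)
      (hr' := hr') (hrQ' := hrQ') h1 h2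
    have := hB.smul_eq_of_mem m1 (g1.symm ▸ m1)
    rw [← g2, ← this]
    exact Set.smul_mem_smul_set m2
  have step2 : ∀ {p r : V} {hp : p ≠ 0} {hpQ : f.Q p = 0} {hr : r ≠ 0} {hrQ : f.Q r = 0},
      f.B p r ≠ 0 → pt hI p hp hpQ ∈ B → pt hI r hr hrQ ∈ B → B = Set.univ := by
    intro p r hp hpQ hr hrQ h m1 m2
    rw [Set.eq_univ_iff_forall]
    intro y
    obtain ⟨t, ht, htQ, rfl⟩ := pt_surj y
    by_cases hy : pt hI p hp hpQ = pt hI t ht htQ
    · exact hy ▸ m1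
    obtain ⟨s, hsQ, h1, h2⟩ := exists_opp hf hG hpQ htQ (li_of_pt_ne hy)
    have hs : s ≠ 0 := fun h => by simp [h] at h1
    have m3 : pt hI s hs hsQ ∈ B := step1 h h1 m1 m2
    exact step1 (B_ne_zero_comm h1) (B_ne_zero_comm h2) m3 m1
  obtain ⟨x, hx, y, hy, hxy⟩ := Set.not_subsingleton_iff.1 hs
  obtain ⟨p, hp, hpQ, rfl⟩ := pt_surj x
  obtain ⟨r, hr, hrQ, rfl⟩ := pt_surj y
  by_cases hpr : f.B p r ≠ 0
  · exact step2 hpr hx hy
  push Not at hpr
  have hli := li_of_pt_ne hxy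
  obtain ⟨s, hrs, hsp⟩ := hf.exists_partner hrQ (Z := Submodule.span F {p})
    (by
      rw [Submodule.mem_span_singleton]
      rintro ⟨a, ha⟩
      exact (LinearIndependent.pair_iff' hp).1 hli a ha)
    (fun z hz => mem_perp_span.2 (by simpa using hpr) z hz)
  have hps : f.B p s = 0 := hsp p (Submodule.mem_span_singleton_self p)
  obtain ⟨v, a, ha, hτ, h1, h2, h3⟩ := hG p r s hrs hpQ ⟨B_comm_zero hpr, B_comm_zero hps⟩
  obtain ⟨g, hg⟩ := hE _ _ _ (eich_mem_X hrs.Q2 h3 hτ)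
  have g1 : g • pt hI p hp hpQ = pt hI p hp hpQ := by
    rw [smul_pt, pt_eq_iff]
    exact ⟨1, by rw [hg, f.eich_apply_of_orth _ _ _ (B_comm_zero hps) (B_comm_zero h1), one_smul]⟩
  have := hB.smul_eq_of_mem hx (g1.symm ▸ hx)
  have m3 : g • pt hI r hr hrQ ∈ B := this ▸ Set.smul_mem_smul_set hy
  rw [smul_pt] at m3
  refine step2 ?_ hy m3
  rw [hg]
  simp [eich_apply, hrs.B11, hrs.B12, hrs.B21, h2, B_comm_zero h2, ha, P.ε_ne]

theorem simple_of_sing (hf : f.Nondeg) (hG : f.GoodC)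
    (hE : ∀ u hu, ∀ x ∈ f.X u hu, ∃ g : G, ∀ v, g • v = x v) {u : V} (hu : u ≠ 0) (huQ : f.Q u = 0)
    (hI : ∀ (g : G) x, f.Q (g • x) = f.Q x)
    (A : Subgroup G) [Group.IsSolvable A]
    (hA : ∀ g : G, (∃ c : F, c • u = g • u) → ∀ x ∈ A, g * x * g⁻¹ ∈ A)
    (hgen : Subgroup.normalClosure (A : Set G) = ⊤) (hperf : commutator G = ⊤)
    (hker : ∀ g : G, (∀ v, v ≠ 0 → f.Q v = 0 → ∃ c : F, c • v = g • v) → g ∈ Subgroup.center G)
    (hne : Subgroup.center G ≠ ⊤) : IsSimpleGroup (G ⧸ Subgroup.center G) := by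
  have := isPreprimitive_sing (hI := hI) hf hG hE
  refine isSimpleGroup_quotient_center' (pt hI u hu huQ) A (fun g hg => hA g ?_) hgen hperf
    (fun g hg => hker g fun v hv hvQ => ?_) hne
  · rwa [smul_pt, pt_eq_iff] at hg
  · have := hg (pt hI v hv hvQ)
    rwa [smul_pt, pt_eq_iff] at this

end action

theorem scalar_of_fix_points (hf : f.Nondeg) (hG : f.GoodC) {u : V} (hu : u ≠ 0) (huQ : f.Q u = 0)
    {g : V ≃ₗ[F] V} (hg : g ∈ f.Isom) (h : ∀ v, v ≠ 0 → f.Q v = 0 → ∃ c : F, c • v = g v) :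
    ∃ c : F, ∀ x, g x = c • x := by
  obtain ⟨r, hr⟩ := hf.exists_partner' huQ hu
  obtain ⟨l, hl⟩ := h u hu huQ
  obtain ⟨m, hm⟩ := h r hr.ne2 hr.Q2
  have hl0 : l ≠ 0 := by rintro rfl; exact hu (by simpa using hl.symm)
  have hm0 : m ≠ 0 := by rintro rfl; exact hr.ne2 (by simpa using hm.symm)
  have key : ∀ v a, f.B u v = 0 → f.B r v = 0 → P.τ a = f.Q v →
      g v = m • v ∧ P.σ a * (l - m) = 0 := by
    intro v a h1 h2 ha
    have hs : f.eich u v a huQ h1 ha r = r + v - P.σ a • u := by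
      simp [eich_apply, hr.B12, B_comm_zero h2]
    have hsu : f.B u (r + v - P.σ a • u) = 1 := by simp [hr.B12, hr.B11, h1]
    obtain ⟨n, hn⟩ := h (r + v - P.σ a • u) (fun h0 => by simp [h0] at hsu)
      (by rw [← hs, Isom_Q (f.eich_mem _ _ _ _ _ _), hr.Q2])
    rw [map_sub, map_add, map_smul, ← hl, ← hm] at hn
    have e1 : f.B u (g v) = 0 := by
      have := Isom_B hg u v
      rw [← hl, B_smul_left, h1, mul_eq_zero, P.σ_eq_zero] at this
      exact this.resolve_left hl0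
    have e2 : f.B r (g v) = 0 := by
      have := Isom_B hg r v
      rw [← hm, B_smul_left, h2, mul_eq_zero, P.σ_eq_zero] at this
      exact this.resolve_left hm0
    have e3 := congrArg (f.B u) hn
    have e4 := congrArg (f.B r) hn
    simp only [map_smul, map_sub, map_add, hr.B11, hr.B12, hr.B21, hr.B22, h1, h2, e1, e2,
      smul_eq_mul] at e3 e4
    have e5 : n = m := by linear_combination e3
    have e6 : P.σ a * (l - m) = 0 := by
      apply mul_left_cancel₀ P.ε_ne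
      rw [← e5]; linear_combination e4
    refine ⟨?_, e6⟩
    have e7 : (P.σ a * (l - m)) • u = 0 := by rw [e6, zero_smul]
    rw [e5] at hn
    linear_combination (norm := module) e7 - hn
  obtain ⟨v, a, ha, hτ, -, h1, h2⟩ := hG 0 _ _ hr (by simp) (by simp)
  have hlm : l = m := by
    have := (key v a h1 h2 hτ).2
    rw [mul_eq_zero, P.σ_eq_zero, sub_eq_zero] at this
    exact this.resolve_left ha
  refine ⟨m, fun x => ?_⟩
  obtain ⟨a, b, w, hw, rfl⟩ := hr.decomp x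
  obtain ⟨c, hc⟩ := f.ex w
  rw [map_add, map_add, map_smul, map_smul, ← hl, ← hm, hlm,
    (key w c (mem_hperp.1 hw).1 (mem_hperp.1 hw).2 hc).1]
  module

theorem Q_EO_smul (g : f.EO) (x : V) : f.Q (g • x) = f.Q x := Isom_Q (EO_le_Isom g.2) x

theorem EO_trans (hf : f.Nondeg) (hG : f.GoodC) {u v : V} (hu : u ≠ 0) (huQ : f.Q u = 0)
    (hv : v ≠ 0) (hvQ : f.Q v = 0) : ∃ g ∈ f.EO, ∃ c : F, c • v = g u := by
  have := isPretransitive_sing (G := f.EO) (hI := Q_EO_smul) hf hG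
    (fun u hu x hx => ⟨⟨x, X_le_EO hu hx⟩, fun _ => rfl⟩)
  obtain ⟨g, hg⟩ := MulAction.exists_smul_eq f.EO (pt Q_EO_smul u hu huQ) (pt Q_EO_smul v hv hvQ)
  rw [smul_pt, pt_eq_iff] at hg
  exact ⟨g, g.2, hg⟩

theorem center_EO_ne_top (hf : f.Nondeg) (hG : f.GoodC) {u : V} (hu : u ≠ 0) (huQ : f.Q u = 0) :
    Subgroup.center f.EO ≠ ⊤ := by
  intro h
  obtain ⟨r, hr⟩ := hf.exists_partner' huQ hu
  obtain ⟨v, a, ha, hτ, -, h1, h2⟩ := hG 0 _ _ hr (by simp) (by simp)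
  obtain ⟨g, hg, c, hc⟩ := EO_trans hf hG hu huQ hr.ne2 hr.Q2
  have h3 := Subgroup.mem_center_iff.1
    (h ▸ Subgroup.mem_top (⟨_, eich_mem_EO huQ h1 hτ⟩ : f.EO)) ⟨g, hg⟩
  have h4 := congrArg (fun g : f.EO => f.B r (g.1 u)) h3
  have hc0 : c ≠ 0 := by rintro rfl; exact hu (by simpa using hc.symm)
  simp only [Subgroup.coe_mul, LinearEquiv.mul_apply, f.eich_apply_self, ← hc] at h4
  simp [eich_apply, hr.B11, hr.B12, hr.B21, hr.B22, h1, h2,
    B_comm_zero h1, B_comm_zero h2, hc0, ha, P.ε_ne] at h4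

theorem EO_simple (hf : f.Nondeg) (hG : f.GoodC) {u : V} (hu : u ≠ 0) (huQ : f.Q u = 0)
    (hperf : commutator f.EO = ⊤) : IsSimpleGroup (f.EO ⧸ Subgroup.center f.EO) := by
  have : Group.IsSolvable ((f.X u huQ).subgroupOf f.EO) :=
    solvable_of_surjective (f := (Subgroup.subgroupOfEquivOfLe (X_le_EO huQ)).symm.toMonoidHom)
      (MulEquiv.surjective _)
  refine simple_of_sing hf hG (fun u hu x hx => ⟨⟨x, X_le_EO hu hx⟩, fun _ => rfl⟩) hu huQ Q_EO_smul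
    ((f.X u huQ).subgroupOf f.EO)
    (fun g hg x hx => ?_) ?_ hperf (fun g hg => ?_) (center_EO_ne_top hf hG hu huQ)
  · obtain ⟨c, hc⟩ := hg
    have := conj_mem_X huQ (EO_le_Isom g.2) hx
    have e : (g : V ≃ₗ[F] V) u = c • u := hc.symm
    simp only [e] at this
    exact X_smul_le huQ c this
  · rw [eq_top_iff]
    rintro ⟨g, hg⟩ -
    induction hg using Subgroup.closure_induction with
    | mem x hx =>
      obtain ⟨v, hvQ, hx⟩ := hx
      by_cases hv : v = 0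
      · obtain ⟨w, a, h1, h2, rfl⟩ := hx
        have : f.eich v w a hvQ h1 h2 = 1 := by ext x; simp [eich_apply, hv]
        simp only [this]
        exact Subgroup.one_mem _
      obtain ⟨g, hg, c, hc⟩ := EO_trans hf hG hv hvQ hu huQ
      have h1 := conj_mem_X hvQ (EO_le_Isom hg) hx
      simp only [← hc] at h1
      have h2 : (⟨g, hg⟩ * ⟨x, X_le_EO hvQ hx⟩ * ⟨g, hg⟩⁻¹ : f.EO) ∈
          Subgroup.normalClosure ((f.X u huQ).subgroupOf f.EO : Set f.EO) :=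
        Subgroup.subset_normalClosure (X_smul_le huQ c h1)
      have h3 := Subgroup.Normal.conj_mem inferInstance _ h2 ⟨g, hg⟩⁻¹
      have h4 : ∀ a b : f.EO, a⁻¹ * (a * b * a⁻¹) * a⁻¹⁻¹ = b := fun a b => by group
      rwa [h4] at h3
    | one => exact Subgroup.one_mem _
    | mul x y hx hy h1 h2 => exact Subgroup.mul_mem _ h1 h2
    | inv x hx h1 => exact Subgroup.inv_mem _ h1
  · obtain ⟨c, hc⟩ := scalar_of_fix_points hf hG hu huQ (EO_le_Isom g.2) hg
    rw [Subgroup.mem_center_iff]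
    intro h
    apply Subtype.ext
    ext x
    simp [hc]

end FS

end Cfsg.Agent.Class
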