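import Cfsg.Agent.Class.Orth4
import Cfsg.Agent.Class.Lin2

/-! More symplectic geometry; maximal totally singular subspaces of hyperbolic quadrics. -/

set_option autoImplicit false

namespace Cfsg.Agent.Class

open Module Matrix

variable {F : Type*} [Field F] {V : Type*} [AddCommGroup V] [Module F V]
  {U : Type*} [AddCommGroup U] [Module F U]

namespace FS

theorem sp_even (n : ℕ) : ∀ {V : Type*} [AddCommGroup V] [Module F V] [FiniteDimensional F V]
    {f : FS (FP.sp F) V}, f.Nondeg → finrank F V = n → Even n := by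
  induction n using Nat.strong_induction_on with
  | _ n ih =>
    intro V _ _ _ f hf hn
    rcases Nat.eq_zero_or_pos n with rfl | h
    · simp
    have := Module.nontrivial_of_finrank_pos (R := F) (M := V) (by omega)
    obtain ⟨u, hu⟩ := exists_ne (0 : V)
    obtain ⟨v, h⟩ := hf.exists_partner' (f.sp_Q u) hu
    have h1 := h.finrank_hperp
    have := ih _ (by omega) (h.nondeg_hperp hf) rfl
    rw [← hn, ← h1]; exact this.add even_two

theorem sp_isIso (n : ℕ) : ∀ {V : Type*} [AddCommGroup V] [Module F V] [FiniteDimensional F V]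
    {U : Type*} [AddCommGroup U] [Module F U] [FiniteDimensional F U]
    {f : FS (FP.sp F) V} {f' : FS (FP.sp F) U}, f.Nondeg → f'.Nondeg → finrank F V = n →
    finrank F U = n → ∃ e, f'.IsIso f e := by
  induction n using Nat.strong_induction_on with
  | _ n ih =>
    intro V _ _ _ U _ _ _ f f' hf hf' hn hn'
    rcases Nat.eq_zero_or_pos n with rfl | h
    · have := (finrank_zero_iff (R := F)).1 hn
      have := (finrank_zero_iff (R := F)).1 hn'
      exact isIso_of_subsingleton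
    have := Module.nontrivial_of_finrank_pos (R := F) (M := V) (by omega)
    have := Module.nontrivial_of_finrank_pos (R := F) (M := U) (by omega)
    obtain ⟨u, hu⟩ := exists_ne (0 : V)
    obtain ⟨v, h⟩ := hf.exists_partner' (f.sp_Q u) hu
    obtain ⟨u', hu'⟩ := exists_ne (0 : U)
    obtain ⟨v', h'⟩ := hf'.exists_partner' (f'.sp_Q u') hu'
    have h1 := h.finrank_hperp
    have h2 := h'.finrank_hperp
    obtain ⟨e, he⟩ := ih (n - 2) (by omega) (h.nondeg_hperp hf) (h'.nondeg_hperp hf') (by omega) (by omega)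
    obtain ⟨e', he', -⟩ := h'.glue h he
    exact ⟨e', he'⟩

/-- The order of a symplectic group of dimension `n`. -/
def spCard (q n : ℕ) : ℕ := q ^ ((n / 2) ^ 2) * ∏ i ∈ Finset.range (n / 2), (q ^ (2 * (i + 1)) - 1)

theorem sp_card_Isom' [Finite F] [FiniteDimensional F V] {f : FS (FP.sp F) V} (hf : f.Nondeg) :
    Nat.card f.Isom = spCard (Nat.card F) (finrank F V) :=
  sp_card_Isom _ hf (Nat.two_mul_div_two_of_even (sp_even _ hf rfl)).symm

theorem card_ker_sp : Nat.card (FP.sp F).τ.ker = Nat.card F := by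
  rw [show (FP.sp F).τ.ker = ⊤ from AddMonoidHom.ker_zero, AddSubgroup.card_top]

theorem sp_ts {f : FS (FP.sp F) V} {W : Submodule F V} : f.TS W ↔ ∀ x ∈ W, ∀ y ∈ W, f.B x y = 0 :=
  and_iff_right fun x _ => f.sp_Q x

theorem sp_card_fix [Finite F] [FiniteDimensional F V] {f : FS (FP.sp F) V} (hf : f.Nondeg)
    {W : Submodule F V} (hW : f.TS W) {m k : ℕ} (hm : finrank F V = 2 * m) (hk : finrank F W = k) :
    Nat.card (f.Isom ⊓ fix (W : Set V) : Subgroup (V ≃ₗ[F] V)) =
      Nat.card F ^ (k * (k + 1) / 2 + 2 * k * (m - k)) * spCard (Nat.card F) (2 * (m - k)) := by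
  have h1 := hW.two_mul_finrank_le hf
  rw [card_fix_ts' (spCard (Nat.card F)) sp_card_Isom' hf hW, card_ker_sp, hm, hk, ← pow_add,
    Nat.mul_sub 2 m k]
  congr 2
  have h2 := tsExp_spec k (2 * m) (by omega)
  have h3 : 2 * (k * (k + 1) / 2) = k * (k + 1) := Nat.two_mul_div_two_of_even (Nat.even_mul_succ_self k)
  have h4 : k ≤ m := by omega
  zify [h4] at h2 h3 ⊢
  linarith

theorem card_stab_ts_emb {P : FP F} {f : FS P V} [FiniteDimensional F V] (hf : f.Nondeg)
    (L : U →ₗ[F] V) (hL : Function.Injective L) (h : f.TS (LinearMap.range L))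
    (H : Subgroup (U ≃ₗ[F] U)) {G : Subgroup (V ≃ₗ[F] V)}
    (hG : ∀ g, g ∈ G ↔ g ∈ f.Isom ∧ ∃ h ∈ H, ∀ x, g (L x) = L (h x)) :
    Nat.card G = Nat.card H *
      Nat.card (f.Isom ⊓ fix (LinearMap.range L : Set V) : Subgroup (V ≃ₗ[F] V)) := by
  let e := LinearEquiv.ofInjective L hL
  rw [← Subgroup.card_map_of_injective (f := (autCongr e).toMonoidHom) (autCongr e).injective,
    ← card_stab_ts hf h]
  congr 2
  ext g
  rw [hG]
  refine and_congr_right fun _ => ⟨?_, ?_⟩
  · rintro ⟨k, hk, h1⟩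
    refine ⟨⟨g, mem_stab_of_le ?_⟩, ⟨k, hk, ?_⟩, rfl⟩
    · rintro _ ⟨x, rfl⟩; exact ⟨_, (h1 x).symm⟩
    · ext x
      obtain ⟨x, rfl⟩ := e.surjective x
      simp only [MulEquiv.coe_toMonoidHom, autCongr_apply, LinearEquiv.symm_apply_apply, resHom_apply]
      exact (h1 x).symm
  · rintro ⟨g, ⟨k, hk, h1⟩, rfl⟩
    refine ⟨k, hk, fun x => ?_⟩
    have := (congrArg (fun t => (t (e x) : V)) h1).symm
    simp only [MulEquiv.coe_toMonoidHom, autCongr_apply, LinearEquiv.symm_apply_apply, resHom_apply] at this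
    exact this

/-! ### Maximal totally singular subspaces -/

variable {f : OS F V}

theorem TS.eq_perp {P : FP F} {f : FS P V} [FiniteDimensional F V] (hf : f.Nondeg) {W : Submodule F V}
    (h : f.TS W) (hn : finrank F V = 2 * finrank F W) : f.perp W = W := by
  have := hf.finrank_perp W
  exact (Submodule.eq_of_le_of_finrank_le h.le_perp (by omega)).symm

theorem ts_sup_span {P : FP F} {f : FS P V} {Y : Submodule F V} (h : f.TS Y) {a : V} (ha : f.Q a = 0)
    (ha' : a ∈ f.perp Y) : f.TS (Y ⊔ Submodule.span F {a}) := by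
  rw [← Y.span_eq, ← Submodule.span_union]
  refine ts_span ?_ ?_
  · rintro x (hx | rfl)
    exacts [h.1 x hx, ha]
  · rintro x (hx | rfl) y (hy | rfl)
    exacts [h.2 x hx y hy, ha' x hx, B_comm_zero (ha' y hy), B_self_of_Q ha]

theorem two_max [FiniteDimensional F V] (hf : f.Nondeg) {W Y : Submodule F V} (hW : f.TS W)
    (hn : finrank F V = 2 * finrank F W) (hY : Y ≤ W) (hYW : finrank F Y + 1 = finrank F W) :
    ∃ W', f.TS W' ∧ finrank F W' = finrank F W ∧ Y ≤ W' ∧ W ⊓ W' = Y ∧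
      ∀ X, (∀ x ∈ X, f.Q x = 0) → X ≤ f.perp Y → X ≤ W ∨ X ≤ W' := by
  obtain ⟨a, haW, haY⟩ := SetLike.exists_of_lt (lt_of_le_of_ne hY (by rintro rfl; omega))
  obtain ⟨b, h, hb⟩ := hf.exists_partner (hW.1 a haW) haY fun z hz => hW.2 z (hY hz) a haW
  have hbW : b ∉ W := fun hb => by simpa [hW.2 a haW b hb] using h.B12
  have hW1 : Y ⊔ Submodule.span F {a} = W := Submodule.eq_of_le_of_finrank_eq
    (sup_le hY (by simpa using haW)) (by rw [Submodule.finrank_sup_span_singleton haY, hYW])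
  have h1 := ts_sup_span (hW.mono hY) h.Q2 hb
  have h2 : finrank F (Y ⊔ Submodule.span F {b} :) = finrank F W := by
    rw [Submodule.finrank_sup_span_singleton fun h => hbW (hY h), hYW]
  have h3 : f.perp Y = W ⊔ Submodule.span F {b} := by
    have := hf.finrank_perp Y
    refine (Submodule.eq_of_le_of_finrank_le (sup_le (hW.le_perp.trans (perp_anti hY)) ?_) ?_).symm
    · exact (Submodule.span_singleton_le_iff_mem _ _).2 hb
    · rw [Submodule.finrank_sup_span_singleton hbW]; omega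
  refine ⟨_, h1, h2, le_sup_left, le_antisymm ?_ (le_inf hY le_sup_left), fun X hX hXY => ?_⟩
  · rintro x ⟨hx, hx'⟩
    obtain ⟨y, hy, _, ⟨t, rfl⟩, rfl⟩ := by simpa only [Submodule.mem_span_singleton] using Submodule.mem_sup.1 hx'
    have := hW.2 a haW _ hx
    simp only [map_add, hW.2 a haW y (hY hy), map_smul, h.B12, smul_eq_mul, mul_one, zero_add] at this
    simpa [this] using hy
  · have : ∀ x ∈ X, x ∈ W ∨ x ∈ Y ⊔ Submodule.span F {b} := fun x hx => by
      have h4 := hXY hx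
      rw [h3, ← hW1] at h4
      simp only [Submodule.mem_sup, Submodule.mem_span_singleton] at h4
      obtain ⟨_, ⟨y, hy, _, ⟨s, rfl⟩, rfl⟩, _, ⟨t, rfl⟩, rfl⟩ := h4
      have h5 := hX _ hx
      simp only [orth_Q_add, orth_Q_smul, h.Q1, h.Q2, hW.1 y (hY hy), map_add, map_smul, B_smul_left,
        LinearMap.add_apply, hb y hy, hW.2 y (hY hy) a haW, h.B12] at h5
      rcases (by simpa using h5 : t = 0 ∨ s = 0) with rfl | rfl
      · left; simpa using W.add_mem (hY hy) (W.smul_mem _ haW)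
      · right; simpa using Submodule.add_mem_sup hy (Submodule.smul_mem _ _ (Submodule.mem_span_singleton_self b))
    by_contra hc
    simp only [not_or, SetLike.not_le_iff_exists] at hc
    obtain ⟨⟨x, hx, hx'⟩, y, hy, hy'⟩ := hc
    rcases this _ (X.add_mem hx hy) with h4 | h4
    · exact hx' ((W.add_mem_iff_left ((this y hy).resolve_right hy')).1 h4)
    · exact hy' ((Submodule.add_mem_iff_right _ ((this x hx).resolve_left hx')).1 h4)

theorem card_max_containing [FiniteDimensional F V] (hf : f.Nondeg) {m : ℕ} (hn : finrank F V = 2 * m)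
    (hw : f.wi m) {Y : Submodule F V} (hY : f.TS Y) (hYm : finrank F Y + 1 = m) :
    Nat.card {W : Submodule F V // finrank F W = m ∧ f.TS W ∧ Y ≤ W} = 2 := by
  obtain ⟨W₀, h0, h0'⟩ := hw.exists_eq
  obtain ⟨φ, hφ⟩ := (finrank_le_iff_exists_linearMap (R := F) (M := Y) (M' := W₀)).1 (by omega)
  obtain ⟨g, hg, hh⟩ := hY.witt hf h0 φ hφ
  set W := W₀.comap (g : V →ₗ[F] V)
  have h1 : f.TS W := orth_ts.2 fun x hx => (Isom_Q hg x).symm.trans (h0.1 _ hx)
  have h2 : finrank F W = m := by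
    rw [show W = _ from Submodule.comap_equiv_eq_map_symm g W₀, LinearEquiv.finrank_map_eq, h0']
  have h3 : Y ≤ W := fun y hy => by
    change g y ∈ W₀
    rw [hh ⟨y, hy⟩]; exact (φ _).2
  obtain ⟨W', h4, h5, h6, h7, h8⟩ := two_max hf h1 (by omega) h3 (by omega)
  refine (Nat.card_eq_two_iff' ⟨W, h2, h1, h3⟩).2 ⟨⟨W', h5.trans h2, h4, h6⟩, fun h => ?_, fun X hX => ?_⟩
  · rw [show W' = W from congrArg Subtype.val h, inf_idem] at h7
    rw [h7] at h2; omega
  · rcases h8 X.1 X.2.2.1.1 (X.2.2.1.le_perp.trans (perp_anti X.2.2.2)) with h | h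
    · exact absurd (Subtype.ext (Submodule.eq_of_le_of_finrank_eq h (by rw [X.2.1, h2]))) hX
    · exact Subtype.ext (Submodule.eq_of_le_of_finrank_eq h (by rw [X.2.1, h5, h2]))

theorem parity_step [FiniteDimensional F V] (hf : f.Nondeg) {m : ℕ} (hn : finrank F V = 2 * m)
    {W W' Y X : Submodule F V} (hW : f.TS W) (hW' : f.TS W') (hY : W ⊓ W' = Y) (hYm : finrank F Y + 1 = m)
    (h : ∀ X, (∀ x ∈ X, f.Q x = 0) → X ≤ f.perp Y → X ≤ W ∨ X ≤ W') (hX : f.TS X)
    (hXm : finrank F X = m) : finrank F (X ⊓ W :) + 1 = finrank F (X ⊓ W' :) ∨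
      finrank F (X ⊓ W' :) + 1 = finrank F (X ⊓ W :) := by
  have h1 : finrank F (X ⊓ f.perp Y :) = finrank F (X ⊓ Y :) + 1 := by
    have h2 := hf.finrank_perp (X ⊔ Y)
    rw [perp_sup, hX.eq_perp hf (by omega)] at h2
    have := Submodule.finrank_sup_add_finrank_inf_eq X Y
    omega
  have h2 : W ≤ f.perp Y := hW.le_perp.trans (perp_anti (hY ▸ inf_le_left))
  have h3 : W' ≤ f.perp Y := hW'.le_perp.trans (perp_anti (hY ▸ inf_le_right))
  rcases h (X ⊓ f.perp Y) (fun x hx => hX.1 x hx.1) inf_le_right with h4 | h4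
  · right
    rw [show X ⊓ W = X ⊓ f.perp Y from le_antisymm (inf_le_inf_left _ h2) (le_inf inf_le_left h4),
      show X ⊓ W' = X ⊓ Y from le_antisymm (fun x hx => ⟨hx.1, hY ▸ ⟨h4 ⟨hx.1, h3 hx.2⟩, hx.2⟩⟩)
        (inf_le_inf_left _ (hY ▸ inf_le_right)), h1]
  · left
    rw [show X ⊓ W' = X ⊓ f.perp Y from le_antisymm (inf_le_inf_left _ h3) (le_inf inf_le_left h4),
      show X ⊓ W = X ⊓ Y from le_antisymm (fun x hx => ⟨hx.1, hY ▸ ⟨hx.2, h4 ⟨hx.1, h2 hx.2⟩⟩⟩)
        (inf_le_inf_left _ (hY ▸ inf_le_left)), h1]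

theorem parity_max [FiniteDimensional F V] (hf : f.Nondeg) {m : ℕ} (hn : finrank F V = 2 * m)
    {U W : Submodule F V} (hU : f.TS U) (hUm : finrank F U = m) (hW : f.TS W) (hWm : finrank F W = m)
    (k : ℕ) : ∀ X, f.TS X → finrank F X = m → finrank F (W ⊓ X :) + k = m →
      Even (finrank F (U ⊓ W :) + finrank F (U ⊓ X :) + k) := by
  induction k with
  | zero =>
    intro X hX hXm h
    have h1 := Submodule.eq_of_le_of_finrank_eq (inf_le_left : W ⊓ X ≤ W) (by omega)
    rw [Submodule.eq_of_le_of_finrank_eq (inf_eq_left.1 h1) (by omega)]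
    simp
  | succ k ih =>
    intro X hX hXm h
    obtain ⟨w, hw, hwX⟩ : ∃ w ∈ W, w ∉ X := SetLike.not_le_iff_exists.1 fun h' => by
      rw [inf_eq_left.2 h'] at h; omega
    have h1 : finrank F (X ⊓ f.perp (Submodule.span F {w}) :) + 1 = m := by
      have h2 := hf.finrank_perp (X ⊔ Submodule.span F {w})
      rw [perp_sup, hX.eq_perp hf (by omega), Submodule.finrank_sup_span_singleton hwX] at h2
      omega
    obtain ⟨X', h2, h3, h4, h5, h6⟩ := two_max hf hX (by omega) inf_le_left (h1.trans hXm.symm)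
    have h7 : w ∈ X' := by
      refine (Submodule.span_singleton_le_iff_mem _ _).1 ((h6 (Submodule.span F {w})
        (fun x hx => hW.1 x ((Submodule.span_singleton_le_iff_mem _ _).2 hw hx))
        ((le_perp_perp _).trans (perp_anti inf_le_right))).resolve_left ?_)
      simpa using hwX
    have h8 : W ⊓ X < W ⊓ X' := lt_of_le_of_ne (fun x hx => ⟨hx.1, h4 ⟨hx.2,
      mem_perp_singleton.2 (hW.2 _ hw _ hx.1)⟩⟩) fun h => hwX (h.ge ⟨hw, h7⟩).2
    have h9 := Submodule.finrank_lt_finrank_of_lt h8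
    have h10 := parity_step hf hn hX h2 h5 h1 h6 hW hWm
    have h11 := parity_step hf hn hX h2 h5 h1 h6 hU hUm
    have := ih X' h2 (h3.trans hXm) (by omega)
    rw [Nat.even_iff] at this ⊢
    omega

end FS

/-! ### The symplectic group in coordinates -/

variable {m : ℕ}

theorem sympForm_single (a b : Fin m ⊕ Fin m) (c d : F) :
    Cfsg.sympForm m F (Pi.single a c) (Pi.single b d) = c * d * J (Fin m) F a b := by
  simp [Cfsg.sympForm]; ring

theorem J_ne_zero_iff {a b : Fin m ⊕ Fin m} : J (Fin m) F a b ≠ 0 ↔ b = a.swap := by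
  rcases a with a | a <;> rcases b with b | b <;> simp [J, one_apply, eq_comm]

/-- The Levi complement of the Siegel parabolic. -/
def spLevi (m : ℕ) (F : Type*) [Field F] : GL (Fin m) F →* symplecticGroup (Fin m) F where
  toFun g := ⟨fromBlocks g.1 0 0 (g⁻¹).1ᵀ, by
    rw [SymplecticGroup.mem_iff]
    simp [J, fromBlocks_transpose, fromBlocks_multiply, ← transpose_mul]⟩
  map_one' := Subtype.ext (by simp)
  map_mul' g h := Subtype.ext (by simp [fromBlocks_multiply])

theorem spLevi_injective : Function.Injective (spLevi m F) := fun _ _ h =>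
  Units.ext (fromBlocks_inj.1 (congrArg Subtype.val h)).1

theorem mem_range_spLevi {A : symplecticGroup (Fin m) F} : A ∈ (spLevi m F).range ↔
    (∀ i j, A.1 (.inr i) (.inl j) = 0) ∧ ∀ i j, A.1 (.inl i) (.inr j) = 0 := by
  constructor
  · rintro ⟨g, rfl⟩; exact ⟨fun _ _ => rfl, fun _ _ => rfl⟩
  · rintro ⟨h1, h2⟩
    have h3 : A.1 = fromBlocks A.1.toBlocks₁₁ 0 0 A.1.toBlocks₂₂ := by
      ext (i | i) (j | j) <;> simp [h1, h2, toBlocks₁₁, toBlocks₂₂]
    have h4 := SymplecticGroup.mem_iff.1 A.2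
    rw [h3] at h4
    simp only [J, fromBlocks_transpose, fromBlocks_multiply, fromBlocks_inj] at h4
    have h5 : A.1.toBlocks₁₁ * A.1.toBlocks₂₂ᵀ = 1 := by simpa using h4.2.1
    exact ⟨⟨_, _, h5, mul_eq_one_comm.1 h5⟩, Subtype.ext h3.symm⟩

theorem mem_stab_coord {ι : Type*} [Fintype ι] [DecidableEq ι] {p : ι → Prop} {A : Matrix ι ι F}
    {g : (ι → F) ≃ₗ[F] (ι → F)} (hg : ∀ x, g x = A *ᵥ x) :
    g ∈ stab (coord F p) ↔ ∀ i j, p i → ¬ p j → A i j = 0 := by
  obtain ⟨g, rfl⟩ := glEquiv.surjective g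
  obtain rfl : g.1 = A := matrix_ext_mulVec hg
  exact mem_glStab_coord

theorem card_centralizer_swap :
    Nat.card (Subgroup.centralizer {Equiv.sumComm (Fin m) (Fin m)}) = 2 ^ m * m.factorial := by
  set s : Equiv.Perm (Fin m ⊕ Fin m) := Equiv.sumComm (Fin m) (Fin m)
  have h1 : s.cycleType.sum = 2 * m := by
    rw [Equiv.Perm.sum_cycleType, Finset.eq_univ_of_forall (s := s.support) (by
      rintro (a | a) <;> simp [s])]
    simp [two_mul]
  have h2 := Equiv.Perm.cycleType_of_pow_prime_eq_one (σ := s) (p := 2) (by ext a; simp [s, sq])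
  have h3 : s.cycleType.card = m := by rw [h2] at h1; simp at h1; omega
  rw [h3] at h2
  rw [Equiv.Perm.nat_card_centralizer, h1, h2]
  rcases Nat.eq_zero_or_pos m with rfl | h
  · simp
  · simp [two_mul, Multiset.toFinset_replicate, h.ne']

theorem card_sp_monomial [Finite F] :
    Nat.card {A : symplecticGroup (Fin m) F // ∀ i, ∃! j, A.1 i j ≠ 0} =
      2 ^ m * m.factorial * (Nat.card F - 1) ^ m := by
  have h0 : (Nat.card F - 1) ^ m = Nat.card (Fin m → Fˣ) := by rw [Nat.card_fun, Nat.card_units]; simp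
  rw [← card_centralizer_swap, h0, ← Nat.card_prod]
  set s : Equiv.Perm (Fin m ⊕ Fin m) := Equiv.sumComm (Fin m) (Fin m)
  have key : ∀ (π : Equiv.Perm (Fin m ⊕ Fin m)) (c : Fin m ⊕ Fin m → F),
      (Matrix.of fun a b => if b = π a then c a else 0) ∈ symplecticGroup (Fin m) F ↔
        ∀ a b, c a * c b * J (Fin m) F (π a) (π b) = J (Fin m) F a b := fun π c => by
    rw [SymplecticGroup.mem_iff, ← Matrix.ext_iff]
    refine forall₂_congr fun a b => ?_
    simp only [mul_apply, of_apply, transpose_apply, ite_mul, zero_mul, Finset.sum_ite_eq', mul_ite,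
      mul_zero, Finset.mem_univ, if_true, mul_right_comm]
  let c : Equiv.Perm (Fin m ⊕ Fin m) → (Fin m → Fˣ) → Fin m ⊕ Fin m → F := fun π d =>
    Sum.elim (fun i => d i) fun i => -(d i : F)⁻¹ * (J (Fin m) F (π (.inl i)) (π (.inl i)).swap)⁻¹
  have hJ : ∀ a, J (Fin m) F a a.swap ≠ 0 := fun a => J_ne_zero_iff.2 rfl
  have hJ' : ∀ a, J (Fin m) F a.swap a = -J (Fin m) F a a.swap := by rintro (a | a) <;> simp [J]
  have hc : ∀ π d a, c π d a ≠ 0 := by rintro π d (a | a) <;> simp [c, hJ]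
  have hπ : ∀ π : Subgroup.centralizer {s}, ∀ a, π.1 a.swap = (π.1 a).swap := fun π a =>
    (congrArg (fun t : Equiv.Perm _ => t a) (Subgroup.mem_centralizer_singleton_iff.1 π.2) :)
  have hmem : ∀ p : Subgroup.centralizer {s} × (Fin m → Fˣ), (Matrix.of fun a b =>
      if b = p.1.1 a then c p.1.1 p.2 a else 0) ∈ symplecticGroup (Fin m) F := fun p => by
    refine (key _ _).2 fun a b => ?_
    by_cases hb : b = a.swap
    · subst hb
      rcases a with a | a
      · rw [hπ]; simp only [c, Sum.elim_inl, Sum.swap_inl, Sum.elim_inr]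
        field_simp [hJ]
        simp [J]
      · rw [show Sum.inr a = (Sum.inl a).swap from rfl, hπ, Sum.swap_swap, hJ']
        simp only [c, Sum.elim_inl, Sum.swap_inl, Sum.elim_inr]
        field_simp [hJ]
        simp [J]
    · rw [not_not.1 (mt J_ne_zero_iff.1 hb), not_not.1 (mt J_ne_zero_iff.1 fun h =>
        hb (p.1.1.injective (by rw [h, hπ]))), mul_zero]
  let Φ : Subgroup.centralizer {s} × (Fin m → Fˣ) →
      {A : symplecticGroup (Fin m) F // ∀ i, ∃! j, A.1 i j ≠ 0} := fun p =>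
    ⟨⟨_, hmem p⟩, fun i => ⟨p.1.1 i, by simp [hc], fun j => by simp +contextual⟩⟩
  refine (Nat.card_eq_of_bijective Φ ⟨fun p p' h => ?_, fun A => ?_⟩).symm
  · have h1 : ∀ a b, (if b = p.1.1 a then c p.1.1 p.2 a else 0) = if b = p'.1.1 a then c p'.1.1 p'.2 a
        else 0 := fun a b => congrArg (fun A => A.1.1 a b) h
    have h2 : p.1 = p'.1 := Subtype.ext (Equiv.ext fun a => by_contra fun h' => by
      simpa [h', hc] using h1 a (p.1.1 a))
    refine Prod.ext h2 (funext fun i => Units.ext ?_)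
    simpa [h2, c] using h1 (.inl i) (p'.1.1 (.inl i))
  · obtain ⟨π, h1⟩ := exists_perm_of_monomial (SymplecticGroup.symplectic_det A.1.2).ne_zero A.2
    have h2 : A.1.1 = Matrix.of fun a b => if b = π a then A.1.1 a (π a) else 0 := by
      ext a b
      rw [of_apply]
      split_ifs with h
      · rw [h]
      · exact not_not.1 (mt (h1 a b).1 h)
    have h3 := (key _ _).1 (h2 ▸ A.1.2)
    have h4 : ∀ a, π a.swap = (π a).swap := fun a =>
      J_ne_zero_iff.1 (right_ne_zero_of_mul ((h3 a a.swap).trans_ne (hJ a)))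
    refine ⟨(⟨π, Subgroup.mem_centralizer_singleton_iff.2 (Equiv.ext h4)⟩,
      fun i => Units.mk0 _ ((h1 (.inl i) _).2 rfl)), Subtype.ext (Subtype.ext (Eq.trans ?_ h2.symm))⟩
    ext (a | a) b
    · rfl
    · have h5 := h3 (.inl a) (.inr a)
      rw [show π (.inr a) = _ from h4 (.inl a)] at h5
      change (if b = π (.inr a) then -(A.1.1 (.inl a) (π (.inl a)))⁻¹ *
        (J (Fin m) F (π (.inl a)) (π (.inl a)).swap)⁻¹ else 0) = if b = π (.inr a) then _ else 0
      congr 1
      have h6 := (h1 (.inl a) _).2 rfl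
      have h7 := hJ (π (.inl a))
      rw [show π (.inr a) = _ from h4 (.inl a)]
      rw [show J (Fin m) F (.inl a) (.inr a) = -1 by simp [J]] at h5
      field_simp
      linear_combination -h5

end Cfsg.Agent.Class
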